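import Cfsg.Statements.S2239
import Cfsg.Agent.H13.SzSub2

set_option autoImplicit false
open Cfsg

namespace Cfsg.Agent.S2239

/-- Subfield subgroups of the Suzuki group: let q = 2^(2m+1) and s = 2^(2k+1) with m, k ≥ 1 and 2k+1 dividing 2m+1 (so q is a power of s), both groups realised as stabilisers in SL₄ of the Suzuki–Tits ovoid. Then Sz(q) has a subgroup isomorphic to Sz(s), and any two subgroups of Sz(q) isomorphic to Sz(s) are conjugate. -/
theorem result {F : Type*} [Field F] [Fintype F] {m : ℕ} (hm : 1 ≤ m) (hF : Fintype.card F = 2 ^ (2 * m + 1)) {K : Type*} [Field K] [Fintype K] {k : ℕ} (hk : 1 ≤ k) (hK : Fintype.card K = 2 ^ (2 * k + 1)) (hdiv : 2 * k + 1 ∣ 2 * m + 1) :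
    (∃ S : Subgroup ↥(Cfsg.Sz F m), Nonempty (↥S ≃* ↥(Cfsg.Sz K k))) ∧
    ∀ S₁ S₂ : Subgroup ↥(Cfsg.Sz F m), Nonempty (↥S₁ ≃* ↥(Cfsg.Sz K k)) → Nonempty (↥S₂ ≃* ↥(Cfsg.Sz K k)) →
      ∃ g : ↥(Cfsg.Sz F m), S₂ = S₁.map (MulAut.conj g).toMonoidHom := by
  have : H13.Sz.IsSz F m := ⟨hm, hF⟩
  have : H13.Sz.IsSz K k := ⟨hk, hK⟩
  constructor
  · have : Fact (Nat.Prime 2) := ⟨Nat.prime_two⟩
    letI := ZMod.algebra F 2
    letI := ZMod.algebra K 2
    have h1 := Module.card_eq_pow_finrank (K := ZMod 2) (V := F)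
    have h2 := Module.card_eq_pow_finrank (K := ZMod 2) (V := K)
    rw [ZMod.card, hF] at h1
    rw [ZMod.card, hK] at h2
    obtain ⟨φ⟩ := FiniteField.nonempty_algHom_of_finrank_dvd (F := ZMod 2) (K := K) (L := F) (by
      rw [← Nat.pow_right_injective le_rfl h1, ← Nat.pow_right_injective le_rfl h2]
      exact hdiv)
    exact ⟨_, ⟨(MonoidHom.ofInjective (H13.Sz.szMap_injective (m := m) (k := k) φ.toRingHom)).symm⟩⟩
  · have key : ∀ S : Subgroup ↥(Cfsg.Sz F m), Nonempty (↥S ≃* ↥(Cfsg.Sz K k)) →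
        ∃ g, ∃ (L : Subfield F) (_ : Fintype L) (l : ℕ) (_ : H13.Sz.IsSz L l),
          H13.Sz.cj g S = (H13.Sz.szMap m l L.subtype).range ∧ Nat.card L = Fintype.card K := by
      rintro S ⟨e⟩
      obtain ⟨g, L, _, l, hL, h⟩ := H13.Sz.exists_cj_eq_of_not_isSolvable (M := S) fun h =>
        H13.Sz.not_isSolvable (Group.isSolvable_of_surjective (f := e.toMonoidHom) e.surjective)
      refine ⟨g, L, inferInstance, l, hL, h, ?_⟩
      rw [Nat.card_eq_fintype_card]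
      apply H13.Sz.card_Sz_inj (m := k) (k := l)
      rw [← Nat.card_congr e.toEquiv, ← H13.Sz.card_cj g, h]
      exact Nat.card_congr (MonoidHom.ofInjective (H13.Sz.szMap_injective _)).toEquiv
    intro S₁ S₂ h₁ h₂
    obtain ⟨g₁, L₁, _, l₁, _, e₁, c₁⟩ := key S₁ h₁
    obtain ⟨g₂, L₂, _, l₂, _, e₂, c₂⟩ := key S₂ h₂
    have h3 : L₁ = L₂ := H13.Sz.subfield_eq_of_card (c₁.trans c₂.symm)
    have h4 : H13.Sz.cj g₁ S₁ = H13.Sz.cj g₂ S₂ := by
      rw [e₁, e₂]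
      apply H13.Sz.range_szMap_eq
      rw [Subfield.fieldRange_subtype, Subfield.fieldRange_subtype, h3]
    refine ⟨g₂⁻¹ * g₁, ?_⟩
    change S₂ = H13.Sz.cj _ _
    rw [← H13.Sz.cj_cj, h4, H13.Sz.cj_inv_cj]

end Cfsg.Agent.S2239
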