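import Cfsg.Statements.S0810
import Cfsg.Agent.H10.PSL2Max
import Cfsg.Agent.S0804

set_option autoImplicit false
open Cfsg

namespace Cfsg.Agent.S0810

/-- PSL_2(q) is minimal simple iff q is 2^r (r prime), 3^r (r an odd prime), a prime greater than 5 congruent to 2 or 3 mod 5, or 5. -/
theorem result {F : Type*} [Field F] [Fintype F] {q : ℕ} (hF : Fintype.card F = q) : Cfsg.IsMinimalSimple (Matrix.ProjectiveSpecialLinearGroup (Fin 2) F) ↔ ((∃ r : ℕ, r.Prime ∧ q = 2 ^ r) ∨ (∃ r : ℕ, r.Prime ∧ r ≠ 2 ∧ q = 3 ^ r) ∨ (q.Prime ∧ 5 < q ∧ (q % 5 = 2 ∨ q % 5 = 3)) ∨ q = 5) := by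
  subst hF
  obtain ⟨p, hp⟩ := CharP.exists F
  obtain ⟨⟨n, hn0⟩, hpp, hn⟩ := FiniteField.card F p
  have : Fact p.Prime := ⟨hpp⟩
  simp only [PNat.mk_coe] at hn
  have hG := H10.card_PSL2 (F := F)
  rw [mul_assoc, mul_comm (_ - 1), ← Nat.sq_sub_sq, one_pow] at hG
  constructor
  · rintro ⟨hs, hc, hsol⟩
    have h4 : 4 ≤ Fintype.card F := by
      by_contra h
      have h1 := Fintype.one_lt_card (α := F)
      have : Group.IsSolvable (Matrix.ProjectiveSpecialLinearGroup (Fin 2) F) := by
        apply H10.isSolvable_of_card_dvd_24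
        obtain h | h : Fintype.card F = 2 ∨ Fintype.card F = 3 := by omega
        · rw [H10.card_PSL2_of 6 h rfl]; norm_num
        · rw [H10.card_PSL2_of 12 h rfl]; norm_num
      exact hc ⟨⟨IsSimpleGroup.comm_iff_isSolvable.2 this⟩⟩
    have hsub : ∀ m k, n = m * k → 2 ≤ k → p ^ m < 4 := fun m k hmk hk => by
      by_contra h
      have hm : m ≠ 0 := by rintro rfl; simp at h
      have := Fintype.ofFinite (GaloisField p m)
      have hc : Fintype.card (GaloisField p m) = p ^ m := by
        rw [← Nat.card_eq_fintype_card, GaloisField.card p m hm]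
      obtain ⟨f⟩ := H10.exists_ringHom_of_card (K := GaloisField p m) (L := F) (m := k) (by
        rw [Nat.card_eq_fintype_card, Nat.card_eq_fintype_card, hc, hn, hmk, pow_mul])
      obtain ⟨φ, hφ, -⟩ := H10.exists_PSL_map f
      have h1 := H10.card_PSL2_lt (F := F) (K := GaloisField p m) (by
        rw [hc, hn, hmk, pow_mul]; exact Nat.pow_le_pow_right (pow_pos hpp.pos _) hk)
      have h2 := hsol φ.range (fun e => by
        rw [Nat.card_congr (MonoidHom.ofInjective hφ).toEquiv, e, Subgroup.card_top] at h1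
        omega)
      exact H10.not_isSolvable_PSL2 (F := GaloisField p m) (by omega)
        (Group.isSolvable_of_isSolvable_injective (f := (MonoidHom.ofInjective hφ).toMonoidHom)
          (MonoidHom.ofInjective hφ).injective)
    have h5 : 5 ∣ Fintype.card F * (Fintype.card F ^ 2 - 1) → Fintype.card F ≤ 5 := fun h => by
      obtain ⟨H, ⟨e⟩⟩ := (Cfsg.Agent.S0804.result rfl).2 h
      by_cases hH : H = ⊤
      · have h1 := Nat.card_congr e.toEquiv
        rw [hH, Subgroup.card_top, H10.card_alt_five] at h1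
        by_contra h6
        have h7 : 6 * (6 ^ 2 - 1) ≤ Fintype.card F * (Fintype.card F ^ 2 - 1) :=
          Nat.mul_le_mul (by omega) (Nat.sub_le_sub_right (Nat.pow_le_pow_left (by omega) _) _)
        have hd2 : Nat.gcd 2 (Fintype.card F - 1) ≤ 2 := Nat.gcd_le_left _ two_pos
        rw [h1] at hG
        omega
      · have := hsol H hH
        have := Group.isSolvable_of_surjective (f := e.toMonoidHom) e.surjective
        exact absurd ⟨⟨IsSimpleGroup.comm_iff_isSolvable.2 this⟩⟩
          (H10.not_comm_of_simple_of_not_prime (by rw [H10.card_alt_five]; norm_num))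
    by_cases h1 : n = 1
    · subst h1
      rw [pow_one] at hn
      rw [hn] at h4 h5 ⊢
      by_cases h6 : p = 5
      · exact Or.inr (Or.inr (Or.inr h6))
      have h7 : p ≠ 4 := by rintro rfl; exact absurd hpp (by norm_num)
      refine Or.inr (Or.inr (Or.inl ⟨hpp, by omega, ?_⟩))
      by_contra h8
      refine absurd (h5 ?_) (by omega)
      obtain h | h | h : p % 5 = 0 ∨ p % 5 = 1 ∨ p % 5 = 4 := by omega
      · exact Dvd.dvd.mul_right (by omega) _
      all_goals
        refine Dvd.dvd.mul_left ?_ _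
        have : p ^ 2 % 5 = 1 := by rw [Nat.pow_mod, h]
        omega
    · have h2 := hsub 1 n (one_mul n).symm (by omega)
      rw [pow_one] at h2
      have h3 : n.Prime := by
        by_contra h
        obtain ⟨a, b, ha, hb, rfl⟩ := (Nat.not_prime_iff_exists_mul_eq (by omega)).1 h
        have ha2 : 2 ≤ a := by
          rcases a with _ | _ | a
          · simp at hn0
          · simp at hb
          · omega
        have hb2 : 2 ≤ b := by
          rcases b with _ | _ | b
          · simp at hn0
          · simp at ha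
          · omega
        have := hsub a b rfl hb2
        have : 2 ^ 2 ≤ p ^ a := (Nat.pow_le_pow_left hpp.two_le 2).trans
          (Nat.pow_le_pow_right hpp.pos ha2)
        omega
      obtain rfl | rfl : p = 2 ∨ p = 3 := by have := hpp.two_le; omega
      · exact Or.inl ⟨n, h3, hn⟩
      · refine Or.inr (Or.inl ⟨n, h3, ?_, hn⟩)
        rintro rfl
        rw [hn] at h5
        exact absurd (h5 (by norm_num)) (by norm_num)
  · intro h
    have key : ∀ s r : ℕ, s.Prime → r.Prime → Fintype.card F = s ^ r →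
        ∀ x m : ℕ, 2 ≤ m → x ^ m = Fintype.card F → x = s := fun s r hs hr h x m hm hx => by
      rw [h] at hx
      obtain ⟨j, -, rfl⟩ := (Nat.dvd_prime_pow hs).1 (hx ▸ dvd_pow_self x (by omega) : x ∣ s ^ r)
      rw [← pow_mul] at hx
      have h1 := Nat.pow_right_injective hs.two_le hx
      rcases (Nat.dvd_prime hr).1 (Dvd.intro _ h1) with h2 | h2
      · rw [h2, pow_one]
      · subst h2
        have := hr.pos
        nlinarith
    have key2 : (Fintype.card F).Prime → ∀ x m : ℕ, 2 ≤ m → x ^ m = Fintype.card F → x ≤ 3 :=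
      fun h x m hm hx => absurd (hx ▸ h) (Nat.Prime.not_prime_pow hm)
    have key3 : Fintype.card F % 5 = 2 ∨ Fintype.card F % 5 = 3 →
        ¬ 5 ∣ Nat.card (Matrix.ProjectiveSpecialLinearGroup (Fin 2) F) := fun h h5 => by
      rcases (Nat.Prime.dvd_mul Nat.prime_five).1 (hG ▸ h5.mul_left _) with h1 | h1
      · omega
      · have : Fintype.card F ^ 2 % 5 = 4 := by rcases h with h | h <;> rw [Nat.pow_mod, h]
        omega
    have key4 : ∀ s r : ℕ, s % 5 = 2 ∨ s % 5 = 3 → Odd r → s ^ r % 5 = 2 ∨ s ^ r % 5 = 3 := by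
      rintro s _ hs ⟨k, rfl⟩
      induction k with
      | zero => simpa using hs
      | succ k ih =>
        rw [show 2 * (k + 1) + 1 = 2 * k + 1 + 2 by ring, pow_add, Nat.mul_mod, Nat.pow_mod s 2]
        rcases hs with h | h <;> rcases ih with h' | h' <;> rw [h, h'] <;> norm_num
    have h4 : 4 ≤ Fintype.card F := by
      rcases h with ⟨r, hr, h⟩ | ⟨r, hr, -, h⟩ | ⟨-, h, -⟩ | h
      · rw [h]; exact Nat.pow_le_pow_right (n := 2) two_pos hr.two_le
      · rw [h]; exact le_trans (by norm_num) (Nat.pow_le_pow_right (n := 3) (by norm_num) hr.two_le)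
      · omega
      · omega
    refine ⟨Matrix.ProjectiveSpecialLinearGroup.rank_two_simple
      (by rwa [Nat.card_eq_fintype_card]), H10.not_comm_PSL2, fun H hH => ?_⟩
    rcases h with ⟨r, hr, h⟩ | ⟨r, hr, hr2, h⟩ | ⟨h1, -, h⟩ | h
    · refine H10.isSolvable_of_ne_top hH ?_ fun x m hm hx => by
        rw [key 2 r Nat.prime_two hr h x m hm hx]; norm_num
      rcases hr.eq_two_or_odd' with rfl | ho
      · exact Or.inr (H10.card_PSL2_of 60 h rfl)
      · exact Or.inl (key3 (h ▸ key4 2 r (by norm_num) ho))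
    · exact H10.isSolvable_of_ne_top hH (Or.inl (key3 (h ▸ key4 3 r (by norm_num)
        (hr.odd_of_ne_two hr2)))) fun x m hm hx => (key 3 r Nat.prime_three hr h x m hm hx).le
    · exact H10.isSolvable_of_ne_top hH (Or.inl (key3 h)) (key2 h1)
    · exact H10.isSolvable_of_ne_top hH (Or.inr (H10.card_PSL2_of 60 h rfl))
        (key2 (h ▸ Nat.prime_five))

end Cfsg.Agent.S0810
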