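import Cfsg.Statements.S0981
import Cfsg.Agent.H10.BR4
import Cfsg.Agent.H10.BT2

set_option autoImplicit false
open Cfsg

namespace Cfsg.Agent.S0981

open H10 Subgroup

/-- A simple group of order 4080 is isomorphic to the projective special linear group of dimension 2 over the field with 16 elements. -/
theorem result {G : Type*} [Group G] [Finite G] [IsSimpleGroup G] (h : Nat.card G = 4080) {F : Type*} [Field F] [Fintype F] (hF : Fintype.card F = 16) : Nonempty (G ≃* Matrix.ProjectiveSpecialLinearGroup (Fin 2) F) := by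
  haveI : Fact (Nat.Prime 17) := ⟨by norm_num⟩
  have hG := not_comm_of_simple_of_not_prime (G := G) (by rw [h]; norm_num)
  obtain ⟨P⟩ : Nonempty (Sylow 17 G) := inferInstance
  obtain ⟨n, hn⟩ := exists_card_sylow_eq 17 G
  have h1 := P.card_dvd_index
  rw [sylow_index_of (a := 1) (m := 240) (by rw [h]; norm_num) (by norm_num) P, hn] at h1
  have h2 := Nat.le_of_dvd (by norm_num) h1
  have h3 : n ≤ 7 := by
    by_contra h3
    have : n < 15 := by omega
    interval_cases n <;> omega
  obtain ⟨-, ⟨⟨e⟩⟩ | ⟨m, K, _, _, h4, h5, h6, -⟩⟩ := bConcl_of_lt (commutator_eq_top_of_simple hG)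
    (pPrimeCore_eq_bot_of_simple (by rw [h]; norm_num)) P
    (card_sylow_eq_prime (m := 240) h (by norm_num) P) hn (by omega)
  · have := card_PSL2 (F := ZMod 17)
    rw [← Nat.card_congr e.toEquiv, h, ZMod.card] at this
    norm_num at this
  · exact equiv_PSL2_of_card_eq (by omega) h6

end Cfsg.Agent.S0981
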