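import Cfsg.Statements.S1011
import Cfsg.Agent.H10.GW2

set_option autoImplicit false
open Cfsg

namespace Cfsg.Agent.S1011

open H10 Subgroup MulAction

/-- A simple group of order 504 is isomorphic to the projective special linear group of dimension 2 over the field with 8 elements. -/
theorem result {G : Type*} [Group G] [Finite G] [IsSimpleGroup G] (h : Nat.card G = 504) {F : Type*} [Field F] [Fintype F] (hF : Fintype.card F = 8) : Nonempty (G ≃* Matrix.ProjectiveSpecialLinearGroup (Fin 2) F) := by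
  have hG := not_comm_of_simple_of_not_prime (G := G) (by rw [h]; norm_num)
  have hG' := commutator_eq_top_of_simple hG
  obtain ⟨T, h1, h2, h3⟩ := e8_of_rank hG' (by omega) fun h1 => by
    obtain ⟨q, -, h2, -, h3⟩ | h2 := card_of_kn (kn_of_rank hG (by omega) h1)
    · have : q < 11 := by
        by_contra h7
        have : 11 * 10 * 12 ≤ q * (q - 1) * (q + 1) := by gcongr <;> omega
        omega
      interval_cases q <;> omega
    · omega
  obtain ⟨⟨z, hz⟩, hz1⟩ := exists_prime_orderOf_dvd_card' (G := (T : Subgroup G)) 2 (by simp [h1])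
  have h4 := card_sylow_mul_card_normalizer T
  have h5 : 8 ∣ Nat.card 𝐍[(T : Subgroup G)] := h1 ▸ card_dvd_of_le le_normalizer
  have h6 := relIndex_dvd_card 𝐂(z) 𝐍[(T : Subgroup G)]
  rw [(h3 z hz (by rintro rfl; simp at hz1)).2.1] at h6
  have h7 := two_mul_card_dvd_factorial_card_sylow (p := 2) hG (by omega)
  obtain ⟨k, hk⟩ : 56 ∣ Nat.card 𝐍[(T : Subgroup G)] := by omega
  have h8 : Nat.card (Sylow 2 G) = 9 := by
    rw [hk, h] at h4
    rw [h] at h7
    have h8 : Nat.card (Sylow 2 G) ∣ 9 := ⟨k, by linarith⟩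
    have := Nat.le_of_dvd (by norm_num) h8
    interval_cases Nat.card (Sylow 2 G) <;> simp_all [Nat.factorial]
  obtain ⟨K, _, _, h9, ⟨-, ⟨e⟩⟩ | ⟨h10, -⟩⟩ := zass_of_sylow T (m := 7) h1 (by norm_num) h8 h2
    (fun t ht ht1 => by
      obtain ⟨e1, e2, e3⟩ := h3 t ht ht1
      have e4 := card_fixedBy_quotient_mul 𝐍[(T : Subgroup G)] t
      have e5 := card_fixed_invol hG' (Sylow 2 G) (e1 ▸ pow_orderOf_eq_one t)
      have e6 : Nat.card {g : G // IsConj t g ∧ g ∈ 𝐍[(T : Subgroup G)]} = 7 := by
        have : {g : G | IsConj t g ∧ g ∈ 𝐍[(T : Subgroup G)]} = ((T : Subgroup G) : Set G) \ {1} := by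
          ext g
          refine ⟨fun ⟨a, b⟩ => ⟨(((IsPGroup.of_card (n := 1) (by
            rw [Nat.card_zpowers, ord_isConj a, e1]; rfl) : IsPGroup 2 (zpowers g))
              |>.inf_normalizer_sylow T).le ⟨mem_zpowers _, b⟩).2, fun e => ht1 ?_⟩,
            fun ⟨a, b⟩ => ⟨e3 g a b, le_normalizer a⟩⟩
          rwa [Set.mem_singleton_iff.1 e, isConj_one_left] at a
        refine (Nat.card_coe_set_eq {g : G | IsConj t g ∧ g ∈ 𝐍[(T : Subgroup G)]}).trans ?_
        rw [this, Set.ncard_sdiff_singleton_of_mem (T : Subgroup G).one_mem,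
          ← Nat.card_coe_set_eq, SetLike.coe_sort_coe, h1]
      rw [e6, card_fixedBy_quotient_normalizer, ← card_sylow_eq_index, h8] at e4
      rw [h8] at e5
      have e7 : Nat.card (fixedBy (Sylow 2 G) t) ≠ 9 := fun e => ht1
        (eq_one_of_smul_sylow_of_simple (p := 2) hG (by omega) t fun Q => by
          have := Set.eq_univ_iff_ncard (fixedBy (Sylow 2 G) t) |>.2 (by
            rw [← Nat.card_coe_set_eq, e, h8])
          exact (this ▸ Set.mem_univ Q : Q ∈ fixedBy (Sylow 2 G) t))
      have e8 : Nat.card (fixedBy (Sylow 2 G) t) ≤ 9 := h8 ▸ Nat.card_le_card_of_injective _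
        Subtype.val_injective
      have e9 := 𝐂(t).card_mul_index
      refine (eq_of_le_of_card_ge (le_C_of_comm h2 ht) ?_).ge
      interval_cases Nat.card (fixedBy (Sylow 2 G) t) <;> first | omega | skip
      rw [show 𝐂(t).index = 63 by omega] at e9
      omega) (by rw [h]) (by norm_num) (.inl (by decide))
  · obtain ⟨e'⟩ := PSL_equiv_PGL_of_even (F := K) (by rw [h9]; decide)
    exact equiv_PSL2_of_card_eq (h9.trans hF.symm) ⟨e.trans e'.symm⟩
  · omega

end Cfsg.Agent.S1011
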