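import Cfsg.Statements.S3709
import Cfsg.Agent.H11.Phan4

set_option autoImplicit false
open Cfsg

namespace Cfsg.Agent.S3709

open H11 in
theorem suBlock_eq {F : Type*} [Field F] {m n q : ℕ} {σ : F →+* F} (hq : ∀ x, σ x = x ^ q) (hσ : ∀ a, σ (σ a) = a) (e : Fin m ↪ Fin n)
    {s : Set (Fin n)} (hs : ∀ k, k ∈ Set.range e ↔ k ∈ s) : suBlock n F q s = (suE hq e).range := by
  refine le_antisymm ((Subgroup.closure_le _).2 fun A hA => exists_suE hq e hσ fun k hk k' => ?_) ?_
  · obtain ⟨h1, h2⟩ := hA k (mt (hs k).2 hk)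
    by_cases e : k' = k
    · rw [e, h1, Matrix.one_apply_eq]
    · rw [(h2 k' e).2, Matrix.one_apply_ne e]
  · rintro _ ⟨A, rfl⟩
    refine Subgroup.subset_closure fun k hk => ?_
    rw [← hs] at hk
    exact ⟨by rw [coe_suE, eM_out e _ (.inl hk), Matrix.one_apply_eq], fun l hl => by
      rw [coe_suE, eM_out e _ (.inl hk), eM_out e _ (.inr hk), Matrix.one_apply_ne hl, Matrix.one_apply_ne hl.symm]; simp⟩

/-- Recognition of unitary groups from a weak Phan system. Let F be a finite field with q² elements, q > 3, and n ≥ 3. Let G be a group with subgroups U_0, …, U_{n−1}, each isomorphic to SU(2, q²), and, for each pair of consecutive indices, a subgroup V_{i,i+1} in which U_i and U_{i+1} form a standard pair (some isomorphism from SU(3, q²), or from its central quotient PSU(3, q²), onto V_{i,i+1} carries the two block-diagonal SU(2, q²) subgroups, or their images, onto U_i and U_{i+1}). Suppose that U_i and U_j commute elementwise whenever the indices differ by at least 2, and that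 G is generated by the U_i together with the V_{i,i+1}. Then G is a homomorphic image of SU(n+1, q²). (G is not assumed finite.) -/
theorem result {G : Type*} [Group G] (n : ℕ) (hn : 3 ≤ n)
    (F : Type*) [Field F] [Fintype F] (q : ℕ) (hq : 3 < q) (hF : Fintype.card F = q ^ 2)
    (U : Fin n → Subgroup G) (e : ∀ i, ↥(Cfsg.SU 2 F q) ≃* ↥(U i))
    (V : Fin n → Fin n → Subgroup G)
    (h1 : ∀ i j : Fin n, (i : ℕ) + 2 ≤ j → ∀ x ∈ U i, ∀ y ∈ U j, x * y = y * x)
    (h2 : ∀ i j : Fin n, (i : ℕ) + 1 = j → Cfsg.IsStandardUnitaryPair (V i j) (U i) (U j) F q)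
    (hgen : (⨆ i, U i) ⊔ (⨆ (i : Fin n) (j : Fin n) (_ : (i : ℕ) + 1 = j), V i j) = ⊤) :
    ∃ f : ↥(Cfsg.SU (n + 1) F q) →* G, Function.Surjective f := by
  obtain ⟨σ, hq', hσ, hne⟩ := H11.exists_frob hF
  refine H11.phan_main (hq := hq') (hσ := hσ) hne hF hq hn U V h1 (fun i j h => ?_) hgen
  have b0 := suBlock_eq hq' hσ (H11.sh 0 (by omega) : Fin 2 ↪ Fin 3) (s := {0, 1}) fun k => by
    rw [H11.mem_range_sh]; fin_cases k <;> simp
  have b1 := suBlock_eq hq' hσ (H11.sh 1 (by omega) : Fin 2 ↪ Fin 3) (s := {1, 2}) fun k => by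
    rw [H11.mem_range_sh]; fin_cases k <;> simp
  rcases h2 i j h with ⟨ψ, e1, e2⟩ | ⟨ψ, e1, e2⟩
  · exact ⟨(V i j).subtype.comp ψ.toMonoidHom, fun x hx => by
      obtain rfl : x = 1 := ψ.injective (Subtype.ext (by simpa using hx))
      exact Subgroup.one_mem _, by rw [MonoidHom.range_comp, ← b0, e1], by rw [MonoidHom.range_comp, ← b1, e2], by
      rw [MonoidHom.range_comp, MonoidHom.range_eq_top.2 ψ.surjective, ← MonoidHom.range_eq_map, Subgroup.range_subtype]⟩
  · exact ⟨(V i j).subtype.comp (ψ.toMonoidHom.comp (QuotientGroup.mk' _)), fun x hx => (QuotientGroup.eq_one_iff x).1 (ψ.injective (Subtype.ext (by simpa using hx))),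
      by rw [MonoidHom.range_comp, ← b0, e1], by rw [MonoidHom.range_comp, ← b1, e2], by
      rw [MonoidHom.range_comp, MonoidHom.range_eq_top.2 (ψ.surjective.comp (QuotientGroup.mk'_surjective _)),
        ← MonoidHom.range_eq_map, Subgroup.range_subtype]⟩

end Cfsg.Agent.S3709
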