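import Cfsg.Statements.S3011
import Cfsg.Agent.H26.Loc
import Cfsg.Agent.H9.SylowBasic
import Cfsg.Agent.H9.Dihedral

set_option autoImplicit false
open Cfsg

namespace Cfsg.Agent.S3011

open H26 Subgroup
open scoped Pointwise commutatorElement

theorem exists_inverted {G : Type*} [Group G] [Finite G] {v : G} (hv : v * v = 1) (h : v ∉ Cfsg.pCore 2 G) :
    ∃ x : G, x ≠ 1 ∧ Odd (orderOf x) ∧ v * x * v⁻¹ = x⁻¹ := by
  by_contra hcon
  push Not at hcon
  refine h (le_pCore (H9.baer_suzuki (zpowers v) fun g => ?_) (le_normalClosure (mem_zpowers v)))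
  have hw : (g * v * g⁻¹) * (g * v * g⁻¹) = 1 := by rw [conj_mul, hv]; simp
  set w := g * v * g⁻¹
  obtain ⟨k, hk⟩ := exists_pow_coprime (p := 2) (isOfFinOrder_of_finite (v * w))
  have hi := H9.left_inverts hv hw
  have h1 : (v * w) ^ 2 ^ k = 1 := by
    by_contra h1
    exact hcon _ h1 (Nat.coprime_two_right.1 hk) (H9.conj_pow_of_inverts hi _)
  have h2 : IsPGroup 2 (zpowers v) := isPGroup_zpowers (k := 1) (by rw [pow_one, sq, hv])
  refine (isPGroup_sup h2 (isPGroup_zpowers h1) (zpowers_le.2 (mem_normalizer_of_cj_le ?_))).to_le ?_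
  · rw [cj_zpowers, hi, zpowers_inv]
  · rw [cj_zpowers]
    refine sup_le le_sup_left (zpowers_le.2 ?_)
    have : w = v * (v * w) := by rw [← mul_assoc, hv, one_mul]
    have h3 : v * (v * w) ∈ zpowers v ⊔ zpowers (v * w) :=
      mul_mem (mem_sup_left (mem_zpowers v)) (mem_sup_right (mem_zpowers _))
    rwa [← this] at h3


/-- Let G be a finite group and V a nontrivial elementary abelian 2-subgroup of G of order at most 4 such that, whenever an element of V inverts an element h of G of odd order, some nontrivial element of V commutes with h. Then V meets O₂(G) nontrivially. (The case of order at most 4 has a short argument from the Baer–Suzuki theorem.) -/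
theorem result {G : Type*} [Group G] [Finite G] (V : Subgroup G) (hV : Cfsg.IsElementaryAbelian 2 V) (hV1 : V ≠ ⊥) (hS : Cfsg.IsSidkiPair V) (h4 : Nat.card V ≤ 4) : V ⊓ Cfsg.pCore 2 G ≠ ⊥ := by
  intro hO
  have hv2 : ∀ v ∈ V, v * v = 1 := fun v hv => by rw [← sq]; exact hV.2 v hv
  have hVc : ∀ w ∈ V, ∀ u ∈ V, w * u = u * w := fun w hw u hu => (elemAb_le_centralizer hV hu w hw)
  have hsq : ∀ {y w : G}, Odd (orderOf y) → Commute (y ^ 2) w → Commute y w := fun {y w} h1 h2 =>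
    mem_centralizer_singleton_iff.1 (mem_of_pow_mem_coprime_orderOf (H := centralizer {w}) (Nat.coprime_two_right.2 h1)
      (mem_centralizer_singleton_iff.2 h2))
  have hone : ∀ {y : G}, Odd (orderOf y) → y⁻¹ = y → y = 1 := fun {y} h1 h2 =>
    mem_of_pow_mem_coprime_orderOf (H := ⊥) (Nat.coprime_two_right.2 h1) (by rw [mem_bot, sq]; exact inv_eq_iff_mul_eq_one.1 h2)
  have key : ∀ v ∈ V, v ≠ 1 → ∃ x : G, x ≠ 1 ∧ Odd (orderOf x) ∧ v * x * v⁻¹ = x⁻¹ ∧ ∃ w ∈ V, w ≠ 1 ∧ w * x * w⁻¹ = x := by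
    intro v hv h1
    obtain ⟨x, a, b, c⟩ := exists_inverted (hv2 v hv) fun h => h1 (hO.le ⟨hv, h⟩)
    obtain ⟨w, d, e, f⟩ := hS x v hv b c
    exact ⟨x, a, b, c, w, d, e, by rw [f, mul_inv_cancel_right]⟩
  obtain ⟨⟨a, ha⟩, ha1⟩ := ne_bot_iff_exists_ne_one.1 hV1
  obtain ⟨x, hx1, hxo, hax, b, hb, hb1, hbx⟩ := key a ha fun h => ha1 (Subtype.ext h)
  obtain ⟨y, hy1, hyo, hby, c, hc, hc1, hcy⟩ := key b hb hb1
  have hbc : b ≠ c := by rintro rfl; exact hy1 (hone hyo (hby.symm.trans hcy))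
  have hall : ∀ w ∈ V, w ≠ 1 → w = b ∨ w = c ∨ w = b * c := by
    classical
    intro w hw h1
    by_contra hcon
    push Not at hcon
    have h2 : ({w, 1, b, c, b * c} : Finset G).card = 5 := by
      have h3 : b * c ≠ 1 := fun h => hbc (by rw [← mul_one b, ← hv2 c hc, ← mul_assoc, h, one_mul])
      rw [Finset.card_insert_of_notMem (by simp [h1, hcon]), Finset.card_insert_of_notMem (by simp [hb1.symm, hc1.symm, h3.symm]),
        Finset.card_insert_of_notMem (by simp [hbc, hc1]), Finset.card_pair (by simp [hb1])]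
    have h3 := Set.ncard_le_ncard (s := (({w, 1, b, c, b * c} : Finset G) : Set G)) (t := V) (by
      simp [Set.insert_subset_iff, hw, hb, hc, V.mul_mem hb hc])
    rw [Set.ncard_coe_finset, h2] at h3
    have : (V : Set G).ncard = Nat.card V := rfl
    omega
  have hcx : c * x * c⁻¹ = x⁻¹ := by
    rcases hall a ha (fun h => ha1 (Subtype.ext h)) with rfl | rfl | rfl
    · exact absurd (hone hxo (hax.symm.trans hbx)) hx1
    · exact hax
    · rw [← hax, hVc b hb c hc, mul_inv_rev, mul_assoc c b, mul_assoc c (b * x), ← mul_assoc (b * x), hbx, mul_assoc]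
  have hxy : Commute x y := by
    obtain ⟨w, hw, hw1, h⟩ := hS (x * y * x⁻¹) b hb (by rwa [orderOf_cj]) (by
      rw [← conj_mul, ← conj_mul, ← conj_inv, hbx, hby]; group)
    replace h := mul_inv_eq_of_eq_mul h
    rw [← conj_mul, ← conj_mul, ← conj_inv] at h
    rcases hall w hw hw1 with rfl | rfl | rfl
    · rw [hbx, hby] at h
      exact absurd (hone hyo (by simpa using h)) hy1
    · rw [hcx, hcy] at h
      refine hsq hxo ?_
      calc x ^ 2 * y = x * (x * y * x⁻¹) * x := by rw [pow_two]; group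
        _ = _ := by rw [← h, pow_two]; group
    · have e : ∀ z, b * c * z * (b * c)⁻¹ = b * (c * z * c⁻¹) * b⁻¹ := fun z => by group
      rw [e, e, hcx, hcy, ← conj_inv, hbx, hby] at h
      have h2 : x ^ 2 * y * (x ^ 2)⁻¹ = y⁻¹ := by
        calc x ^ 2 * y * (x ^ 2)⁻¹ = x * (x * y * x⁻¹) * x⁻¹ := by rw [pow_two]; group
          _ = _ := by rw [← h]; group
      refine hsq hxo (hsq (hxo.of_dvd_nat (orderOf_pow_dvd 2)) ?_)
      calc (x ^ 2) ^ 2 * y = x ^ 2 * (x ^ 2 * y * (x ^ 2)⁻¹) * (x ^ 2)⁻¹ * (x ^ 2) ^ 2 := by rw [pow_two (x ^ 2)]; group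
        _ = _ := by rw [h2, ← conj_inv, h2, inv_inv]
  have e : ∀ z, b * c * z * (b * c)⁻¹ = b * (c * z * c⁻¹) * b⁻¹ := fun z => by group
  obtain ⟨w, hw, hw1, h⟩ := hS (x * y) (b * c) (V.mul_mem hb hc)
    ((hxo.mul hyo).of_dvd_nat hxy.orderOf_mul_dvd_mul_orderOf) (by
      rw [← conj_mul, e, e, hcx, hcy, ← conj_inv, hbx, hby, ← mul_inv_rev, hxy.eq])
  replace h := mul_inv_eq_of_eq_mul h
  rw [← conj_mul] at h
  rcases hall w hw hw1 with rfl | rfl | rfl
  · rw [hbx, hby] at h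
    exact hy1 (hone hyo (by simpa using h))
  · rw [hcx, hcy] at h
    exact hx1 (hone hxo (by simpa using h))
  · rw [e, e, hcx, hcy, ← conj_inv, hbx, hby, ← mul_inv_rev, ← hxy.eq] at h
    have h2 := hone ((hxo.mul hyo).of_dvd_nat hxy.orderOf_mul_dvd_mul_orderOf) h
    rw [← inv_eq_iff_mul_eq_one] at h2
    rw [← h2, ← conj_inv, hbx] at hby
    exact hx1 (hone hxo (by simpa using hby))

end Cfsg.Agent.S3011
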