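import Cfsg.Statements.S3178
import Cfsg.Agent.H9.Quat
import Cfsg.Agent.H9.MC
import Cfsg.Agent.H3.HallTransfer

set_option autoImplicit false
open Cfsg

open Subgroup

namespace Cfsg.Agent.S3178

/-- Groups with a modular Sylow 2-subgroup have a normal 2-complement. Let S, of order 2^(n+1) with n ≥ 3, be a Sylow 2-subgroup of a finite group G, and suppose S contains an element a of order 2^n and an involution b with b a b⁻¹ = a^(2^(n-1) + 1); so S is the non-abelian 2-group with a cyclic subgroup of index 2 that is neither dihedral, semidihedral nor generalized quaternion. Then G has a normal 2-complement. -/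
theorem result {G : Type*} [Group G] [Finite G]
    (S : Sylow 2 G) (n : ℕ) (hn : 3 ≤ n) (hS : Nat.card ↥(S : Subgroup G) = 2 ^ (n + 1))
    (a b : G) (ha : a ∈ (S : Subgroup G)) (hb : b ∈ (S : Subgroup G))
    (hao : orderOf a = 2 ^ n) (hbo : orderOf b = 2) (hrel : b * a * b⁻¹ = a ^ (2 ^ (n - 1) + 1)) :
    Cfsg.HasNormalPComplement 2 G := by
  classical
  obtain ⟨m, rfl⟩ : ∃ m, n = m + 3 := ⟨n - 3, by omega⟩
  rw [show m + 3 - 1 = m + 2 from rfl] at hrel
  have hz : orderOf (a ^ 2 ^ (m + 2)) = 2 := H9.orderOf_pow_two_pow (m := 1) (by rw [hao, add_comm 1])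
  have hA : zpowers a ≤ S := zpowers_le.2 ha
  have h1 := H1.card_mul_relIndex hA
  rw [Nat.card_zpowers, hao, hS, pow_succ _ (m + 3), Nat.mul_right_inj (by positivity)] at h1
  have bA : b ∉ zpowers a := fun ⟨k, e⟩ => by
    rw [← e, ← (Commute.self_zpow a k).eq, mul_inv_cancel_right, pow_succ, eq_comm, mul_eq_right] at hrel
    exact H9.ne_one_of_orderOf hz hrel
  have inv : ∀ w ∈ zpowers a, orderOf w = 2 → w = a ^ 2 ^ (m + 2) := fun w hw e => by
    have := H9.mem_zpowers_of_orderOf_dvd hw (npow_mem_zpowers a (2 ^ (m + 2))) (by rw [e, hz])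
    rw [mem_zpowers_iff_mem_range_orderOf, hz] at this
    simp only [Finset.mem_image, Finset.mem_range] at this
    obtain ⟨i, hi, rfl⟩ := this
    interval_cases i
    · simp at e
    · simp
  have b2 : Commute b (a ^ 2) := mul_inv_eq_iff_eq_mul.1 (by
    rw [← conj_pow, hrel, ← pow_mul, add_mul, ← pow_succ, pow_add a, ← hao, pow_orderOf_eq_one, one_mul, one_mul])
  have hC : (S : Subgroup G) ≤ centralizer {a ^ 2 ^ (m + 2)} := fun s hs => by
    have k : zpowers a ≤ centralizer {a ^ 2 ^ (m + 2)} :=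
      zpowers_le.2 (mem_centralizer_singleton_iff.2 (Commute.self_pow a _))
    by_cases e : s ∈ zpowers a
    · exact k e
    refine (mul_mem_cancel_right (mem_centralizer_singleton_iff.2 ?_)).1 (k (H9.mul_mem_of_relIndex_two h1 hs hb e bA))
    rw [pow_succ' 2, pow_mul]; exact b2.pow_right _
  obtain ⟨M, hN, hM, bM⟩ := H3.thompson_transfer S.not_dvd_index h1 (hbo ▸ pow_orderOf_eq_one b) hb fun g hg => by
    have e := inv _ hg ((H9.orderOf_conj' g b).trans hbo)
    obtain ⟨c, hc, k⟩ := (H3.isSylowIn_of_le S hC).exists_conj_mem' (Q := zpowers (g * a ^ 2 * g⁻¹))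
      (H9.isPGroup_zpowers (k := m + 3) (by rw [conj_pow, ← pow_mul, mul_comm 2, pow_mul, ← hao]; simp))
      (zpowers_le.2 (mem_centralizer_singleton_iff.2 (by rw [← e, conj_mul, conj_mul, b2.eq])))
    have k1 := pow_mem (k _ (mem_zpowers _)) (2 ^ m)
    have k2 := mem_subgroupOf.1 (mul_self_mem_of_index_two h1 ⟨_, k1⟩)
    rw [coe_mul, ← pow_add, conj_pow, conj_pow, ← pow_mul, show 2 * (2 ^ m + 2 ^ m) = 2 ^ (m + 2) by ring] at k2
    have k3 := inv _ k2 (by rw [H9.orderOf_conj', H9.orderOf_conj', hz])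
    rw [mul_inv_eq_iff_eq_mul, ← mem_centralizer_singleton_iff.1 hc, mul_right_inj] at k3
    rw [← k3, mul_left_inj, mul_right_inj] at e
    exact bA (e ▸ npow_mem_zpowers _ _)
  obtain ⟨x, hx, xo⟩ : ∃ x ∈ (S : Subgroup G) ⊓ M, orderOf x = 2 ^ (m + 3) := by
    by_cases e : a ∈ M
    · exact ⟨a, ⟨ha, e⟩, hao⟩
    refine ⟨a * b, ⟨mul_mem ha hb, (mul_mem_iff_of_index_two hM).2 (iff_of_false e bM)⟩, ?_⟩
    have e1 : (a * b) ^ 2 = (a ^ 2) ^ (2 ^ (m + 1) + 1) := by
      rw [H9.inv_eq_of_mul_self (H9.mul_self_of_orderOf hbo)] at hrel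
      rw [sq, mul_assoc, ← mul_assoc b, hrel, ← pow_succ', ← pow_mul]; congr 1; ring
    have e2 : orderOf ((a * b) ^ 2) = 2 ^ (m + 2) := by
      rw [e1, Nat.Coprime.orderOf_pow, H9.orderOf_sq hao]
      rw [H9.orderOf_sq hao]; exact Nat.Coprime.pow_left _ (by simp [Nat.odd_add_one, Nat.even_pow])
    refine orderOf_eq_prime_pow ?_ (by rw [pow_succ' 2, pow_mul, ← e2, pow_orderOf_eq_one])
    rw [pow_succ' 2, pow_mul, ← orderOf_dvd_iff_pow_eq_one, e2, Nat.pow_dvd_pow_iff_le_right one_lt_two]; omega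
  have h2 : zpowers x = (S : Subgroup G) ⊓ M := eq_of_le_of_card_ge (zpowers_le.2 hx) (by
    have := H1.card_mul_relIndex (inf_le_left : (S : Subgroup G) ⊓ M ≤ S)
    rw [inf_relIndex_left, ((Nat.dvd_prime Nat.prime_two).1 ((relIndex_dvd_index_of_normal M S).trans hM.dvd)).resolve_left
      fun h => bM (relIndex_eq_one.1 h hb), hS, pow_succ] at this
    rw [Nat.card_zpowers, xo]; omega)
  obtain ⟨T, hT⟩ := (H3.isSylowIn_inf_normal S M).exists_sylow
  refine H3.hasNormalPComplement_of_pResidual_le (H3.pResidual_le_of_index_eq_pow M (k := 1) hM)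
    (H9.hasNormalPComplement_of_isCyclic T ?_)
  rw [hT, (subgroupOfEquivOfLe inf_le_right).isCyclic, ← h2]; infer_instance

end Cfsg.Agent.S3178
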