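import Cfsg.Statements.S3072
import Cfsg.Agent.H27.Gold

set_option autoImplicit false
open Cfsg

namespace Cfsg.Agent.S3072

open H26 H27 Subgroup

/-- the data attached to a step -/
def Good {G : Type*} [Group G] (p : ℕ) (P H X : Subgroup G) : Prop :=
  H ≤ P ∧ ¬ p ∣ (P ⊓ 𝐍 H).relIndex (𝐍 H) ∧ P ⊓ 𝐂 H ≤ H ∧
    (Cfsg.pPrimePCore p ↥(𝐍 H)).map (𝐍 H).subtype = H ⊔ 𝐂 H ∧
    ¬ Cfsg.IsSylowChainConnected p (↥(𝐍 H) ⧸ H.subgroupOf (𝐍 H)) ∧
    (H ≤ X ∧ X ≤ 𝐍 H ∧ (X.subgroupOf (𝐍 H)).Normal ∧ p ∣ H.relIndex X ∧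
      ∀ Y : Subgroup G, H ≤ Y → Y ≤ 𝐍 H → (Y.subgroupOf (𝐍 H)).Normal → p ∣ H.relIndex Y → X ≤ Y)

/-- a conjugation invariant version of the data -/
def Good' {G : Type*} [Group G] (p : ℕ) (P H X : Subgroup G) : Prop :=
  Ext p P ⊤ H ∧ Rad p P ⊤ H ∧ H < P ∧ (∃ E < 𝐍 H, ∀ D, H < D → D ≤ P ⊓ 𝐍 H → 𝐍 H ⊓ 𝐍 D ≤ E) ∧
    (H ≤ X ∧ X ≤ 𝐍 H ∧ 𝐍 H ≤ 𝐍 X ∧ p ∣ H.relIndex X ∧
      ∀ Y : Subgroup G, H ≤ Y → Y ≤ 𝐍 H → 𝐍 H ≤ 𝐍 Y → p ∣ H.relIndex Y → X ≤ Y)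

theorem Good'.good {G : Type*} [Group G] [Finite G] {p : ℕ} [Fact p.Prime] {P H X : Subgroup G}
    (hP : IsSyl p P ⊤) (h : Good' p P H X) : Good p P H X := by
  obtain ⟨h1, h2, h3, ⟨E, h4, h5⟩, h6, h7, h8, h9, h10⟩ := h
  refine ⟨h1.le, ((ext_top_iff hP.isP).1 h1).2, h2.centric le_top, h2.opp_eq hP.isP h1, ?_, h6, h7,
    (normal_subgroupOf_iff_le_normalizer h7).2 h8, h9,
    fun Y a b c d => h10 Y a b ((normal_subgroupOf_iff_le_normalizer b).1 c) d⟩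
  have hs := h1.syl
  rw [top_inf_eq] at hs
  exact spe_not_chainConnected (spe_quotient hs (lt_inf_normalizer hP.isP h3) h4 h5)

theorem Good'.cj {G : Type*} [Group G] {p : ℕ} {P H X : Subgroup G} (h : Good' p P H X) (y : G) :
    Good' p (cj y P) (cj y H) (cj y X) := by
  obtain ⟨h1, h2, h3, ⟨E, h4, h5⟩, h6, h7, h8, h9, h10⟩ := h
  refine ⟨⟨cj_mono y h1.le, ?_⟩, fun K a b c => ?_, cj_lt_cj_iff.2 h3, ⟨cj y E, ?_, fun D a b => ?_⟩, cj_mono y h6,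
    ?_, ?_, by rwa [relIndex_cj], fun Y a b c d => ?_⟩
  · have := h1.syl.cj y
    rwa [cj_inf, cj_inf, cj_normalizer, cj_top] at this
  · rw [top_inf_eq, ← cj_normalizer] at a b
    rw [← cj_cj_inv y K, ← cj_inf, cj_le_cj_iff]
    refine h2 _ ?_ ?_ fun z hz hc => ?_
    · rw [top_inf_eq]; exact le_cj_iff.1 a
    · rw [top_inf_eq, ← cj_normalizer]; exact cj_le_iff.1 b
    · have := c (y * z * y⁻¹) (by simpa using mem_cj.1 hz) (by rwa [← MulAut.conj_apply, MulEquiv.orderOf_eq])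
      rwa [← cj_centralizer, conj_mem_cj_iff] at this
  · rw [← cj_normalizer]; exact cj_lt_cj_iff.2 h4
  · rw [← cj_normalizer, ← cj_inf] at b
    rw [← cj_cj_inv y D, ← cj_normalizer, ← cj_normalizer, ← cj_inf, cj_le_cj_iff]
    refine h5 _ ?_ (le_cj_iff.1 b)
    rwa [← cj_lt_cj_iff (g := y), cj_cj_inv]
  · rw [← cj_normalizer]; exact cj_mono y h7
  · rw [← cj_normalizer, ← cj_normalizer]; exact cj_mono y h8
  · rw [← cj_normalizer] at b c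
    rw [cj_le_iff]
    refine h10 _ (cj_le_iff.1 a) (le_cj_iff.1 b) ?_ ?_
    · rw [← cj_normalizer]; exact cj_le_iff.1 c
    · rwa [← relIndex_cj y, cj_cj_inv]

/-- A strong form of the Alperin–Goldschmidt fusion Theorem. Let P be a Sylow p-subgroup of the finite group G, A a subset of P containing a nonidentity element, and g an element with g⁻¹Ag ⊆ P. Then g = c·x₁⋯xₙ·y with c ∈ C_G(A), y ∈ N_G(P) and, for each i, an element xᵢ and a subgroup Hᵢ ≤ P such that: N_P(Hᵢ) is a Sylow p-subgroup of N_G(Hᵢ); C_P(Hᵢ) ≤ Hᵢ; O_{p',p}(N_G(Hᵢ)) = Hᵢ·C_G(Hᵢ); the Sylow p-subgroups of N_G(Hᵢ)/Hᵢ are not chain-connected through nontrivial intersections (the quotient has a strongly p-embedded subgroup); xᵢ lies in O^p(Xᵢ), where Xᵢ/Hᵢ is the smallest normal subgroup of N_G(Hᵢ)/Hᵢ of order divisible by p; and (x₁⋯xᵢ₋₁)⁻¹A(x₁⋯xᵢ₋₁) ⊆ Hᵢ. -/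
theorem result {G : Type*} [Group G] [Finite G] {p : ℕ} [Fact p.Prime]
    (P : Sylow p G) (A : Set G) (hA : A ⊆ (P : Set G)) (hA1 : ∃ a ∈ A, a ≠ 1)
    (g : G) (hAg : (fun a => g⁻¹ * a * g) '' A ⊆ (P : Set G)) :
    ∃ (n : ℕ) (H X : Fin n → Subgroup G) (x : Fin n → G) (c y : G),
      c ∈ Subgroup.centralizer A ∧ y ∈ Subgroup.normalizer ((P : Subgroup G) : Set G) ∧
      g = c * (List.ofFn x).prod * y ∧
      ∀ i : Fin n,
        H i ≤ (P : Subgroup G) ∧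
        ¬ p ∣ ((P : Subgroup G) ⊓ Subgroup.normalizer (H i : Set G)).relIndex (Subgroup.normalizer (H i : Set G)) ∧
        (P : Subgroup G) ⊓ Subgroup.centralizer (H i : Set G) ≤ H i ∧
        (Cfsg.pPrimePCore p ↥(Subgroup.normalizer (H i : Set G))).map (Subgroup.normalizer (H i : Set G)).subtype =
          H i ⊔ Subgroup.centralizer (H i : Set G) ∧
        ¬ Cfsg.IsSylowChainConnected p
            (↥(Subgroup.normalizer (H i : Set G)) ⧸ (H i).subgroupOf (Subgroup.normalizer (H i : Set G))) ∧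
        (H i ≤ X i ∧ X i ≤ Subgroup.normalizer (H i : Set G) ∧
          ((X i).subgroupOf (Subgroup.normalizer (H i : Set G))).Normal ∧ p ∣ (H i).relIndex (X i) ∧
          ∀ Y : Subgroup G, H i ≤ Y → Y ≤ Subgroup.normalizer (H i : Set G) →
            (Y.subgroupOf (Subgroup.normalizer (H i : Set G))).Normal → p ∣ (H i).relIndex Y → X i ≤ Y) ∧
        x i ∈ (Cfsg.pResidual p ↥(X i)).map (X i).subtype ∧
        (fun a => (((List.ofFn x).take i.val).prod)⁻¹ * a * ((List.ofFn x).take i.val).prod) '' A ⊆ (H i : Set G) := by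
  have hS := isSyl_top P
  let R : Subgroup G → G → Prop := fun B x =>
    ∃ t : Subgroup G × Subgroup G, (Good' p P t.1 t.2 ∧ x⁻¹ ∈ pResidualOf p t.2) ∧ B ≤ t.1
  have key : ∀ (A : Subgroup G) g, A ≤ P → g ∈ (⊤ : Subgroup G) → cj g A ≤ P →
      Chain (fun B x => R B x ∨ x ∈ 𝐂 B ∨ x ∈ 𝐍 (P : Subgroup G)) A g := by
    refine alperin_ess hS _ (fun _ _ _ hAB _ _ _ => Chain.mono ?_ hAB) (fun _ _ _ _ _ _ _ _ => Chain.comp)
      (fun _ _ _ _ _ => Chain.inv ?_) (fun _ _ c hc => Chain.single (Or.inr (Or.inl hc.2)))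
      (fun x hx => Chain.single (Or.inr (Or.inr hx.2))) fun U E hU hR hlt hE h1 h2 => ?_
    · rintro A B x hAB (⟨U, h1, h2⟩ | h | h)
      · exact Or.inl ⟨U, h1, hAB.trans h2⟩
      · exact Or.inr (Or.inl (centralizer_anti hAB h))
      · exact Or.inr (Or.inr h)
    · rintro A x (⟨U, h1, h2⟩ | h | h)
      · exact Or.inl ⟨U, ⟨h1.1, inv_mem h1.2⟩, cj_le_of_mem_normalizer h2
          (inv_mem_iff.1 (h1.1.2.2.2.2.2.1 (pResidualOf_le _ _ h1.2)))⟩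
      · refine Or.inr (Or.inl ?_)
        rw [cj_eq_of_mem_centralizer h]; exact inv_mem h
      · exact Or.inr (Or.inr (inv_mem h))
    · rw [top_inf_eq] at hE h1 h2
      have hs := hU.syl
      rw [top_inf_eq] at hs
      obtain ⟨X, ⟨a, b, c, d, e⟩, f⟩ := exists_min_normal_of_ess hs (lt_inf_normalizer hS.isP hlt) hE h2
      refine f fun x hx => h1 x (b (pResidualOf_le _ _ hx)) (Chain.single (Or.inl ⟨(U, X), ⟨⟨hU, hR, hlt, ⟨E, hE, h2⟩,
        a, b, (normal_subgroupOf_iff_le_normalizer b).1 c, d,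
        fun Y a b c d => e Y a b ((normal_subgroupOf_iff_le_normalizer b).2 c) d⟩, inv_mem hx⟩, le_rfl⟩))
  obtain ⟨y, hy, d, h1, h2⟩ := Chain.normal_form (by
      rintro B x y hy ⟨t, ⟨h1, h2⟩, h3⟩
      refine ⟨(cj y⁻¹ t.1, cj y⁻¹ t.2), ⟨?_, ?_⟩, cj_le_iff.1 h3⟩
      · have := h1.cj y⁻¹
        rwa [cj_eq_of_mem_normalizer (inv_mem hy)] at this
      · rw [← cj_pResidualOf, mem_cj]
        simpa [mul_assoc] using h2)
    (key (closure A) g⁻¹ ((closure_le _).2 hA) (mem_top _) (cj_inv_closure_le_iff.2 hAg))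
  rw [centralizer_closure'] at h2
  rw [← inv_inv d] at h1
  obtain ⟨n, x, e, h3⟩ := chain_iff_ofFn.1 h1
  choose T hT using h3
  refine ⟨n, fun i => (T i).1, fun i => (T i).2, x, g * (y * d), y⁻¹, by simpa using inv_mem h2, inv_mem hy,
    by rw [e]; group, fun i => ?_⟩
  obtain ⟨a1, a2, a3, a4, a5, a6⟩ := (hT i).1.1.good hS
  refine ⟨a1, a2, a3, a4, a5, a6, ?_, cj_inv_closure_le_iff.1 (hT i).2⟩
  have := (hT i).1.2
  rwa [inv_inv] at this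

end Cfsg.Agent.S3072
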