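import Cfsg.Statements.S0228
import Cfsg.Agent.H9.Hv2

set_option autoImplicit false
open Cfsg

namespace Cfsg.Agent.S0228

open H18 H9 Subgroup

/-- A group of order 12 in which no involution is central is isomorphic to the alternating group on four letters. -/
theorem result {G : Type*} [Group G] [Finite G] (hG : Nat.card G = 12) (hz : ∀ z : G, orderOf z = 2 → z ∉ Subgroup.center G) : Nonempty (G ≃* alternatingGroup (Fin 4)) := by
  obtain ⟨P, -, hP⟩ := cauchy_sub (H := (⊤ : Subgroup G)) Nat.prime_three (by rw [card_top, hG]; norm_num)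
  have hi : P.index = 4 := by have := P.card_mul_index; rw [hP, hG] at this; omega
  rcases eq_bot_or_eq_of_prime (hP ▸ Nat.prime_three) (normalCore_le P) with h | h
  · obtain ⟨f, hf⟩ := exists_perm hi
    have inj := (MonoidHom.ker_eq_bot_iff f).1 (hf.trans h)
    have e := MonoidHom.ofInjective inj
    have : f.range.index = 2 := by
      have := f.range.card_mul_index
      rw [← Nat.card_congr e.toEquiv, hG, Nat.card_perm, Nat.card_fin] at this
      simp only [Nat.factorial] at this; omega
    exact ⟨e.trans (MulEquiv.subgroupCongr (Equiv.Perm.eq_alternatingGroup_of_index_eq_two this))⟩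
  have hn : P.Normal := h ▸ inferInstance
  have h1 := prime_relIndex_C_dvd Nat.prime_three hP (A := ⊤) norm_of_normal
  have h2 := card_mul_relIndex (le_top : C(P) ≤ ⊤)
  rw [card_top, hG] at h2
  obtain ⟨z, hzC, z2, z1⟩ := H5.exists_inv_of_even (X := C(P)) (by
    rcases (Nat.dvd_prime Nat.prime_two).1 h1 with e | e <;> rw [e] at h2 <;> rw [Nat.even_iff] <;> omega)
  refine absurd (mem_center_iff.2 fun g => mem_C1.1 (le_of_sylows (M := ⊤) (fun p hp hd => ?_) (mem_top g)))
    (hz z (ord2.2 ⟨z2, z1⟩))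
  rw [card_top, hG, show 12 = 2 ^ 2 * 3 from rfl] at hd
  have c : Nat.card (⊤ : Subgroup G) = 12 := card_top.trans hG
  rcases (Nat.Prime.dvd_mul hp).1 hd with hd | hd
  · obtain rfl := (Nat.prime_dvd_prime_iff_eq hp Nat.prime_two).1 (hp.dvd_of_dvd_pow hd)
    obtain ⟨T, hT, le⟩ := exists_sylow_le hp (two_zpowers z2) le_top
    obtain ⟨K, -, hK⟩ := exists_sub_card_pow (H := (⊤ : Subgroup G)) hp (n := 2) (by rw [c]; norm_num)
    have := hT.card_eq (hall_of_card_mul le_top (piGrp_of_card_pow hp hK) (n := 3)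
      ((piNat_compl_iff hp).2 (by norm_num)) (by rw [c, hK]; rfl))
    exact ⟨T, hT, (abel_of_card_sq hp (this.trans hK)).trans (C_le_C1 (le (mem_zpowers z)))⟩
  · obtain rfl := (Nat.prime_dvd_prime_iff_eq hp Nat.prime_three).1 hd
    exact ⟨P, hall_of_card_mul le_top (piGrp_of_prime hp hP) (n := 4) ((piNat_compl_iff hp).2 (by norm_num))
      (by rw [c, hP]), le_C1_iff.2 hzC⟩

end Cfsg.Agent.S0228
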