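import Cfsg.Statements.S4020
import Cfsg.Agent.H1.Wa
import Cfsg.Agent.H1.BG3a
import Cfsg.Agent.H9.Quat

set_option autoImplicit false
open Cfsg

namespace Cfsg.Agent.S4020

open H18 H22 H1 Subgroup
open H27 (kL)
open scoped commutatorElement MatrixGroups

universe u

section
variable {G : Type u} [Group G] [Finite G] {S H P T E : Subgroup G} {p : ℕ} {x : G}

theorem abel_top (h : AbS S ⊤) (hp : p.Prime) (h2 : p ≠ 2) (hP : Hall {p} P ⊤)
    (hc : ∀ x ∈ P, ∃ g, g * x * g⁻¹ ∈ Z(P)) : Abel P := by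
  have := Fact.mk hp
  obtain ⟨T, rfl⟩ := hP.exists_sylow_top hp
  have h1 : ¬ Involves SL(2, ZMod p) G := fun e => H4.not_sec_SL2_of_comm h2 (fun T h3 h4 =>
    (h.abel_of h3 (piGrp_of_isPGroup Nat.prime_two h4)).comm) (H4.involves_iff.1 e)
  have h3 := (H27.kinf_fusion (fun Y _ hY => by
    have := H27.Inv.finite hY
    exact H27.pStable_of_not_involves_SL2 h2 fun e => h1 (H27.Inv.trans e hY)) G
      (H27.involves_refl G) (H26.isSyl_top T)).1
  rw [H27.inducedFunctor_kInfLower, H27.controlsStrongFusion_iff_ctl (H26.isSyl_top T) (H27.kL_le _)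
    (le_normalizer.trans (H27.normalizer_le_normalizer_kL _))] at h3
  have h4 : ∀ x ∈ (T : Subgroup G), ∃ n ∈ N(kL (T : Subgroup G)), n * x * n⁻¹ ∈ Z((T : Subgroup G)) :=
    fun x hx => by
      obtain ⟨g, e⟩ := hc x hx
      obtain ⟨n, hn, c, hc, rfl⟩ := h3 (zpowers x) g (zpowers_le.2 hx) (mem_top g)
        (by rw [← cj_def, cj_zpowers]; exact zpowers_le.2 e.1)
      refine ⟨n, hn, ?_⟩
      rw [C_zpowers] at hc
      rwa [show n * c * x * (n * c)⁻¹ = n * (c * x * c⁻¹) * n⁻¹ by group, conj_eq_self_of_C1 hc] at e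
  have h5 : kL (T : Subgroup G) = T := (H27.kL_le _).antisymm fun x hx => by
    obtain ⟨n, hn, e⟩ := h4 x hx
    have := conj_mem_N' hn (H27.center_le_kL _ e)
    rwa [show n⁻¹ * (n * x * n⁻¹) * n = x by group] at this
  intro x hx
  obtain ⟨n, hn, e⟩ := h4 x hx
  rw [h5] at hn
  have := conj_mem_N' (norm_Z le_rfl hn) e
  rw [show n⁻¹ * (n * x * n⁻¹) * n = x by group] at this
  exact this.2

theorem abel_in (h : AbS S H) (hp : p.Prime) (h2 : p ≠ 2) (hP : Hall {p} P H)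
    (hc : ∀ x ∈ P, ∃ g ∈ H, g * x * g⁻¹ ∈ Z(P)) : Abel P := by
  have h1 : AbS (S.subgroupOf H) ⊤ := by
    have := h.mim (f := MonoidHom.id H) le_rfl
    rwa [mim_id, mim_id, subgroupOf_self] at this
  have h3 := hall_subgroupOf hP le_rfl
  rw [subgroupOf_self] at h3
  have h4 := abel_top h1 hp h2 h3 fun x hx => by
    obtain ⟨g, hg, e⟩ := hc x hx
    exact ⟨⟨g, hg⟩, e.1, mem_C.2 fun y hy => Subtype.ext (mem_C.1 e.2 y hy)⟩
  exact cent_iff.2 fun a ha b hb => congrArg Subtype.val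
    (cent_iff.1 h4 ⟨a, hP.le ha⟩ ha ⟨b, hP.le hb⟩ hb)

/-- `p`-subgroups of the same order are conjugate -/
def DD (G : Type u) [Group G] (p : ℕ) : Prop :=
  ∀ H K : Subgroup G, PiGrp {p} H → Nat.card H = Nat.card K → ∃ g, K = cj g H

theorem expo (hp : p.Prime) (h : DD G p) (hE : PElem p 2 E ⊤) (hx : PiElt {p} x) : x ^ p = 1 := by
  by_contra h1
  obtain ⟨k, hk⟩ := hx.eq_pow (orderOf_pos x).ne'
  have h2 : 2 ≤ k := by
    by_contra h3
    exact h1 (orderOf_dvd_iff_pow_eq_one.1 (hk ▸ (pow_dvd_pow p (by omega : k ≤ 1)).trans (by simp)))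
  obtain ⟨K, hK, e⟩ := exists_sub_card_pow (H := zpowers x) hp (n := 2)
    (by rw [card_zpowers', hk]; exact pow_dvd_pow p h2)
  obtain ⟨g, rfl⟩ := h K E (hx.zpowers.of_le hK) (e.trans hE.card.symm)
  exact hE.not_cyc hp le_rfl ((cyc_zpowers.of_le hK).cj g)

theorem two (h : DD G 2) (hT : PiGrp {2} T) : Cyc T ∨ Elem 2 T ∨ ∃ x y, H9.QData T 2 x y := by
  by_cases hu : ∀ v ∈ T, ∀ w ∈ T, orderOf v = 2 → orderOf w = 2 → v = w
  · rcases H9.isCyclic_or_qData hT.isPGroup hu with e | ⟨n, x, y, q⟩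
    · exact Or.inl e
    refine Or.inr (Or.inr ?_)
    rcases n with _ | n
    · exact ⟨x, y, q⟩
    exfalso
    have y4 := q.orderOf_of_notMem q.ymem q.ynot
    have big : 4 < 2 * 2 ^ (n + 1 + 1) := by have := Nat.one_le_two_pow (n := n); ring_nf; omega
    obtain ⟨M, h1, h2, h3⟩ := hT.exists_index_p (K := zpowers y) (lt_of_le_of_ne (zpowers_le.2 q.ymem)
      fun e => by
        have := q.card_eq
        rw [← e, card_zpowers', y4] at this
        omega)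
    have h4 := H18.card_mul_relIndex h2.le
    rw [h3, q.card_eq] at h4
    obtain ⟨g, e⟩ := h (zpowers x) M (hT.of_le q.zpowers_le) (by rw [card_zpowers', q.ordx]; omega)
    rw [cj_zpowers] at e
    have h5 : g * x * g⁻¹ ∈ zpowers x := by
      by_contra h6
      have := q.orderOf_of_notMem (h2.le (e ▸ mem_zpowers _)) h6
      rw [H18.orderOf_conj, q.ordx] at this
      omega
    exact q.ynot (zpowers_le.2 h5 (e ▸ h1 (mem_zpowers y)))
  push Not at hu
  obtain ⟨v, hv, w, hw, v2, w2, ne⟩ := hu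
  obtain ⟨z, hz, z2⟩ := exists_inv (hT.inf_left.dvd_card (hT.nil.Z_ne_bot (ne_bot_of_mem hv (ne1 v2))))
  obtain ⟨s, hs, s2, sz⟩ : ∃ s ∈ T, orderOf s = 2 ∧ s ≠ z := by
    by_cases e : v = z
    exacts [⟨w, hw, w2, fun e' => ne (e.trans e'.symm)⟩, ⟨v, hv, v2, e⟩]
  have c := (mem_C.1 hz.2 s hs).symm
  have h1 : PElem 2 2 (V4 z s) ⊤ := ⟨le_top, ⟨V4_abel c, fun a ha =>
    (sq a).trans (sq_of_mem_V4 (sq1 z2) (sq1 s2) c ha)⟩, card_V4 z2 s2 c sz⟩
  have h2 : ∀ a ∈ T, a * a = 1 := fun a ha => (sq a).symm.trans (expo Nat.prime_two h h1 (hT.elt ha))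
  refine Or.inr (Or.inl ⟨cent_iff.2 fun a ha b hb => ?_, fun a ha => (sq a).trans (h2 a ha)⟩)
  rw [← inv_of_sq (h2 _ (mul_mem ha hb)), mul_inv_rev, inv_of_sq (h2 a ha), inv_of_sq (h2 b hb)]

theorem odd (hp : p.Prime) (h2 : p ≠ 2) (h : DD G p) (h' : DD G 2) (hP : Hall {p} P ⊤) :
    Cyc P ∨ Elem p P := by
  refine or_iff_not_imp_left.2 fun hc => ?_
  obtain ⟨E, hE⟩ : ∃ E, PElem p 2 E P := by
    by_contra h1
    exact hc (odd_pgroup_cyc hp (hp.odd_of_ne_two h2) P hP.pi fun E e => h1 ⟨E, e⟩)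
  have ex : ∀ x ∈ P, x ^ p = 1 := fun x hx => expo hp h hE.top (hP.pi.elt hx)
  refine ⟨?_, ex⟩
  have key : ∀ W ≤ P, W ≠ ⊥ → ∀ x ∈ P, ∃ g, g * x * g⁻¹ ∈ W := fun W hW W0 x hx => by
    by_cases x1 : x = 1
    · exact ⟨1, by simp [x1]⟩
    obtain ⟨w, hw, w1⟩ := exists_mem_ne_one' W0
    obtain ⟨g, e⟩ := h (zpowers x) (zpowers w) (hP.pi.elt hx).zpowers
      ((card_zpowers_of_pow hp (ex x hx) x1).trans (card_zpowers_of_pow hp (ex w (hW hw)) w1).symm)
    exact ⟨g, zpowers_le.2 hw (e ▸ conj_mem_cj (mem_zpowers x))⟩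
  have hz := key Z(P) inf_le_left (hP.pi.nil.Z_ne_bot (ne_bot_of_not_cyc hc))
  obtain ⟨T, hT⟩ := exists_sylow Nat.prime_two (⊤ : Subgroup G)
  have ab : Abel T → Abel P := fun e => abel_top ⟨hT, e⟩ hp h2 hP hz
  rcases two h' hT.pi with e | e | ⟨x, y, q⟩
  · exact ab e.abel
  · exact ab e.abel
  set u := x ^ 2
  have u2 : orderOf u = 2 := q.orderOf_u
  have h3 : ⁅⊤, zpowers u⁆ ≤ O'((⊤ : Subgroup G)) := zstar_in (mem_top u) u2 fun g _ c => by
    obtain ⟨k, -, e⟩ := sylow_le_cj Nat.prime_two hT (V4_pi (sq1 u2) (sq1 (ord2_conj u2 g)) c) le_top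
    have e1 := q.eq_u (e (conj_mem_cj left_mem_V4)) (ord2_conj u2 k)
    have e2 := q.eq_u (e (conj_mem_cj right_mem_V4)) (ord2_conj (ord2_conj u2 g) k)
    simpa using e2.trans e1.symm
  set Y := O'((⊤ : Subgroup G)) ⊔ zpowers u
  have OY : O'((⊤ : Subgroup G)) ⊴ ⊤ := pcore_nml
  have hY : Y ⊴ ⊤ := ⟨le_top, norm_iff_comm_le.2 (comm_sup_le' ((comm_le_right OY.norm).trans le_sup_left)
    (h3.trans le_sup_left) (le_norm le_sup_left) (le_norm le_sup_right))⟩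
  have YN : ∀ g, g ∈ N(Y) := fun g => hY.norm (mem_top g)
  by_cases h0 : P ⊓ Y = ⊥
  · refine (abel_quo_iff' (le_top.trans hY.norm) h0).1 (abel_in (S := T ⫽ Y)
      ⟨hT.mim hY.norm, ?_⟩ hp h2 (hP.mim hY.norm) fun a ha => ?_)
    · have sq : ∀ a ∈ T ⫽ Y, a * a = 1 := fun a ha => by
        obtain ⟨b, hb, rfl⟩ := (mem_quo (le_top.trans hY.norm)).1 ha
        rw [← mfun_mul (YN b) (YN b)]
        refine cs_eq_one (mem_sup_right ?_)
        by_cases e : b ∈ zpowers x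
        · obtain ⟨i, rfl⟩ := e
          exact ⟨i, by simp only [u]; rw [← zpow_natCast, ← zpow_mul, ← zpow_add]; congr 1; push_cast; ring⟩
        · exact q.mul_self hb e ▸ mem_zpowers _
      refine cent_iff.2 fun a ha b hb => ?_
      rw [← inv_of_sq (sq _ (mul_mem ha hb)), mul_inv_rev, inv_of_sq (sq a ha), inv_of_sq (sq b hb)]
    · obtain ⟨b, hb, rfl⟩ := (mem_quo (le_top.trans hY.norm)).1 ha
      obtain ⟨g, e⟩ := hz b hb
      refine ⟨cs Y g, mfun_mem_mim (mem_top g), ?_⟩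
      rw [← mfun_conj (YN g) (YN b)]
      exact mim_inf_C_le (mfun_mem_mim e)
  have PY : P ≤ Y := fun a ha => by
    obtain ⟨g, e⟩ := key _ inf_le_left h0 a ha
    have := conj_mem_N' (YN g) e.2
    rwa [show g⁻¹ * (g * a * g⁻¹) * g = a by group] at this
  have hP' := hP.of_le PY le_top
  refine abel_in (S := zpowers u) ⟨hall_of_sup' (pi2_of_sq (sq1 u2)).zpowers pcore_pi
    (Or.inl (le_top.trans OY.norm)), abel_zpowers⟩ hp h2 hP' fun a ha => ?_
  obtain ⟨g, e⟩ := hz a ha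
  obtain ⟨k, hk, n, hn, e2⟩ := frattini_elt hp hP' (YN g⁻¹)
  refine ⟨k⁻¹, inv_mem hk, ?_⟩
  have := conj_mem_N (norm_Z le_rfl hn) e
  rwa [show n = k⁻¹ * g⁻¹ by rw [e2]; group,
    show k⁻¹ * g⁻¹ * (g * a * g⁻¹) * (k⁻¹ * g⁻¹)⁻¹ = k⁻¹ * a * k⁻¹⁻¹ by group] at this

end

/-- Let G be a finite group in which, for every prime p, any two p-subgroups of the same order are conjugate. Then every Sylow subgroup of G is cyclic, elementary abelian, or a quaternion group of order 8. -/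
theorem result {G : Type*} [Group G] [Finite G]
    (hD : ∀ p : ℕ, p.Prime → ∀ H K : Subgroup G, IsPGroup p H → IsPGroup p K → Nat.card H = Nat.card K →
      ∃ g : G, K = H.map (MulAut.conj g).toMonoidHom) {p : ℕ} [Fact p.Prime] (P : Sylow p G) :
    IsCyclic P ∨ Cfsg.IsElementaryAbelian p (P : Subgroup G) ∨ Nonempty ((P : Subgroup G) ≃* QuaternionGroup 2) := by
  have hp : p.Prime := Fact.out
  have d : ∀ q : ℕ, q.Prime → DD G q := fun q hq H K h1 e =>
    hD q hq H K h1.isPGroup (PiGrp.isPGroup (by rw [PiGrp, ← e]; exact h1)) e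
  have hP := hall_sylow_top hp P
  by_cases h2 : p = 2
  · subst h2
    rcases two (d 2 hp) hP.pi with e | e | ⟨x, y, q⟩
    exacts [Or.inl e, Or.inr (Or.inl e.isElem), Or.inr (Or.inr q.nonempty_equiv)]
  · rcases odd hp h2 (d p hp) (d 2 Nat.prime_two) hP with e | e
    exacts [Or.inl e, Or.inr (Or.inl e.isElem)]

end Cfsg.Agent.S4020
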