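import Cfsg.Statements.S3381
import Cfsg.Agent.H16.NF3

set_option autoImplicit false
open Cfsg

namespace Cfsg.Agent.S3381


/-- Let G be a finite group acting faithfully and linearly on a non-trivial finite vector space V over the field with q elements (q prime) so that every non-zero vector has a stabilizer of order 2, and suppose G has a central involution. Then V has q^(2r) elements for some r and G contains exactly q^r + 1 non-central involutions. -/
theorem result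
    (q : ℕ) [Fact q.Prime] {V : Type*} [AddCommGroup V] [Module (ZMod q) V] [Finite V] [Nontrivial V]
    {G : Type*} [Group G] [Finite G] (ρ : G →* (V ≃ₗ[ZMod q] V)) (hρ : Function.Injective ρ)
    (hstab : ∀ v : V, v ≠ 0 → Nat.card {g : G // ρ g v = v} = 2)
    (z : G) (hz : orderOf z = 2) (hzc : z ∈ Subgroup.center G) :
    ∃ r : ℕ, Nat.card V = q ^ (2 * r) ∧
      Nat.card {g : G // orderOf g = 2 ∧ g ∉ Subgroup.center G} = q ^ r + 1 := by
  classical
  let τ := H16.toRep ρ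
  have hfa : ∀ g, (∀ v, τ g v = v) → g = 1 := fun g h => hρ (by rw [map_one]; exact LinearEquiv.ext h)
  have hmul : ∀ a b v, τ (a * b) v = τ a (τ b v) := fun a b v => by rw [map_mul]; rfl
  have hA : ∀ v : V, v ≠ 0 → ∃ t : G, t ≠ 1 ∧ τ t v = v ∧ ∀ s, s ≠ 1 → τ s v = v → s = t := fun v hv => by
    obtain ⟨t, h1, h2⟩ := (Nat.card_eq_two_iff' (⟨1, by simp⟩ : {g : G // ρ g v = v})).1 (hstab v hv)
    exact ⟨t.1, fun e => h1 (Subtype.ext e), t.2, fun s hs e =>
      congrArg Subtype.val (h2 ⟨s, e⟩ fun e => hs (congrArg Subtype.val e))⟩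
  have huniq : ∀ v : V, v ≠ 0 → ∀ s t, s ≠ 1 → t ≠ 1 → τ s v = v → τ t v = v → s = t := fun v hv s t hs ht e1 e2 => by
    obtain ⟨u, -, -, h⟩ := hA v hv
    rw [h s hs e1, h t ht e2]
  have hB : ∀ c : G, c ≠ 1 → c * c = 1 → c ∈ Subgroup.center G → (2 : ZMod q) ≠ 0 ∧ ∀ v, τ c v = -v := by
    intro c c1 c2 hc
    have h1 : ∀ w, τ c w ≠ w → τ c w = -w := fun w hw => by
      obtain ⟨t, t1, ht, -⟩ := hA w (by rintro rfl; exact hw (map_zero _))
      by_contra h
      refine hw ?_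
      rw [huniq (τ c w + w) (fun e => h (eq_neg_of_add_eq_zero_left e)) c t c1 t1
        (by rw [map_add, ← hmul, c2, map_one, add_comm]; rfl)
        (by rw [map_add, ← hmul, Subgroup.mem_center_iff.1 hc t, hmul, ht]), ht]
    obtain ⟨w, hw⟩ : ∃ w, τ c w ≠ w := by
      by_contra h; exact c1 (hfa c fun v => by_contra fun hv => h ⟨v, hv⟩)
    have h2 : (2 : ZMod q) ≠ 0 := fun e => hw (by
      rw [h1 w hw, neg_eq_iff_add_eq_zero, ← two_smul (ZMod q), e, zero_smul])
    refine ⟨h2, fun v => by_contra fun hv => ?_⟩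
    have e1 : τ c v = v := by_contra fun e => hv (h1 v e)
    have e2 := h1 (v + w) (by rw [map_add, e1]; simpa using hw)
    rw [map_add, e1, h1 w hw, neg_add, add_left_inj] at e2
    exact hv (e1.trans e2)
  have z1 : z ≠ 1 := by rintro rfl; simp at hz
  have z2 : z * z = 1 := by rw [← pow_two, ← hz, pow_orderOf_eq_one]
  obtain ⟨h2, hzv⟩ := hB z z1 z2 hzc
  have h2v : ∀ v : V, -v = v → v = 0 := fun v e =>
    (smul_eq_zero.1 (by rw [two_smul]; exact add_eq_zero_iff_neg_eq.2 e)).resolve_left h2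
  let F : G → Submodule (ZMod q) V := fun t => LinearMap.ker (τ t - 1)
  have hF : ∀ t v, v ∈ F t ↔ τ t v = v := fun t v => by simp [F, sub_eq_zero]
  let I : G → Prop := fun t => t ≠ 1 ∧ t * t = 1 ∧ t ≠ z
  have hI : ∀ t, I t ↔ orderOf t = 2 ∧ t ∉ Subgroup.center G := fun t => by
    refine ⟨fun h => ⟨orderOf_eq_prime (by rw [pow_two, h.2.1]) h.1, fun hc => h.2.2 ?_⟩, fun h =>
      ⟨by rintro rfl; simp at h, by rw [← pow_two, ← h.1, pow_orderOf_eq_one], fun e => h.2 (e ▸ hzc)⟩⟩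
    exact hρ (LinearEquiv.ext fun v => ((hB t h.1 h.2.1 hc).2 v).trans (hzv v).symm)
  have hIz : ∀ t, I t → I (t * z) := fun t h =>
    ⟨fun e => h.2.2 (by rw [← mul_one t, ← z2, ← mul_assoc, e, one_mul]),
      by rw [mul_assoc, ← mul_assoc z, ← Subgroup.mem_center_iff.1 hzc t, mul_assoc, z2, mul_one, h.2.1],
      fun e => h.1 (mul_eq_right.1 e)⟩
  have hdis : ∀ s t, s ≠ 1 → t ≠ 1 → s ≠ t → Disjoint (F s) (F t) := fun s t hs ht hst =>
    Submodule.disjoint_def.2 fun v h1 h3 => by_contra fun hv =>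
      hst (huniq v hv s t hs ht ((hF _ _).1 h1) ((hF _ _).1 h3))
  have hne : ∀ t : G, t ≠ t * z := fun t e => z1 (mul_eq_left.1 e.symm)
  have hco : ∀ t, I t → IsCompl (F t) (F (t * z)) := fun t h => by
    refine ⟨hdis _ _ h.1 (hIz t h).1 (hne t), codisjoint_iff.2 (Submodule.eq_top_iff'.2 fun v => ?_)⟩
    have e : ∀ v, τ t (τ t v) = v := fun v => by rw [← hmul, h.2.1, map_one]; rfl
    refine Submodule.mem_sup.2 ⟨(2 : ZMod q)⁻¹ • (v + τ t v), Submodule.smul_mem _ _ ((hF _ _).2 ?_),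
      (2 : ZMod q)⁻¹ • (v - τ t v), Submodule.smul_mem _ _ ((hF _ _).2 ?_), ?_⟩
    · rw [map_add, e, add_comm]
    · rw [hmul, hzv, neg_sub, map_sub, e]
    · rw [← smul_add, add_add_sub_cancel, ← two_smul (ZMod q), smul_smul, inv_mul_cancel₀ h2, one_smul]
  have hbot : ∀ t, I t → F t ≠ ⊥ := fun t h e =>
    (hIz t h).1 (hfa _ fun v => (hF _ _).1 (eq_top_of_bot_isCompl (e ▸ hco t h) ▸ Submodule.mem_top))
  have hAI : ∀ v : V, v ≠ 0 → ∃ t, I t ∧ τ t v = v := fun v hv => by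
    obtain ⟨t, t1, ht, h⟩ := hA v hv
    refine ⟨t, ⟨t1, by_contra fun e => t1 (mul_eq_left.1 (h _ e (by rw [hmul, ht, ht]))), ?_⟩, ht⟩
    rintro rfl
    exact hv (h2v v ((hzv v).symm.trans ht))
  have hle : ∀ t, I t → 2 * Module.finrank (ZMod q) (F t) ≤ Module.finrank (ZMod q) V := fun t h => by
    obtain ⟨x, hx, x0⟩ := (Submodule.ne_bot_iff _).1 (hbot t h)
    obtain ⟨y, hy, y0⟩ := (Submodule.ne_bot_iff _).1 (hbot _ (hIz t h))
    have hd := Submodule.disjoint_def.1 (hco t h).disjoint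
    have n1 : x + y ∉ F t := fun e => y0 (hd y (((F t).add_mem_iff_right hx).1 e) hy)
    have n2 : x + y ∉ F (t * z) := fun e => x0 (hd x hx (((F _).add_mem_iff_left hy).1 e))
    obtain ⟨s, hs, e⟩ := hAI (x + y) (fun e => n1 (e ▸ Submodule.zero_mem _))
    have e1 := Submodule.finrank_add_finrank_le_of_disjoint (hdis t s h.1 hs.1 (by
      rintro rfl; exact n1 ((hF _ _).2 e)))
    have e2 := Submodule.finrank_add_finrank_le_of_disjoint (hdis t (s * z) h.1 (hIz s hs).1 (by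
      rintro rfl; exact n2 ((hF _ _).2 (by rwa [mul_assoc, z2, mul_one]))))
    have e3 := Submodule.finrank_add_eq_of_isCompl (hco s hs)
    omega
  have heq : ∀ t, I t → 2 * Module.finrank (ZMod q) (F t) = Module.finrank (ZMod q) V := fun t h => by
    have := hle t h
    have := hle _ (hIz t h)
    have := Submodule.finrank_add_eq_of_isCompl (hco t h)
    omega
  obtain ⟨v₀, hv₀⟩ := exists_ne (0 : V)
  obtain ⟨t₀, ht₀, -⟩ := hAI v₀ hv₀
  have hV : Nat.card V = q ^ (2 * Module.finrank (ZMod q) (F t₀)) := by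
    rw [heq t₀ ht₀, Module.natCard_eq_pow_finrank (K := ZMod q), Nat.card_zmod]
  refine ⟨_, hV, ?_⟩
  have hr : ∀ t, I t → Nat.card (F t) = q ^ Module.finrank (ZMod q) (F t₀) := fun t h => by
    have := heq t h
    have := heq t₀ ht₀
    rw [H16.card_eq_pow]; congr 1; omega
  have h1 : 1 < q ^ Module.finrank (ZMod q) (F t₀) := by
    rw [← hr t₀ ht₀, Finite.one_lt_card_iff_nontrivial]
    exact Submodule.nontrivial_iff_ne_bot.2 (hbot t₀ ht₀)
  rw [mul_comm, pow_mul] at hV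
  generalize q ^ Module.finrank (ZMod q) (F t₀) = Q at *
  have hc : ∀ W : Submodule (ZMod q) V, Nat.card ↥((W : Set V) \ {0}) + 1 = Nat.card W := fun W => by
    rw [Nat.card_coe_set_eq, Set.ncard_sdiff_singleton_add_one W.zero_mem]; rfl
  have := Fintype.ofFinite {t // I t}
  have e := Nat.card_eq_of_bijective
    (fun x : Σ t : {t // I t}, ↥((F t : Set V) \ {0}) => (⟨x.2.1, trivial, x.2.2.2⟩ : ↥(((⊤ : Submodule (ZMod q) V) : Set V) \ {0})))
    ⟨by
      rintro ⟨⟨s, hs⟩, v, hv⟩ ⟨⟨t, ht⟩, w, hw⟩ e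
      obtain rfl : v = w := congrArg Subtype.val e
      obtain rfl := huniq v hv.2 s t hs.1 ht.1 ((hF _ _).1 hv.1) ((hF _ _).1 hw.1)
      rfl, fun v => by
      obtain ⟨t, ht, h⟩ := hAI v v.2.2
      exact ⟨⟨⟨t, ht⟩, v, (hF _ _).2 h, v.2.2⟩, rfl⟩⟩
  obtain ⟨R, rfl⟩ : ∃ R, Q = R + 1 := ⟨Q - 1, by omega⟩
  rw [Nat.card_sigma, Finset.sum_congr rfl fun (t : {t // I t}) _ =>
    Nat.succ_injective ((hc (F t)).trans (hr t t.2)), Finset.sum_const, Finset.card_univ, smul_eq_mul,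
    ← Nat.card_eq_fintype_card] at e
  have e2 := hc ⊤
  rw [← e, Nat.card_congr Submodule.topEquiv.toEquiv, hV] at e2
  rw [← Nat.card_congr (Equiv.subtypeEquivRight hI)]
  exact Nat.eq_of_mul_eq_mul_right (show 0 < R by omega) (by nlinarith)

end Cfsg.Agent.S3381
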