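import Cfsg.Statements.S4034
import Cfsg.Agent.H21.Crit

set_option autoImplicit false
open Cfsg

namespace Cfsg.Agent.S4034

open H18 H21 Subgroup
universe u

theorem solv1 {p : ℕ} (hp : p.Prime) (G : Type u) [Group G] [Finite G]
    (h : ∀ x : G, PiElt {p}ᶜ x → PiNat {p} C1(x).index) : Group.IsSolvable G := by
  refine H5.isSolvable_of_simple_sections (fun (X : Type u) [Group X] => ∀ x : X, PiElt {p}ᶜ x → PiNat {p} C1(x).index)
    (fun X _ _ N _ h x hx => (h x (by rwa [PiElt, orderOf_coe])).of_dvd (class_dvd_normal N x))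
    (fun X _ _ N _ h x hx => ?_) (fun X _ _ _ h => ?_) G h
  · obtain ⟨y, hy, rfl⟩ := exists_piElt_mk N hx
    exact (h y hy).of_dvd (class_dvd_quot N y)
  · by_cases c : PiGrp {p} (⊤ : Subgroup X)
    · exact solv_top_iff.1 c.solv
    obtain ⟨q, hq, hd, hqp⟩ := exists_prime_not_mem c
    obtain ⟨x, -, hx⟩ := cauchy hq hd
    obtain ⟨k, hk⟩ := (h x (by rw [PiElt, hx]; exact (piNat_prime hq).2 hqp)).eq_pow index_ne_zero_of_finite
    exact H5.isSolvable_of_card_prime (H5.card_prime_of_isSimpleGroup_of_index_eq_pow hp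
      (by rintro rfl; exact hq.ne_one (by simpa using hx.symm)) hk)

theorem solv2 {p : ℕ} (hp : p.Prime) (G : Type u) [Group G] [Finite G]
    (h : ∃ H : Subgroup G, Abel H ∧ PiNat {p} H.index) : Group.IsSolvable G := by
  refine H5.isSolvable_of_simple_sections (fun (X : Type u) [Group X] => ∃ H : Subgroup X, Abel H ∧ PiNat {p} H.index)
    (fun X _ _ N _ ⟨H, h1, h2⟩ => ⟨H.subgroupOf N, ?_, h2.of_dvd ?_⟩)
    (fun X _ _ N _ ⟨H, h1, h2⟩ => ⟨mim (topq N) H, h1.mim, h2.of_dvd ?_⟩) (fun X _ _ _ ⟨H, h1, h2⟩ => ?_) G h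
  · rw [← mim_id]; exact h1.mim
  · exact relIndex_top_right H ▸ (nml_top (K := N)).relIndex_dvd' (H := H) le_top
  · rw [mim_topq]; exact index_map_dvd _ (QuotientGroup.mk'_surjective N)
  · by_cases c : H = ⊥
    · exact solv_top_iff.1 (PiGrp.solv (p := p) (by simpa [c, PiGrp] using h2))
    obtain ⟨x, hx, h3⟩ := exists_mem_ne_one' c
    obtain ⟨k, hk⟩ := (h2.of_dvd (index_dvd_of_le (h1.trans (C_le_C1 hx)))).eq_pow index_ne_zero_of_finite
    exact H5.isSolvable_of_card_prime (H5.card_prime_of_isSimpleGroup_of_index_eq_pow hp h3 hk)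

/-- Let G be a finite group and p a prime. Every conjugacy class of p-regular elements of G (elements of order prime to p) has p-power size if and only if G has an abelian p-complement, i.e. an abelian subgroup of order prime to p and p-power index. -/
theorem result {G : Type*} [Group G] [Finite G] {p : ℕ} (hp : p.Prime) :
    (∀ x : G, (orderOf x).Coprime p → ∃ k : ℕ, (ConjClasses.mk x).carrier.ncard = p ^ k) ↔
    (∃ H : Subgroup G, IsMulCommutative H ∧ ¬ p ∣ Nat.card H ∧ ∃ k : ℕ, H.index = p ^ k) := by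
  simp only [ncard_class]
  constructor
  · intro h
    have h : ∀ x : G, PiElt {p}ᶜ x → PiNat {p} C1(x).index := fun x hx => by
      obtain ⟨k, hk⟩ := h x ((piNat_compl_iff_coprime hp).1 hx)
      exact hk ▸ piNat_pow_self hp k
    have hs : Solv (⊤ : Subgroup G) := solv_top_iff.2 (solv1 hp G h)
    obtain ⟨H, hH⟩ := H23.hall_exists {p}ᶜ hs
    refine ⟨H, Abel.comm ?_, (piNat_compl_iff hp).1 hH.pi, ?_⟩
    swap
    · simpa using hH.idx.of_compl_compl.eq_pow relIndex_ne_zero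
    set O := O[{p}]((⊤ : Subgroup G))
    have nO : O ⊴ ⊤ := pcore_nml
    rw [← abel_quo_iff' (le_top.trans nO.2) (hH.pi.inf_eq_bot' pcore_pi)]
    have F' : PiGrp {p}ᶜ F(⊤ ⫽ O) := fun r hr hd e => by
      obtain rfl : r = p := e
      exact pcore_hall_fit.ne_bot_p hr hd pcore_quo_pcore
    have key : ∀ x ∈ H, cs O x ∈ C(F(⊤ ⫽ O)) := fun x hx => by
      obtain ⟨L, hL⟩ := H23.hall_exists {p}ᶜ (hs.of_le (le_top : C1(x) ≤ ⊤))
      have := (hL.of_idx le_top (by simpa using (h x (hH.pi.elt hx)).compl_compl)).mim (f := coset O) nO.2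
      exact le_C1_iff.1 ((this.nml_le fit_nml F').trans (mim_C1 (nO.2 (mem_top x)) hL.le))
    have k2 : H ⫽ O ≤ C(F(⊤ ⫽ O)) := fun z hz => by
      obtain ⟨x, hx, rfl⟩ := (mem_quo (le_top.trans nO.2)).1 hz
      exact key x hx
    exact cent_mono k2 le_rfl ((le_inf (mim_mono le_top) k2).trans (cent_sub_Fitting hs.mim))
  · rintro ⟨H, h1, h2, k, h3⟩ x hx
    have h3 : PiNat {p} H.index := h3 ▸ piNat_pow_self hp k
    have hs : Solv (⊤ : Subgroup G) := solv_top_iff.2 (solv2 hp G ⟨H, abel_of_comm h1, h3⟩)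
    have hH : Hall {p}ᶜ H ⊤ := ⟨le_top, (piNat_compl_iff hp).2 h2, by simpa using h3⟩
    obtain ⟨g, -, hg⟩ := H23.hall_le_cj' hs hH le_top (PiElt.zpowers ((piNat_compl_iff_coprime hp).2 hx))
    refine PiNat.eq_pow (PiNat.of_dvd (n := (cj g H).index) (by simpa using h3) (index_dvd_of_le ?_))
      index_ne_zero_of_finite
    exact ((abel_of_comm h1).cj g).trans (C_le_C1 (zpowers_le.1 hg))

end Cfsg.Agent.S4034
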