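import Cfsg.Statements.S4249
import Cfsg.Agent.H21.Kegel

set_option autoImplicit false
open Cfsg

namespace Cfsg.Agent.S4249

open H18 H21 Subgroup H1
theorem aux {G : Type*} [Group G] [Finite G] {p : ℕ} {H L : Subgroup G} (hp : p.Prime) (hH : H ⊴ L)
    (h1 : H ≠ ⊥) (h2 : H ≠ L) (h3 : PiGrp {p}ᶜ H) (h4 : ∀ x ∈ L, x ∉ H → x ^ p = 1) : H.relIndex L = p := by
  obtain ⟨P, hP⟩ := exists_sylow hp L
  have i1 : PiNat {p} (H.relIndex L) := (piGrp_quo_iff hH.2).1 (piGrp_of_elt fun z hz => by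
    obtain ⟨x, hx, rfl⟩ := (mem_quo hH.2).1 hz
    by_cases c : x ∈ H
    · rw [cs_eq_one c]; exact PiElt.one
    · exact (piElt_of_pow_eq_one hp (h4 x hx c)).mfun (hH.2 hx))
  have hHL : Hall {p}ᶜ H L := ⟨hH.1, h3, i1.compl_compl⟩
  have d : H ⊓ P = ⊥ := h3.inf_eq_bot' hP.pi
  have nH : ∀ x ∈ P, x ≠ 1 → x ∉ H := fun x hx x1 c => x1 (eq_one_of_eq_bot d ⟨c, hx⟩)
  have sr : Semireg H P := fun x hx x1 => Split.fpf (K := H) (fun k hk => h4 _ (mul_mem (hH.1 hk) (hP.le hx))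
    fun c => nH x hx x1 ((mul_mem_cancel_left hk).1 c)) hp le_rfl h3
  rw [hHL.relIndex_eq_compl (hP.congr fun q _ _ => by simp)]
  have P1 : P ≠ ⊥ := fun c => h2 (by simpa [c] using hP.sup_of_idx hH.1 i1)
  obtain ⟨z, hz, z1⟩ := cauchy hp ((hP.pi.inf_left).dvd_card (hP.pi.nil.Z_ne_bot P1))
  rw [← z1, ← card_zpowers']
  refine congrArg (fun X : Subgroup G => Nat.card X) (le_antisymm (fun y hy => ?_) (zpowers_le.2 hz.1))
  by_cases y1 : y = 1
  · exact y1 ▸ one_mem _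
  have le : zpowers z ⊔ zpowers y ≤ P := sup_le (zpowers_le.2 hz.1) (zpowers_le.2 hy)
  have cyc := cyc_of_semireg_abel (abel_zpowers.sup abel_zpowers (zpowers_le.2 (C_anti (zpowers_le.2 hy) hz.2)))
    (le.trans (hP.le.trans hH.2)) h1 fun a ha => sr a (le ha)
  exact (cyc.eq_of_card_eq le_sup_right le_sup_left (by
    rw [card_zpowers_of_pow hp (h4 y (hP.le hy) (nH y hy y1)) y1, card_zpowers', z1])).le (mem_zpowers y)

/-- Let G be a finite group and p a prime such that G is not a p-group, and suppose the Hughes subgroup H_p(G), generated by all elements g with g^p ≠ 1, is a proper subgroup. Then H_p(G) is nilpotent and has index p in G. -/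
theorem result {G : Type*} [Group G] [Finite G] (p : ℕ) (hp : p.Prime) (hG : ¬ IsPGroup p G)
    (hH : Subgroup.closure {g : G | g ^ p ≠ 1} ≠ ⊤) :
    Group.IsNilpotent (Subgroup.closure {g : G | g ^ p ≠ 1}) ∧ (Subgroup.closure {g : G | g ^ p ≠ 1}).index = p := by
  set H := Subgroup.closure {g : G | g ^ p ≠ 1} with hHd
  have nH : H ⊴ ⊤ := ⟨le_top, norm_closure fun a _ b hb c => hb (by rwa [conj_pow, conj_eq_one_iff'] at c)⟩
  have h4 : ∀ x, x ∉ H → x ^ p = 1 := fun x hx => by_contra fun c => hx (subset_closure c)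
  obtain ⟨x, hx⟩ : ∃ x, x ∉ H := by_contra fun c => hH (eq_top_iff.2 fun x _ => by_contra fun d => c ⟨x, d⟩)
  have hn : Nil H := kegel hp (nH.2 (mem_top x)) fun k hk => h4 _ fun c => hx ((mul_mem_cancel_left hk).1 c)
  refine ⟨hn, ?_⟩
  have nW : O[{p}](H) ⊴ ⊤ := nH.pcore
  rw [← relIndex_top_right, ← relIndex_quo le_top nW.2 pcore_le]
  refine aux hp nH.mim (fun c => hG ?_) (fun c => hH (quo_inj pcore_nml nW c)) (hn.pcore_hall.quo_compl pcore_nml.2)
    fun z hz hz' => ?_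
  · refine (PiGrp.isPGroup (H := (⊤ : Subgroup G)) (piGrp_of_elt fun y _ => ?_)).of_equiv topEquiv
    by_cases d : y ∈ H
    · exact pcore_pi.elt ((quo_eq_bot_iff pcore_nml.2).1 c d)
    · exact piElt_of_pow_eq_one hp (h4 y d)
  · obtain ⟨y, hy, rfl⟩ := (mem_quo nW.2).1 hz
    rw [← mfun_pow (nW.2 hy), h4 y fun c => hz' (mfun_mem_mim c), mfun_one]

end Cfsg.Agent.S4249
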