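import Cfsg.Statements.S4365
import Cfsg.Agent.H17.Mann

set_option autoImplicit false
open Cfsg

namespace Cfsg.Agent.S4365

open H117 H18 Subgroup
open scoped commutatorElement

theorem cpow {G : Type*} [Group G] {a y : G} (h : ⁅a, y⁆ ∈ center G) (n : ℕ) :
    ⁅a ^ n, y⁆ = ⁅a, y⁆ ^ n ∧ ⁅a, y ^ n⁆ = ⁅a, y⁆ ^ n := by
  have c := mem_center_iff.1 h
  induction n with
  | zero => simp
  | succ n ih =>
    constructor
    · calc _ = a * ⁅a ^ n, y⁆ * a⁻¹ * ⁅a, y⁆ := by simp only [commutatorElement_def, pow_succ']; group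
        _ = _ := by rw [ih.1, mem_center_iff.1 (pow_mem h n) a, pow_succ]; group
    · calc _ = ⁅a, y⁆ * (y * ⁅a, y ^ n⁆ * y⁻¹) := by simp only [commutatorElement_def, pow_succ']; group
        _ = _ := by rw [ih.2, mem_center_iff.1 (pow_mem h n) y, pow_succ']; group

/-- Let P be a finite p-group whose conjugacy class sizes are exactly 1 and pᵃ for some a ≥ 1. Then every element of P has its p-th power in the center of P (P/Z(P) has exponent p). -/
theorem result {P : Type*} [Group P] [Finite P] (p : ℕ) [Fact p.Prime]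
    (hP : IsPGroup p P) (a : ℕ) (ha : 1 ≤ a)
    (hcs : {k : ℕ | ∃ x : P, (Subgroup.centralizer ({x} : Set P)).index = k} = {1, p ^ a}) (x : P) :
    x ^ p ∈ Subgroup.center P := by
  have hp : p.Prime := Fact.out
  have h : ∀ x : P, C1(x).index = 1 ∨ C1(x).index = p ^ a := fun x => by
    have : C1(x).index ∈ ({1, p ^ a} : Set ℕ) := hcs ▸ ⟨x, rfl⟩
    exact this
  obtain ⟨A, hn, hA, hC⟩ := exists_scn_top hP
  have h1 := mann_center hA (m := p ^ a) fun x hx => ((h x).resolve_left hx.ne').ge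
  have e : Subgroup.closure {x : P | C1(x).index = 1 ∨ C1(x).index = p ^ a} = ⊤ :=
    eq_top_iff.2 fun x _ => Subgroup.subset_closure (h x)
  rw [e] at h1
  have h2 : ∀ t ∈ A, ∀ y : P, ⁅t, y⁆ ∈ center P := fun t ht y => h1 (commutator_mem_commutator ht trivial)
  have h3 : ∀ x : P, x ^ p ∉ center P → C1(x ^ p) ≤ C1(x) := fun x hx => by
    have e1 := (h _).resolve_left (fun e => hx (center_iff_index.2 e))
    have e2 := (h x).resolve_left (fun e => hx (pow_mem (center_iff_index.2 e) p))
    have e3 := relIndex_mul_index (C1_pow_le (x := x) p)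
    rw [e1, e2] at e3
    exact relIndex_eq_one.1 (Nat.eq_of_mul_eq_mul_right (pow_pos hp.pos a) (e3.trans (one_mul _).symm))
  have h4 : ∀ t ∈ A, t ^ p ∈ center P := fun t ht => by
    by_contra h5
    have key : ∀ k : ℕ, ∀ y : P, y ^ p ^ k ∈ C1(t) → y ∈ C1(t) := by
      intro k
      induction k with
      | zero => simp
      | succ k ih =>
        intro y hy
        rw [pow_succ', pow_mul] at hy
        have h6 := commutatorElement_eq_one_iff_mul_comm.2 (mem_C1.1 (ih _ hy)).symm
        rw [(cpow (h2 t ht y) p).2, ← (cpow (h2 t ht y) p).1, commutatorElement_eq_one_iff_mul_comm] at h6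
        exact h3 t h5 (mem_C1.2 h6.symm)
    refine h5 (pow_mem (mem_center_iff.2 fun y => ?_) p)
    obtain ⟨k, hk⟩ := hP y
    exact mem_C1.1 (key k y (hk ▸ one_mem _))
  by_contra h5
  have h6 : x ^ p ∈ A := hC (mem_C.2 fun t ht => by
    rw [← commutatorElement_eq_one_iff_mul_comm, (cpow (h2 t ht x) p).2, ← (cpow (h2 t ht x) p).1,
      commutatorElement_eq_one_iff_mul_comm]
    exact (mem_center_iff.1 (h4 t ht) x).symm)
  exact h5 (h4 x (hC (mem_C.2 fun t ht => mem_C1.1 (h3 x h5 (mem_C1.2 (comm_of_cent hA ht h6))))))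

end Cfsg.Agent.S4365
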