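import Cfsg.Statements.S4134
import Cfsg.Agent.H23.Cls
import Cfsg.Agent.S4365

set_option autoImplicit false
open Cfsg

namespace Cfsg.Agent.S4134

open H18 H23.Cls H117 Subgroup

/-- Let G be a finite group whose conjugacy classes have exactly two sizes, 1 and n > 1. Then n is a power of a prime p and G is the direct product of a p-group and an abelian group of order prime to p: its Sylow p-subgroup P is normal with an abelian normal complement centralizing it; moreover P has an abelian normal subgroup A with P/A of exponent dividing p. -/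
theorem result {G : Type*} [Group G] [Finite G] (n : ℕ) (hn : 1 < n)
    (h : ∀ x : G, (Subgroup.centralizer ({x} : Set G)).index = 1 ∨ (Subgroup.centralizer ({x} : Set G)).index = n) (hex : ∃ x : G, (Subgroup.centralizer ({x} : Set G)).index = n) :
    ∃ (p : ℕ) (_ : Fact p.Prime) (a : ℕ), n = p ^ a ∧ ∀ P : Sylow p G, (P : Subgroup G).Normal ∧
      (∃ N : Subgroup G, N.Normal ∧ N.IsComplement' (P : Subgroup G) ∧ IsMulCommutative N ∧
        ∀ x ∈ N, ∀ y ∈ (P : Subgroup G), x * y = y * x) ∧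
      ∃ A : Subgroup (P : Subgroup G), A.Normal ∧ IsMulCommutative A ∧ ∀ y : (P : Subgroup G), y ^ p ∈ A := by
  obtain ⟨x, hx⟩ := hex
  have h' : ∀ x ∈ (⊤ : Subgroup G), x ∉ center G → C1(x).index = n := fun x _ e => (h x).resolve_left (mt center_iff_index.2 e)
  obtain ⟨p, hp, P, hP, e⟩ : ∃ p, p.Prime ∧ ∃ P, Hall {p} P ⊤ ∧ ¬ P ≤ center G := by
    by_contra! e
    exact hn.ne' (hx.symm.trans (center_iff_index.1 (le_of_sylows (fun p hp _ =>
      (exists_sylow hp ⊤).imp fun P hP => ⟨hP, e p hp P hP⟩) (mem_top x))))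
  have nil := nil_of_two hp hP e le_top h'
  have key : ∀ q y, PiElt {q} y → y ∉ center G → PiNat {q} n := fun q y a b => by
    rw [← h' y (mem_top y) b, ← relIndex_top_right]
    exact ((nil.pcore_hall (π := {q}ᶜ)).idx_of_le ((nil.cent_pi le_top le_top pcore_pi a.zpowers.compl_compl).trans
      C_zpowers.le)).of_compl_compl
  obtain ⟨y, y1, y2⟩ := SetLike.not_le_iff_exists.1 e
  have pn := key p y (hP.pi.elt y1) y2
  obtain ⟨a, rfl⟩ := pn.eq_pow (by omega)
  haveI := Fact.mk hp
  refine ⟨p, this, a, rfl, fun Q => ?_⟩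
  have hQ := hall_sylow_top hp Q
  have hN := nil.pcore_hall (π := {p}ᶜ)
  have z : O[{p}ᶜ]((⊤ : Subgroup G)) ≤ center G := le_of_pElts fun q hq u hu qu => by_contra fun d => hn.ne'
    (pn.eq_one ((key q u qu d).p'_of_ne fun c => d ((PiElt.eq_one' (c ▸ qu) (pcore_pi.elt hu)) ▸ one_mem _)))
  have ix : ∀ y : (Q : Subgroup G), C1(y).index = C1((y : G)).index := fun y => by
    rw [← H22.relIndex_eq_index_of_coprime (B := Q) (A := C1((y : G))) ((h y).elim (fun e => e ▸ Nat.coprime_one_left _) fun e =>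
      e ▸ ((Nat.Prime.coprime_iff_not_dvd hp).2 Q.not_dvd_index).pow_left a), relIndex]
    congr 1; ext; simp [mem_subgroupOf, mem_C1, Subtype.ext_iff]
  refine ⟨(nil.hall_nml hQ).normal, ⟨_, pcore_nml.normal, ?_, abel_iff.1 fun u hu => le_C1_iff.1 (cen_le (z hu)),
    fun u hu y _ => (mem_center_iff.1 (z hu) y).symm⟩, center _, inferInstance, inferInstance, S4365.result p Q.2 a
      (Nat.pos_of_ne_zero fun e => by simp [e] at hn) (Set.ext fun k => ⟨?_, ?_⟩)⟩
  · exact (isComplement'_of_coprime (hQ.card_mul_compl hN |>.trans card_top) (hQ.pi.coprime hN.pi)).symm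
  · rintro ⟨y, rfl⟩; exact ix y ▸ h y
  · rintro (rfl | rfl)
    · exact ⟨1, by simp⟩
    exact ⟨⟨y, (nil.le_hall hQ le_top hP.pi) y1⟩, (ix _).trans (h' y (mem_top y) y2)⟩

end Cfsg.Agent.S4134
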