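import Cfsg.Statements.S3157
import Cfsg.Agent.H3.Suz4
import Cfsg.Agent.H17.QR
import Cfsg.Agent.H10.DicksonCount
import Cfsg.Agent.S0243

set_option autoImplicit false
open Cfsg

namespace Cfsg.Agent.S3157

open Subgroup H18 H3
open scoped commutatorElement

theorem d8q8 {P : Type*} [Group P] [Finite P] (h8 : Nat.card P = 8) {u v : P} (n : u * v ≠ v * u) :
    Nonempty (P ≃* DihedralGroup 4) ∨ Nonempty (P ≃* QuaternionGroup 2) := by
  classical
  obtain ⟨a, ha⟩ : ∃ a : P, a * a ≠ 1 := by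
    by_contra! h
    exact n (by rw [← inv_eq_of_mul_eq_one_right (h (u * v)), mul_inv_rev, inv_eq_of_mul_eq_one_right (h u),
      inv_eq_of_mul_eq_one_right (h v)])
  have cy : ∀ {a : P}, u ∈ zpowers a → v ∈ zpowers a → False := fun {a} hu hv =>
    n (congrArg Subtype.val (mul_comm' (⟨u, hu⟩ : zpowers a) ⟨v, hv⟩))
  have o4 : ∀ a : P, a * a ≠ 1 → orderOf a = 4 := fun a ha => by
    have h := orderOf_dvd_natCard a
    rw [h8, show 8 = 2 ^ 3 from rfl, Nat.dvd_prime_pow Nat.prime_two] at h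
    obtain ⟨k, hk, e⟩ := h
    interval_cases k
    · exact absurd (by rw [orderOf_eq_one_iff.1 e, mul_one]) ha
    · exact absurd (by rw [← pow_two]; exact orderOf_dvd_iff_pow_eq_one.1 (by rw [e]; rfl)) ha
    · exact e
    · have := eq_top_of_card_eq (zpowers a) (by rw [Nat.card_zpowers, e, h8]; rfl)
      exact (cy (this ▸ mem_top u) (this ▸ mem_top v)).elim
  have i2 : ∀ a : P, orderOf a = 4 → (zpowers a).index = 2 := fun a ha => by
    have := (zpowers a).card_mul_index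
    rw [Nat.card_zpowers, ha, h8] at this
    omega
  have c4 : ∀ {a g : P}, orderOf a = 4 → g ∈ zpowers a → g = 1 ∨ g = a ∨ g = a ^ 2 ∨ g = a⁻¹ := fun {a g} ha hg => by
    obtain ⟨k, hk, rfl⟩ := Finset.mem_image.1 (mem_zpowers_iff_mem_range_orderOf.1 hg)
    rw [ha, Finset.mem_range] at hk
    interval_cases k
    exacts [.inl (pow_zero a), .inr (.inl (pow_one a)), .inr (.inr (.inl rfl)), .inr (.inr (.inr (eq_inv_of_mul_eq_one_left
      ((pow_succ a 3).symm.trans (orderOf_dvd_iff_pow_eq_one.1 (ha ▸ dvd_rfl))))))]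
  have oa := o4 a ha
  by_cases h : ∀ g, g ∉ zpowers a → g * g = 1
  · exact .inl ((Nat.card_zpowers a).trans oa ▸ H10.equiv_dihedral_of_index_two (zpowers a) (i2 a oa) h)
  push Not at h
  obtain ⟨t, ht, t2⟩ := h
  have a4 : a ^ 4 = 1 := oa ▸ pow_orderOf_eq_one a
  have t4 : t ^ (2 * 2) = 1 := orderOf_dvd_iff_pow_eq_one.1 (o4 t t2 ▸ dvd_rfl)
  have e : t * t = a ^ 2 := by
    rcases c4 oa (mul_self_mem_of_index_two (i2 a oa) t) with h | h | h | h
    · exact absurd h t2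
    · exact absurd (by rw [← h, ← pow_two, ← pow_two, ← pow_mul, t4]) ha
    · exact h
    · exact absurd (by rw [← inv_inv a, ← h, ← mul_inv_rev, ← pow_two, ← pow_two, ← pow_mul, t4, inv_one]) ha
  refine .inr (H10.equiv_quaternion_of_index_two oa (i2 a oa) ht e ?_)
  have nm := (normal_of_index_eq_two (i2 a oa)).conj_mem a (mem_zpowers a) t
  have s2 : t * a * t⁻¹ * (t * a * t⁻¹) ≠ 1 := by rw [conj_mul, Ne, conj_eq_one_iff]; exact ha
  rcases c4 oa nm with h | h | h | h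
  · simp [h] at s2
  · have c : Commute t a := mul_inv_eq_iff_eq_mul.1 h
    have k : ∀ g : P, g ∈ zpowers a ∨ g * t⁻¹ ∈ zpowers a := fun g => (em _).imp_right fun hg =>
      (mul_mem_iff_of_index_two (i2 a oa)).2 (by simp [hg, ht])
    have k2 : ∀ g : P, Commute g a ∧ Commute g t := fun g => by
      rcases k g with ⟨i, rfl⟩ | ⟨i, hi⟩
      · exact ⟨(Commute.refl a).zpow_left i, c.symm.zpow_left i⟩
      · rw [← inv_mul_cancel_right g t, ← hi]
        exact ⟨((Commute.refl a).zpow_left i).mul_left c, (c.symm.zpow_left i).mul_left (.refl t)⟩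
    refine absurd ?_ n
    rcases k v with ⟨i, rfl⟩ | ⟨i, hi⟩
    · exact (k2 u).1.zpow_right i
    · rw [← inv_mul_cancel_right v t, ← hi]
      exact ((k2 u).1.zpow_right i).mul_right (k2 u).2
  · exact absurd (by rw [h, ← pow_add, a4]) s2
  · exact h

section
variable {F : Type*} [Field F] [CharP F 2] {ω : F} {T : Type*} [Group T] [Finite T] {ρ x : MulAut T}

theorem real (f4 : ∀ u : F, u ^ 4 = u) (hω : ω ^ 2 + ω + 1 = 0) (r3 : ∀ t, ρ (ρ (ρ t)) = t) (x2 : ∀ t, x (x t) = t)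
    (xr : ∀ t, x (ρ t) = ρ (ρ (x t))) (pr : ∀ t, t * ρ t * ρ (ρ t) = 1) {X Y : Subgroup T} (h1 : XInv ρ X) (h2 : XInv x X)
    (h3 : XInv ρ Y) (h4 : XInv x Y) (le : Y ≤ X) (sq : ∀ t ∈ X, t * t ∈ Y) {t0 : T} (h5 : t0 ∈ X) (h6 : t0 ∉ Y) :
    ∃ h : T → F, AddOn X h ∧ (∀ y ∈ Y, h y = 0) ∧ (∀ t, h (ρ t) = ω * h t) ∧ (∀ t, h (x t) = h t ^ 2) ∧
      ∀ u, ∃ t, (t = 1 ∨ t = t0 ∨ t = ρ t0 ∨ t = ρ (ρ t0)) ∧ h t = u := by
  obtain ⟨π, pa, p0, p1⟩ := exists_functional (F := F) le sq h5 h6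
  have ps : π t0 + π (ρ t0) + π (ρ (ρ t0)) = 0 := by
    rw [← pa _ h5 _ (h1 _ h5), ← pa _ (mul_mem h5 (h1 _ h5)) _ (h1 _ (h1 _ h5)), pr, pa.one]
  have two : (2 : F) = 0 := CharTwo.two_eq_zero
  obtain ⟨g, ga, g0, g1, gr⟩ : ∃ g : T → F, AddOn X g ∧ (∀ y ∈ Y, g y = 0) ∧ g t0 ≠ 0 ∧ ∀ t, g (ρ t) = ω * g t := by
    by_cases h : π t0 + ω ^ 2 * π (ρ t0) + ω * π (ρ (ρ t0)) = 0
    · refine ⟨fun t => (π t + ω * π (ρ t) + ω ^ 2 * π (ρ (ρ t))) ^ 2, fun a ha b hb => ?_, fun y hy => ?_,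
        pow_ne_zero _ fun e => p1 (by grind), fun t => by simp only [r3]; grind⟩
      · simp only [map_mul, pa _ ha _ hb, pa _ (h1 _ ha) _ (h1 _ hb), pa _ (h1 _ (h1 _ ha)) _ (h1 _ (h1 _ hb))]; grind
      · simp [p0 _ hy, p0 _ (h3 _ hy), p0 _ (h3 _ (h3 _ hy))]
    · refine ⟨fun t => π t + ω ^ 2 * π (ρ t) + ω * π (ρ (ρ t)), fun a ha b hb => ?_, fun y hy => ?_, h,
        fun t => by simp only [r3]; grind⟩
      · simp only [map_mul, pa _ ha _ hb, pa _ (h1 _ ha) _ (h1 _ hb), pa _ (h1 _ (h1 _ ha)) _ (h1 _ (h1 _ hb))]; grind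
      · simp [p0 _ hy, p0 _ (h3 _ hy), p0 _ (h3 _ (h3 _ hy))]
  obtain ⟨c, hc⟩ : ∃ c : F, c * g t0 + (c * g (x t0)) ^ 2 ≠ 0 := by
    by_contra! h
    have e1 := h 1
    have e2 := h ω
    exact g1 (by grind)
  obtain ⟨h, hh⟩ : ∃ h : T → F, ∀ t, h t = c * g t + (c * g (x t)) ^ 2 := ⟨_, fun _ => rfl⟩
  have ha : AddOn X h := fun a ha b hb => by simp only [hh, map_mul, ga _ ha _ hb, ga _ (h2 _ ha) _ (h2 _ hb)]; grind
  have hr : ∀ t, h (ρ t) = ω * h t := fun t => by simp only [hh, xr, gr]; grind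
  refine ⟨h, ha, fun y hy => by simp [hh, g0 _ hy, g0 _ (h4 _ hy)], hr, fun t => ?_, fun u => ?_⟩
  · have := f4 (c * g (x t))
    simp only [hh, x2]; grind
  · rw [← hh] at hc
    have : u * ((u - h t0) * ((u - ω * h t0) * (u - ω * (ω * h t0)))) = 0 := by
      have e1 := f4 u
      have e2 : h t0 ^ 3 = 1 := mul_left_cancel₀ hc (by linear_combination f4 (h t0))
      grind
    simp only [mul_eq_zero, sub_eq_zero] at this
    rcases this with e | e | e | e
    exacts [⟨1, .inl rfl, by rw [ha.one, e]⟩, ⟨_, .inr (.inl rfl), e.symm⟩, ⟨_, .inr (.inr (.inl rfl)), by rw [hr, e]⟩,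
      ⟨_, .inr (.inr (.inr rfl)), by rw [hr, hr, e]⟩]

omit [CharP F 2]
open Matrix

def ut (a b c : F) : SpecialLinearGroup (Fin 3) F := ⟨!![1, a, c; 0, 1, b; 0, 0, 1], by simp [det_fin_three]⟩

theorem ut_mul (a b c a' b' c' : F) : ut a b c * ut a' b' c' = ut (a + a') (b + b') (c + c' + a * b') := by
  refine Subtype.ext ?_
  show !![1, a, c; 0, 1, b; 0, 0, 1] * !![1, a', c'; 0, 1, b'; 0, 0, 1] = !![1, a + a', c + c' + a * b'; 0, 1, b + b'; 0, 0, 1]
  ext i j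
  fin_cases i <;> fin_cases j <;> simp [Matrix.mul_apply, Fin.sum_univ_three] <;> ring

theorem ut_zero : ut (0 : F) 0 0 = 1 := Subtype.ext Matrix.one_fin_three.symm

def utU (F : Type*) [Field F] : Subgroup (SpecialLinearGroup (Fin 3) F) where
  carrier := {g | ∃ a b c, g = ut a b c}
  one_mem' := ⟨_, _, _, ut_zero.symm⟩
  mul_mem' := by
    rintro _ _ ⟨a, b, c, rfl⟩ ⟨a', b', c', rfl⟩
    exact ⟨_, _, _, ut_mul ..⟩
  inv_mem' := by
    rintro _ ⟨a, b, c, rfl⟩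
    exact ⟨-a, -b, a * b - c, inv_eq_of_mul_eq_one_right (by rw [ut_mul, ← ut_zero]; congr 1 <;> ring)⟩
end

/-- Let T be a non-abelian group of order 64 admitting automorphisms ρ of order 3 and x of order 2 with x ρ x⁻¹ = ρ⁻¹ (so they generate a symmetric group of degree 3), where ρ fixes only the identity. Then T is isomorphic to a Sylow 2-subgroup of the projective special linear group of dimension 3 over the field with 4 elements, and the subgroup of fixed points of x is dihedral of order 8 or quaternion of order 8. -/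
theorem result {T : Type*} [Group T] [Finite T] (hT : Nat.card T = 64) (hna : ¬ IsMulCommutative T) (ρ x : MulAut T) (hρ : orderOf ρ = 3) (hx : orderOf x = 2)
    (hxr : x * ρ * x⁻¹ = ρ⁻¹) (hfp : ∀ y : T, ρ y = y → y = 1) (C : Subgroup T) (hC : ∀ y : T, y ∈ C ↔ x y = y) :
    (∃ (F : Type) (_ : Field F) (_ : Fintype F), Fintype.card F = 4 ∧
        ∃ S : Sylow 2 (Matrix.ProjectiveSpecialLinearGroup (Fin 3) F), Nonempty (T ≃* ↥(S : Subgroup (Matrix.ProjectiveSpecialLinearGroup (Fin 3) F)))) ∧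
      (Nonempty (↥C ≃* DihedralGroup 4) ∨ Nonempty (↥C ≃* QuaternionGroup 2)) := by
  obtain ⟨F, _, _, _, hF⟩ := exists_field_two (q := 4) ⟨2, rfl⟩ (by decide)
  have f4 : ∀ u : F, u ^ 4 = u := fun u => hF ▸ FiniteField.pow_card u
  have two : (2 : F) = 0 := CharTwo.two_eq_zero
  obtain ⟨ω, hω⟩ : ∃ ω : F, ω ^ 2 + ω + 1 = 0 := by
    classical
    obtain ⟨u, -, hu⟩ := Finset.exists_mem_notMem_of_card_lt_card (s := {0, 1}) (t := (Finset.univ : Finset F))
      (Finset.card_le_two.trans_lt (by simp [hF]))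
    obtain ⟨u0, u1⟩ : u ≠ 0 ∧ u ≠ 1 := by simpa using hu
    exact ⟨u, mul_left_cancel₀ (mul_ne_zero u0 (sub_ne_zero.2 u1)) (by linear_combination f4 u)⟩
  have r3 : ∀ t, ρ (ρ (ρ t)) = t := fun t => by simpa [pow_succ, hρ] using MulEquiv.congr_fun (pow_orderOf_eq_one ρ) t
  have x2 : ∀ t, x (x t) = t := fun t => by simpa [pow_succ, hx] using MulEquiv.congr_fun (pow_orderOf_eq_one x) t
  have xr : ∀ t, x (ρ t) = ρ (ρ (x t)) := fun t => ρ.injective (by
    rw [r3, show x (ρ t) = (x * ρ * x⁻¹) (x t) by simp, hxr]; simp)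
  have pr : ∀ t, t * ρ t * ρ (ρ t) = 1 := fun t => by
    simpa [List.range_succ, mul_assoc] using MonoidHom.FixedPointFree.prod_pow_eq_one (φ := ρ) hfp (n := 3) (funext r3) t
  have cm : ∀ t, t * ρ t = ρ t * t := fun t => by
    have e := pr t⁻¹
    rw [map_inv, map_inv, ← mul_inv_rev, ← mul_inv_rev, inv_eq_one] at e
    rw [eq_inv_of_mul_eq_one_left (pr t), eq_inv_of_mul_eq_one_right e]
  have p2 : IsPGroup 2 T := .of_card (n := 6) hT
  have cp : ∀ X, XInv ρ X → Nat.card X = 1 ∨ Nat.card X = 4 ∨ Nat.card X = 16 ∨ X = ⊤ := fun X hX => by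
    obtain ⟨k, hk⟩ := FPF.card_pow (F := F) ⟨by rw [hρ, hF], fun k t h => by
      rw [← pow_mod_orderOf, hρ] at h ⊢
      have : k % 3 < 3 := Nat.mod_lt _ (by decide)
      generalize k % 3 = j at *
      interval_cases j
      · exact .inr rfl
      · exact .inl (hfp _ h)
      · exact .inl (hfp _ (by nth_rw 1 [← h]; exact r3 t))⟩ p2 hX
    have := card_le_card_group X
    rw [hF] at hk
    have : k < 4 := (Nat.pow_lt_pow_iff_right (a := 4) (by decide)).1 (by omega)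
    interval_cases k
    exacts [.inl hk, .inr (.inl hk), .inr (.inr (.inl hk)), .inr (.inr (.inr (eq_top_of_card_eq _ (hk.trans hT.symm))))]
  have sq : ∀ t : T, t * t ∈ Sq ⊤ := fun t => sq_mem_Sq trivial
  have cZ : ∀ a b : T, ⁅a, b⁆ ∈ Sq ⊤ := fun a b => comm_mem_of_sq (fun t _ => sq t) (mem_top a) (mem_top b)
  have nt : (⊤ : Subgroup T) ≠ ⊥ := fun e => by simpa [hT] using congrArg (fun K : Subgroup T => Nat.card K) e
  obtain ⟨t1, -, h1⟩ := SetLike.not_le_iff_exists.1 (not_le_Sq p2 nt)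
  have rZ : XInv ρ (Sq ⊤) := xinv_top.sq
  have xZ : XInv x (Sq ⊤) := xinv_top.sq
  have c4 : Nat.card (Sq (⊤ : Subgroup T)) = 4 := by
    rcases cp _ rZ with h | h | h | h
    · exact absurd ⟨⟨fun a b => commutatorElement_eq_one_iff_mul_comm.1 (mem_bot.1 (card_eq_one.1 h ▸ cZ a b))⟩⟩ hna
    · exact h
    · have iA : XInv ρ (closure {t1, ρ t1}) := xinv_closure (by
        rintro _ (rfl | rfl)
        · exact subset_closure (.inr rfl)
        · rw [eq_inv_of_mul_eq_one_right (pr t1)]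
          exact inv_mem (mul_mem (subset_closure (.inl rfl)) (subset_closure (.inr rfl))))
      have lt : Sq ⊤ < closure {t1, ρ t1} ⊔ Sq ⊤ := right_lt_sup.2 fun e => h1 (e (subset_closure (.inl rfl)))
      have e : closure {t1, ρ t1} ⊔ Sq ⊤ = ⊤ := by
        have := card_le_of_le lt.le
        have := fun e => lt.ne (eq_of_le_of_card_ge lt.le e)
        rcases cp _ (iA.sup rZ) with e | e | e | e
        exacts [by omega, by omega, (this (by omega)).elim, e]
      have e : closure {t1, ρ t1} = ⊤ := frattini_nongenerating (top_unique (e.ge.trans (sup_le_sup_left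
        (Sq_le_iff.2 fun t _ => pow_two t ▸ pow_mem_frattini p2 t) _)))
      have := isMulCommutative_closure (k := {t1, ρ t1}) (by rintro _ (rfl | rfl) _ (rfl | rfl) <;> simp [cm])
      rw [e] at this
      exact absurd ⟨⟨fun a b => congrArg Subtype.val (mul_comm' (⟨a, trivial⟩ : (⊤ : Subgroup T)) ⟨b, trivial⟩)⟩⟩ hna
    · exact absurd (h.ge trivial) h1
  have nZ : Sq (⊤ : Subgroup T) ≠ ⊥ := fun e => by simp [e] at c4
  have lt4 : ∀ X, XInv ρ X → X ≤ Sq ⊤ → X = ⊥ ∨ X = Sq ⊤ := fun X hX le => by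
    have := card_le_of_le le
    rcases cp X hX with h | h | h | rfl
    exacts [.inl (card_eq_one.1 h), .inr (eq_of_le_of_card_ge le (by omega)), by omega, absurd (le (mem_top _)) h1]
  have z2 : ∀ a ∈ Sq (⊤ : Subgroup T), a * a = 1 := Sq_le_iff.1
    ((lt4 _ rZ.sq Sq_le).resolve_right fun e => not_le_Sq p2 nZ e.ge).le
  have zc : ∀ a ∈ Sq (⊤ : Subgroup T), ∀ t, t * a = a * t := fun a ha t => by
    have := (lt4 _ (rZ.comm xinv_top) (comm_le_left (norm_of_sq (fun t _ => sq t) le_top le_rfl))).resolve_right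
      ((nil_top_iff.2 p2.isNilpotent).comm_lt le_top le_top (norm_of_sq (fun t _ => sq t) le_top le_rfl) nZ).ne
    exact (commutatorElement_eq_one_iff_mul_comm.1 (mem_bot.1 (this ▸ commutator_mem_commutator ha (mem_top t)))).symm
  have R := @real F _ _ ω T _ _ ρ x f4 hω r3 x2 xr pr _ _ xinv_top xinv_top rZ xZ le_top fun t _ => sq t
  obtain ⟨f, fa, f0, fr, fx, fs⟩ := R (mem_top _) h1
  have ck : ∀ {W : Type} [AddGroup W] [Finite W] (g : T → W) (ga : ∀ s t, g (s * t) = g s + g t), g.Surjective →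
      Nat.card (MonoidHom.mk' (fun t => Multiplicative.ofAdd (g t)) ga).ker * Nat.card W = 64 := fun g ga gs => by
    have := card_mul_index (MonoidHom.mk' (fun t => Multiplicative.ofAdd (g t)) ga).ker
    rwa [index_ker, MonoidHom.range_eq_top.2 gs, card_top, hT, Nat.card_congr Multiplicative.toAdd] at this
  have cF : Nat.card F = 4 := Nat.card_eq_fintype_card.trans hF
  have fa := fun s t => fa s trivial t trivial
  obtain ⟨t2, h2, h3⟩ := SetLike.not_le_iff_exists.1 fun e : (MonoidHom.mk' (fun t => Multiplicative.ofAdd (f t)) fa).ker ≤ Sq ⊤ => by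
    have := ck f fa fun u => (fs u).imp fun _ => And.right
    have := card_le_of_le e
    rw [cF] at *
    omega
  have h2 : f t2 = 0 := h2
  obtain ⟨g, ga, g0, gr, gx, gs⟩ := R (mem_top _) h3
  have ga := fun s t => ga s trivial t trivial
  have sur : ∀ u v, ∃ t, f t = u ∧ g t = v := fun u v => by
    obtain ⟨s, -, rfl⟩ := fs u
    obtain ⟨t, ht, e⟩ := gs (v - g s)
    refine ⟨s * t, ?_, by rw [ga, e, add_sub_cancel]⟩
    rcases ht with rfl | rfl | rfl | rfl <;> simp [fa, fr, h2]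
  have ker : ∀ t, f t = 0 → g t = 0 → t ∈ Sq ⊤ := fun t h1 h2 => by
    have := ck (fun t => (f t, g t)) (fun s t => Prod.ext (fa s t) (ga s t)) fun v => (sur v.1 v.2).imp fun _ h => Prod.ext h.1 h.2
    rw [Nat.card_prod, cF] at this
    generalize_proofs _ at this
    exact (eq_of_le_of_card_ge (H := Sq ⊤) (K := MonoidHom.ker (.mk' (fun t => Multiplicative.ofAdd (f t, g t)) ‹_›))
      (fun a ha => Prod.ext (f0 a ha) (g0 a ha)) (by omega)).ge (Prod.ext h1 h2)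
  obtain ⟨a0, ha0⟩ := ne_bot_iff_exists_ne_one.1 nZ
  obtain ⟨z, za, -, zr, zx, zs⟩ := real (ω := ω ^ 2) f4 (by grind) r3 x2 xr pr rZ xZ xinv_bot xinv_bot bot_le z2 a0.2
    (by simpa using ha0)
  have zs : ∀ u, ∃ a ∈ Sq (⊤ : Subgroup T), z a = u := fun u => (zs u).imp fun a h => ⟨by
    rcases h.1 with rfl | rfl | rfl | rfl
    exacts [one_mem _, a0.2, rZ _ a0.2, rZ _ (rZ _ a0.2)], h.2⟩
  have zi : ∀ a ∈ Sq (⊤ : Subgroup T), ∀ b ∈ Sq (⊤ : Subgroup T), z a = z b → a = b := fun a ha b hb h => congrArg Subtype.val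
    (((Nat.bijective_iff_surjective_and_card fun a : Sq (⊤ : Subgroup T) => z a).2 ⟨fun u => (zs u).elim fun a h =>
      ⟨⟨a, h.1⟩, h.2⟩, c4.trans cF.symm⟩).1 (a₁ := ⟨a, ha⟩) (a₂ := ⟨b, hb⟩) h)
  have dec : ∀ s t, f s = f t → g s = g t → ∃ a ∈ Sq (⊤ : Subgroup T), t = s * a := fun s t e1 e2 =>
    ⟨s⁻¹ * t, ker _ (by simpa [e1] using (congrArg f (mul_inv_cancel_left s t)).symm.trans (fa ..))
      (by simpa [e2] using (congrArg g (mul_inv_cancel_left s t)).symm.trans (ga ..)), by simp⟩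
  obtain ⟨q, hq⟩ : ∃ q : T → F, ∀ t, q t = z (t * t) := ⟨_, fun _ => rfl⟩
  have qd : ∀ s t, f s = f t → g s = g t → q s = q t := fun s t e1 e2 => by
    obtain ⟨a, ha, rfl⟩ := dec s t e1 e2
    rw [hq, hq, mul_assoc, ← mul_assoc a, ← zc a ha, mul_assoc, z2 a ha, mul_one]
  have qm : ∀ s t, q (s * t) = q s + q t + z ⁅s⁻¹, t⁆ := fun s t => by
    rw [hq, ← pow_two, H17.QR.mul_sq, pow_two, pow_two, za _ (mul_mem (sq _) (cZ _ _)) _ (sq _), za _ (sq _) _ (cZ _ _), hq, hq]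
    ring
  obtain ⟨c, hc⟩ : ∃ c : T → T → F, ∀ s t, c s t = q (s * t) + q s + q t := ⟨_, fun _ _ => rfl⟩
  have cz : ∀ s t, c s t = z ⁅s⁻¹, t⁆ := fun s t => by rw [hc, qm]; grind
  have cS : ∀ s t, c s t = c t s := fun s t => by rw [hc, hc, qd (s * t) (t * s) (by grind) (by grind)]; ring
  have ca : ∀ s t u, c s (t * u) = c s t + c s u := fun s t u => by
    rw [cz, cz, cz, H17.QR.comm_mul_r (mem_center_iff.2 (zc _ (cZ _ _))), za _ (cZ _ _) _ (cZ _ _)]
  have qr : ∀ t, q (ρ t) = ω ^ 2 * q t := fun t => by rw [hq, ← map_mul, zr, hq]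
  have qx : ∀ t, q (x t) = q t ^ 2 := fun t => by rw [hq, ← map_mul, zx, hq]
  have cr : ∀ s t, c s (ρ t) = ω * c s t := by
    have k1 : ∀ t, c t (ρ t) = 0 := fun t => by rw [cz, commutatorElement_eq_one_iff_mul_comm.2 (Commute.inv_left (cm t)), za.one]
    have k2 : ∀ s t, c s (ρ t) = c (ρ s) t := fun s t => by
      have := k1 (s * t)
      rw [map_mul, ca, cS, ca, cS (s * t), ca, cS _ s, k1, cS _ t, cS _ s, cS (ρ t) t, k1] at this
      grind
    have k3 : ∀ s t, c s (ρ (ρ t)) = ω ^ 2 * c s t := fun s t => by rw [k2, hc, ← map_mul, qr, qr, qr, hc]; ring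
    intro s t
    rw [← r3 (ρ t), k3, k3]; grind
  have sc : ∀ u s, ∃ s', f s' = u * f s ∧ g s' = u * g s ∧ q s' = u ^ 2 * q s ∧ ∀ t, c t s' = u * c t s := fun u s => by
    have : u * ((u - 1) * ((u - ω) * (u - ω * ω))) = 0 := by have := f4 u; grind
    simp only [mul_eq_zero, sub_eq_zero] at this
    rcases this with rfl | rfl | rfl | rfl
    · exact ⟨1, by simp [f0, one_mem], by simp [g0, one_mem], by simp [hq, za.one], fun t => by simp [cz, za.one]⟩
    · exact ⟨s, by simp⟩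
    · exact ⟨ρ s, fr s, gr s, qr s, fun t => cr t s⟩
    · exact ⟨ρ (ρ s), by rw [fr, fr, mul_assoc], by rw [gr, gr, mul_assoc], by rw [qr, qr]; ring, fun t => by rw [cr, cr, mul_assoc]⟩
  have lift : ∀ u v, u ^ 2 = u → v ^ 2 = v → ∃ t, x t = t ∧ f t = u ∧ g t = v := fun u v hu hv => by
    obtain ⟨t, rfl, rfl⟩ := sur u v
    obtain ⟨a, ha, e⟩ := dec t (x t) (by rw [fx, hu]) (by rw [gx, hv])
    have e2 : z a + z a ^ 2 = 0 := by
      have := x2 t
      rw [e, map_mul, e, mul_assoc, mul_eq_left] at this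
      rw [← zx, ← za _ ha _ (xZ _ ha), this, za.one]
    obtain ⟨b, hb, e3⟩ := zs (ω * z a)
    refine ⟨t * b, ?_, by rw [fa, f0 b hb, add_zero], by rw [ga, g0 b hb, add_zero]⟩
    rw [map_mul, e, mul_assoc, zi _ (mul_mem ha (xZ _ hb)) _ hb (by rw [za _ ha _ (xZ _ hb), zx, e3]; grind)]
  obtain ⟨a, xa, a1, a2⟩ := lift 1 0 (by simp) (by simp)
  obtain ⟨b, xb, b1, b2⟩ := lift 0 1 (by simp) (by simp)
  have qf : ∀ t, q t = q a * f t ^ 2 + c a b * f t * g t + q b * g t ^ 2 := fun t => by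
    obtain ⟨a', e1, e2, e3, e4⟩ := sc (f t) a
    obtain ⟨b', e5, e6, e7, e8⟩ := sc (g t) b
    have := hc a' b'
    rw [e8, cS, e4, cS, qd (a' * b') t (by simp [*]) (by simp [*]), e3, e7] at this
    grind
  have n0 : c a b ≠ 0 := fun e => hna ⟨⟨fun s t => by
    have := zi _ (cZ s⁻¹ t) _ (one_mem _) (by rw [← cz, hc, qf, qf s, qf t, fa, ga, e, za.one]; grind)
    exact (Commute.inv_left_iff.1 (commutatorElement_eq_one_iff_commute.1 this)).eq⟩⟩
  have qa := qx a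
  have qb := qx b
  have qc := qx (a * b)
  rw [map_mul, xa, xb] at qc
  rw [xa] at qa
  rw [xb] at qb
  have c1 : c a b = 1 := mul_left_cancel₀ n0 (by rw [hc]; grind)
  obtain ⟨p1, p2, p3, p4, d1, d2, d3⟩ : ∃ p1 p2 p3 p4 : F, p1 * p4 + p2 * p3 = 1 ∧ p1 * p3 = q a ∧ p2 * p4 = q b := by
    by_cases e : q a = 0
    · exact ⟨0, 1, 1, q b, by simp, by simp [e], by simp⟩
    by_cases e' : q b = 0
    · exact ⟨1, 0, q a, 1, by simp, by simp, by simp [e']⟩
    exact ⟨1, ω, 1, ω ^ 2, by grind, by grind, by grind⟩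
  refine ⟨⟨F, ‹_›, ‹_›, hF, ?_⟩, d8q8 (u := ⟨a, (hC a).2 xa⟩) (v := ⟨b, (hC b).2 xb⟩) ?_ fun e => n0 ?_⟩
  · let φ : utU F →* Multiplicative (F × F) := .mk' (fun u => .ofAdd (u.1.1 0 1, u.1.1 1 2)) (by
      rintro ⟨_, a, b, c, rfl⟩ ⟨_, a', b', c', rfl⟩
      exact congrArg (fun g : Matrix.SpecialLinearGroup (Fin 3) F => Multiplicative.ofAdd (g.1 0 1, g.1 1 2)) (ut_mul ..))
    have zm : ∀ u v : utU F, (u * v).1.1 0 2 = u.1.1 0 2 + v.1.1 0 2 + u.1.1 0 1 * v.1.1 1 2 := by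
      rintro ⟨_, a, b, c, rfl⟩ ⟨_, a', b', c', rfl⟩
      exact congrArg (fun g : Matrix.SpecialLinearGroup (Fin 3) F => g.1 0 2) (ut_mul ..)
    obtain ⟨e, -⟩ := iso_of_sq (Z := Sq ⊤) (Z' := φ.ker) (f := fun t => (p1 * f t + p2 * g t, p3 * f t + p4 * g t))
      (f' := fun u => (φ u).toAdd) (z := z) (z' := fun u => u.1.1 0 2) (fun s t => Prod.ext (by simp [fa, ga]; ring)
        (by simp [fa, ga]; ring)) φ.map_mul (fun t => ⟨fun h => by
          obtain ⟨h1, h2⟩ := Prod.mk_eq_zero.1 h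
          exact ker t (by grind) (by grind), fun h => by simp [f0 t h, g0 t h]⟩) (fun _ => .rfl)
      (fun u => (sur (p4 * (φ u).toAdd.1 + p2 * (φ u).toAdd.2) (p3 * (φ u).toAdd.1 + p1 * (φ u).toAdd.2)).imp fun t h =>
        Prod.ext (by grind) (by grind)) (fun t => ⟨⟨_, _, _, 0, rfl⟩, rfl⟩) za
      (fun u hu v hv => by rw [zm, show u.1.1 0 1 = 0 from congrArg Prod.fst hu, zero_mul, add_zero])
      (fun a ha h => zi _ ha _ (one_mem _) (h.trans za.one.symm)) (by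
        rintro ⟨_, a, b, c, rfl⟩ h (rfl : c = 0)
        obtain ⟨rfl, rfl⟩ : a = 0 ∧ b = 0 := Prod.mk_eq_zero.1 h
        exact Subtype.ext ut_zero) (fun _ _ => zs _) (fun a _ => ⟨⟨_, 0, 0, z a, rfl⟩, rfl, rfl⟩) sq
      (fun u => (φ.map_mul u u).trans (Prod.ext (CharTwo.add_self_eq_zero _) (CharTwo.add_self_eq_zero _))) fun t u h => by
        obtain ⟨h1, h2⟩ : _ = u.1.1 0 1 ∧ _ = u.1.1 1 2 := Prod.ext_iff.1 h
        rw [zm, ← h1, ← h2, ← hq, qf]; grind
    let ψ := (QuotientGroup.mk' (center _)).comp ((utU F).subtype.comp e.toMonoidHom)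
    have inj : Function.Injective ψ := (injective_iff_map_eq_one _).2 fun t ht => by
      obtain ⟨r, -, hr⟩ := Matrix.SpecialLinearGroup.mem_center_iff.1 ((QuotientGroup.eq_one_iff (e t).1).1 ht)
      obtain ⟨a, b, c, h⟩ := (e t).2
      have : r = 1 := by simpa [h, ut] using congrFun (congrFun hr 0) 0
      exact e.map_eq_one_iff.1 (Subtype.ext (Subtype.ext (hr.symm.trans (by simp [this]))))
    have cG := Cfsg.Agent.S0243.result hF 3 (by decide)
    have cG : Nat.card (Matrix.ProjectiveSpecialLinearGroup (Fin 3) F) = 2 ^ 6 * 315 := by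
      simp [Fin.prod_univ_three] at cG; omega
    exact ⟨Sylow.ofCard ψ.range (by
      rw [← Nat.card_congr (MonoidHom.ofInjective inj).toEquiv, hT, cG, Nat.factorization_mul_apply_of_coprime (by decide),
        Nat.factorization_pow_self Nat.prime_two, Nat.factorization_eq_zero_of_not_dvd (by decide)]; rfl), ⟨MonoidHom.ofInjective inj⟩⟩
  · have S2 : Nat.card {u : F // u ^ 2 = u} = 2 := Nat.card_eq_two_iff.2 ⟨⟨0, by simp⟩, ⟨1, by simp⟩, by simp,
      Set.eq_univ_of_forall fun ⟨u, h⟩ => by simp; grind⟩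
    let φ : C →* Multiplicative (F × F) := .mk' (fun t => .ofAdd (f t, g t)) fun s t => Prod.ext (fa ..) (ga ..)
    have k1 : Nat.card φ.ker = 2 := S2 ▸ Nat.card_eq_of_bijective (fun t => ⟨z t.1.1, by rw [← zx, (hC _).1 t.1.2]⟩)
      ⟨fun s t h => Subtype.ext (Subtype.ext (zi _ (ker _ (congrArg Prod.fst s.2) (congrArg Prod.snd s.2)) _
        (ker _ (congrArg Prod.fst t.2) (congrArg Prod.snd t.2)) (congrArg Subtype.val h))), fun u => by
        obtain ⟨a, ha, e⟩ := zs u.1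
        exact ⟨⟨⟨a, (hC a).2 (zi _ (xZ _ ha) _ ha (by rw [zx, e, u.2]))⟩, Prod.ext (f0 a ha) (g0 a ha)⟩, Subtype.ext e⟩⟩
    have k2 : Nat.card φ.range = 2 * 2 := by
      rw [← S2, ← Nat.card_prod]
      refine Nat.card_eq_of_bijective (fun v => (⟨v.1.toAdd.1, ?_⟩, ⟨v.1.toAdd.2, ?_⟩)) ⟨fun v w h => Subtype.ext (Prod.ext
        (congrArg (·.1.1) h) (congrArg (·.2.1) h)), fun ⟨u, v⟩ => ?_⟩
      · obtain ⟨_, t, rfl⟩ := v
        exact (fx t).symm.trans (congrArg f ((hC _).1 t.2))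
      · obtain ⟨_, t, rfl⟩ := v
        exact (gx t).symm.trans (congrArg g ((hC _).1 t.2))
      · obtain ⟨t, h1, h2, h3⟩ := lift _ _ u.2 v.2
        exact ⟨⟨_, ⟨t, (hC t).2 h1⟩, rfl⟩, Prod.ext (Subtype.ext h2) (Subtype.ext h3)⟩
    rw [← card_mul_index φ.ker, index_ker, k1, k2]
  · rw [cz, commutatorElement_eq_one_iff_commute.2 (Commute.inv_left (congrArg Subtype.val e)), za.one]

end Cfsg.Agent.S3157
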