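import Cfsg.Statements.S3868
import Cfsg.Agent.H21.PClosed

set_option autoImplicit false
open Cfsg

namespace Cfsg.Agent.S3868

open H18 H21 H1 Subgroup

/-- Structure of the non-simple minimal non-p-closed groups. Call a finite group p-closed when its Sylow p-subgroups are normal, and minimal non-p-closed when it is not p-closed but every proper subgroup and every proper quotient is. If such a group G is not simple, then there is a prime q ≠ p such that G has order p · q^e, where e is the multiplicative order of q modulo p, and G has a normal subgroup A of order q^e that is elementary abelian and is a minimal normal subgroup of G (so G is the semidirect product of A by a group of order p acting irreducibly). -/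
theorem result {G : Type*} [Group G] [Finite G] {p : ℕ} [Fact p.Prime]
    (hnc : ¬ Cfsg.IsPClosed p G) (hsub : ∀ H : Subgroup G, H ≠ ⊤ → Cfsg.IsPClosed p ↥H)
    (hquo : ∀ (N : Subgroup G) [N.Normal], N ≠ ⊥ → Cfsg.IsPClosed p (G ⧸ N)) (hns : ¬ IsSimpleGroup G) :
    ∃ q : ℕ, q.Prime ∧ q ≠ p ∧ Nat.card G = p * q ^ orderOf (q : ZMod p) ∧
      ∃ A : Subgroup G, A.Normal ∧ Nat.card ↥A = q ^ orderOf (q : ZMod p) ∧ Cfsg.IsElementaryAbelian q A ∧
        ∀ B : Subgroup G, B.Normal → B ≤ A → B = ⊥ ∨ B = A := by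
  have hp : p.Prime := Fact.out
  obtain ⟨P, hP⟩ := exists_sylow hp (⊤ : Subgroup G)
  have nn : ¬ ⊤ ≤ N(P) := fun c => hnc ((isPClosed_top_iff hp).2 (hP.pcore_hall c))
  have sub : ∀ H : Subgroup G, H ≠ ⊤ → ∀ Q ≤ H, PiGrp {p} Q → Q ≤ O[{p}](H) := fun H hH Q h1 h2 =>
    ((isPClosed_iff hp).1 (hsub H hH)).le_pcore h1 h2
  have quo : ∀ N : Subgroup G, N ⊴ ⊤ → N ≠ ⊥ → P ⊔ N ⊴ ⊤ := fun N h1 h2 =>
    have := h1.normal
    (isPClosed_quo_iff hp hP).1 (hquo N h2)
  have np : ∀ N : Subgroup G, N ⊴ ⊤ → PiGrp {p} N → N = ⊥ := fun N h1 h2 => by_contra fun e => nn (by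
    have := quo N h1 e
    rw [sup_eq_left.2 (hP.nml_le h1 h2)] at this
    exact this.2)
  obtain ⟨N, hN, N0, N1⟩ : ∃ N : Subgroup G, N.Normal ∧ N ≠ ⊥ ∧ N ≠ ⊤ := by
    by_contra! c
    have : Nontrivial G := by
      by_contra! e
      exact nn (fun x _ => by rw [Subsingleton.elim x 1]; exact one_mem _)
    exact hns ⟨fun N hN => or_iff_not_imp_left.2 (c N hN)⟩
  obtain ⟨A, hAN, mA⟩ := exists_minNorm N0 (A := ⊤) norm_of_normal
  have nA : A ⊴ ⊤ := ⟨le_top, mA.norm⟩
  have A' : PiGrp {p}ᶜ A := by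
    have := (isPClosed_iff hp).1 (hsub A fun e => N1 (top_le_iff.1 (e ▸ hAN)))
    rw [np _ nA.pcore pcore_pi] at this
    exact this.compl_of_eq_bot
  have s : P ⊔ A = ⊤ := by_contra fun e => nn (by
    have n := quo A nA mA.ne_bot
    rw [← ((hP.of_le le_sup_left le_top).eq_of_le' ((isPClosed_iff hp).1 (hsub _ e)) (sub _ e P le_sup_left hP.2)).symm]
    exact norm_pcore n.2)
  have nc : ¬ A ≤ C(P) := fun c => nn (s ▸ sup_le le_N (cent_norm c))
  have cent : ∀ Q ≤ A, ∀ R ≤ P, R ≤ N(Q) → R ⊔ Q ≠ ⊤ → Q ≤ C(R) := fun Q h1 R h2 h3 h4 => by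
    refine cent_symm (comm_eq_bot_iff.1 (le_bot_iff.1 ?_))
    refine (le_inf ((comm_mono (sub _ h4 R le_sup_left (hP.2.of_le h2)) le_sup_right).trans
      (comm_le_left pcore_nml.2)) (comm_le_right h3)).trans (pcore_pi.inf_eq_bot (A'.of_le h1)).le
  have cop : Cop P A := cop_of_pi (le_top.trans nA.2) hP.2 A' (Or.inl hP.2.solv)
  obtain ⟨q, hq, hA⟩ : ∃ q, q.Prime ∧ PiGrp {q} A := by
    by_contra! c
    refine nc (le_of_sylows fun q hq _ => ?_)
    obtain ⟨Q, hQ, nQ⟩ := cop.exists_sylow hq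
    refine ⟨Q, hQ, cent Q hQ.1 P le_rfl nQ fun e => c q hq ?_⟩
    have := (show Nrm2 P Q from Or.inl nQ).modular' hQ.1
    rw [e, top_inf_eq, cop.inf_eq_bot, bot_sup_eq] at this
    exact this ▸ hQ.2
  have eA := mA.elem_of_pi hA
  have C0 : P ⊓ C(A) = ⊥ := np _ ⟨le_top, s ▸ sup_le (norm_inf le_N (norm_C cop.norm))
    (cent_norm (cent_symm inf_le_right))⟩ hP.2.inf_left
  have P0 : P ≠ ⊥ := fun e => nc (by simp [e])
  obtain ⟨X, hX, cX⟩ := hP.2.exists_sub_card P0
  have XP : X = P := by_contra fun e => ne_bot_of_prime (cX ▸ hp) (le_bot_iff.1 (C0 ▸ le_inf hX (cent_symm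
    (cent A le_rfl X hX (hX.trans cop.norm) fun e' => e <| by
      have := (show Nrm2 X A from Or.inl (hX.trans cop.norm)).modular hX
      rw [e', top_inf_eq, cop.inf_eq_bot', sup_bot_eq] at this
      exact this.symm))))
  subst XP
  have cA := card_eq_of_minNorm hp hq eA cX ⟨mA.ne_bot, cop.norm, fun K h1 h2 h3 =>
    mA.min K h1 h2 (s ▸ sup_le h3 (eA.abel.norm h1))⟩ fun c => nc (cent_symm c)
  refine ⟨q, hq, fun e => mA.ne_bot ((e ▸ hA).eq_bot A'), ?_, A, nA.normal, cA, elem_iff.1 eA,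
    fun B h1 h2 => mA.eq_bot_or h2 norm_of_normal⟩
  rw [← cA, ← cX, ← (show Nrm2 X A from Or.inl cop.norm).card_sup_of_disj cop.inf_eq_bot, s, card_top]

end Cfsg.Agent.S3868
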