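import Cfsg.Statements.S2507
import Cfsg.Agent.H9.L2

set_option autoImplicit false
open Cfsg

namespace Cfsg.Agent.S2507

open H24 H9.L2

/-- Let F be a finite field with q = 2^f ≥ 4 elements. The conjugacy class sizes of PSL(2,F) are exactly 1, q(q − 1), q² − 1 and q(q + 1). -/
theorem result {F : Type*} [Field F] [Fintype F]
    (h2 : 2 ∣ Fintype.card F) (h4 : 4 ≤ Fintype.card F) :
    Set.range (fun g : (Matrix.ProjectiveSpecialLinearGroup (Fin 2) F) => (Subgroup.centralizer ({g} : Set (Matrix.ProjectiveSpecialLinearGroup (Fin 2) F))).index) =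
      {1, Fintype.card F * (Fintype.card F - 1), Fintype.card F ^ 2 - 1, Fintype.card F * (Fintype.card F + 1)} := by
  have two : (2 : F) = 0 := by
    by_contra h
    exact (odd_of_two_ne_zero h).not_two_dvd_nat h2
  obtain ⟨q, hq⟩ : ∃ q, Fintype.card F = q + 1 := ⟨_, (Nat.succ_pred_eq_of_pos Fintype.card_pos).symm⟩
  have e1 : ∀ g, Nat.card (C2 g) = Fintype.card F + 1 → (Subgroup.centralizer {H10.π F g}).index =
      Fintype.card F * (Fintype.card F - 1) := fun g h => by
    rw [index_cent, comap_cent (.inl two)]; exact index_eq h (by ring)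
  have e2 : ∀ g, Nat.card (C2 g) = Fintype.card F - 1 → (Subgroup.centralizer {H10.π F g}).index =
      Fintype.card F * (Fintype.card F + 1) := fun g h => by
    rw [index_cent, comap_cent (.inl two)]; exact index_eq h (by ring)
  have e3 : ∀ g : Matrix.SpecialLinearGroup (Fin 2) F, ¬ IsScal (g : M2 F) → ¬ RS g →
      (Subgroup.centralizer {H10.π F g}).index = Fintype.card F ^ 2 - 1 := fun g h h' => by
    rw [index_cent, comap_cent (.inl two)]
    refine index_eq (card_par h h') ?_
    rw [card_sq_eq_one_even two, hq, show (q + 1) ^ 2 - 1 = q * (q + 2) by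
      rw [show (q + 1) ^ 2 = q * (q + 2) + 1 by ring]; rfl]
    simp; ring
  ext n
  simp only [Set.mem_range, Set.mem_insert_iff, Set.mem_singleton_iff]
  constructor
  · rintro ⟨g, rfl⟩
    obtain ⟨g, rfl⟩ := H10.π_surjective g
    by_cases h1 : H10.π F g = 1
    · simp [h1]
    by_cases hr : RS g
    · rcases hr.cases with ⟨-, h⟩ | ⟨-, h⟩
      · exact .inr (.inl (e1 g h))
      · exact .inr (.inr (.inr (e2 g h)))
    · exact .inr (.inr (.inl (e3 g (not_isScal_of_ne_one h1) hr)))
  · rintro (rfl | rfl | rfl | rfl)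
    · exact ⟨1, by simp⟩
    · obtain ⟨g, h, -⟩ := H10.exists_ell_SL2 (F := F)
      exact ⟨_, e1 g (card_cent_SL_ell h)⟩
    · exact ⟨_, e3 (upSL 1 1 (by simp)) (by simp [isScal_upSL_iff]) (by
        rw [RS, trace_upSL]; norm_num)⟩
    · obtain ⟨g, -, h, -⟩ := exists_split h4
      exact ⟨_, e2 g h⟩

end Cfsg.Agent.S2507
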