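import Cfsg.Statements.S2508
import Cfsg.Agent.H9.L2

set_option autoImplicit false
open Cfsg

namespace Cfsg.Agent.S2508

open H24 H9.L2
open scoped MatrixGroups

theorem core {F : Type*} [Field F] [Fintype F] (two : (2 : F) ≠ 0) (h7 : 7 ≤ Fintype.card F) {m : ℕ}
    (hm : ∀ g : SL(2, F), (g : M2 F).trace = 0 → (Subgroup.centralizer {H10.π F g}).index = m) (n : ℕ) :
    n ∈ Set.range (fun g : PSL(2, F) => (Subgroup.centralizer {g}).index) ↔
      n = 1 ∨ n = (Fintype.card F ^ 2 - 1) / 2 ∨ n = m ∨ n = Fintype.card F * (Fintype.card F - 1) ∨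
        n = Fintype.card F * (Fintype.card F + 1) := by
  obtain ⟨q, hq⟩ := odd_of_two_ne_zero two
  have e1 : ∀ g : SL(2, F), (g : M2 F).trace ≠ 0 → Nat.card (C2 g) = Fintype.card F + 1 →
      (Subgroup.centralizer {H10.π F g}).index = Fintype.card F * (Fintype.card F - 1) := fun g t h => by
    rw [index_cent, comap_cent (.inr t)]; exact index_eq h (by ring)
  have e2 : ∀ g : SL(2, F), (g : M2 F).trace ≠ 0 → Nat.card (C2 g) = Fintype.card F - 1 →
      (Subgroup.centralizer {H10.π F g}).index = Fintype.card F * (Fintype.card F + 1) := fun g t h => by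
    rw [index_cent, comap_cent (.inr t)]; exact index_eq h (by ring)
  have e3 : ∀ g : SL(2, F), ¬ IsScal (g : M2 F) → ¬ RS g →
      (Subgroup.centralizer {H10.π F g}).index = (Fintype.card F ^ 2 - 1) / 2 := fun g h h' => by
    rw [index_cent, comap_cent (.inr fun t => h' (rs_of_trace_zero two t))]
    refine index_eq (card_par h h') ?_
    rw [card_sq_eq_one_odd two, hq, show ((2 * q + 1) ^ 2 - 1) / 2 = q * (2 * q + 2) by
      rw [show (2 * q + 1) ^ 2 = 2 * (q * (2 * q + 2)) + 1 by ring]; omega]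
    simp; ring
  have e4 : ∀ g : SL(2, F), 4 < orderOf g → (g : M2 F).trace ≠ 0 := fun g h t =>
    absurd (Nat.le_of_dvd four_pos (orderOf_dvd_of_pow_eq_one (x := g) (by
      rw [show 4 = 2 * 2 from rfl, pow_mul, pow_two g, mul_self_of_trace_zero t]; simp))) (by omega)
  constructor
  · rintro ⟨g, rfl⟩
    obtain ⟨g, rfl⟩ := H10.π_surjective g
    by_cases h1 : H10.π F g = 1
    · simp [h1]
    by_cases t : (g : M2 F).trace = 0
    · exact .inr (.inr (.inl (hm g t)))
    by_cases hr : RS g
    · rcases hr.cases with ⟨-, h⟩ | ⟨-, h⟩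
      · exact .inr (.inr (.inr (.inl (e1 g t h))))
      · exact .inr (.inr (.inr (.inr (e2 g t h))))
    · exact .inr (.inl (e3 g (not_isScal_of_ne_one h1) hr))
  · rintro (rfl | rfl | rfl | rfl | rfl)
    · exact ⟨1, by simp⟩
    · exact ⟨_, e3 (upSL 1 1 (by simp)) (by simp [isScal_upSL_iff]) (by
        rw [RS, trace_upSL]; norm_num)⟩
    · exact ⟨_, hm (compSL 0) (trace_comp _ _)⟩
    · obtain ⟨g, h, o⟩ := H10.exists_ell_SL2 (F := F)
      exact ⟨_, e1 g (e4 g (by omega)) (card_cent_SL_ell h)⟩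
    · obtain ⟨g, -, h, o⟩ := exists_split (F := F) (by omega)
      exact ⟨_, e2 g (e4 g (by omega)) h⟩

/-- Let F be a finite field with q elements, q odd and q ≥ 7. If q ≡ 1 (mod 4) the conjugacy class sizes of PSL(2,F) are exactly 1, (q² − 1)/2, q(q + 1)/2, q(q − 1) and q(q + 1); if q ≡ 3 (mod 4) they are exactly 1, (q² − 1)/2, q(q − 1)/2, q(q + 1) and q(q − 1). -/
theorem result {F : Type*} [Field F] [Fintype F]
    (hodd : ¬ 2 ∣ Fintype.card F) (h7 : 7 ≤ Fintype.card F) :
    (Fintype.card F % 4 = 1 →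
      Set.range (fun g : (Matrix.ProjectiveSpecialLinearGroup (Fin 2) F) => (Subgroup.centralizer ({g} : Set (Matrix.ProjectiveSpecialLinearGroup (Fin 2) F))).index) =
        {1, (Fintype.card F ^ 2 - 1) / 2, Fintype.card F * (Fintype.card F + 1) / 2,
          Fintype.card F * (Fintype.card F - 1), Fintype.card F * (Fintype.card F + 1)}) ∧
    (Fintype.card F % 4 = 3 →
      Set.range (fun g : (Matrix.ProjectiveSpecialLinearGroup (Fin 2) F) => (Subgroup.centralizer ({g} : Set (Matrix.ProjectiveSpecialLinearGroup (Fin 2) F))).index) =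
        {1, (Fintype.card F ^ 2 - 1) / 2, Fintype.card F * (Fintype.card F - 1) / 2,
          Fintype.card F * (Fintype.card F + 1), Fintype.card F * (Fintype.card F - 1)}) := by
  have two : (2 : F) ≠ 0 := two_ne_zero_of_odd (Nat.odd_iff.2 (by omega))
  obtain ⟨q, hq⟩ := odd_of_two_ne_zero two
  constructor <;> intro h4 <;> ext n
  · refine core two h7 (fun g t => ?_) n
    have hr := rs_of_trace_zero two t
    have := four_dvd_card_C2 two t
    rw [index_cent, comap_cent_zero two t]
    refine index_eq hr.card_norm ?_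
    rcases hr.cases with ⟨-, h⟩ | ⟨-, h⟩
    · omega
    · rw [h, hq, show (2 * q + 1) * (2 * q + 1 + 1) / 2 = (2 * q + 1) * (q + 1) by
        rw [show (2 * q + 1) * (2 * q + 1 + 1) = 2 * ((2 * q + 1) * (q + 1)) by ring]; omega]
      simp; ring
  · refine (core two h7 (m := Fintype.card F * (Fintype.card F - 1) / 2) (fun g t => ?_) n).trans (by
      simp only [Set.mem_insert_iff, Set.mem_singleton_iff]; tauto)
    have hr := rs_of_trace_zero two t
    have := four_dvd_card_C2 two t
    rw [index_cent, comap_cent_zero two t]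
    refine index_eq hr.card_norm ?_
    rcases hr.cases with ⟨-, h⟩ | ⟨-, h⟩
    · rw [h, hq, show (2 * q + 1) * (2 * q + 1 - 1) / 2 = (2 * q + 1) * q by
        rw [Nat.add_sub_cancel, show (2 * q + 1) * (2 * q) = 2 * ((2 * q + 1) * q) by ring]; omega]
      simp; ring
    · omega

end Cfsg.Agent.S2508
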