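import Cfsg.Statements.S4593
import Cfsg.Agent.H9.Glaub2

set_option autoImplicit false
open Cfsg

namespace Cfsg.Agent.S4593

/-- Let G be a finite group with trivial centre and no nontrivial normal subgroup of odd order, whose Sylow 2-subgroups are abelian, and let P be a Sylow 2-subgroup. Every automorphism of G of 2-power order that fixes P elementwise is inner. -/
theorem result {G : Type*} [Group G] [Finite G] (hZ : Subgroup.center G = ⊥) (hcore : Cfsg.pPrimeCore 2 G = ⊥) (P : Sylow 2 G) (hab : IsMulCommutative (P : Subgroup G))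
    (α : MulAut G) (h2 : ∃ j : ℕ, orderOf α = 2 ^ j) (hfix : ∀ x ∈ (P : Subgroup G), α x = x) :
    ∃ g : G, ∀ x : G, α x = g * x * g⁻¹ := by
  obtain ⟨j, hj⟩ := h2
  set N := (H4.holL G).range with hN
  have : N.Normal := by
    rw [hN, SemidirectProduct.range_inl_eq_ker_rightHom]; infer_instance
  have hS : H3.IsSylowIn 2 ((P : Subgroup G).map (H4.holL G)) N := by
    rw [hN, MonoidHom.range_eq_map]
    exact ⟨Subgroup.map_mono le_top, P.isPGroup'.map _, by
      rw [Subgroup.relIndex_map_map_of_injective _ _ H4.holL_injective, Subgroup.relIndex_top_right]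
      exact P.not_dvd_index⟩
  have hON : pPrimeCore 2 N = ⊥ := by
    rw [← H1.map_pPrimeCore_equiv (MonoidHom.ofInjective H4.holL_injective), hcore,
      Subgroup.map_bot]
  obtain ⟨_, ⟨q, hq, rfl⟩, h⟩ := H9.exists_mul_centralizes_of_abelian hS (a := H4.holR G α) (k := j)
    (by
      rintro _ ⟨s, hs, rfl⟩ _ ⟨t, ht, rfl⟩
      exact Commute.map (H1.isMulCommutative_iff.1 hab s hs t ht) _)
    (by rw [← map_pow, ← hj, pow_orderOf_eq_one, map_one]) (by
      rintro _ ⟨s, hs, rfl⟩
      exact (H4.hol_comm_iff _ _).2 (hfix s hs))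
  refine ⟨q, fun x => H4.holL_injective ?_⟩
  have h1 := h (H4.holL G x) ⟨x, rfl⟩
  rw [hON, Subgroup.map_bot, Subgroup.mem_bot, commutatorElement_eq_one_iff_mul_comm] at h1
  rw [← H4.hol_conj, map_mul, map_mul, map_inv]
  calc H4.holR G α * H4.holL G x * (H4.holR G α)⁻¹
      = H4.holL G q * ((H4.holL G q)⁻¹ * H4.holR G α * H4.holL G x) * (H4.holR G α)⁻¹ := by group
    _ = _ := by rw [h1]; group

end Cfsg.Agent.S4593
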