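import Cfsg.Statements.S0132
import Cfsg.Agent.H3.HallTransfer
import Cfsg.Agent.H18.Nil

set_option autoImplicit false
open Cfsg

namespace Cfsg.Agent.S0132

/-- A minimal non-p-nilpotent finite group is a minimal non-nilpotent group with a normal Sylow p-subgroup. -/
theorem result {G : Type*} [Group G] [Finite G] {p : ℕ} [Fact p.Prime] (h1 : ¬ Cfsg.HasNormalPComplement p G) (h2 : ∀ H : Subgroup G, H ≠ ⊤ → Cfsg.HasNormalPComplement p H) : (∀ H : Subgroup G, H ≠ ⊤ → Group.IsNilpotent H) ∧ ¬ Group.IsNilpotent G ∧ ∀ P : Sylow p G, (P : Subgroup G).Normal := by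
  open Subgroup H18 in
  have hp : p.Prime := Fact.out
  obtain ⟨P⟩ : Nonempty (Sylow p G) := inferInstance
  obtain ⟨Q, hQ, q, g, hq, hqp, ⟨k, hk⟩, hgN, hgC⟩ :=
    H3.exists_prime_pow_normalizing_of_not_hasNormalPComplement P h1
  have hg : PiElt {q} g := by rw [PiElt, hk]; exact piNat_pow_self hq k
  have hQp : PiGrp {p} Q := piGrp_of_isPGroup hp (P.2.to_le hQ)
  have hn : zpowers g ≤ N(Q) := zpowers_le.2 hgN
  have htop : Q ⊔ zpowers g = ⊤ := by
    by_contra hne
    exact hgC (H3.mem_centralizer_of_hasNormalPComplement_subgroup (h2 _ hne) le_sup_left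
      hQp.isPGroup (mem_sup_right (mem_zpowers g)) hgN
      ((piNat_compl_iff_coprime hp).1 (hg.p'_of_ne hqp)))
  have hQn : Q ⊴ ⊤ := htop ▸ nml_sup_left hn
  have hH : Hall {p} Q ⊤ := htop ▸ hall_of_sup hQp (hg.zpowers.p'_of_ne hqp) (Or.inr hn)
  have := hQn.normal
  refine ⟨fun H hH' => H3.isNilpotent_of_forall_hasNormalPComplement fun r hr => ?_,
    fun _ => h1 H3.hasNormalPComplement_of_isNilpotent, fun S => ?_⟩
  · by_cases hrp : r = p
    · subst hrp; exact h2 H hH'
    refine H3.hasNormalPComplement_subgroup ?_ H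
    refine H3.hasNormalPComplement_of_quotient Q
      ((piNat_compl_iff hr.out).1 (hQp.p'_of_ne (Ne.symm hrp))) ?_
    have hcyc : IsCyclic (G ⧸ Q) := by
      rw [isCyclic_iff_exists_zpowers_eq_top]
      refine ⟨QuotientGroup.mk' Q g, ?_⟩
      rw [← MonoidHom.map_zpowers, ← map_top_of_surjective _ (QuotientGroup.mk'_surjective Q), ← htop,
        Subgroup.map_sup, (H1.map_mk'_eq_bot_iff Q Q).2 le_rfl, bot_sup_eq]
    have : Group.IsNilpotent (G ⧸ Q) := H1.isNilpotent_of_isMulCommutative _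
    exact H3.hasNormalPComplement_of_isNilpotent
  · rw [hH.eq_of_nml hQn.norm (hall_sylow_top hp S)]; exact this

end Cfsg.Agent.S0132
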