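import Cfsg.Statements.S0801
import Cfsg.Agent.H10.Klein

set_option autoImplicit false
open Cfsg

namespace Cfsg.Agent.S0801

theorem chk9 : H10.TC.chk [[1, 3, 5, 0, 8, 10, 12, 13, 15, 17, 2, 19, 21, 23, 25, 4, 27, 29, 31, 33,
    34, 6, 36, 7, 39, 41, 37, 44, 32, 9, 35, 47, 48, 11, 49, 50, 52, 53, 46, 51, 43, 14, 45, 54, 16,
    55, 56, 18, 28, 20, 30, 24, 22, 26, 40, 42, 38, 58, 59, 57], [2, 4, 6, 7, 9, 11, 0, 14, 16, 1,
    18, 20, 22, 24, 3, 26, 28, 30, 32, 27, 5, 35, 37, 38, 40, 42, 43, 39, 8, 45, 46, 25, 10, 29, 23,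
    51, 44, 12, 34, 19, 13, 36, 31, 15, 41, 33, 17, 56, 57, 58, 48, 21, 49, 47, 59, 54, 53, 50, 52,
    55]]     [[], [0], [1], [0, 0], [1, 0], [0, 1], [1, 1], [1, 0, 0], [0, 1, 0], [1, 1, 0], [0, 0,
    1], [1, 0, 1], [0, 1, 1], [0, 1, 0, 0], [1, 1, 0, 0], [0, 0, 1, 0], [1, 0, 1, 0], [0, 1, 1, 0],
    [1, 0, 0, 1], [0, 1, 0, 1], [1, 1, 0, 1], [0, 0, 1, 1], [1, 0, 1, 1], [0, 0, 1, 0, 0], [1, 0, 1,
    0, 0], [0, 1, 1, 0, 0], [1, 0, 0, 1, 0], [0, 1, 0, 1, 0], [1, 1, 0, 1, 0], [0, 0, 1, 1, 0], [1,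
    0, 1, 1, 0], [0, 1, 0, 0, 1], [1, 1, 0, 0, 1], [0, 0, 1, 0, 1], [0, 1, 1, 0, 1], [1, 0, 0, 1,
    1], [0, 1, 0, 1, 1], [1, 1, 0, 1, 1], [1, 0, 0, 1, 0, 0], [0, 1, 0, 1, 0, 0], [1, 1, 0, 1, 0,
    0], [0, 0, 1, 1, 0, 0], [1, 0, 1, 1, 0, 0], [1, 1, 0, 0, 1, 0], [0, 0, 1, 0, 1, 0], [1, 0, 0, 1,
    1, 0], [1, 1, 0, 1, 1, 0], [0, 0, 1, 0, 0, 1], [0, 1, 1, 0, 0, 1], [0, 0, 1, 1, 0, 1], [0, 1, 0,
    0, 1, 1], [1, 1, 0, 0, 1, 1], [0, 0, 1, 0, 1, 1], [0, 1, 1, 0, 1, 1], [0, 1, 1, 0, 0, 1, 0], [0,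
    1, 0, 0, 1, 1, 0], [0, 1, 1, 0, 1, 1, 0], [1, 0, 1, 1, 0, 0, 1], [1, 0, 0, 1, 1, 0, 1], [1, 0,
    1, 1, 0, 0, 1, 0]]     [[0, 0, 0], [1, 1, 1], [0, 1, 0, 1, 1, 0, 1, 0, 1, 1], [0, 0, 1, 0, 1, 0,
    0, 1, 0, 1]] [] 2 60     [(0, 0, 0, 0), (0, 1, 0, 0), (1, 0, 0, 0), (3, 0, 1, 0), (1, 1, 0, 0),
    (2, 0, 0, 0), (2, 1, 0, 0), (6, 1, 2, 0), (3, 1, 0, 0), (4, 0, 0, 0), (4, 1, 0, 0), (9, 1, 2,
    0), (5, 0, 0, 0), (10, 0, 1, 0), (5, 1, 0, 0), (6, 0, 0, 0), (7, 0, 0, 0), (7, 1, 0, 0), (14, 1,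
    2, 0), (8, 0, 0, 0), (15, 0, 1, 0), (8, 1, 0, 0), (9, 0, 0, 0), (10, 1, 0, 0), (11, 0, 0, 0),
    (11, 1, 0, 0), (20, 1, 2, 0), (12, 0, 0, 0), (21, 0, 1, 0), (12, 1, 0, 0), (13, 0, 0, 0), (23,
    0, 1, 0), (13, 1, 0, 0), (14, 0, 0, 0), (15, 1, 0, 0), (16, 0, 0, 0), (16, 1, 0, 0), (28, 1, 2,
    0), (17, 0, 0, 0), (29, 0, 1, 0), (17, 1, 0, 0), (18, 0, 0, 0), (18, 1, 0, 0), (32, 1, 2, 0),
    (28, 0, 3, 2), (19, 0, 0, 0), (33, 0, 1, 0), (33, 1, 4, 4), (20, 0, 0, 0), (34, 1, 3, 1), (21,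
    1, 0, 0), (22, 0, 0, 0), (22, 1, 0, 0), (37, 1, 2, 0), (26, 0, 4, 3), (23, 1, 0, 0), (38, 1, 2,
    0), (24, 0, 0, 0), (39, 1, 4, 2), (27, 1, 3, 4), (19, 1, 2, 0), (24, 1, 0, 0), (40, 1, 2, 0),
    (25, 0, 0, 0), (41, 0, 1, 0), (31, 1, 4, 2), (25, 1, 0, 0), (42, 1, 2, 0), (26, 1, 0, 0), (43,
    1, 2, 0), (40, 0, 3, 2), (27, 0, 0, 0), (44, 0, 1, 0), (44, 1, 3, 1), (36, 1, 3, 1), (41, 1, 2,
    0), (29, 1, 0, 0), (45, 1, 2, 0), (42, 0, 3, 0), (30, 1, 0, 0), (46, 1, 2, 0), (38, 0, 3, 2),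
    (31, 0, 0, 0), (47, 0, 1, 0), (32, 0, 0, 0), (48, 0, 1, 0), (34, 0, 0, 0), (49, 0, 1, 0), (35,
    0, 0, 0), (50, 1, 4, 2), (30, 0, 4, 1), (50, 0, 1, 0), (35, 1, 0, 0), (51, 1, 2, 0), (51, 0, 3,
    0), (39, 0, 1, 0), (36, 0, 0, 0), (52, 0, 1, 0), (52, 1, 3, 1), (37, 0, 0, 0), (53, 0, 1, 0),
    (53, 1, 3, 1), (43, 0, 0, 0), (54, 0, 1, 0), (45, 0, 0, 0), (55, 0, 1, 0), (55, 1, 3, 1), (46,
    0, 0, 0), (56, 0, 1, 0), (56, 1, 3, 1), (47, 1, 2, 0), (48, 1, 0, 0), (57, 1, 2, 0), (49, 1, 0,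
    0), (58, 1, 2, 0), (57, 0, 3, 0), (54, 1, 0, 0), (59, 1, 2, 0), (59, 0, 3, 0), (58, 0, 1, 0)] =
    true := by decide +kernel

open H10 Subgroup Matrix
open scoped MatrixGroups

theorem card_le_of_root {F : Type*} [Field F] [Fintype F] (p : ℕ) [Fact p.Prime] [CharP F p] {lam : F}
    (hgen : Subfield.closure ({lam} : Set F) = ⊤) (P : Polynomial (ZMod p)) (hP : P ≠ 0)
    (h : P.eval₂ (ZMod.castHom (dvd_refl p) F) lam = 0) : Fintype.card F ≤ p ^ P.natDegree := by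
  letI := ZMod.algebra F p
  have h1 : IntermediateField.adjoin (ZMod p) {lam} = ⊤ := by
    apply IntermediateField.toSubfield_injective
    rw [IntermediateField.adjoin_toSubfield, IntermediateField.top_toSubfield, eq_top_iff, ← hgen]
    exact Subfield.closure_mono Set.subset_union_right
  have h2 := IntermediateField.adjoin.finrank (K := ZMod p) (Algebra.IsIntegral.isIntegral lam)
  rw [h1, IntermediateField.finrank_top'] at h2
  rw [Module.card_eq_pow_finrank (K := ZMod p) (V := F), ZMod.card, h2]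
  exact Nat.pow_le_pow_right (Fact.out : p.Prime).pos
    (Polynomial.natDegree_le_natDegree (minpoly.degree_le_of_ne_zero (ZMod p) lam hP h))

theorem cheb_of_pow {F : Type*} [Field F] {s : SL(2, F)} (hs : (s : H24.M2 F) 0 1 ≠ 0)
    (h : SpecialLinearGroup.toPGL s ^ 2 = 1 ∨ SpecialLinearGroup.toPGL s ^ 3 = 1 ∨
      SpecialLinearGroup.toPGL s ^ 5 = 1) {t : F} (ht : (s : H24.M2 F).trace = t) :
    t = 0 ∨ t ^ 2 - 1 = 0 ∨ t ^ 4 - 3 * t ^ 2 + 1 = 0 := by
  have h4 := SL2_cayley s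
  rw [ht] at h4
  have key : ∀ (n : ℕ) (x y : F), (s : H24.M2 F) ^ n = x • 1 + y • (s : H24.M2 F) →
      SpecialLinearGroup.toPGL s ^ n = 1 → y = 0 := fun n x y e h => by
    rw [← map_pow, toPGL_eq_one_iff, ← H24.isScal_SL_iff, SL2_coe_pow, e] at h
    exact (H24.isScal_lin_iff (fun h => hs h.1) x y).1 h
  rcases h with h | h | h
  · refine Or.inl (key 2 (-1) _ ?_ h)
    simp only [pow_succ (s : H24.M2 F), pow_zero, one_mul, h4]
    module
  · refine Or.inr (Or.inl (key 3 (-t) _ ?_ h))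
    simp only [pow_succ (s : H24.M2 F), pow_zero, one_mul, h4, sub_mul, smul_mul_assoc]
    module
  · refine Or.inr (Or.inr (key 5 (-(t ^ 3 - 2 * t)) _ ?_ h))
    simp only [pow_succ (s : H24.M2 F), pow_zero, one_mul, h4, sub_mul, smul_mul_assoc]
    module

theorem sq_trace_mem {F : Type*} [Field F] {R : Subfield F} {s : SL(2, F)} {t : PGL(2, F)}
    (h : t * SpecialLinearGroup.toPGL s * t⁻¹ ∈ (ProjGenLinGroup.map R.subtype).range) :
    (s : H24.M2 F).trace ^ 2 ∈ R := by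
  obtain ⟨g, hg⟩ := h
  obtain ⟨a, b, c, d, h1, rfl⟩ := slMk_surj s
  obtain ⟨a', b', c', d', h2, rfl⟩ := mob_surj g
  obtain ⟨x, y, z, w, h3, rfl⟩ := mob_surj t
  rw [map_mob, toPGL_slMk, mob_inv, mob_mul, mob_mul, mob_eq_mob_iff] at hg
  obtain ⟨u, hu, e1, e2, e3, e4⟩ := hg
  simp only [Subfield.coe_subtype] at e1 e2 e3 e4
  have h2' : (a' : F) * d' - b' * c' ≠ 0 := by exact_mod_cast h2
  have h5 : (x * w - y * z) * (a + d) = u * (a' + d') := by linear_combination e1 + e4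
  have h6 : (x * w - y * z) ^ 2 = u ^ 2 * (a' * d' - b' * c') := by
    rw [show u ^ 2 * (a' * d' - b' * c') = u * a' * (u * d') - u * b' * (u * c') by ring,
      ← e1, ← e2, ← e3, ← e4]
    linear_combination (-(x * w - y * z) ^ 2) * h1
  have : (a + d) ^ 2 = (((a' + d') ^ 2 / (a' * d' - b' * c') : R) : F) := by
    push_cast
    rw [eq_div_iff h2']
    apply mul_left_cancel₀ (pow_ne_zero 2 hu)
    linear_combination (-(a + d) ^ 2) * h6 + ((x * w - y * z) * (a + d) + u * (a' + d')) * h5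
  simp only [slMk_val, trace_fin_two_of]
  rw [this]
  exact SetLike.coe_mem _

/-- Let F be a finite field of odd characteristic and λ ≠ 0 an element generating F as a field. Then the lower and upper unitriangular matrices with off-diagonal entries 1 and λ generate SL_2(F), unless |F| = 9 and λ² = −1, in which case they generate a subgroup of order 120. -/
theorem result {F : Type*} [Field F] [Fintype F] (h2 : (2 : F) ≠ 0) (lam : F) (hlam : lam ≠ 0) (hgen : Subfield.closure ({lam} : Set F) = ⊤) : (Subgroup.closure {g : Matrix.SpecialLinearGroup (Fin 2) F | (g : Matrix (Fin 2) (Fin 2) F) = !![1, 0; 1, 1] ∨ (g : Matrix (Fin 2) (Fin 2) F) = !![1, lam; 0, 1]} = ⊤ ∧ ¬ (Fintype.card F = 9 ∧ lam ^ 2 = -1)) ∨ (Fintype.card F = 9 ∧ lam ^ 2 = -1 ∧ Nat.card ↥(Subgroup.closure {g : Matrix.SpecialLinearGroup (Fin 2) F | (g : Matrix (Fin 2) (Fin 2) F) = !![1, 0; 1, 1] ∨ (g : Matrix (Fin 2) (Fin 2) F) = !![1, lam; 0, 1]}) = 120)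 := by
  obtain ⟨p, hp⟩ := CharP.exists F
  have : Fact p.Prime := ⟨CharP.char_is_prime F p⟩
  have hp2 := char_ne_two_of_two_ne_zero h2 p
  have hodd : Odd p := (Fact.out : p.Prime).odd_of_ne_two hp2
  let u : SL(2, F) := slMk 1 0 1 1 (by simp)
  let v : SL(2, F) := slMk 1 lam 0 1 (by simp)
  have hS : {g : SL(2, F) | (g : Matrix (Fin 2) (Fin 2) F) = !![1, 0; 1, 1] ∨
      (g : Matrix (Fin 2) (Fin 2) F) = !![1, lam; 0, 1]} = {u, v} := by
    ext g
    exact or_congr (Subtype.ext_iff (a1 := g) (a2 := u)).symm (Subtype.ext_iff (a1 := g) (a2 := v)).symm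
  rw [hS]
  set H := closure ({u, v} : Set SL(2, F)) with hH
  have hu : u ∈ H := subset_closure (by simp)
  have hv : v ∈ H := subset_closure (by simp)
  have hup : u ^ p = 1 := by rw [slMk_lower_pow, ← slMk_one, slMk_inj]; simp
  have hvp : v ^ p = 1 := by rw [slMk_upper_pow, ← slMk_one, slMk_inj]; simp
  have hvi : v⁻¹ = slMk 1 (-lam) 0 1 (by simp) := by
    rw [inv_eq_iff_mul_eq_one, slMk_mul, ← slMk_one, slMk_inj]; simp
  have t1 : ((u * v : SL(2, F)) : H24.M2 F).trace = 2 + lam := by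
    rw [slMk_mul]; simp only [slMk_val, trace_fin_two_of]; ring
  have t2 : ((u * v⁻¹ : SL(2, F)) : H24.M2 F).trace = 2 - lam := by
    rw [hvi, slMk_mul]; simp only [slMk_val, trace_fin_two_of]; ring
  have hcard : Fintype.card F = 9 → lam ^ 2 = -1 →
      -1 ∈ H ∧ Nat.card (H.map SpecialLinearGroup.toPGL) ≤ 60 := fun h9 hl => by
    have h3 : (3 : F) = 0 := by
      have := FiniteField.cast_card_eq_zero F
      rw [h9] at this
      exact pow_eq_zero_iff two_ne_zero |>.1 (by push_cast at this; linear_combination this)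
    have w1 : u * (v * (u * (v * v))) * (u * (v * (u * (v * v)))) = -1 := by
      apply mul_self_of_trace_eq_zero
      simp only [u, v, slMk_mul, slMk_val, trace_fin_two_of]
      linear_combination 2 * hl + 2 * lam * h3
    have w2 : u * (u * (v * (u * v))) * (u * (u * (v * (u * v)))) = -1 := by
      apply mul_self_of_trace_eq_zero
      simp only [u, v, slMk_mul, slMk_val, trace_fin_two_of]
      linear_combination 2 * hl + 2 * lam * h3
    refine ⟨w1 ▸ mul_mem ?_ ?_, ?_⟩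
    · exact mul_mem hu (mul_mem hv (mul_mem hu (mul_mem hv hv)))
    · exact mul_mem hu (mul_mem hv (mul_mem hu (mul_mem hv hv)))
    let g : ℕ → PGL(2, F) := fun i => SpecialLinearGroup.toPGL (if i = 0 then u else v)
    have e : g '' Set.Iio 2 = SpecialLinearGroup.toPGL '' {u, v} := by
      rw [show Set.Iio 2 = ({0, 1} : Set ℕ) by ext; simp; omega, Set.image_pair, Set.image_pair]; rfl
    rw [hH, MonoidHom.map_closure, ← e]
    refine (TC.card_closure_le (fun w hw => ?_) chk9).2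
    simp only [List.mem_cons, List.not_mem_nil, or_false] at hw
    rcases hw with rfl | rfl | rfl | rfl <;>
      simp only [TC.ev_cons, TC.ev_nil, g, mul_one, ← map_mul, toPGL_eq_one_iff, if_true,
        one_ne_zero, if_false]
    · left
      rw [← pow_three, slMk_lower_pow, ← slMk_one, slMk_inj]; simp [h3]
    · left
      rw [← pow_three, slMk_upper_pow, ← slMk_one, slMk_inj]; simp [h3]
    · right; rw [← w1]; simp only [mul_assoc]
    · right; rw [← w2]; simp only [mul_assoc]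
  by_cases h5 : p = 3 ∧ Nonempty (H.map SpecialLinearGroup.toPGL ≃* alternatingGroup (Fin 5))
  · obtain ⟨rfl, ⟨e⟩⟩ := h5
    have h3 : (3 : F) = 0 := by exact_mod_cast CharP.cast_eq_zero F 3
    have hc : Nat.card (H.map SpecialLinearGroup.toPGL) = 60 := by
      rw [Nat.card_congr e.toEquiv, card_alt_five]
    have hpow : ∀ s ∈ H, SpecialLinearGroup.toPGL s ^ 2 = 1 ∨ SpecialLinearGroup.toPGL s ^ 3 = 1 ∨
        SpecialLinearGroup.toPGL s ^ 5 = 1 := fun s hs => by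
      have := A5_pow (e ⟨_, s, hs, rfl⟩)
      simp only [← map_pow, map_eq_one_iff _ e.injective, Subtype.ext_iff] at this
      exact this
    have h4 : 4 ≤ Fintype.card F := by
      by_contra hc'
      have h6 := card_le_card_group (H.map SpecialLinearGroup.toPGL)
      rw [hc, card_PGL2] at h6
      have h7 : Fintype.card F * (Fintype.card F - 1) * (Fintype.card F + 1) ≤ 3 * 2 * 4 :=
        Nat.mul_le_mul (Nat.mul_le_mul (by omega) (by omega)) (by omega)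
      omega
    have hne : ∀ c : ZMod 3, lam ≠ (c.cast : F) := fun c hc => by
      have := card_le_of_root 3 hgen (Polynomial.X - Polynomial.C c) (Polynomial.X_sub_C_ne_zero c)
        (by simp [hc])
      rw [Polynomial.natDegree_X_sub_C] at this
      omega
    have n1 : lam - 1 ≠ 0 := fun h => hne 1 (by simpa using sub_eq_zero.1 h)
    have n2 : lam + 1 ≠ 0 := fun h => hne (-1) (by
      rw [ZMod.cast_neg (dvd_refl 3), ZMod.cast_one (dvd_refl 3)]; linear_combination h)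
    have c1 := cheb_of_pow (by rw [slMk_mul]; simpa using hlam) (hpow _ (mul_mem hu hv)) t1
    have c2 := cheb_of_pow (by rw [hvi, slMk_mul]; simpa using hlam)
      (hpow _ (mul_mem hu (inv_mem hv))) t2
    have hl : lam ^ 2 = -1 := by
      rcases c1 with c1 | c1 | c1
      · exact absurd (by linear_combination c1 - h3) n1
      · exact absurd (by linear_combination c1 - (lam + 1) * h3) (mul_ne_zero hlam n2)
      rcases c2 with c2 | c2 | c2
      · exact absurd (by linear_combination -c2 + h3) n2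
      · exact absurd (by linear_combination c2 + (lam - 1) * h3) (mul_ne_zero hlam n1)
      apply mul_left_cancel₀ hlam
      linear_combination c1 - c2 - (5 * lam ^ 3 + 13 * lam) * h3
    have h9 : Fintype.card F = 9 := by
      have h6 := card_le_of_root 3 hgen (Polynomial.X ^ 2 + Polynomial.C 1)
        (Polynomial.X_pow_add_C_ne_zero two_pos 1) (by simp [hl])
      rw [Polynomial.natDegree_X_pow_add_C] at h6
      obtain ⟨⟨n, hn0⟩, -, hn⟩ := FiniteField.card F 3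
      simp only [PNat.mk_coe] at hn
      rw [hn] at h4 h6 ⊢
      have := (Nat.pow_le_pow_iff_right (by norm_num)).1 h6
      interval_cases n
      · omega
      · rfl
    refine Or.inr ⟨h9, hl, ?_⟩
    rw [← card_ker_mul_card_map SpecialLinearGroup.toPGL (C := H) (fun s hs => by
      rcases (toPGL_eq_one_iff s).1 hs with rfl | rfl
      exacts [one_mem _, (hcard h9 hl).1]), hc, SpecialLinearGroup.toPGL_ker, card_center_SL2, h9]
    rfl
  · obtain ⟨R, t, h⟩ := exists_PSL2_le_aux p hp2 _ h5 ⟨u, hu, rfl⟩ ⟨v, hv, rfl⟩ (i := 1) (j := 1)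
      (by rw [← map_pow, pow_one, hup, map_one]) (by rw [← map_pow, pow_one, hvp, map_one])
      (fun e => hlam (by
        have := commute_of_toPGL hodd hvp h2 e
        rw [slMk_mul, slMk_mul, slMk_inj] at this
        linear_combination -this.1))
    have hle : (H.map SpecialLinearGroup.toPGL).map (MulAut.conj t).toMonoidHom ≤
        (ProjGenLinGroup.map R.subtype).range := by
      rcases h with h | h <;> rw [h]
      exact map_le_range _ _
    have m1 := sq_trace_mem (hle ⟨_, ⟨_, mul_mem hu hv, rfl⟩, rfl⟩)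
    have m2 := sq_trace_mem (hle ⟨_, ⟨_, mul_mem hu (inv_mem hv), rfl⟩, rfl⟩)
    rw [t1] at m1
    rw [t2] at m2
    have hR : R = ⊤ := by
      rw [eq_top_iff, ← hgen, Subfield.closure_le, Set.singleton_subset_iff]
      have h8 : (2 : F) ^ 3 ≠ 0 := pow_ne_zero _ h2
      have : lam = ((2 + lam) ^ 2 - (2 - lam) ^ 2) / ((2 : ℕ) : F) ^ 3 := by
        push_cast; field_simp; ring
      rw [this]
      exact div_mem (sub_mem m1 m2) (pow_mem (natCast_mem R 2) 3)
    subst hR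
    have hs : Function.Surjective (⊤ : Subfield F).subtype := fun x => ⟨⟨x, trivial⟩, rfl⟩
    have h1 : PSL2 F ≤ (H.map SpecialLinearGroup.toPGL).map (MulAut.conj t).toMonoidHom := by
      rcases h with h | h <;> rw [h]
      · rw [MonoidHom.range_eq_top.2 (PGL2_map_surjective hs)]; exact le_top
      · rw [map_PSL2_eq hs]
    have h3 : PSL2 F ≤ H.map SpecialLinearGroup.toPGL := fun g hg => by
      obtain ⟨y, hy, e⟩ := h1 (PSL2_normal.conj_mem g hg t)
      rwa [← (MulAut.conj t).injective e]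
    have key : ∀ s : SL(2, F), s ^ p = 1 → s ∈ H := fun s hs =>
      mem_of_toPGL_mem hodd hs (h3 (mem_PSL2_iff_exists.2 ⟨s, rfl⟩))
    refine Or.inl ⟨(eq_top_iff' H).2 (SL2_induction _ (fun b => key _ ?_) (fun c => key _ ?_)
      fun A B hA hB => mul_mem hA hB), fun h9 => ?_⟩
    · rw [slMk_upper_pow, ← slMk_one, slMk_inj]; simp
    · rw [slMk_lower_pow, ← slMk_one, slMk_inj]; simp
    · have h6 := (card_le_of_le h3).trans (hcard h9.1 h9.2).2
      rw [← Nat.card_congr (PSL2Equiv F).toEquiv, card_PSL2_of 360 h9.1 rfl] at h6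
      omega

end Cfsg.Agent.S0801
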