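import Cfsg.Statements.S0640
import Cfsg.Agent.H3.Br

set_option autoImplicit false
open Cfsg

namespace Cfsg.Agent.S0640

/-- For odd p, a prime q ≠ p dividing the order of the automorphism group of a p-group of rank at most 2 divides p² - 1 and is less than p. -/
theorem result {R : Type*} [Group R] [Finite R] {p : ℕ} [Fact p.Prime] (hp : p ≠ 2) (hR : IsPGroup p R) (hrk : Cfsg.PRankLE p 2 R) (q : ℕ) (hq : q.Prime) (hqp : q ≠ p) (hdvd : q ∣ Nat.card (MulAut R)) : q ∣ p ^ 2 - 1 ∧ q < p := by
  open Subgroup H18 in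
  have hp' : p.Prime := Fact.out
  have h1 : PiGrp {p} ((⊤ : Subgroup R).map (H4.holL R)) := piGrp_of_isPGroup hp' ((hR.to_subgroup ⊤).map _)
  have := H3.pi_Aut_rank2_pgroup (A := (⊤ : Subgroup (MulAut R)).map (H4.holR R)) hp' hq h1
    (H3.odd_of_piGrp hp' hp h1) ((H3.prank_le_iff hp').2 fun A hA h => by
      obtain ⟨B, rfl⟩ : ∃ B : Subgroup R, B.map (H4.holL R) = A :=
        ⟨_, map_comap_eq_self (by rwa [MonoidHom.range_eq_map])⟩
      rw [card_map_of_injective H4.holL_injective]
      refine hrk B (Abel.comm (cent_iff.2 ?_)) fun a ha => H4.holL_injective ?_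
      · exact fun a ha b hb => H4.holL_injective (by
          simpa using comm_of_cent h.abel (mem_map_of_mem _ ha) (mem_map_of_mem _ hb))
      · rw [map_pow, h.pow _ (mem_map_of_mem _ ha), map_one])
    (by rintro _ ⟨a, -, rfl⟩; exact H4.holR_mem_normalizer a) (by
      rw [← relIndex_inf_left, show (⊤ : Subgroup (MulAut R)).map (H4.holR R) ⊓ _ = ⊥ from eq_bot_iff.2 (by
        rintro _ ⟨⟨a, -, rfl⟩, h⟩
        rw [show a = 1 from MulEquiv.ext fun v => H4.holR_mem_centralizer_iff.1 h v (mem_top v), map_one]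
        exact one_mem _), relIndex_bot_left, card_map_of_injective H4.holR_injective, card_top]
      exact hdvd) hqp
  exact ⟨this.1, this.2.1⟩

end Cfsg.Agent.S0640
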