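import Cfsg.Statements.S3889
import Cfsg.Agent.H21.Extra

set_option autoImplicit false
open Cfsg

namespace Cfsg.Agent.S3889

open H18 H21 Subgroup

/-- A finite abelian group that is the union of a family of proper subgroups any two of which intersect trivially is elementary abelian: its exponent is a prime. -/
theorem result {G : Type*} [CommGroup G] [Finite G] (𝓑 : Set (Subgroup G)) (hprop : ∀ B ∈ 𝓑, B ≠ ⊤)
    (hcov : ∀ g : G, ∃ B ∈ 𝓑, g ∈ B) (hdisj : ∀ B ∈ 𝓑, ∀ C ∈ 𝓑, B ≠ C → B ⊓ C = ⊥) :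
    (Monoid.exponent G).Prime := by
  obtain ⟨B₀, hB₀, -⟩ := hcov 1
  have h0 : (⊤ : Subgroup G) ≠ ⊥ := fun h => hprop B₀ hB₀ (top_le_iff.1 (h.le.trans bot_le))
  obtain ⟨x, -, hx⟩ := exists_prime_order h0
  obtain ⟨B, hB, hxB⟩ := hcov x
  have h1 : ∀ y ∉ B, y ^ orderOf x = 1 := fun y hy => by
    obtain ⟨C, hC, hyC⟩ := hcov y
    obtain ⟨D, hD, hD'⟩ := hcov (x * y)
    have hx1 : x ≠ 1 := fun h => hx.ne_one (orderOf_eq_one_iff.2 h)
    have h2 : C ≠ D := by
      rintro rfl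
      have : B = C := by
        by_contra h
        exact hx1 (eq_one_of_eq_bot (hdisj B hB C hC h) ⟨hxB, (C.mul_mem_cancel_right hyC).1 hD'⟩)
      exact hy (this ▸ hyC)
    refine eq_one_of_eq_bot (hdisj C hC D hD h2) ⟨pow_mem hyC _, ?_⟩
    simpa [mul_pow] using pow_mem hD' (orderOf x)
  obtain ⟨y, -, hy⟩ := SetLike.exists_of_lt (hprop B hB).lt_top
  have h2 : ∀ g : G, g ^ orderOf x = 1 := fun g => by
    by_cases hg : g ∈ B
    · simpa [mul_pow, h1 y hy] using h1 (g * y) (mt (B.mul_mem_cancel_left hg).1 hy)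
    · exact h1 g hg
  rwa [Nat.dvd_antisymm (Monoid.exponent_dvd_of_forall_pow_eq_one h2) (Monoid.order_dvd_exponent x)]

end Cfsg.Agent.S3889
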