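import Cfsg.Statements.S5892
import Cfsg.Agent.H22.PGLMax

set_option autoImplicit false
open Cfsg

namespace Cfsg.Agent.S5892

open Subgroup Matrix H10 H22
open scoped MatrixGroups

theorem A5_four : ∃ x y t : alternatingGroup (Fin 5), KPair x y ∧ t * x * t⁻¹ = y ∧ t * y * t⁻¹ = x * y ∧ t ^ 3 = 1 :=
  ⟨⟨c[0, 1] * c[2, 3], Equiv.Perm.mem_alternatingGroup.2 (by decide)⟩,
    ⟨c[0, 2] * c[1, 3], Equiv.Perm.mem_alternatingGroup.2 (by decide)⟩,
    ⟨c[1, 2, 3], Equiv.Perm.mem_alternatingGroup.2 (by decide)⟩,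
    ⟨by decide, by decide, by decide, by decide, by decide, by decide⟩, by decide +kernel⟩

variable {F : Type*} [Field F] [Fintype F]

theorem exists_A5 (ho : Odd (Fintype.card F))
    (h : 5 ∣ Fintype.card F * (Fintype.card F - 1) * (Fintype.card F + 1)) :
    ∃ H : Subgroup PSL(2, F), Nonempty (H ≃* alternatingGroup (Fin 5)) := by
  obtain ⟨τ, hτ⟩ := exists_golden h
  obtain ⟨a, c, h1⟩ := exists_root_of_odd (two_ne_of_odd ho) τ
  exact exists_A5_of_root hτ h1

theorem a4_five (hq : 4 ≤ Fintype.card F) (ho : Odd (Fintype.card F)) {M : Subgroup PGL(2, F)} (h : M ⋖ PSL2 F)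
    (e : M ≃* alternatingGroup (Fin 4)) (h5 : 5 ∣ Fintype.card F * (Fintype.card F - 1) * (Fintype.card F + 1)) :
    Nat.card (PSL2 F) = 60 := by
  obtain ⟨x, y, hn⟩ := n4_A4 e
  obtain ⟨H, ⟨e'⟩⟩ := exists_A5 ho h5
  obtain ⟨a, b, s, hk, h1, h2, h3⟩ := A5_four
  let f := (ι F).comp (H.subtype.comp e'.symm.toMonoidHom)
  have hf : Function.Injective f := ι_injective.comp (H.subtype_injective.comp e'.symm.injective)
  obtain ⟨u, rfl, rfl⟩ := kp_conj (two_ne_of_odd ho) (hk.map hf) (ι_mem _) (ι_mem _) hn.kp hn.xL hn.yL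
  let g := (MulAut.conj u).toMonoidHom.comp f
  have hg : Function.Injective g := (MulAut.conj u).injective.comp hf
  have hgL : g.range ≤ PSL2 F := by rintro _ ⟨v, rfl⟩; exact PSL2_normal.conj_mem _ (ι_mem _) u
  change N4 M (g a) (g b) at hn
  have hs : g s ∈ M := hn.mem hq ho h le_rfl (hgL ⟨s, rfl⟩)
    (by rw [← map_inv, ← map_mul, ← map_mul, h1]; exact subset_closure (by simp))
    (by rw [← map_inv, ← map_mul, ← map_mul, h2, map_mul, hn.kp.mem_closure_iff]; simp)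
  have c12 : Nat.card M = 12 := by rw [Nat.card_congr e.toEquiv, card_alt_four]
  have c60 : Nat.card g.range = 60 := by rw [← Nat.card_congr (MonoidHom.ofInjective hg).toEquiv, card_alt_five]
  have d4 : 4 ∣ Nat.card (M ⊓ g.range : Subgroup _) := hn.kp.card_closure ▸ card_dvd_of_le ((closure_le _).2 (by
    rintro _ (rfl | rfl); exacts [⟨hn.xM, a, rfl⟩, ⟨hn.yM, b, rfl⟩]))
  have d3 : 3 ∣ Nat.card (M ⊓ g.range : Subgroup _) := by
    have : orderOf (g s) = 3 := orderOf_eq_prime (by rw [← map_pow, h3, map_one]) fun e => hk.ne (by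
      rw [hg (e.trans (map_one g).symm)] at h1; simpa using h1)
    exact this ▸ (M ⊓ g.range).orderOf_dvd_natCard ⟨hs, s, rfl⟩
  have hle : M ≤ g.range := inf_eq_left.1 (eq_of_le_of_card_ge inf_le_left (c12 ▸ Nat.le_of_dvd Nat.card_pos (by omega)))
  rcases h.eq_or_eq hle hgL with e1 | e1
  · rw [e1] at c60; omega
  · rwa [← e1]

theorem a4_two (hq : 4 ≤ Fintype.card F) (ho : Odd (Fintype.card F)) {M : Subgroup PGL(2, F)} (h : M ⋖ PSL2 F)
    (e : M ≃* alternatingGroup (Fin 4)) : ¬ IsSquare (2 : F) := fun hsq => by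
  obtain ⟨x, y, hn⟩ := n4_A4 e
  have h2 := two_ne_of_odd ho
  have hk := hn.kp
  obtain ⟨s, h1, h3⟩ := kp_conj h2 hk hn.xL hn.yL hk.rot' hn.xL (mul_mem hn.xL hn.yL)
  have a1 : s * x * s⁻¹ ∈ closure ({x, y} : Set PGL(2, F)) := by rw [h1, hk.mem_closure_iff]; simp
  have a2 : s * y * s⁻¹ ∈ closure ({x, y} : Set PGL(2, F)) := by rw [h3, hk.mem_closure_iff]; simp
  have hs := hn.mem hq ho h le_rfl (hn.mem_L h2 hsq a1 a2) a1 a2
  have key : ∀ g ∈ M, g ^ 2 = 1 ∨ g ^ 3 = 1 := fun g hg => (A4_pow (e ⟨g, hg⟩)).imp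
    (fun h => by rw [← map_pow, map_eq_one_iff _ e.injective] at h; exact congrArg Subtype.val h)
    (fun h => by rw [← map_pow, map_eq_one_iff _ e.injective] at h; exact congrArg Subtype.val h)
  have b1 : ∀ g, s * (x * g) = x * (s * g) := fun g => by rw [← mul_assoc, mul_inv_eq_iff_eq_mul.1 h1, mul_assoc]
  have b2 : ∀ g, s * (y * g) = x * (y * (s * g)) := fun g => by
    rw [← mul_assoc, mul_inv_eq_iff_eq_mul.1 h3, mul_assoc, mul_assoc]
  rcases key s hs with h4 | h4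
  · have h5 : (s * y) ^ 2 = x := by
      rw [pow_two, mul_assoc, b2, ← mul_assoc s, ← pow_two, h4, one_mul, hk.yy, mul_one]
    rcases key _ (mul_mem hs hn.yM) with h6 | h6
    · exact hk.x1 (h5.symm.trans h6)
    · have h7 : (s * y) ^ 4 = 1 := by rw [show 4 = 2 * 2 from rfl, pow_mul, h5, pow_two, hk.xx]
      rw [pow_succ, h6, one_mul] at h7
      rw [h7, one_pow] at h5
      exact hk.x1 h5.symm
  · have : ∀ g, s ^ 3 * (y * g) = x * (y * (s ^ 3 * g)) := fun g => by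
      simp only [pow_succ, pow_zero, one_mul, mul_assoc, b1, b2, hk.xxy]
    rw [h4] at this
    exact hk.x1 (by simpa using this 1)

/-- Let F be a finite field of odd order q ≥ 5 and characteristic p, and let M be a maximal subgroup of PSL₂(F). Then one of the following holds: |M| = q(q − 1)/2 (the stabiliser of a point of the projective line); q ≥ 13 and M is dihedral of order q − 1; q ∉ {7, 9} and M is dihedral of order q + 1; q = q₀² and M ≅ PGL₂(F₀) with |F₀| = q₀; q = q₀^r for an odd prime r and M ≅ PSL₂(F₀) with |F₀| = q₀; q ≡ ±1 (mod 10) with q = p or q = p², p ≡ ±3 (mod 10), and M ≅ A₅; q = p ≡ ±3 (mod 8), q ≢ ±1 (mod 10), and M ≅ A₄; or q = p ≡ ±1 (mod 8) and M ≅ S₄. -/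
theorem result {F : Type*} [Field F] [Fintype F] (p : ℕ)
    [Fact p.Prime] [CharP F p] (hodd : Odd (Fintype.card F)) (h5 : 5 ≤ Fintype.card F)
    (M : Subgroup (Matrix.ProjectiveSpecialLinearGroup (Fin 2) F)) (hM : IsCoatom M) :
    2 * Nat.card M = Fintype.card F * (Fintype.card F - 1) ∨
    (13 ≤ Fintype.card F ∧ (∃ k : ℕ, 2 * k = Fintype.card F - 1 ∧ Nonempty (M ≃* DihedralGroup k))) ∨
    (Fintype.card F ≠ 7 ∧ Fintype.card F ≠ 9 ∧ (∃ k : ℕ, 2 * k = Fintype.card F + 1 ∧ Nonempty (M ≃* DihedralGroup k))) ∨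
    (∃ (F₀ : Type) (_ : Field F₀) (_ : Fintype F₀), Fintype.card F = Fintype.card F₀ ^ 2 ∧
        Nonempty (M ≃* Matrix.ProjGenLinGroup (Fin 2) F₀)) ∨
    (∃ (F₀ : Type) (_ : Field F₀) (_ : Fintype F₀) (r : ℕ), r.Prime ∧ Odd r ∧ Fintype.card F = Fintype.card F₀ ^ r ∧
        Nonempty (M ≃* Matrix.ProjectiveSpecialLinearGroup (Fin 2) F₀)) ∨
    ((Fintype.card F % 10 = 1 ∨ Fintype.card F % 10 = 9) ∧
        (Fintype.card F = p ∨ (Fintype.card F = p ^ 2 ∧ (p % 10 = 3 ∨ p % 10 = 7))) ∧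
        Nonempty (M ≃* alternatingGroup (Fin 5))) ∨
    (Fintype.card F = p ∧ (p % 8 = 3 ∨ p % 8 = 5) ∧ ¬ (p % 10 = 1 ∨ p % 10 = 9) ∧
        Nonempty (M ≃* alternatingGroup (Fin 4))) ∨
    (Fintype.card F = p ∧ (p % 8 = 1 ∨ p % 8 = 7) ∧ Nonempty (M ≃* Equiv.Perm (Fin 4))) := by
  classical
  have h4 : 4 ≤ Fintype.card F := by omega
  have h2 := two_ne_of_odd hodd
  have ho := Nat.odd_iff.1 hodd
  have h : M.map (ι F) ⋖ PSL2 F := (coatom_iff_cov ι_injective).1 hM
  have e := M.equivMapOfInjective _ (ι_injective (K := F))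
  have hc := Nat.card_congr e.toEquiv
  have hL := card_L_odd hodd
  have hL' : 2 * Nat.card PSL(2, F) = _ := (Nat.card_congr (PSL2Equiv F).toEquiv).symm ▸ hL
  have := ProjectiveSpecialLinearGroup.rank_two_simple (F := F) (by rwa [Nat.card_eq_fintype_card])
  obtain ⟨f, hp, hf⟩ := FiniteField.card F p
  rcases max_struct p h4 h le_rfl h.lt.not_ge with ⟨x, hx⟩ | ⟨x, y, n, h1, h3, h5⟩ |
    ⟨h1, ⟨⟨e'⟩⟩ | ⟨⟨e'⟩⟩⟩ | ⟨h1, ⟨e'⟩⟩ | ⟨-, R, r, t, h1, h3, h5⟩
  · exact Or.inl (by rw [hc, hx, card_stab_L hodd])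
  · obtain ⟨h6, t, h7, h8, h9⟩ := h1.odd hodd h4 h3
    obtain ⟨e'⟩ := h1.dih h7 h8 h9
    rw [← h5] at e'
    generalize Nat.card (TorSt x y ⊓ PSL2 F : Subgroup _) = k at h6 e'
    have hk : Nat.card M = 2 * k := by rw [hc, Nat.card_congr e'.toEquiv, DihedralGroup.nat_card]
    have k2 : k ≠ 2 := by
      rintro rfl
      obtain ⟨a, b, h10⟩ := n4_of_klein (M := M.map (ι F)) ((MulEquiv.subgroupCongr (inf_eq_left.2 h.le)).trans e')
      have := h10.three_dvd h4 hodd h le_rfl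
      omega
    have k4 : k ≠ 4 := by
      rintro rfl
      obtain ⟨a, b, h10⟩ := n4_D4 h.le e'
      have := h10.three_dvd h4 hodd h le_rfl
      omega
    have k5 : k = 5 → Fintype.card F ≠ 9 ∧ Fintype.card F ≠ 11 := by
      rintro rfl
      have : Fact (Nat.Prime 5) := ⟨Nat.prime_five⟩
      constructor <;> intro hq <;> obtain ⟨H, ⟨e5⟩⟩ := exists_A5 hodd (by rw [hq]; norm_num) <;> rw [hq] at hL'
      · exact not_coatom_two_mul (H := H) (m := 72) (k := 12) hM hk (by omega) (by norm_num)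
          (by rw [Nat.card_congr e5.toEquiv, card_alt_five]) (by norm_num) (by norm_num) (by norm_num)
      · exact not_coatom_two_mul (H := H) (m := 132) (k := 12) hM hk (by omega) (by norm_num)
          (by rw [Nat.card_congr e5.toEquiv, card_alt_five]) (by norm_num) (by norm_num) (by norm_num)
    have k3 : k = 3 → Fintype.card F ≠ 7 := by
      rintro rfl hq
      obtain ⟨τ, hτ⟩ := (FiniteField.isSquare_two_iff (F := F)).2 (by rw [hq]; norm_num)
      obtain ⟨a, c, h10⟩ := exists_root_of_odd h2 τ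
      obtain ⟨H, ⟨e4⟩⟩ := exists_S4_of_root h2 (by rw [pow_two, ← hτ]) h10
      rw [hq] at hL'
      exact not_coatom_two_mul (H := H) (m := 56) (k := 8) hM hk (by omega) (by norm_num)
        (by rw [Nat.card_congr e4.toEquiv, card_perm_four]) (by norm_num) (by norm_num) (by norm_num)
    rcases h3 with rfl | rfl
    · exact Or.inr (Or.inl ⟨by omega, k, h6, ⟨e.trans e'⟩⟩)
    · exact Or.inr (Or.inr (Or.inl ⟨by omega, by omega, k, h6, ⟨e.trans e'⟩⟩))
  · obtain ⟨x, y, hn⟩ := n4_A4 e'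
    have hq := hn.card_eq p hodd h le_rfl h1
    have h8 := mt FiniteField.isSquare_two_iff.2 (a4_two h4 hodd h e')
    refine Or.inr (Or.inr (Or.inr (Or.inr (Or.inr (Or.inr (Or.inl ⟨hq, by omega, fun h10 => ?_, ⟨e.trans e'⟩⟩))))))
    rw [a4_five h4 hodd h e' (h10.elim (fun _ => (Dvd.dvd.mul_left (by omega) _).mul_right _)
      fun _ => Dvd.dvd.mul_left (by omega) _)] at hL
    have : 9 * 8 * 10 ≤ Fintype.card F * (Fintype.card F - 1) * (Fintype.card F + 1) :=
      Nat.mul_le_mul (Nat.mul_le_mul (by omega) (by omega)) (by omega)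
    omega
  · obtain ⟨x, y, hn⟩ := n4_S4 e'
    have hq := hn.card_eq p hodd h le_rfl h1
    refine Or.inr (Or.inr (Or.inr (Or.inr (Or.inr (Or.inr (Or.inr ⟨hq, ?_, ⟨e.trans e'⟩⟩))))))
    have h8 := card_dvd_of_le h.le
    rw [Nat.card_congr e'.toEquiv, card_perm_four] at h8
    have h16 : 16 ∣ Fintype.card F * (Fintype.card F - 1) * (Fintype.card F + 1) := by omega
    obtain ⟨m, hm⟩ : ∃ m, Fintype.card F = 8 * m + p % 8 := ⟨Fintype.card F / 8, by omega⟩
    by_contra hn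
    rcases (by omega : p % 8 = 3 ∨ p % 8 = 5) with h9 | h9 <;> rw [hm, h9] at h16
    · rw [show (8 * m + 3) * (8 * m + 3 - 1) * (8 * m + 3 + 1) = 16 * (32 * m ^ 3 + 36 * m ^ 2 + 13 * m + 1) + 8 by
        rw [show 8 * m + 3 - 1 = 8 * m + 2 by omega]; ring] at h16
      omega
    · rw [show (8 * m + 5) * (8 * m + 5 - 1) * (8 * m + 5 + 1) = 16 * (32 * m ^ 3 + 60 * m ^ 2 + 37 * m + 7) + 8 by
        rw [show 8 * m + 5 - 1 = 8 * m + 4 by omega]; ring] at h16
      omega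
  · have c60 : Nat.card (M.map (ι F)) = 60 := by rw [Nat.card_congr e'.toEquiv, card_alt_five]
    have p5 : p ≠ 5 := by rintro rfl; omega
    have h8 := card_dvd_of_le h.le
    rw [c60] at h8
    have d5 : 5 ∣ Fintype.card F * (Fintype.card F - 1) * (Fintype.card F + 1) := by omega
    have q5 : ¬ 5 ∣ Fintype.card F := fun h => p5
      ((Nat.prime_dvd_prime_iff_eq Nat.prime_five hp).1 (Nat.prime_five.dvd_of_dvd_pow (hf ▸ h))).symm
    have p5' : ¬ 5 ∣ p := fun h => q5 (hf ▸ h.trans (dvd_pow_self p f.ne_zero))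
    have p2 : p % 2 = 1 := hp.eq_two_or_odd.resolve_left (char_ne_two_of_two_ne_zero h2 p)
    refine Or.inr (Or.inr (Or.inr (Or.inr (Or.inr (Or.inl ⟨?_, ?_, ⟨e.trans e'⟩⟩)))))
    · simp only [Nat.prime_five.dvd_mul] at d5
      omega
    have h0 := Subfield.card_bot F p
    by_cases hb : (⊥ : Subfield F) = ⊤
    · rw [hb, Nat.card_congr Subfield.topEquiv.toEquiv, Nat.card_eq_fintype_card] at h0
      exact Or.inl h0
    have := Fintype.ofFinite (⊥ : Subfield F)
    have h10 : ¬ 5 ∣ p * (p - 1) * (p + 1) := fun h10 => by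
      obtain ⟨⟨γ, hγ⟩, hg⟩ := exists_golden (K := (⊥ : Subfield F)) (by rwa [← Nat.card_eq_fintype_card, h0])
      exact hb (a5_top p h2 p5 h le_rfl e' hγ (congrArg Subtype.val hg))
    simp only [Nat.prime_five.dvd_mul] at h10
    obtain ⟨γ, hg⟩ := exists_golden d5
    have hγ : iterateFrobenius F p 2 γ = RingHom.id F γ := by
      have a1 : ∀ δ : F, δ ^ 2 = δ + 1 → frobenius F p δ = γ ∨ frobenius F p δ = 1 - γ := fun δ hδ => by
        have := congrArg (frobenius F p) hδ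
        rw [map_pow, map_add, map_one] at this
        rw [← sub_eq_zero, ← sub_eq_zero (a := frobenius F p δ), ← mul_eq_zero]
        linear_combination this - hg
      rw [show 2 = 1 + 1 from rfl, iterateFrobenius_add_apply, iterateFrobenius_one, RingHom.id_apply]
      rcases a1 γ hg with a2 | a2
      · rw [a2, a2]
      · rw [a2, map_sub, map_one, a2, sub_sub_cancel]
    have htop := a5_top p h2 p5 h le_rfl e' (R := (iterateFrobenius F p 2).eqLocusField (RingHom.id F)) hγ hg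
    have hall : ∀ z : F, z ^ p ^ 2 = z := fun z =>
      (show z ∈ (iterateFrobenius F p 2).eqLocusField (RingHom.id F) from htop ▸ Subfield.mem_top z)
    have hdvd : Fintype.card F - 1 ∣ p ^ 2 - 1 := by
      rw [← FiniteField.forall_pow_eq_one_iff]
      intro z
      ext
      refine mul_right_cancel₀ z.ne_zero ?_
      rw [Units.val_pow_eq_pow_val, ← pow_succ, Nat.sub_add_cancel (Nat.one_le_pow _ _ hp.pos), hall, Units.val_one, one_mul]
    have hp2 := Nat.one_lt_pow two_ne_zero hp.one_lt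
    have hle : p ^ (f : ℕ) ≤ p ^ 2 := by have := Nat.le_of_dvd (by omega) hdvd; omega
    rw [Nat.pow_le_pow_iff_right hp.one_lt] at hle
    rcases (by have := f.pos; omega : (f : ℕ) = 1 ∨ (f : ℕ) = 2) with a | a <;> rw [a] at hf
    · exact Or.inl (hf.trans (pow_one p))
    · exact Or.inr ⟨hf, by have := hp.one_lt; omega⟩
  obtain ⟨F₀, _, _, a1, ⟨a2⟩, ⟨a3⟩⟩ := exists_type0 R
  have e1 := e.trans ((cjEquiv t (M.map (ι F))).trans (MulEquiv.subgroupCongr h5))
  rcases h1.eq_two_or_odd' with rfl | hr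
  · rw [inf_eq_left.2 (Sub_le_L h2 h3 even_two)] at e1
    exact Or.inr (Or.inr (Or.inr (Or.inl ⟨F₀, _, _, a1 ▸ h3, ⟨e1.trans ((equiv_Sub R).some.trans a2)⟩⟩)))
  · rw [Sub_inf_L h2 h3 hr] at e1
    exact Or.inr (Or.inr (Or.inr (Or.inr (Or.inl ⟨F₀, _, _, r, h1, hr, a1 ▸ h3,
      ⟨e1.trans ((equiv_SubL R).some.trans a3)⟩⟩))))

end Cfsg.Agent.S5892
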