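import Cfsg.Statements.S3740
import Cfsg.Agent.H10.Klein
import Cfsg.Agent.H10.SL2Sylow
import Cfsg.Agent.H10.PSL2Sub
import Cfsg.Agent.H1.Basic

set_option autoImplicit false
open Cfsg

namespace Cfsg.Agent.S3740

open Subgroup Matrix H10
open scoped MatrixGroups

theorem sl3 : ∃ i j w u : SL(2, ZMod 3), u * w * u⁻¹ * w⁻¹ = i ∧ w * i * w⁻¹ = j ∧ w * j * w⁻¹ = -(i * j) ∧
    w * (i * j) * w⁻¹ = -i ∧ i * i = -1 ∧ j * j = -1 ∧ j * i = -(i * j) ∧ (i ≠ 1 ∧ i ≠ -1) ∧ (j ≠ 1 ∧ j ≠ -1) ∧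
    (i⁻¹ * j ≠ 1 ∧ i⁻¹ * j ≠ -1) ∧ i * j ≠ j * i :=
  ⟨slMk 0 2 1 0 (by decide), slMk 1 2 2 2 (by decide), slMk 1 0 1 1 (by decide), slMk 1 1 0 1 (by decide), by
    refine ⟨?_, ?_, ?_, ?_, ?_, ?_, ?_, ⟨?_, ?_⟩, ⟨?_, ?_⟩, ⟨?_, ?_⟩, ?_⟩ <;> decide +kernel⟩

theorem kp_comm {F : Type*} [Field F] [Fintype F] (h2 : (2 : F) ≠ 0) {x y g : PGL(2, F)} (h : KPair x y)
    (hx : x ∈ PSL2 F) (hy : y ∈ PSL2 F) (a : g * x = x * g) (b : g * y = y * g) :
    g = 1 ∨ g = x ∨ g = y ∨ g = x * y := by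
  obtain ⟨c, d, hcd⟩ := exists_sq_add_sq_neg_one (F := F)
  obtain ⟨t, rfl, rfl⟩ := h.exists_conj_std h2 hcd hx hy
  have := mem_of_commute_inv h2 hcd (g := t⁻¹ * g * t)
    (by have := congrArg (fun z => t⁻¹ * z * t) a; simpa [mul_assoc] using this)
    (by have := congrArg (fun z => t⁻¹ * z * t) b; simpa [mul_assoc] using this)
  have e : g = t * (t⁻¹ * g * t) * t⁻¹ := by group
  rcases (kPair_inv h2 hcd).mem_closure_iff.1 this with h1 | h1 | h1 | h1 <;> rw [e, h1] <;> simp [mul_assoc]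

/-- Let F be a finite field of odd characteristic p and let a be a p-element of SL₂(F) normalizing a subgroup R of order prime to p with [R, a] ≠ 1. Then p = 3, R is a quaternion group of order 8, and R⟨a⟩ is isomorphic to SL₂(3). -/
theorem result (F : Type) [Field F] [Fintype F] {p : ℕ} [Fact p.Prime] [CharP F p] (hp : p ≠ 2) (a : Matrix.SpecialLinearGroup (Fin 2) F) (ha : IsPGroup p ↥(Subgroup.zpowers a)) (R : Subgroup (Matrix.SpecialLinearGroup (Fin 2) F)) (hR : (Nat.card R).Coprime p) (haR : a ∈ Subgroup.normalizer (R : Set (Matrix.SpecialLinearGroup (Fin 2) F))) (hnt : ⁅R, Subgroup.zpowers a⁆ ≠ ⊥) : p = 3 ∧ Nonempty (↥R ≃* QuaternionGroup 2) ∧ Nonempty (↥(R ⊔ Subgroup.zpowers a) ≃* Matrix.SpecialLinearGroup (Fin 2) (ZMod 3)) := by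
  have hpp : p.Prime := Fact.out
  have h2 : (2 : F) ≠ 0 := fun h => hp ((Nat.prime_dvd_prime_iff_eq hpp Nat.prime_two).1
    ((CharP.cast_eq_zero_iff F p 2).1 (by exact_mod_cast h)))
  have hpR : ¬ p ∣ Nat.card R := (Nat.Prime.coprime_iff_not_dvd hpp).1 hR.symm
  have haN : zpowers a ≤ normalizer (R : Set SL(2, F)) := zpowers_le.2 haR
  set H := R ⊔ zpowers a with hH
  have hHN : H ≤ normalizer (R : Set SL(2, F)) := sup_le le_normalizer haN
  have hconj : ∀ h ∈ H, ∀ r ∈ R, h * r * h⁻¹ ∈ R := fun h hh r hr => (mem_normalizer_iff.1 (hHN hh) r).1 hr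
  have hdec : ∀ h ∈ H, ∃ r ∈ R, ∃ k : ℤ, h = r * a ^ k := by
    intro h hh
    rw [← SetLike.mem_coe, hH, coe_mul_of_right_le_normalizer_left R _ haN] at hh
    obtain ⟨r, hr, _, ⟨k, rfl⟩, rfl⟩ := hh
    exact ⟨r, hr, k, rfl⟩
  have hak : ∀ k : ℤ, a ^ k ∈ H := fun k => zpow_mem ((le_sup_right : zpowers a ≤ H) (mem_zpowers a)) k
  have hcomm : ∀ x ∈ H, ∀ y ∈ H, x * y * x⁻¹ * y⁻¹ ∈ R := by
    intro x hx y hy
    obtain ⟨r, hr, i, rfl⟩ := hdec x hx
    obtain ⟨s, hs, j, rfl⟩ := hdec y hy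
    have : r * a ^ i * (s * a ^ j) * (r * a ^ i)⁻¹ * (s * a ^ j)⁻¹ =
        r * (a ^ i * s * (a ^ i)⁻¹) * (a ^ j * r⁻¹ * (a ^ j)⁻¹) * s⁻¹ := by group
    rw [this]
    exact mul_mem (mul_mem (mul_mem hr (hconj _ (hak i) _ hs)) (hconj _ (hak j) _ (inv_mem hr))) (inv_mem hs)
  obtain ⟨n, hn⟩ := ha ⟨a, mem_zpowers a⟩
  have hn : a ^ p ^ n = 1 := congrArg Subtype.val hn
  have hone : ∀ r ∈ R, ∀ k, r ^ p ^ k = 1 → r = 1 := fun r hr k hk =>
    eq_one_of_pow_prime_pow_of_coprime hk (n := Nat.card R)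
      (congrArg Subtype.val (pow_card_eq_one' (x := (⟨r, hr⟩ : R)))) hR.symm
  have hsyl : 1 < Nat.card (Sylow p H) := by
    by_contra hc
    have : Subsingleton (Sylow p H) := Finite.card_le_one_iff_subsingleton.1 (not_lt.1 hc)
    obtain ⟨P, hP⟩ := (IsPGroup.exists_le_sylow (p := p) (P := zpowers (⟨a, by simpa using hak 1⟩ : H))
      (IsPGroup.of_card (n := (IsPGroup.iff_card.1 ha).choose) (by
        rw [Nat.card_zpowers, orderOf_mk, ← Nat.card_zpowers]; exact (IsPGroup.iff_card.1 ha).choose_spec)))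
    have hPn := P.normal_of_subsingleton
    refine hnt (eq_bot_iff.2 (commutator_le.2 fun r hr b hb => ?_))
    have hbH : b ∈ H := (le_sup_right : zpowers a ≤ H) hb
    have hrH : r ∈ H := (le_sup_left : R ≤ H) hr
    have hbP : (⟨b, hbH⟩ : H) ∈ (P : Subgroup H) := by
      obtain ⟨k, rfl⟩ := hb
      exact zpow_mem (hP (mem_zpowers _)) k
    obtain ⟨k, hk⟩ := P.isPGroup' ⟨_, mul_mem (hPn.conj_mem _ hbP ⟨r, hrH⟩) (inv_mem hbP)⟩
    exact hone _ (hcomm r hrH b hbH) k (congrArg (fun z : (P : Subgroup H) => ((z : H) : SL(2, F))) hk)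
  obtain ⟨f, hf, hfH⟩ := exists_SL2_prime_le p hp H hsyl
  have hfm : ∀ s, f s ∈ H := fun s => hfH ⟨s, rfl⟩
  have hcN : _root_.commutator SL(2, ZMod p) ≤ R.comap f := commutator_le.2 fun x _ y _ => by
    simpa [commutatorElement_def] using hcomm _ (hfm x) _ (hfm y)
  have hp3 : p = 3 := by
    by_contra h3
    have e2 : (2 : ZMod p) ≠ 0 := fun h => hp ((Nat.prime_dvd_prime_iff_eq hpp Nat.prime_two).1
      ((CharP.cast_eq_zero_iff (ZMod p) p 2).1 (by exact_mod_cast h)))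
    have e3 : (2 : ZMod p) ^ 2 ≠ 1 := fun h => h3 ((Nat.prime_dvd_prime_iff_eq hpp Nat.prime_three).1
      ((CharP.cast_eq_zero_iff (ZMod p) p 3).1 (by push_cast; linear_combination h)))
    have h1 := hcN (transvection_mem_commutator₀ e2 e3 1)
    have e : SpecialLinearGroup.transvection (zero_ne_one' (Fin 2)) (1 : ZMod p) = slMk 1 1 0 1 (by simp) := by
      ext i j; fin_cases i <;> fin_cases j <;> simp [SpecialLinearGroup.transvection, Matrix.transvection]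
    rw [e] at h1
    have h3 := hone _ h1 1 (by rw [pow_one, ← map_pow, slMk_upper_pow]; simp [slMk_one])
    rw [map_eq_one_iff f hf, ← slMk_one, slMk_inj] at h3
    exact one_ne_zero h3.2.1
  subst hp3
  have ha3 : a ^ 3 = 1 := by
    have h1 : (SpecialLinearGroup.toPGL a) ^ 3 ^ n = 1 := by rw [← map_pow, hn, map_one]
    obtain ⟨k, -, hk⟩ := (Nat.dvd_prime_pow hpp).1 (orderOf_dvd_of_pow_eq_one h1)
    have hq := char_dvd_card (F := F) (p := 3)
    rw [Nat.card_eq_fintype_card] at hq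
    have hq0 : 0 < Fintype.card F := Fintype.card_pos
    have h3 : orderOf (SpecialLinearGroup.toPGL a) ∣ 3 := by
      rcases Nat.eq_zero_or_pos k with rfl | hk0
      · rw [hk]; exact one_dvd _
      have h4 : 3 ∣ orderOf (SpecialLinearGroup.toPGL a) := hk ▸ dvd_pow_self 3 hk0.ne'
      rcases orderOf_PSL2_dvd 3 (mem_PSL2_iff_exists.2 ⟨a, rfl⟩) with h | h | h
      · exact h
      · have := (h4.trans h).trans (Nat.div_dvd_of_dvd (by
          rcases gcd_two_cases hq0 with ⟨-, e⟩ | ⟨e1, e⟩ <;> rw [e] <;> omega))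
        omega
      · have := (h4.trans h).trans (Nat.div_dvd_of_dvd (Nat.gcd_dvd_right _ _))
        omega
    refine (centralP'_SL (F := F) (p := 3)).eq_one (i := n) (by rw [← pow_mul, mul_comm, pow_mul, hn, one_pow]) ?_
    rw [map_pow]; exact orderOf_dvd_iff_pow_eq_one.1 h3
  obtain ⟨i, j, w, u, r1, r2, r3, r4, r5, r6, r7, r8, r9, r10, r11⟩ := sl3
  have hiR : f i ∈ R := by rw [← r1]; simpa using hcomm _ (hfm u) _ (hfm w)
  have hjR : f j ∈ R := by rw [← r2]; simpa using hconj _ (hfm w) _ hiR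
  have hm1 : f (-1) = -1 := by
    rcases SL2_eq_of_mul_self h2 (g := f (-1)) (by rw [← map_mul]; simp) with h | h
    · rw [map_eq_one_iff f hf] at h; exact absurd h (by decide)
    · exact h
  let φ := (SpecialLinearGroup.toPGL : SL(2, F) →* PGL(2, F)).comp f
  have hφ : ∀ s, φ s = 1 → s = 1 ∨ s = -1 := fun s h => by
    rcases (toPGL_eq_one_iff _).1 h with h | h
    · exact Or.inl ((map_eq_one_iff f hf).1 h)
    · exact Or.inr (hf (h.trans hm1.symm))
  have hneg : ∀ s, φ (-s) = φ s := fun s => by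
    have : φ (-1) = 1 := (toPGL_eq_one_iff _).2 (Or.inr hm1)
    rw [← neg_one_mul, map_mul, this, one_mul]
  have hk : KPair (φ i) (φ j) :=
    ⟨by rw [← map_mul, r5, hneg, map_one], by rw [← map_mul, r6, hneg, map_one],
      fun h => (hφ _ h).elim r8.1 r8.2, fun h => (hφ _ h).elim r9.1 r9.2,
      fun h => (hφ (i⁻¹ * j) (by rw [map_mul, map_inv, h, inv_mul_cancel])).elim r10.1 r10.2,
      by rw [← map_mul, r7, hneg, map_mul]⟩
  have hx : ∀ s, φ s ∈ PSL2 F := fun s => mem_PSL2_iff_exists.2 ⟨_, rfl⟩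
  set R' := R.map (SpecialLinearGroup.toPGL : SL(2, F) →* PGL(2, F)) with hR'
  have hxR : φ i ∈ R' := ⟨_, hiR, rfl⟩
  have hyR : φ j ∈ R' := ⟨_, hjR, rfl⟩
  have h3R : ¬ 3 ∣ Nat.card R' := fun h => hpR (h.trans (card_map_dvd _ _))
  have c1 : φ w * φ i * (φ w)⁻¹ = φ j := by rw [← r2]; simp
  have c2 : φ w * φ j * (φ w)⁻¹ = φ i * φ j := by rw [← map_mul φ i, ← hneg (i * j), ← r3]; simp
  have c3 : φ w * (φ i * φ j) * (φ w)⁻¹ = φ i := by
    have := congrArg φ r4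
    rw [hneg] at this
    simpa using this
  have hw : ∀ g ∈ R', (φ w)⁻¹ * g * φ w ∈ R' := by
    rintro _ ⟨r, hr, rfl⟩
    exact ⟨_, hconj _ (inv_mem (hfm w)) _ hr, by simp [φ]⟩
  have hsq : ∀ g ∈ R', g * g = 1 := by
    rcases dickson_PGL_coprime 3 R' h3R with h | ⟨A, hA, hi, h⟩ | ⟨⟨e⟩⟩ | ⟨⟨e⟩⟩ | ⟨⟨e⟩⟩
    · exfalso
      have hle : closure ({φ i, φ j} : Set PGL(2, F)) ≤ R' := (closure_le _).2 (by rintro _ (rfl | rfl) <;> assumption)
      have := isCyclic_of_injective _ (inclusion_injective hle)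
      have := hk.isKleinFour
      exact IsKleinFour.not_isCyclic ‹_›
    · intro g hg
      by_contra hg2
      have hcA : ∀ z (hz : z ∈ R'), (⟨z, hz⟩ : R') ∈ A → ∀ g ∈ R', g * g ≠ 1 → g * z = z * g := by
        intro z hz hzA g hg hg2
        have hgA : (⟨g, hg⟩ : R') ∈ A := by
          by_contra hc; exact hg2 (congrArg Subtype.val (h _ hc))
        have := (IsCyclic.isMulCommutative (α := A)).is_comm.comm ⟨_, hgA⟩ ⟨_, hzA⟩
        exact congrArg (fun z : A => ((z : R') : PGL(2, F))) this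
      have hstep : ∀ z, (∀ g ∈ R', g * g ≠ 1 → g * z = z * g) →
          ∀ g ∈ R', g * g ≠ 1 → g * (φ w * z * (φ w)⁻¹) = φ w * z * (φ w)⁻¹ * g := by
        intro z hz g hg hg2
        have := hz _ (hw g hg) fun e => hg2 (by
          have := congrArg (fun t => φ w * t * (φ w)⁻¹) e; simpa [mul_assoc] using this)
        have := congrArg (fun t => φ w * t * (φ w)⁻¹) this
        simpa [mul_assoc] using this
      have hxx : ∀ g ∈ R', g * g ≠ 1 → g * φ i = φ i * g := by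
        by_cases hiA : (⟨_, hxR⟩ : R') ∈ A
        · exact hcA _ hxR hiA
        by_cases hjA : (⟨_, hyR⟩ : R') ∈ A
        · have := hstep _ (hstep _ (hcA _ hyR hjA)); rwa [c2, c3] at this
        · have := hstep _ (hcA _ (mul_mem hxR hyR) ((mul_mem_iff_of_index_two hi
            (a := ⟨_, hxR⟩) (b := ⟨_, hyR⟩)).2 (by simp [hiA, hjA])))
          rwa [c3] at this
      have hyy := hstep _ hxx
      rw [c1] at hyy
      rcases kp_comm h2 hk (hx i) (hx j) (hxx g hg hg2) (hyy g hg hg2) with rfl | rfl | rfl | rfl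
      · exact hg2 (one_mul 1)
      · exact hg2 hk.xx
      · exact hg2 hk.yy
      · exact hg2 (by rw [mul_assoc, hk.yxg, hk.xxy, hk.yy])
    · exact absurd (by rw [Nat.card_congr e.toEquiv, card_alt_four]; decide) h3R
    · exact absurd (by rw [Nat.card_congr e.toEquiv, card_perm_four]; decide) h3R
    · exact absurd (by rw [Nat.card_congr e.toEquiv, card_alt_five]; decide) h3R
  have hab : ∀ g ∈ R', ∀ z ∈ R', g * z = z * g := fun g hg z hz => by
    have e1 := hsq _ (mul_mem hg hz)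
    rw [mul_eq_one_iff_eq_inv.1 e1, _root_.mul_inv_rev,
      ← mul_eq_one_iff_eq_inv.1 (hsq g hg), ← mul_eq_one_iff_eq_inv.1 (hsq z hz)]
  have hRK : R ≤ f.range := by
    intro r hr
    have hr' : SpecialLinearGroup.toPGL r ∈ R' := ⟨r, hr, rfl⟩
    obtain ⟨s, hs⟩ : ∃ s, SpecialLinearGroup.toPGL r = φ s := by
      rcases kp_comm h2 hk (hx i) (hx j) (hab _ hr' _ hxR) (hab _ hr' _ hyR) with h | h | h | h
      exacts [⟨1, by rw [h, map_one]⟩, ⟨i, h⟩, ⟨j, h⟩, ⟨i * j, by rw [h, map_mul]⟩]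
    rcases (toPGL_eq_iff r (f s)).1 hs with h | h
    · exact ⟨s, h.symm⟩
    · exact ⟨-1 * s, by rw [h, map_mul, hm1, neg_one_mul]⟩
  have hK : Nat.card f.range = 24 := by
    rw [← Nat.card_congr (MonoidHom.ofInjective hf).toEquiv, card_SL2]; simp
  have d1 : Nat.card R ∣ 8 * 3 := (card_dvd_of_le hRK).trans hK.dvd
  have d2 := Nat.le_of_dvd (by decide) (hR.dvd_of_dvd_mul_right d1)
  have d3 : Nat.card H ≤ Nat.card R * 3 := (Nat.le_of_dvd (Nat.mul_pos Nat.card_pos Nat.card_pos)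
    (H1.card_sup_dvd haN)).trans (Nat.mul_le_mul_left _ (by
      rw [Nat.card_zpowers]; exact Nat.le_of_dvd (by decide) (orderOf_dvd_of_pow_eq_one ha3)))
  have d4 := card_le_of_le hfH
  have hR8 : Nat.card R = 2 ^ 3 := by omega
  have hHK : f.range = H := eq_of_le_of_card_ge hfH (by omega)
  refine ⟨rfl, ?_, ⟨(MulEquiv.subgroupCongr hHK.symm).trans (MonoidHom.ofInjective hf).symm⟩⟩
  rcases isCyclic_or_quaternion_of_le_SL2 h2 R (IsPGroup.of_card hR8) with h | ⟨k, -, ⟨e⟩⟩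
  · have := (IsCyclic.isMulCommutative (α := R)).is_comm.comm ⟨_, hiR⟩ ⟨_, hjR⟩
    exact absurd (hf (by simpa using congrArg Subtype.val this)) r11
  · have := Nat.card_congr e.toEquiv
    rw [hR8, Nat.card_eq_fintype_card, QuaternionGroup.card] at this
    have h : 2 ^ k = 2 := by omega
    rw [h] at e
    exact ⟨e⟩

end Cfsg.Agent.S3740
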