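import Cfsg.Statements.S3035
import Cfsg.Agent.H2.BSWCor
import Cfsg.Agent.H2.AutAlt
import Cfsg.Agent.H10.Small

set_option autoImplicit false
open Cfsg

open H5 H18 H2 Subgroup

namespace Cfsg.Agent.S3035

theorem equiv_perm {G : Type*} [Group G] [Finite G] {M : Subgroup G} (hM : M.index = 2) {n : ℕ}
    (e : M ≃* alternatingGroup (Fin n)) (hn : 4 ≤ n) (h6 : n ≠ 6) (hC : C(M) ≤ M) : Nonempty (G ≃* Equiv.Perm (Fin n)) := by
  have := normal_of_index_eq_two hM
  have : Nontrivial (Fin n) := Fin.nontrivial_iff_two_le.2 (by omega)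
  let φ := MulEquiv.ofBijective _ (conjNormal_alt_bijective (α := Fin n) (by simpa using hn) (by simpa using h6))
  refine H10.equiv_perm_of_injective (((MulAut.congr e).trans φ.symm).toMonoidHom.comp (MulAut.conjNormal (H := M)))
    ((injective_iff_map_eq_one _).2 fun g hg => ?_) ?_
  · replace hg : MulAut.conjNormal (H := M) g = 1 :=
      (map_eq_one_iff _ ((MulAut.congr e).trans φ.symm).injective).1 hg
    have h1 : g ∈ C(M) := mem_C.2 fun m hm =>
      (mul_inv_eq_iff_eq_mul.1 (show g * m * g⁻¹ = m by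
        simpa using congrArg Subtype.val (DFunLike.congr_fun hg ⟨m, hm⟩))).symm
    have h2 : e ⟨g, hC h1⟩ ∈ center (alternatingGroup (Fin n)) := mem_center_iff.2 fun a => by
      obtain ⟨b, rfl⟩ := e.surjective a
      rw [← map_mul, ← map_mul]; exact congrArg e (Subtype.ext (mem_C.1 h1 b b.2))
    rw [alternatingGroup.center_eq_bot (by simpa using hn), mem_bot, EmbeddingLike.map_eq_one_iff] at h2
    exact congrArg Subtype.val h2
  · rw [← M.index_mul_card, hM, Nat.card_congr e.toEquiv, two_mul_nat_card_alternatingGroup, Nat.card_perm,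
      Nat.card_fin]

theorem sl3 : Nonempty (Matrix.ProjectiveSpecialLinearGroup (Fin 3) (ZMod 2) ≃*
    Matrix.SpecialLinearGroup (Fin 3) (ZMod 2)) := by
  have : center (Matrix.SpecialLinearGroup (Fin 3) (ZMod 2)) = ⊥ := eq_bot_iff.2 fun A hA => by
    obtain ⟨r, h1, h2⟩ := Matrix.SpecialLinearGroup.mem_center_iff.1 hA
    have : r = 1 := by clear h2; rw [Fintype.card_fin] at h1; revert r; decide
    exact Subtype.ext (by rw [← h2, this, map_one]; rfl)
  exact ⟨(QuotientGroup.quotientMulEquivOfEq this).trans QuotientGroup.quotientBot⟩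

theorem card_inf {G : Type*} [Group G] [Finite G] {S M : Subgroup G} (hS : Hall {2} S ⊤) (hM : M.index = 2) :
    Nat.card (S ⊓ M :) * 2 = Nat.card S := by
  have := normal_of_index_eq_two hM
  rw [← H18.card_mul_relIndex (inf_le_left : S ⊓ M ≤ S), inf_relIndex_left, ← relIndex_sup_right,
    hS.sup_of_idx le_top (by rw [relIndex_top_right, hM]; exact piNat_self Nat.prime_two), relIndex_top_right, hM]

/-- Let G be a finite group with an involution z whose centralizer is dihedral of order 8. Then G = C_G(z) O(G) with O(G) the largest normal subgroup of odd order, or G is isomorphic to the symmetric group of degree 4, the symmetric group of degree 5, the group SL₃(2), or the alternating group of degree 6. -/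
theorem result {G : Type*} [Group G] [Finite G] (z : G) (hz : orderOf z = 2)
    (hC : Nonempty (↥(Subgroup.centralizer ({z} : Set G)) ≃* DihedralGroup 4)) :
    Subgroup.centralizer ({z} : Set G) ⊔ Cfsg.oddCore G = ⊤ ∨ Nonempty (G ≃* Equiv.Perm (Fin 4)) ∨ Nonempty (G ≃* Equiv.Perm (Fin 5)) ∨
      Nonempty (G ≃* Matrix.SpecialLinearGroup (Fin 3) (ZMod 2)) ∨ Nonempty (G ≃* ↥(alternatingGroup (Fin 6))) := by
  obtain ⟨x, y, hx, h⟩ := exists_dihC_eight hz hC.some
  have hS := h.hall fun e => by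
    have := orderOf_dvd_of_pow_eq_one (x := x) (n := 2) (by rw [sq, e]); rw [hx] at this; omega
  have fin : Hall {2}ᶜ O[{2}ᶜ]((⊤ : Subgroup G)) ⊤ → C1(z) ⊔ oddCore G = ⊤ := fun h1 => by
    rw [oddCore, pPrimeCore_eq Nat.prime_two]; exact hS.sup_compl h1
  by_cases hG : ∀ M : Subgroup G, M.index ≠ 2
  · rcases psl_of_eight h hx hG with e | ⟨F, _, _, hF, ⟨e⟩⟩
    · exact .inr (.inr (.inr (.inr e)))
    · exact .inr (.inr (.inr (.inl ⟨e.trans ((S0255.result hF (ZMod.card 2)).some.trans sl3.some)⟩)))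
  push Not at hG
  obtain ⟨M, hM⟩ := hG
  have := normal_of_index_eq_two hM
  have hT := hS.inf_nml (K := M) ⟨le_top, norm_of_normal⟩
  have h4 := card_inf hS hM
  rw [h.card, hx] at h4
  by_cases hc : Cyc (C1(z) ⊓ M)
  · exact .inl (fin (hall_of_index_two hM (hall_of_cyc_two hT hc)))
  have zM : z ∈ M := by
    have h2 : orderOf (x ^ 2) = 2 := by rw [orderOf_pow' x two_ne_zero, hx]; rfl
    rw [← (eq_of_mul_self_of_cyc inferInstance hz h.tx (pow_mem (mem_zpowers x) 2)
      (H9.mul_self_of_orderOf h2)).resolve_left (H9.ne_one_of_orderOf h2)]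
    exact sq_mem_of_index_two hM x
  have he : ∀ c ∈ C1(z) ⊓ M, c * c = 1 := fun c hc' => by
    have h1 := card_dvd (zpowers_le.2 hc')
    rw [card_zpowers', show Nat.card (C1(z) ⊓ M :) = 2 ^ 2 by omega] at h1
    obtain ⟨i, hi, e⟩ := (Nat.dvd_prime_pow Nat.prime_two).1 h1
    interval_cases i
    · simp [orderOf_eq_one_iff.1 e]
    · exact H9.mul_self_of_orderOf e
    · exact (hc (eq_of_le_of_card_ge (zpowers_le.2 hc') (by rw [card_zpowers', e]; omega) ▸ inferInstance)).elim
  have eC : (C1((⟨z, zM⟩ : M))).map M.subtype = C1(z) ⊓ M := by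
    ext g
    refine ⟨?_, fun hg => ⟨⟨g, hg.2⟩, mem_C1.2 (Subtype.ext (mem_C1.1 hg.1)), rfl⟩⟩
    rintro ⟨a, ha, rfl⟩
    exact ⟨mem_C1.2 (congrArg Subtype.val (mem_C1.1 ha)), a.2⟩
  have c4 : Nat.card C1((⟨z, zM⟩ : M)) = 4 := by rw [← card_map_of_injective M.subtype_injective, eC]; omega
  have hz' : orderOf (⟨z, zM⟩ : M) = 2 := by rw [orderOf_mk, hz]
  have hS' : Hall {2} C1((⟨z, zM⟩ : M)) ⊤ := hall_of_card_mul le_top
    (by rw [PiGrp, c4]; exact piNat_pow_self Nat.prime_two 2) hT.idx (by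
      rw [card_top, ← H18.card_mul_relIndex hT.le, c4]; congr 1; omega)
  by_cases hG : ∀ L : Subgroup M, L.index ≠ 2
  · obtain ⟨w, hw⟩ := exists_dihC_four hz' c4 fun c hc => Subtype.ext (he c (eC ▸ mem_map_of_mem _ hc))
    have hCM : C(M) ≤ M := fun g hg => by
      by_contra hgM
      have gz : g ∈ C1(z) := C_le_C1 zM hg
      have ab : ∀ a ∈ C1(z), a ∈ M ∨ a * g⁻¹ ∈ M := fun a _ => by
        rw [mul_mem_iff_of_index_two hM, inv_mem_iff]; tauto
      have hA : Abel (C1(z) ⊓ M) := fun a ha => mem_C.2 fun b hb => by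
        rw [← H9.inv_eq_of_mul_self (he _ (mul_mem hb ha)), mul_inv_rev, H9.inv_eq_of_mul_self (he a ha),
          H9.inv_eq_of_mul_self (he b hb)]
      have h1 : ∀ a ∈ C1(z), a ∈ C(C1(z) ⊓ M) := fun a ha => (ab a ha).elim (fun e => hA ⟨ha, e⟩) fun e => by
        simpa using mul_mem (hA (mem_inf.2 ⟨mul_mem ha (inv_mem gz), e⟩)) (centralizer_le inf_le_right hg)
      have xC := h.le (mem_zpowers x)
      have yC : y ∈ C1(z) := by
        obtain ⟨n, e⟩ := h.tx
        have := H9.conj_zpow_of_inverts h.inv n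
        simp only at e
        rw [e, H9.inv_eq_of_orderOf hz] at this
        exact mem_C1.2 (mul_inv_eq_iff_eq_mul.1 this)
      have gx : g * x = x * g := (ab x xC).elim (fun e => (mem_C.1 hg x e).symm) fun e => by
        have := mem_C.1 hg _ e
        rw [inv_mul_cancel_right] at this
        rw [← mul_left_inj g⁻¹, mul_assoc, ← this, mul_inv_cancel_right]
      have h2 : y * x = x * y := (ab y yC).elim (fun e => mem_C.1 (h1 x xC) y ⟨yC, e⟩) fun e => by
        have := mem_C.1 (h1 x xC) _ (mem_inf.2 ⟨mul_mem yC (inv_mem gz), e⟩)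
        calc _ = y * g⁻¹ * (g * x) := by group
          _ = y * g⁻¹ * x * g := by rw [gx]; group
          _ = _ := by rw [this]; group
      have h3 := h.inv
      rw [h2, mul_inv_cancel_right, eq_inv_iff_mul_eq_one, ← sq] at h3
      have := orderOf_dvd_of_pow_eq_one h3
      rw [hx] at this
      omega
    rcases alt_of_four hw hS' hG with ⟨⟨e⟩⟩ | ⟨⟨e⟩⟩
    · exact .inr (.inl (equiv_perm hM e le_rfl (by norm_num) hCM))
    · exact .inr (.inr (.inl (equiv_perm hM e (by norm_num) (by norm_num) hCM)))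
  push Not at hG
  obtain ⟨L, hL⟩ := hG
  have := normal_of_index_eq_two hL
  have h5 := card_inf hS' hL
  exact .inl (fin (hall_of_index_two hM ((hasNormalPComplement_iff Nat.prime_two).1
    ((hasNormalPComplement_top_iff' Nat.prime_two).2 (hall_of_index_two hL (hall_of_cyc_two
      (hS'.inf_nml ⟨le_top, norm_of_normal⟩) (isCyclic_of_prime_card (p := 2) (by omega))))))))

end Cfsg.Agent.S3035
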