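import Cfsg.Statements.S0223
import Cfsg.Agent.H9.Hv1

set_option autoImplicit false
open Cfsg

namespace Cfsg.Agent.S0223

open H18 H9 Subgroup

/-- Let H be a proper subgroup of even order of the finite group G. Then H is strongly embedded if and only if (i) C_G(t) ≤ H for every involution t of H and (ii) H controls fusion of its involutions: involutions of H conjugate in G are conjugate in H. -/
theorem result {G : Type*} [Group G] [Finite G] (H : Subgroup G) (hH : H ≠ ⊤) (heven : Even (Nat.card H)) : Cfsg.IsStronglyEmbedded H ↔ ((∀ t ∈ H, orderOf t = 2 → Subgroup.centralizer ({t} : Set G) ≤ H) ∧ (∀ t ∈ H, ∀ s ∈ H, orderOf t = 2 → orderOf s = 2 → IsConj t s → ∃ h ∈ H, h * t * h⁻¹ = s)) := by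
  refine ⟨fun h => ?_, fun h => ⟨hH, heven, fun g hg => H5.odd_of_no_inv fun s hs s2 => by_contra fun s1 => hg ?_⟩⟩
  · have a := SA.of_se h
    refine ⟨fun t ht o => St_one (H := H) ▸ a.C1_le (ord2.1 o).1 (ord2.1 o).2 (fix_one.2 ht), fun t ht s hs o _ c => ?_⟩
    obtain ⟨g, rfl⟩ := isConj_iff.1 c
    exact ⟨g, fix_one.1 (a.conj_fix (ord2.1 o).1 (ord2.1 o).2 (fix_one.2 ht) (fix_one.2 hs)), rfl⟩
  · have o := ord2.2 ⟨s2, s1⟩
    obtain ⟨y, hy, e⟩ := h.2 s hs.1 _ (mem_cj.1 hs.2) o (ord2.2 ⟨conj_sq' s2 g, conj_ne' s1 g⟩)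
      (isConj_iff.2 ⟨g⁻¹, by simp⟩)
    have : g * y ∈ H := h.1 s hs.1 o (mem_C1.2 (by
      rw [mul_assoc, mul_inv_eq_iff_eq_mul.1 e]; group))
    simpa using mul_mem this (inv_mem hy)

end Cfsg.Agent.S0223
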