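import Cfsg.Statements.S3781
import Cfsg.Agent.H18.Cyc
import Cfsg.Agent.H23.Comm
import Cfsg.Agent.H3.Petrescu

set_option autoImplicit false
open Cfsg

namespace Cfsg.Agent.S3781

open H18 Subgroup

/-- Let G be a finite p-group and n ≥ 1, and write γ_1(G) = G, γ_{k+1}(G) = [γ_k(G), G], and likewise γ_k(N) for a subgroup N. Let N be a normal subgroup of G contained in γ_n(G). If i > 1 and γ_{i+1}(N) ≠ 1, then |γ_i(N) : γ_{i+1}(N)| ≥ p^n. -/
theorem result {G : Type*} [Group G] [Finite G] {p : ℕ} [Fact p.Prime] (hG : IsPGroup p G) (n : ℕ) (hn : 1 ≤ n) (N : Subgroup G) [N.Normal] (hN : N ≤ (⊤ : Subgroup G).lowerCentralSeries (n - 1)) (i : ℕ) (hi : 1 < i) (hne : N.lowerCentralSeries i ≠ ⊥) : p ^ n ≤ (N.lowerCentralSeries i).relIndex (N.lowerCentralSeries (i - 1)) := by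
  have hp : p.Prime := Fact.out
  have hP : PiGrp {p} (⊤ : Subgroup G) := piGrp_of_isPGroup hp (hG.to_subgroup _)
  obtain ⟨i, rfl⟩ : ∃ j, i = j + 1 := ⟨i - 1, by omega⟩
  obtain ⟨n, rfl⟩ : ∃ j, n = j + 1 := ⟨n - 1, by omega⟩
  simp only [Nat.add_sub_cancel] at *
  let H : ℕ → Subgroup G := fun k => Nat.rec (N.lowerCentralSeries i) (fun _ X => ⁅X, ⊤⁆) k
  have nH : ∀ k, H k ⊴ ⊤ := fun k => by
    induction k with
    | zero => exact ⟨le_top, H3.norm_lcs norm_of_normal i⟩
    | succ k ih => exact ih.comm Nml.rfl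
  have anti : ∀ k, H (k + 1) ≤ H k := fun k => comm_le_left (nH k).2
  have h1 : N.lowerCentralSeries (i + 1) ≤ H (n + 1) := by
    have := H23.commutator_lcs_le H (fun k => (nH k).normal) ⊤ (fun k => le_rfl) n 0
    rw [Nat.zero_add] at this
    exact (comm_mono le_rfl hN).trans this
  have key : ∀ k, H k ≠ ⊥ → H k ≤ H 0 ∧ p ^ k ≤ (H k).relIndex (H 0) := fun k => by
    induction k with
    | zero => intro _; simp
    | succ k ih =>
      intro h
      have h0 : H k ≠ ⊥ := fun e => h (le_bot_iff.1 ((anti k).trans e.le))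
      obtain ⟨a, b⟩ := ih h0
      refine ⟨(anti k).trans a, ?_⟩
      have lt : H (k + 1) < H k := hP.comm_lt (hP.of_le le_top) (nH k).2 h0
      obtain ⟨m, hm⟩ := ((hP.of_le le_top : PiGrp {p} (H k)).relIndex (A := H (k + 1))).eq_pow relIndex_ne_zero
      have : p ≤ (H (k + 1)).relIndex (H k) := by
        have := one_lt_relIndex lt.not_ge
        rw [hm] at this ⊢
        exact Nat.le_self_pow (by rintro rfl; simp at this) p
      rw [← relIndex_tower (anti k) a, pow_succ']
      exact Nat.mul_le_mul this b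
  obtain ⟨-, b⟩ := key (n + 1) fun e => hne (le_bot_iff.1 (h1.trans e.le))
  exact b.trans (Nat.le_of_dvd relIndex_pos (relIndex_dvd_left h1))

end Cfsg.Agent.S3781
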