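import Cfsg.Statements.S0998
import Cfsg.Agent.H10.BT2

set_option autoImplicit false
open Cfsg

namespace Cfsg.Agent.S0998

theorem three_dvd (m : ℕ) : (3 ∣ 2 ^ m + 1 ∧ 3 ∣ 2 ^ (m + 1) - 1) ∨
    (3 ∣ 2 ^ m - 1 ∧ 3 ∣ 2 ^ (m + 1) + 1) := by
  have : 2 ^ m % 3 = 1 ∨ 2 ^ m % 3 = 2 := by
    induction m with
    | zero => simp
    | succ m ih => rw [pow_succ]; omega
  rw [pow_succ]; omega

theorem eq_of_mul {p r q b m x : ℕ} (hq : q.Prime) (hr : r.Prime) (hqr : q ≠ r) (hp : 0 < p)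
    (hm : 2 ≤ m) (hx : ¬ 2 ∣ x) (h : p * r * q ^ b = p * (2 ^ m * x)) : r = x := by
  rw [mul_assoc] at h
  have h1 := Nat.eq_of_mul_eq_mul_left hp h
  have h4 : 2 * 2 ∣ r * q ^ b := h1 ▸ (pow_dvd_pow 2 hm).mul_right x
  obtain rfl : q = 2 := by
    by_contra h2
    have h3 : (2 * 2).Coprime (q ^ b) := Nat.Coprime.pow_right _ (Nat.Coprime.mul_left
      ((Nat.coprime_primes Nat.prime_two hq).2 (Ne.symm h2))
      ((Nat.coprime_primes Nat.prime_two hq).2 (Ne.symm h2)))
    have := h3.dvd_of_dvd_mul_right h4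
    rcases (Nat.dvd_prime hr).1 this with h | h
    · omega
    · exact absurd (h ▸ hr) (by decide)
  have hro : ¬ 2 ∣ r := fun h => hqr ((Nat.prime_dvd_prime_iff_eq Nat.prime_two hr).1 h)
  refine Nat.dvd_antisymm ?_ ?_
  · exact (Nat.Coprime.pow_right m (Nat.prime_two.coprime_iff_not_dvd.2 hro).symm).dvd_of_dvd_mul_left
      (h1 ▸ dvd_mul_right _ _)
  · exact (Nat.Coprime.pow_right b (Nat.prime_two.coprime_iff_not_dvd.2 hx).symm).dvd_of_dvd_mul_right
      (h1 ▸ dvd_mul_left _ _)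

theorem aux {G : Type*} [Group G] [Finite G] [IsSimpleGroup G] (hG : ¬ IsCyclic G) {p q r b : ℕ}
    (hp : p.Prime) (hq : q.Prime) (hr : r.Prime) (hpq : p ≠ q) (hrp : r < p) (hqr : q ≠ r)
    (hG' : Nat.card G = p * r * q ^ b) : Nat.card G = 60 ∨ Nat.card G = 168 := by
  haveI := Fact.mk hp
  have hna := H10.not_comm_of_not_isCyclic hG
  have h3 : ∀ x, x.Prime → 3 ∣ x → x = 3 := fun x hx h =>
    ((Nat.prime_dvd_prime_iff_eq Nat.prime_three hx).1 h).symm
  by_cases h : r < p - 1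
  swap
  · exfalso
    obtain rfl : r = 2 := by
      rcases hr.eq_two_or_odd with h1 | h1
      · exact h1
      · rcases hp.eq_two_or_odd with h2 | h2 <;> have := hr.two_le <;> omega
    haveI : Fact (Nat.Prime 2) := ⟨Nat.prime_two⟩
    obtain ⟨T⟩ : Nonempty (Sylow 2 G) := inferInstance
    refine H10.ne_two_of_perfect (H10.commutator_eq_top_of_simple hna)
      (H10.card_sylow_eq_prime (m := p * q ^ b) (by rw [hG']; ring) ?_ T) rfl
    rw [Nat.prime_two.dvd_mul, not_or]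
    exact ⟨by omega, fun h => hqr ((Nat.prime_dvd_prime_iff_eq Nat.prime_two hq).1
      (Nat.prime_two.dvd_of_dvd_pow h)).symm⟩
  obtain ⟨⟨h4, e | ⟨m', F, _, _, hF, hm', ⟨e⟩, -⟩⟩, m, hm⟩ :=
    H10.bt_main' hna hq hpq (b := b) (g₀ := r) (by rw [hG']; ring) h
  · obtain ⟨e⟩ := e
    have h5 := H10.card_PSL2 (F := ZMod p)
    have hpo := hp.eq_two_or_odd.resolve_left (by omega)
    rw [← Nat.card_congr e.toEquiv, ZMod.card, Nat.gcd_eq_left (by omega)] at h5
    obtain ⟨m, rfl⟩ : ∃ k, m = k + 2 := ⟨m - 2, by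
      rcases m with _ | _ | m <;> omega⟩
    have h6 : 0 < 2 ^ m := by positivity
    have h7 : 2 ^ (m + 2) = 4 * 2 ^ m := by ring
    have h8 : 2 ^ (m + 1) = 2 * 2 ^ m := by ring
    rcases hm with hm | hm
    · have h9 : Nat.card G = p * (2 ^ (m + 2) * (2 ^ (m + 1) + 1)) := by
        rw [show p - 1 = 2 ^ (m + 2) by omega, show p + 1 = 2 * (2 ^ (m + 1) + 1) by omega] at h5
        nlinarith
      have := eq_of_mul hq hr hqr hp.pos (by omega) (by omega) (hG'.symm.trans h9)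
      rcases three_dvd (m + 1) with ⟨h10, -⟩ | ⟨-, h10⟩
      · have := h3 r hr (this ▸ h10)
        rw [h9, hm, h7, h8, show 2 ^ m = 1 by omega]; simp
      · have := h3 p hp (hm ▸ h10); omega
    · have h9 : Nat.card G = p * (2 ^ (m + 2) * (2 ^ (m + 1) - 1)) := by
        rw [show p + 1 = 2 ^ (m + 2) by omega, show p - 1 = 2 * (2 ^ (m + 1) - 1) by omega] at h5
        nlinarith
      have := eq_of_mul hq hr hqr hp.pos (by omega) (by omega) (hG'.symm.trans h9)
      rcases three_dvd (m + 1) with ⟨-, h10⟩ | ⟨h10, -⟩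
      · have := h3 p hp (hm ▸ h10); omega
      · have := h3 r hr (this ▸ h10)
        rw [h9, hm, h7, h8, show 2 ^ m = 2 by omega]; simp
  · have h5 := H10.card_PSL2 (F := F)

    obtain ⟨m', rfl⟩ : ∃ k, m' = k + 2 := ⟨m' - 2, by
      rcases m' with _ | _ | m <;> omega⟩
    have h7 : 2 ^ (m' + 2) = 4 * 2 ^ m' := by ring
    have h6 : 0 < 2 ^ m' := by positivity
    rw [← Nat.card_congr e.toEquiv, hF, Nat.coprime_two_left.2 (Nat.odd_iff.2 (by omega)),
      ← hm'] at h5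
    have h9 : Nat.card G = p * (2 ^ (m' + 2) * (2 ^ (m' + 2) - 1)) := by linarith
    have := eq_of_mul hq hr hqr hp.pos (by omega) (by omega) (hG'.symm.trans h9)
    rcases three_dvd (m' + 2) with ⟨h10, -⟩ | ⟨h10, -⟩
    · have := h3 p hp (hm' ▸ h10); omega
    · have := h3 r hr (this ▸ h10)
      rw [h9, hm', h7, show 2 ^ m' = 1 by omega]; simp

/-- A non-cyclic finite simple group whose order has the form p * r * q^b for distinct primes p, q, r is isomorphic to the projective special linear group of dimension 2 over the field with 5 or with 7 elements. -/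
theorem result {G : Type*} [Group G] [Finite G] [IsSimpleGroup G] (hG : ¬ IsCyclic G) (p q r b : ℕ) (hp : p.Prime) (hq : q.Prime) (hr : r.Prime) (hpq : p ≠ q) (hpr : p ≠ r) (hqr : q ≠ r) (hG' : Nat.card G = p * r * q ^ b) : (∃ (F : Type) (_ : Field F) (_ : Fintype F), Fintype.card F = 5 ∧ Nonempty (G ≃* Matrix.ProjectiveSpecialLinearGroup (Fin 2) F)) ∨ (∃ (F : Type) (_ : Field F) (_ : Fintype F), Fintype.card F = 7 ∧ Nonempty (G ≃* Matrix.ProjectiveSpecialLinearGroup (Fin 2) F)) := by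
  have h0 : Nat.card G = 60 ∨ Nat.card G = 168 := by
    rcases lt_or_gt_of_ne hpr with h | h
    · exact aux hG hr hq hp hqr.symm h hpq.symm (b := b) (by rw [hG']; ring)
    · exact aux hG hp hq hr hpq h hqr hG'
  haveI : Fact (Nat.Prime 5) := ⟨by norm_num⟩
  haveI : Fact (Nat.Prime 7) := ⟨by norm_num⟩
  rcases h0 with h | h
  · exact Or.inl ⟨ZMod 5, inferInstance, inferInstance, ZMod.card 5,
      H10.psl2_of_simple_card (p := 5) (by norm_num) (by norm_num) (by rw [h]; norm_num) (ZMod.card 5)⟩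
  · exact Or.inr ⟨ZMod 7, inferInstance, inferInstance, ZMod.card 7,
      H10.psl2_of_simple_card (p := 7) (by norm_num) (by norm_num) (by rw [h]; norm_num) (ZMod.card 7)⟩

end Cfsg.Agent.S0998
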