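import Cfsg.Statements.S0904
import Cfsg.Agent.H7.Count
import Cfsg.Agent.S0910

set_option autoImplicit false
open Cfsg

namespace Cfsg.Agent.S0904

open H5 H7

theorem aux {G : Type*} [Group G] [Finite G] [IsSimpleGroup G] {p q r a b : ℕ} (hp : p.Prime)
    (hq : q.Prime) [hr : Fact r.Prime] (hpr : p ≠ r) (hqr : q ≠ r)
    (hcard : Nat.card G = p ^ a * q ^ b * r) {x y : G} (hx : orderOf x = r) (hy : orderOf y = p)
    (hc : Commute x y) : False := by
  classical
  have := Fact.mk hp
  obtain ⟨M, hM⟩ := exists_isPModular p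
  obtain ⟨M', hM'⟩ := exists_isPModular r
  obtain ⟨M'', hM''⟩ := exists_isPModular q (hp := ⟨hq⟩)
  haveI : PM p M := ⟨hM⟩
  haveI : PM r M' := ⟨hM'⟩
  have ho : orderOf (x * y) = r * p := by
    rw [hc.orderOf_mul_eq_mul_orderOf_of_coprime
      (by rw [hx, hy]; exact (Nat.coprime_primes hr.out hp).2 hpr.symm), hx, hy]
  have hna : ∃ a b : G, a * b ≠ b * a := by
    by_contra! h
    have h1 := card_prime_of_isSimpleGroup_of_comm h
    have h2 := ho ▸ orderOf_dvd_natCard (x * y)
    have h3 := (Nat.prime_dvd_prime_iff_eq hr.out h1).1 ((dvd_mul_right r p).trans h2)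
    have h4 := (Nat.prime_dvd_prime_iff_eq hp h1).1 ((dvd_mul_left p r).trans h2)
    exact hpr (h4.trans h3.symm)
  have h1 := mu_eq_zero_of_dvd (isSat_of_isPBlock (isPBlock_principalBlock (M := M) (G := G)))
    (not_dvd_orderOf_one (p := p)) (ho ▸ dvd_mul_left p r)
  have := Fact.mk hq
  haveI : PM q M'' := ⟨hM''⟩
  rw [mu_eq, ← Finset.add_sum_erase _ _ (Finset.mem_univ (irrOne G)),
    if_pos irrOne_mem_principalBlock, add_eq_zero_iff_eq_neg] at h1
  refine one_notMem_mC (M := M'') ?_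
  simp only [irrOne_apply, map_one, mul_one] at h1
  rw [h1]
  refine neg_mem (sum_mem fun χ hχ => ?_)
  split_ifs with h2
  swap
  · exact zero_mem _
  by_cases h3 : (χ : G → ℂ) (x * y) = 0
  · simp [h3]
  refine mul_mem_mC_right ?_ (conj_char_mem_O χ.2.isCharacter _)
  rw [← χ.2.coe_charDegree, natCast_mem_mC_iff (p := q)]
  by_contra h4
  have h5 : ¬ r ∣ charDegree (χ : G → ℂ) := fun h => by
    have h6 : (Nat.card G).factorization r = 1 := by
      rw [hcard, Nat.factorization_mul (by simp [hp.ne_zero, hq.ne_zero]) hr.out.ne_zero,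
        Finsupp.add_apply, hr.out.factorization_self, Nat.factorization_eq_zero_of_not_dvd]
      intro h
      rcases hr.out.dvd_mul.1 h with h | h
      · exact hpr ((Nat.prime_dvd_prime_iff_eq hr.out hp).1 (hr.out.dvd_of_dvd_pow h)).symm
      · exact hqr ((Nat.prime_dvd_prime_iff_eq hr.out hq).1 (hr.out.dvd_of_dvd_pow h)).symm
    have h7 := mu_eq_zero_of_dvd (isSat_singleton (M := M') (p := r) (χ := χ) (h6 ▸
      (hr.out.dvd_iff_one_le_factorization (charDegree_ne_zero χ.2)).1 h))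
      (not_dvd_orderOf_one (p := r)) (ho ▸ dvd_mul_right r p)
    rw [mu_singleton, mul_eq_zero, map_eq_zero] at h7
    exact h7.elim χ.2.apply_one_ne_zero h3
  have h6 := χ.2.charDegree_dvd_card
  rw [hcard] at h6
  obtain ⟨k, -, hk⟩ := (Nat.dvd_prime_pow hp).1 (Nat.Coprime.dvd_of_dvd_mul_right
    (Nat.Coprime.pow_right b ((hq.coprime_iff_not_dvd).2 h4).symm)
    (Nat.Coprime.dvd_of_dvd_mul_right ((hr.out.coprime_iff_not_dvd).2 h5).symm h6))
  exact (Finset.mem_erase.1 hχ).1 (Subtype.ext (Cfsg.Agent.S0910.result p M hM hna χ h2 k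
    (by rw [← χ.2.coe_charDegree, hk, Nat.cast_pow])))

/-- Let G be a finite simple group of order p ^ a * q ^ b * r with p, q, r distinct primes. Then every Sylow r-subgroup S of G satisfies C_G(S) = S. -/
theorem result {G : Type*} [Group G] [Finite G] [IsSimpleGroup G] (p q r a b : ℕ) (hp : p.Prime) (hq : q.Prime) [Fact r.Prime] (hpq : p ≠ q) (hpr : p ≠ r) (hqr : q ≠ r) (hcard : Nat.card G = p ^ a * q ^ b * r) (S : Sylow r G) : Subgroup.centralizer (S : Set G) = (S : Subgroup G) := by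
  have hr : r.Prime := Fact.out
  have h6 : (Nat.card G).factorization r = 1 := by
    rw [hcard, Nat.factorization_mul (by simp [hp.ne_zero, hq.ne_zero]) hr.ne_zero,
      Finsupp.add_apply, hr.factorization_self, Nat.factorization_eq_zero_of_not_dvd]
    intro h
    rcases hr.dvd_mul.1 h with h | h
    · exact hpr ((Nat.prime_dvd_prime_iff_eq hr hp).1 (hr.dvd_of_dvd_pow h)).symm
    · exact hqr ((Nat.prime_dvd_prime_iff_eq hr hq).1 (hr.dvd_of_dvd_pow h)).symm
  have h1 : Nat.card (S : Subgroup G) = r := by rw [S.card_eq_multiplicity, h6, pow_one]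
  have := isCyclic_of_prime_card h1
  have h2 : (S : Subgroup G) ≤ Subgroup.centralizer (S : Set G) :=
    (S : Subgroup G).le_centralizer
  obtain ⟨x, hx⟩ := exists_prime_orderOf_dvd_card' (G := (S : Subgroup G)) r (dvd_of_eq h1.symm)
  refine (Subgroup.eq_of_le_of_card_ge h2 (Nat.le_of_dvd Nat.card_pos ?_)).symm
  have key : ∀ s : ℕ, s.Prime → s ∣ Nat.card (Subgroup.centralizer (S : Set G)) → s ≠ p ∧ s ≠ q :=
    fun s hs h => by
    have := Fact.mk hs
    obtain ⟨y, hy⟩ := exists_prime_orderOf_dvd_card' s h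
    have hc : Commute (x : G) y := y.2 _ x.2
    rw [← Subgroup.orderOf_coe] at hx hy
    constructor <;> rintro rfl
    · exact aux hp hq hpr hqr hcard hx hy hc
    · exact aux hq hp hqr hpr (by rw [hcard, mul_comm (p ^ a)]) hx hy hc
  have h3 := (Subgroup.centralizer (S : Set G)).card_subgroup_dvd_card
  rw [hcard] at h3
  rw [h1]
  refine Nat.Coprime.dvd_of_dvd_mul_left (Nat.Coprime.mul_right (Nat.Coprime.pow_right _ ?_)
    (Nat.Coprime.pow_right _ ?_)) h3
  · exact ((hp.coprime_iff_not_dvd).2 fun h => (key p hp h).1 rfl).symm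
  · exact ((hq.coprime_iff_not_dvd).2 fun h => (key q hq h).2 rfl).symm

end Cfsg.Agent.S0904
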