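import Cfsg.Statements.S1001
import Cfsg.Agent.S0904
import Cfsg.Agent.H10.BT2

set_option autoImplicit false
open Cfsg

namespace Cfsg.Agent.S1001

open H5 H10 Subgroup

/-- In a finite simple group whose order has the form p * 3^a * 2^b with p prime, the centralizer of any element of order p is the cyclic group it generates. -/
theorem result {G : Type*} [Group G] [Finite G] [IsSimpleGroup G] (p a b : ℕ) (hp : p.Prime) (hG : Nat.card G = p * 3 ^ a * 2 ^ b) (x : G) (hx : orderOf x = p) : Subgroup.centralizer ({x} : Set G) = Subgroup.zpowers x := by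
  haveI := Fact.mk hp
  by_cases h : p = 3 ∨ p = 2
  · have h1 : Group.IsSolvable G := by
      rcases h with rfl | rfl
      · exact burnside_paqb (a := a + 1) (b := b) hp Nat.prime_two (by rw [hG]; ring)
      · exact burnside_paqb (a := a) (b := b + 1) Nat.prime_three hp (by rw [hG]; ring)
    have h2 : zpowers x = ⊤ := (Normal.eq_bot_or_eq_top ⟨fun n hn g => by
      rwa [IsSimpleGroup.comm_iff_isSolvable.2 h1 g, mul_inv_cancel_right]⟩).resolve_left (by
        rintro h; rw [zpowers_eq_bot.1 h] at hx; exact hp.one_lt.ne (by simpa using hx))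
    exact le_antisymm (h2 ▸ le_top) (zpowers_le_C x)
  push Not at h
  have h1 : Nat.card G = p * (3 ^ a * 2 ^ b) := by rw [hG, mul_assoc]
  obtain ⟨P⟩ : Nonempty (Sylow p G) := inferInstance
  have h2 : ¬ p ∣ 3 ^ a * 2 ^ b := fun hd => by
    rcases hp.dvd_mul.1 hd with hd | hd
    · exact h.1 ((Nat.prime_dvd_prime_iff_eq hp Nat.prime_three).1 (hp.dvd_of_dvd_pow hd))
    · exact h.2 ((Nat.prime_dvd_prime_iff_eq hp Nat.prime_two).1 (hp.dvd_of_dvd_pow hd))
  obtain ⟨Q, hQ⟩ := exists_sylow_eq_zpowers P (card_sylow_eq_prime h1 h2 P) hx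
  rw [centralizer_eq_of_card_prime (card_sylow_eq_prime h1 h2 Q) (hQ ▸ mem_zpowers x) (by
    rintro rfl; exact hp.one_lt.ne (by simpa using hx)), ← hQ]
  exact S0904.result 3 2 p a b Nat.prime_three Nat.prime_two (by decide) h.1.symm h.2.symm
    (by rw [h1, mul_comm]) Q

end Cfsg.Agent.S1001
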