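import Cfsg.Statements.S3807
import Cfsg.Agent.H21.AbIdx
import Cfsg.Agent.H1.Basic

set_option autoImplicit false
open Cfsg

namespace Cfsg.Agent.S3807

open H18 H21 Subgroup

/-- Let S be a non-abelian finite p-group with an abelian subgroup A of index p. Then [S : Z(S)] = p·#[S,S], and either [S,S] has order p, S/Z(S) is elementary abelian of order p², and S has exactly p + 1 abelian subgroups of index p; or [S,S] has order at least p² and A is the only abelian subgroup of index p in S. -/
theorem result {S : Type*} [Group S] [Finite S] (p : ℕ) [Fact p.Prime] (hS : IsPGroup p S) (hna : ¬ IsMulCommutative S)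
    (A : Subgroup S) (hA : IsMulCommutative ↥A) (hAi : A.index = p) :
    (Subgroup.center S).index = p * Nat.card (commutator S) ∧
      ((Nat.card (commutator S) = p ∧ Cfsg.IsElementaryAbelian p (⊤ : Subgroup (S ⧸ Subgroup.center S)) ∧
          Nat.card (S ⧸ Subgroup.center S) = p ^ 2 ∧
          Nat.card {B : Subgroup S // IsMulCommutative ↥B ∧ B.index = p} = p + 1) ∨
        (p ^ 2 ≤ Nat.card (commutator S) ∧ ∀ B : Subgroup S, IsMulCommutative ↥B → B.index = p → B = A)) := by
  have hp : p.Prime := Fact.out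
  have hpi : PiGrp {p} (⊤ : Subgroup S) := piGrp_of_isPGroup hp (hS.to_subgroup ⊤)
  rw [← abel_top_iff] at hna
  have hZ : ∀ B : Subgroup S, Abel B → B.index = p → center S ≤ B := fun B hB hi => by
    rcases eq_or_eq_of_prime_relIndex ((relIndex_top_right B).trans hi ▸ hp) (le_sup_left : B ≤ B ⊔ center S) le_top
      with h | h
    · exact le_sup_right.trans h.le
    · exact absurd (h ▸ hB.sup (center_le_centralizer _) (cent_symm (center_le_centralizer _))) hna
  have hA' := abel_of_comm hA
  have hi : A.relIndex ⊤ = p := (relIndex_top_right A).trans hAi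
  obtain ⟨x, -, hx, e⟩ := H3.exists_sup_zpowers_of_prime (hi ▸ hp) le_top
  have e1 := card_commutator_mul hA' ((hpi.nml_of_relIndex hp le_top hi).norm (mem_top x))
  have e2 : A ⊓ C1(x) = center S := by
    refine le_antisymm ?_ (le_inf (hZ A hA' hAi) (center_le_centralizer _))
    rw [← C_top, ← e, C_sup, C_zpowers]
    exact inf_le_inf_right _ hA'
  rw [e, e2, ← commutator_def] at e1
  have e3 : (center S).index = p * Nat.card (commutator S) := by
    refine Nat.eq_of_mul_eq_mul_left (card_pos' (H := center S)) ?_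
    rw [card_mul_index, ← A.card_mul_index, hAi, ← e1]; ring
  refine ⟨e3, ?_⟩
  obtain ⟨k, hk⟩ := (hpi.of_le (le_top : commutator S ≤ ⊤)).card_eq_pow
  have hk0 : k ≠ 0 := by
    rintro rfl
    exact hna (abel_iff_der.2 (card_eq_one.1 hk))
  by_cases hk1 : k = 1
  · subst hk1
    rw [pow_one] at hk
    have e4 : Nat.card (S ⧸ center S) = p ^ 2 := by rw [← index, e3, hk, sq]
    have e5 : Elem p (⊤ : Subgroup (S ⧸ center S)) := H3.elem_of_card_sq_of_not_cyc hp (card_top.trans e4) fun h => by
      have : IsCyclic (S ⧸ center S) := isCyclic_of_surjective _ topEquiv.surjective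
      exact hna (abel_top_iff.2 ⟨⟨commutative_of_cyclic_center_quotient (QuotientGroup.mk' (center S))
        (QuotientGroup.ker_mk' _).le⟩⟩)
    refine Or.inl ⟨hk, e5.isElem, e4, ?_⟩
    have e6 : ∀ B : Subgroup (S ⧸ center S), Nat.card B = p ↔ B.index = p := fun B => by
      have := B.card_mul_index
      rw [e4, sq] at this
      exact ⟨fun h => Nat.eq_of_mul_eq_mul_left hp.pos (h ▸ this), fun h => Nat.eq_of_mul_eq_mul_right hp.pos (h ▸ this)⟩
    rw [← card_prime_subgroups_sq hp (fun x => e5.pow x trivial) e4]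
    refine (Nat.card_eq_of_bijective (fun B => ⟨B.1.comap (QuotientGroup.mk' _), (abel_of_relIndex_prime
      (center_le_centralizer _) (by
        rwa [relIndex_eq_of_mul (H1.le_comap_mk' _ _) ((H1.card_comap_mk' _ _).trans (mul_comm _ _)), B.2])).comm,
      by rw [index_comap_of_surjective _ (QuotientGroup.mk'_surjective _), (e6 _).1 B.2]⟩)
      ⟨fun B B' h => ?_, fun B => ?_⟩).symm
    · exact Subtype.ext (comap_injective (QuotientGroup.mk'_surjective _) (congrArg Subtype.val h))
    · have h1 := (H1.comap_map_mk' (center S) B.1).trans (sup_eq_left.2 (hZ B.1 (abel_of_comm B.2.1) B.2.2))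
      refine ⟨⟨B.1.map (QuotientGroup.mk' _), (e6 _).2 ?_⟩, Subtype.ext h1⟩
      rw [← index_comap_of_surjective _ (QuotientGroup.mk'_surjective _), h1, B.2.2]
  · refine Or.inr ⟨hk ▸ Nat.pow_le_pow_right hp.pos (by omega), fun B hB hBi => ?_⟩
    by_contra hne
    have hB' := abel_of_comm hB
    have h1 : A ⊔ B = ⊤ := (eq_or_eq_of_prime_relIndex (hi ▸ hp) le_sup_left le_top).resolve_left fun h =>
      hne (eq_of_card_eq (le_sup_right.trans h.le) (Nat.eq_of_mul_eq_mul_right hp.pos (by
        rw [← hBi, card_mul_index, hBi, ← hAi, card_mul_index])))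
    have h2 : A ⊓ B ≤ center S := by
      rw [← C_top, ← h1, C_sup]
      exact inf_le_inf hA' hB'
    have h3 := (Nat.le_of_dvd (Nat.pos_of_ne_zero index_ne_zero_of_finite) (index_dvd_of_le h2)).trans index_inf_le
    rw [e3, hAi, hBi, hk, Nat.mul_le_mul_left_iff hp.pos] at h3
    have := (Nat.pow_le_pow_iff_right hp.one_lt).1 (h3.trans (pow_one p).ge)
    omega

end Cfsg.Agent.S3807
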