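import Cfsg.Statements.S0330
import Cfsg.Agent.H13.SzTori

set_option autoImplicit false
open Cfsg

namespace Cfsg.Agent.S0330

/-- A Sylow 2-subgroup `P` of the Suzuki group (field with `q = 2^(2m+1)` elements, `m ≥ 1`) has order `q²` and
exponent `4`; its centre coincides with its commutator subgroup and has order `q`. -/
theorem result {F : Type*} [Field F] [Fintype F] {m : ℕ} (hm : 1 ≤ m)
    (hF : Fintype.card F = 2 ^ (2 * m + 1)) (P : Sylow 2 (Cfsg.Sz F m)) :
    Nat.card P = (2 ^ (2 * m + 1)) ^ 2 ∧ Monoid.exponent P = 4 ∧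
      Subgroup.center P = commutator P ∧ Nat.card (Subgroup.center P) = 2 ^ (2 * m + 1) := by
  have : H13.Sz.IsSz F m := ⟨hm, hF⟩
  let e : P ≃* H13.Sz.U F m := Sylow.equiv P (H13.Sz.sylowU F m)
  refine ⟨?_, ?_, ?_, ?_⟩
  · rw [Nat.card_congr e.toEquiv, H13.Sz.card_U, hF]
  · rw [Monoid.exponent_eq_of_mulEquiv e, H13.Sz.exponent_U]
  · apply Subgroup.map_injective (f := e.toMonoidHom) e.injective
    rw [map_commutator_eq, MonoidHom.range_eq_top_of_surjective _ e.surjective,
      ← commutator_def, H13.Sz.commutator_U]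
    ext x
    constructor
    · rintro ⟨y, hy, rfl⟩
      exact (Subgroup.centerCongr e ⟨y, hy⟩).2
    · intro hx
      exact ⟨e.symm x, (Subgroup.centerCongr e.symm ⟨x, hx⟩).2, e.apply_symm_apply x⟩
  · rw [Nat.card_congr (Subgroup.centerCongr e).toEquiv, H13.Sz.card_center_U, hF]

end Cfsg.Agent.S0330
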