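import Cfsg.Statements.S2241
import Cfsg.Agent.H13.SzSub2

set_option autoImplicit false
open Cfsg

namespace Cfsg.Agent.S2241

open H13 H13.Sz in
theorem aux {F : Type*} [Field F] [Fintype F] {m : ℕ} [IsSz F m] {x : Cfsg.Sz F m}
    (hx : x ∈ U F m) (h1 : x ≠ 1) (hc : IsConj x x⁻¹) : x * x = 1 := by
  obtain ⟨k, hk⟩ := isConj_iff.mp hc
  have hB := mem_B_of_conj_mem_B hx h1 (hk ▸ U_le_B (inv_mem hx))
  obtain ⟨c, d, s, rfl⟩ := mem_B_iff.mp hB
  obtain ⟨a, b, rfl⟩ := hx
  have h2 : u m c d * (h m s * u m a b * (h m s)⁻¹) = (u m a b)⁻¹ * u m c d := by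
    rw [← hk]
    group
  rw [h_conj_u, u_inv, u_mul_u, u_mul_u, u_inj] at h2
  obtain ⟨h3, h4⟩ := h2
  rw [← sq, u_sq, u_eq_one]
  refine ⟨rfl, ?_⟩
  by_contra h0
  have ha : a ≠ 0 := by
    rintro rfl
    simp at h0
  have hs : th m (s : F) = 1 := mul_right_cancel₀ ha (by grind)
  have hs' : (s : F) = 1 := th_eq_one hs
  rw [hs, hs'] at h4
  have hta : th m a ≠ 0 := th_eq_zero.not.mpr ha
  have h5 : th m (c / a) + c / a + 1 = 0 := by
    rw [map_div₀]
    field_simp
    grind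
  have h6 := congrArg (th m) h5
  rw [map_add, map_add, th_th, map_one, map_zero] at h6
  generalize c / a = z at h5 h6
  have h7 : z * (z + 1) = 0 := by grind
  rcases mul_eq_zero.mp h7 with h8 | h8
  · simp [h8] at h5
  · have : z = 1 := by grind
    rw [this, map_one] at h5
    grind


/-- Real 2-elements of the Suzuki group: with q = 2^(2m+1), m ≥ 1, and the group realised as the stabiliser in SL₄ of the Suzuki–Tits ovoid, a non-identity element of a Sylow 2-subgroup is conjugate to its inverse if and only if it is an involution; in particular no element of order 4 is conjugate to its inverse. -/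
theorem result {F : Type*} [Field F] [Fintype F] {m : ℕ} (hm : 1 ≤ m) (hF : Fintype.card F = 2 ^ (2 * m + 1)) (P : Sylow 2 ↥(Cfsg.Sz F m)) (g : ↥(Cfsg.Sz F m)) (hg : g ∈ (P : Subgroup ↥(Cfsg.Sz F m))) (h1 : g ≠ 1) :
    IsConj g g⁻¹ ↔ orderOf g = 2 := by
  have : H13.Sz.IsSz F m := ⟨hm, hF⟩
  constructor
  · intro h
    obtain ⟨k, hk⟩ := H13.Sz.sylow_eq_cj P
    rw [hk, H13.Sz.mem_cj] at hg
    have h2 : k⁻¹ * g * k ≠ 1 := fun h => h1 (by
      calc g = k * (k⁻¹ * g * k) * k⁻¹ := by group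
        _ = 1 := by rw [h]; group)
    obtain ⟨c, hc⟩ := isConj_iff.mp h
    have h3 := aux hg h2 (isConj_iff.mpr ⟨k⁻¹ * c * k, by
      calc _ = k⁻¹ * (c * g * c⁻¹) * k := by group
        _ = _ := by rw [hc]; group⟩)
    apply orderOf_eq_prime _ h1
    calc g ^ 2 = k * (k⁻¹ * g * k * (k⁻¹ * g * k)) * k⁻¹ := by rw [sq]; group
      _ = 1 := by rw [h3]; group
  · intro h
    have : g⁻¹ = g := inv_eq_of_mul_eq_one_right (by rw [← sq, ← h, pow_orderOf_eq_one])
    rw [this]

end Cfsg.Agent.S2241
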