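import Cfsg.Statements.S0732
import Cfsg.Agent.H23.Zass5
import Mathlib.NumberTheory.Fermat

set_option autoImplicit false
open Cfsg

namespace Cfsg.Agent.S0732

open H18 H19 H23 Subgroup

/-- A transitive permutation group on `p + 1` points (`p` prime) of order `(p+1) p d` with `d < p` is isomorphic to `PGL(2,p)` with `d = p - 1`, or to `PSL(2,p)` with `2d = p - 1`, or else `p + 1 = 2^q` for a prime `q`, `d = 1` or `d = q`, and the group is permutation-isomorphic to a group of semi-affine maps `x ↦ a φ(x) + b` of the field with `2^q` elements. -/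
theorem result {α : Type*} [Fintype α] [DecidableEq α] {p d : ℕ} (hp : p.Prime) (hα : Fintype.card α = p + 1) (G : Subgroup (Equiv.Perm α)) [MulAction.IsPretransitive G α] (hG : Nat.card G = (p + 1) * p * d) (hd : d < p) : (d = p - 1 ∧ Nonempty (G ≃* Matrix.ProjGenLinGroup (Fin 2) (ZMod p))) ∨ (2 * d = p - 1 ∧ Nonempty (G ≃* Matrix.ProjectiveSpecialLinearGroup (Fin 2) (ZMod p))) ∨ (∃ q : ℕ, q.Prime ∧ p + 1 = 2 ^ q ∧ (d = 1 ∨ d = q) ∧ ∃ e : α ≃ GaloisField 2 q, ∀ g : G, (e.symm.trans (((g : Equiv.Perm α)).trans e)) ∈ Cfsg.semiaffineGroup (GaloisField 2 q)) := by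
  have := Fact.mk hp
  have h2 := hp.two_le
  obtain ⟨a, b, hab⟩ := Fintype.exists_pair_of_one_lt_card (α := α) (by omega)
  set L := MulAction.stabilizer G a
  have cL : Nat.card L = p * d := Nat.eq_of_mul_eq_mul_left (Nat.add_one_pos p) (by
    rw [← mul_assoc, ← hG, ← L.card_mul_index, MulAction.index_stabilizer_of_transitive,
      Nat.card_eq_fintype_card (α := α), hα, mul_comm])
  have d0 : 0 < d := Nat.pos_of_mul_pos_left (cL ▸ card_pos' (H := L))
  obtain ⟨u, hu, uo⟩ := cauchy (H := L) hp (cL ▸ dvd_mul_right p d)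
  set P := zpowers u
  have cP : Nat.card P = p := card_zpowers'.trans uo
  have pP : (Nat.card P).Prime := cP ▸ hp
  have PL : P ≤ L := zpowers_le.2 hu
  have hP : Hall {p} P L := hall_of_card_mul PL (piGrp_of_prime hp cP)
    ((piNat_compl_iff hp).2 (Nat.not_dvd_of_pos_of_lt d0 hd)) (cP ▸ cL)
  have nP : L ≤ N(P) := relIndex_eq_one_iff.1 ((H1.relIndex_N_modEq hp hP).eq_of_lt_of_lt (lt_of_le_of_lt
    (Nat.le_of_dvd d0 (relIndex_eq_of_mul PL (cP ▸ cL) ▸ relIndex_dvd_of_le_left L le_N)) hd) hp.one_lt)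
  have fa : ∀ g : G, (∀ x : α, g • x = x) → g = 1 := fun g hg =>
    FaithfulSMul.eq_of_smul_eq_smul (α := α) (by simpa using hg)
  have na : ∀ {g z}, g ∈ L → z ≠ a → g • z ≠ a := fun {g z} hg hz e => hz (smul_left_cancel g (e.trans (Eq.symm hg)))
  obtain ⟨y, hy⟩ : ∃ y : α, u • y ≠ y := by
    by_contra! e
    exact hp.ne_one (by rw [← uo, fa u e, orderOf_one])
  have ya : y ≠ a := by rintro rfl; exact hy hu
  have fy : ∀ g ∈ P, g • y = y → g = 1 := fun g hg e => by_contra fun g1 =>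
    hy (zpowers_le.2 (show g ∈ MulAction.stabilizer G y from e) ((zpowers_eq_of_prime pP hg g1).ge (mem_zpowers u)))
  have ty : ∀ z, z ≠ a → ∃ g ∈ P, g • y = z := fun z hz => by
    obtain ⟨g, e⟩ := ((Nat.bijective_iff_injective_and_card fun g : P => (⟨(g : G) • y, na (PL g.2) ya⟩ :
      {z // z ≠ a})).2 ⟨fun g h e => Subtype.ext (inv_mul_eq_one.1 (fy _ (mul_mem (inv_mem h.2) g.2)
        (by rw [mul_smul, Subtype.mk.inj e, inv_smul_smul]))).symm, by simp [cP, hα]⟩).2 ⟨z, hz⟩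
    exact ⟨g, g.2, Subtype.mk.inj e⟩
  have tr : ∀ z w, z ≠ a → w ≠ a → ∃ g ∈ P, g • z = w := fun z w hz hw => by
    obtain ⟨g, hg, rfl⟩ := ty z hz
    obtain ⟨h, hh, rfl⟩ := ty w hw
    exact ⟨h * g⁻¹, mul_mem hh (inv_mem hg), by rw [mul_smul, inv_smul_smul]⟩
  have fr : ∀ g ∈ P, g ≠ 1 → ∀ z, g • z = z → z = a := fun g hg g1 z e => by_contra fun hz => by
    obtain ⟨h, hh, rfl⟩ := ty z hz
    rw [← mul_smul, comm_of_cent abel_zpowers hg hh, mul_smul] at e
    exact g1 (fy g hg (smul_left_cancel h e))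
  have two : ∀ x y z w : α, x ≠ y → z ≠ w → ∃ g : G, g • x = z ∧ g • y = w := fun x y z w h1 h2 => by
    obtain ⟨g, e1⟩ := MulAction.exists_smul_eq G x a
    obtain ⟨h, e2⟩ := MulAction.exists_smul_eq G z a
    obtain ⟨k, hk, e⟩ := tr (g • y) (h • w) (fun e => h1 (smul_left_cancel g (e1.trans e.symm)))
      fun e => h2 (smul_left_cancel h (e2.trans e.symm))
    refine ⟨h⁻¹ * k * g, ?_, ?_⟩ <;> rw [mul_smul, mul_smul, inv_smul_eq_iff]
    · rw [e1, e2]; exact PL hk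
    · exact e
  by_cases p2 : p = 2
  · subst p2
    obtain ⟨F, _, _, h1, h2⟩ := pgl_of_three (G := G) hα two
    exact Or.inl ⟨by omega, H10.equiv_PGL2_of_card_eq (h1.trans (ZMod.card 2).symm) h2⟩
  have three' : ∀ {g : G} {y z : α}, y ≠ a → z ≠ a → y ≠ z → g • a = a → g • y = y → g • z = z → g = 1 :=
    fun {g y z} h1 h2 h3 e1 e2 e3 => fa g fun x => by
      obtain ⟨h, hh, rfl⟩ := tr y z h1 h2
      have c : g * h * g⁻¹ = h := (inv_mul_eq_one.1 (by_contra fun e => h1 (fr _ (mul_mem (inv_mem hh)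
        (conj_mem nP e1 hh)) e y (by rw [mul_smul, inv_smul_eq_iff]; nth_rw 1 [← e2]; rw [conj_smul_fix, e3])))).symm
      have c' : P ≤ C1(g) := by
        rw [← zpowers_eq_of_prime pP hh (by rintro rfl; simp at h3), zpowers_le]
        exact mem_C1.2 (mul_inv_eq_iff_eq_mul.1 c).symm
      by_cases e : x = a
      · rwa [e]
      obtain ⟨k, hk, rfl⟩ := tr y x h1 e
      rw [← mul_smul, ← mem_C1.1 (c' hk), mul_smul, e2]
  have three : ∀ {g : G} {x y z : α}, x ≠ y → y ≠ z → x ≠ z → g • x = x → g • y = y → g • z = z → g = 1 :=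
    fun {g x y z} h1 h2 h3 e1 e2 e3 => by
      obtain ⟨w, rfl⟩ := MulAction.exists_smul_eq G a x
      exact conj_eq_one_iff.1 (three' (g := w⁻¹ * g * w⁻¹⁻¹) (y := w⁻¹ • y) (z := w⁻¹ • z)
        (fun e => h1 (inv_smul_eq_iff.1 e).symm) (fun e => h3 (inv_smul_eq_iff.1 e).symm)
        (fun e => h2 (smul_left_cancel _ e)) (by rw [inv_inv]; exact conj_fix_iff'.2 e1)
        (by rw [conj_smul_fix, e2]) (by rw [conj_smul_fix, e3]))
  have irr : ∀ {N : Subgroup G} [N.Normal], MulAction.stabilizer N a = ⊥ → ∀ X ≤ N, P ≤ N(X) → X = ⊥ ∨ X = N :=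
    fun {N} hN hr X hX hn => or_iff_not_imp_left.2 fun x0 => le_antisymm hX fun n hn' => by
      obtain ⟨x, hx, x1⟩ := exists_mem_ne_one' x0
      by_cases n1 : n = 1
      · exact n1 ▸ one_mem X
      obtain ⟨g, hg, e⟩ := tr (x • a) (n • a) (fun e => x1 (H16.eq_one_of_stabilizer_bot hr (hX hx) e))
        fun e => n1 (H16.eq_one_of_stabilizer_bot hr hn' e)
      rw [← H16.eq_of_smul_eq_of_stabilizer_bot hr (hN.conj_mem x (hX hx) g) hn' (by
        nth_rw 1 [← show g • a = a from PL hg]; rw [conj_smul_fix, e])]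
      exact conj_mem hn hg hx
  have fin : ∀ (N : Subgroup G) [N.Normal] [MulAction.IsPretransitive N α], MulAction.stabilizer N a = ⊥ → Abel N →
      ∀ q : ℕ, q.Prime → p + 1 = 2 ^ q → ∃ e : α ≃ GaloisField 2 q,
      ∀ g : G, (e.symm.trans (((g : Equiv.Perm α)).trans e)) ∈ Cfsg.semiaffineGroup (GaloisField 2 q) :=
    fun N _ _ hr aN q hq e => by
      have cN : Nat.card N = Nat.card α := Nat.card_eq_of_bijective (fun n : N => (n : G) • a)
        ⟨fun n m e => Subtype.ext (H16.eq_of_smul_eq_of_stabilizer_bot hr n.2 m.2 e), fun y => by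
          obtain ⟨n, hn, e⟩ := H16.exists_mem_smul_eq N a y
          exact ⟨⟨n, hn⟩, e⟩⟩
      rw [Nat.card_eq_fintype_card (α := α), hα] at cN
      exact (exists_semiaff hr aN (by rintro rfl; rw [card_bot] at cN; omega) abel_zpowers (fun g hg => nP hg) (irr hr)
        (GaloisField 2 q) (by rw [GaloisField.card 2 q hq.ne_zero, cN, e])).imp fun _ h => h.1
  by_cases hK : L ⊓ MulAction.stabilizer G b = ⊥
  · have : Nontrivial α := ⟨a, b, hab⟩
    obtain ⟨N, _, _, hr, -, ab, r, r1, -, -, j, -, e⟩ := H16.exists_kernel_sharp (G := G) (α := α)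
      (MulAction.is_two_pretransitive_iff.2 fun {x y z w} => two x y z w) fun g x y h e1 e2 => by
        obtain ⟨w, rfl, rfl⟩ := two a b x y hab h
        exact conj_eq_one_iff.1 ((eq_bot_iff_forall _).1 hK (w⁻¹ * g * w⁻¹⁻¹)
          (by rw [inv_inv]; exact ⟨conj_fix_iff'.2 e1, conj_fix_iff'.2 e2⟩))
    rw [Nat.card_eq_fintype_card, hα] at e
    obtain rfl : 2 = r := (Nat.prime_dvd_prime_iff_eq Nat.prime_two r1).1
      (Nat.prime_two.dvd_of_dvd_pow (e ▸ (hp.odd_of_ne_two p2).add_one.two_dvd))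
    have hj := (Nat.prime_of_pow_sub_one_prime (a := 2) (n := j) (by rintro rfl; omega) (by rwa [← e])).2
    refine Or.inr (Or.inr ⟨j, hj, e, Or.inl ?_, fin N (hr a) (cent_iff.2 ab) j hj e⟩)
    have : L ≤ P := fun g hg => by
      obtain ⟨h, hh, e⟩ := tr b (g • b) hab.symm (na hg hab.symm)
      exact inv_mul_eq_one.1 ((eq_bot_iff_forall _).1 hK (h⁻¹ * g) ⟨L.mul_mem (inv_mem (PL hh)) hg,
        show _ = b by rw [mul_smul, ← e, inv_smul_smul]⟩) ▸ hh
    have := card_le this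
    rw [cL, cP] at this
    nlinarith
  obtain ⟨Q, h : ZS a b L Q (L ⊓ MulAction.stabilizer G b)⟩ := exists_ZS' hab two three hK (by
    simpa using exists_not_mem_of_lt {a, b} (Finset.card_le_two.trans_lt (by omega)))
  obtain rfl := h.eq_Q PL (by rw [cP, Nat.card_eq_fintype_card, hα]) fr
  have cK : Nat.card ↥(L ⊓ MulAction.stabilizer G b) = d := Nat.eq_of_mul_eq_mul_left hp.pos (by rw [← cL, h.cardL, cP])
  have aK : Abel (L ⊓ MulAction.stabilizer G b) := comm_eq_bot_iff.1 (eq_bot_iff.2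
    ((le_inf der_le (cyc_zpowers.der_cent h.nQK)).trans (h.semireg.symm.cent le_rfl h.Q_ne).le))
  by_cases hr : NR G α
  · rcases h.eq_or_eq (h.le_of_abel hr abel_zpowers) with e | e
    · obtain ⟨F, _, _, h1, h2⟩ := h.pgl_of_abel e (Or.inr aK)
      exact Or.inl ⟨by omega, H10.equiv_PGL2_of_card_eq (h1.trans (cP.trans (ZMod.card p).symm)) h2⟩
    · obtain ⟨F, _, _, h1, h2⟩ := h.psl_of_half hr e
      exact Or.inr (Or.inl ⟨by omega, H10.equiv_PSL2_of_card_eq (h1.trans (cP.trans (ZMod.card p).symm)) h2⟩)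
  simp only [NR, not_forall, not_exists, not_not] at hr
  obtain ⟨N, _, _, hr⟩ := hr
  obtain ⟨q, hq, hd⟩ := exists_prime_dvd_card hK
  obtain ⟨aN, cN, e⟩ := h.card_of_reg (hr a) hq hd
  refine Or.inr (Or.inr ⟨q, hq, cP ▸ e, Or.inr (cK ▸ Nat.dvd_antisymm ?_ hd), fin N (hr a) aN q hq (cP ▸ e)⟩)
  obtain ⟨k, ek⟩ := (H1.cyc_of_semireg_abel aK h.nQK h.Q_ne h.semireg).gen
  have hk := ek.le (mem_zpowers k)
  obtain ⟨v, hv, v1⟩ := exists_mem_ne_one' (H := N) (by rintro rfl; rw [card_bot] at cN; omega)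
  obtain ⟨F, _, _, f, ψ, S⟩ := exists_sch aN le_normalizer_of_normal
    (by rw [comm_eq_bot_iff.2 abel_zpowers]; exact bot_le) (irr (hr a)) hv v1
  rw [← ek, card_zpowers', orderOf_dvd_iff_pow_eq_one]
  refine (eq_bot_iff_forall _).1 (h.semireg.symm.cent le_rfl h.Q_ne) _ ⟨pow_mem hk q, sch_pow_cent S
    (eq_bot_iff.2 fun g hg => by_contra fun g1 => v1 (H16.eq_one_of_stabilizer_bot (hr a) hv (fr g hg.1 g1 _ ?_)))
    Nat.prime_two (cN.trans e) (le_normalizer_of_normal (mem_top k)) (h.nQK hk)⟩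
  rw [← mul_smul, ← mem_C.1 hg.2 v hv, mul_smul, show g • a = a from PL hg.1]

end Cfsg.Agent.S0732
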