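import Cfsg.Statements.S4385
import Cfsg.Agent.H26.Sims2

set_option autoImplicit false
open Pointwise
open Cfsg

namespace Cfsg.Agent.S4385

open H26 Subgroup
open scoped Pointwise commutatorElement

/-- Let H be a subgroup of a finite group G whose largest normal 2-subgroup O_2(H) is nontrivial and such that H/O_2(H) is a dihedral group of order at least 4. Let P be a Sylow 2-subgroup of H and S a Sylow 2-subgroup of G containing P. Suppose y ∈ S lies outside P, normalizes P, has y² in the product of P with the centralizer of P in G, and normalizes no non-identity normal subgroup of H contained in P. Then P has order 4, 8 or 16, and H modulo its largest normal subgroup of odd order is isomorphic to the four-group, to the symmetric group of degree 4, or to the direct product of the symmetric group of degree 4 with a group of order 2. -/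
theorem result {G : Type*} [Group G] [Finite G]
    (H : Subgroup G) (hO : Cfsg.pCore 2 ↥H ≠ ⊥) (n : ℕ) (hn : 2 ≤ n) (hdih : Nonempty (↥H ⧸ Cfsg.pCore 2 ↥H ≃* DihedralGroup n))
    (P : Subgroup G) (hPH : P ≤ H) (hP : IsPGroup 2 P) (hPsyl : ¬ 2 ∣ P.relIndex H)
    (S : Sylow 2 G) (hPS : P ≤ (S : Subgroup G)) (y : G) (hyS : y ∈ (S : Subgroup G)) (hyP : y ∉ P)
    (hy2 : y ^ 2 ∈ P ⊔ Subgroup.centralizer (P : Set G)) (hyN : MulAut.conj y • P = P)
    (hyQ : ∀ Q : Subgroup G, Q ≤ P → (Q.subgroupOf H).Normal → MulAut.conj y • Q = Q → Q = ⊥) :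
    (Nat.card P = 4 ∨ Nat.card P = 8 ∨ Nat.card P = 16) ∧
    (Nonempty (↥H ⧸ Cfsg.oddCore ↥H ≃* Multiplicative (ZMod 2) × Multiplicative (ZMod 2)) ∨
     Nonempty (↥H ⧸ Cfsg.oddCore ↥H ≃* Equiv.Perm (Fin 4)) ∨
     Nonempty (↥H ⧸ Cfsg.oddCore ↥H ≃* Equiv.Perm (Fin 4) × Multiplicative (ZMod 2))) := by
  have hS : IsSyl 2 P H := isSyl_of_not_dvd hP hPH hPsyl
  have hT : IsSyl 2 (P.subgroupOf H) ⊤ := by simpa using hS.subgroupOf le_rfl
  set T := P.subgroupOf H
  obtain ⟨s, d, h⟩ := dq_of_hom hT hn ((hdih.some.toMonoidHom.comp (QuotientGroup.mk' _)).comp (Subgroup.subtype ⊤))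
    ((hdih.some.surjective.comp (QuotientGroup.mk'_surjective _)).comp fun x => ⟨⟨x, trivial⟩, rfl⟩) fun x => by
      simp [pCoreOf_top]
  have hy : cj y P = P := hyN
  have key : ∀ N ≤ P, H ≤ 𝐍 N → cj y N = N → N = ⊥ := fun N h1 h2 h3 =>
    hyQ N h1 ((normal_subgroupOf_iff_le_normalizer (h1.trans hPH)).2 h2) h3
  have y2 : ∀ N ≤ P, P ≤ 𝐍 N → cj y (cj y N) = N := fun N h1 h2 => by
    rw [← cj_mul, ← sq]
    exact cj_eq_iff.2 (sup_le h2 (le_normalizer_of_le_centralizer (centralizer_anti h1)) hy2)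
  set Q := Cfsg.pCoreOf 2 H with hQ
  have hQP : Q ≤ P := hS.pCoreOf_le
  have hnQ : H ≤ 𝐍 Q := le_normalizer_pCoreOf 2 H
  have hyD : cj y (Q ⊓ cj y Q) = Q ⊓ cj y Q := by rw [cj_inf, y2 Q hQP (hPH.trans hnQ), inf_comm]
  have hQe : Cfsg.pCoreOf 2 (⊤ : Subgroup H) = Cfsg.pCore 2 H := pCoreOf_top 2 H
  have two : Q.relIndex P = 2 := by
    have := h.two
    rwa [hQe, pCore_eq_subgroupOf, relIndex_subgroupOf hPH] at this
  have cP := card_mul_relIndex_of_le hQP
  have cQ : Nat.card Q = Nat.card (Cfsg.pCore 2 H) := card_map_of_injective H.subtype_injective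
  rw [two] at cP
  have hTP : T.map H.subtype = P := map_subgroupOf_eq_of_le hPH
  by_cases hd : d ∈ 𝐂 (Cfsg.pCore 2 H)
  · have h1 : P ≤ 𝐍 (cj y Q) := by rw [← cj_normalizer, ← hy]; exact cj_mono y (hPH.trans hnQ)
    have h2 : Q ⊓ cj y Q = ⊥ := key _ (inf_le_left.trans hQP) (by
      have h3 := map_mono (f := H.subtype) h.gen
      rw [map_subtype_top, Subgroup.map_sup, hTP] at h3
      refine h3.trans (sup_le (le_normalizer_inf (hPH.trans hnQ) h1) (le_normalizer_of_le_centralizer
        (le_trans (map_le_centralizer_map _ (zpowers_le.2 hd)) (centralizer_anti inf_le_left))))) hyD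
    have two' : (cj y Q).relIndex P = 2 := by rw [← two, ← relIndex_cj y Q P, hy]
    have h4 : Nat.card P = 4 := by
      have h3 := card_mul_relIndex (cj y Q) Q
      have h5 := relIndex_le_of_le_right hQP (H := cj y Q) (by omega)
      have h6 : Nat.card Q ≠ 1 := fun e => hO (pCore_eq_bot_iff.2 (card_eq_one.1 e))
      have : 0 < Nat.card Q := Nat.card_pos
      rw [inf_comm, h2, card_bot] at h3
      omega
    refine ⟨Or.inl h4, Or.inl (h.quot_four hd (by rw [← h4, ← hTP, card_map_of_injective H.subtype_injective])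
      fun t ht => Subtype.ext (mem_bot.1 (h2.le ?_)))⟩
    have k : ∀ R : Subgroup G, R.relIndex P = 2 → (t : G) * t ∈ R := fun R e =>
      mul_self_mem_of_index_two (H := R.subgroupOf P) e ⟨t, ht⟩
    exact ⟨k _ two, k _ two'⟩
  have hnC : ⊤ ≤ 𝐍 (𝐂 (Cfsg.pCore 2 H)) := le_normalizer_centralizer (normalizer_eq_top _).ge
  have zq : oz T ≤ Cfsg.pCoreOf 2 ⊤ := by_contra fun e => by
    have h1 : T ≤ Cfsg.pCore 2 H ⊔ 𝐂 (Cfsg.pCore 2 H) := (le_sup_of_two (two_of_relIndex h.two) (oz_le T) e).trans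
      (sup_le_sup hQe.le ((oz_le_c T).trans (centralizer_anti (hQe ▸ hT.pCoreOf_le))))
    refine hd (pResidualOf_sup_le (isPGroup_pCore 2 H) (le_top.trans hnC) (mem_pResidualOf (le_trans h.gen1
      (sup_le h1 (cj_le_of_mem_normalizer h1 (le_normalizer_sup (normalizer_eq_top _).ge hnC (mem_top d)))) (mem_top d)) h.od))
  have hoz : (oz T).map H.subtype = oz P := by
    rw [map_omegaOne H.subtype_injective, map_inf_centralizer H.subtype_injective, hTP]
  have nc : ¬ ⊤ ≤ 𝐂 (oz T) := fun e => by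
    have h1 := map_le_centralizer_map H.subtype e
    rw [map_subtype_top, hoz] at h1
    exact omegaOne_center_ne_bot hP (fun e => hO (pCore_eq_bot_iff.2 (le_bot_iff.1 (e ▸ hQP))))
      (key _ (oz_le P) (le_normalizer_of_le_centralizer h1) (by rw [cj_oz, hy]))
  let α : P →* P := (P.normalizerMonoidHom ⟨y, cj_eq_iff.1 hy⟩ : MulAut P)
  have hα : ∀ x, (α x : G) = y * x * y⁻¹ := fun x => rfl
  have m1 : ∀ N : Subgroup P, (N.map (inclusion hPH)).map H.subtype = N.map P.subtype := fun N => by rw [map_map]; rfl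
  have m2 : ∀ N : Subgroup P, (N.map ((inclusion hPH).comp α)).map H.subtype = cj y (N.map P.subtype) := fun N => by
    rw [map_map, map_map]; rfl
  obtain ⟨e1, e2, e3, t, ht, ht', htt⟩ := (h.dih zq nc).twist (inclusion hPH) ((inclusion hPH).comp α)
    (inclusion_injective hPH) ((inclusion_injective hPH).comp (MulEquiv.injective _)) (inclusion_range hPH)
    (map_injective H.subtype_injective (by rw [MonoidHom.range_eq_map, m2, map_subtype_top, hy, hTP]))
    (fun N h1 h2 => by
      rw [normal_iff_le_normalizer_map_subtype, m1] at h1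
      rw [normal_iff_le_normalizer_map_subtype, m2] at h2
      have h3 := map_subtype_le N
      have := key _ (sup_le h3 ((cj_mono y h3).trans hy.le)) (le_normalizer_sup h1 h2)
        (by rw [cj_sup, y2 _ h3 (hPH.trans h1), sup_comm])
      exact (map_eq_bot_iff_of_injective _ P.subtype_injective).1 (le_bot_iff.1 (this ▸ le_sup_left)))
    (map_injective H.subtype_injective (by
      rw [m1, m2]
      have : ((Cfsg.pCore 2 H).comap (inclusion hPH) ⊓ (Cfsg.pCore 2 H).comap ((inclusion hPH).comp α)).map P.subtype =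
          Q ⊓ cj y Q := by
        have h1 : cj y⁻¹ Q = cj y Q := by rw [cj_eq_iff_eq_cj, inv_inv, y2 Q hQP (hPH.trans hnQ)]
        rw [← h1, pCore_eq_subgroupOf]
        ext x
        rw [mem_inf, mem_cj, inv_inv]
        simp only [mem_map, mem_inf, mem_comap, mem_subgroupOf]
        exact ⟨fun ⟨a, h, e⟩ => e ▸ h, fun h => ⟨⟨x, hQP h.1⟩, h, rfl⟩⟩
      rw [this, hyD]))
  obtain ⟨q1, q2⟩ := h.quot hd e1 e2 ht ht' htt
  exact ⟨by omega, Or.inr (e3.imp q1 q2)⟩

end Cfsg.Agent.S4385
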