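import Cfsg.Statements.S0492
import Cfsg.Agent.H9.MSD
import Cfsg.Agent.H26.NEnd

set_option autoImplicit false
open Cfsg

namespace Cfsg.Agent.S0492

/-- If a non-abelian finite simple group has order divisible by exactly three primes, these primes are 2, 3 and one of
5, 7, 13 or 17. -/
theorem result {G : Type*} [Group G] [Finite G] [IsSimpleGroup G]
    (hG : ¬ IsMulCommutative G) (h3 : (Nat.card G).primeFactors.card = 3) :
    (Nat.card G).primeFactors = {2, 3, 5} ∨ (Nat.card G).primeFactors = {2, 3, 7} ∨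
      (Nat.card G).primeFactors = {2, 3, 13} ∨ (Nat.card G).primeFactors = {2, 3, 17} := by
  obtain ⟨D, N, _, s, l⟩ := H9.exists_ML (H27.not_solvable_of_simple hG)
  have m := Nat.primeFactors_mono s.card_dvd Nat.card_pos.ne'
  have k : ∀ {n : ℕ} {T : Finset ℕ}, Nat.card (D ⧸ N) = n → n.primeFactors = T → T.card = 3 → (Nat.card G).primeFactors = T :=
    fun a b c => (Finset.eq_of_subset_of_card_le (b ▸ a ▸ m) (by rw [h3, c])).symm
  rcases H9.MSi.three_primes s.ms l ((Finset.card_le_card m).trans h3.le) with ⟨F, _, _, h, ⟨e⟩⟩ | ⟨⟨e⟩⟩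
  · have c := Nat.card_congr e.toEquiv
    rcases h with h | h | h | h
    · exact Or.inl (k (c.trans (H10.card_PSL2_of 60 h (by norm_num))) (by decide +kernel) rfl)
    · exact Or.inr (Or.inl (k (c.trans (H10.card_PSL2_of 168 h (by norm_num))) (by decide +kernel) rfl))
    · exact Or.inr (Or.inl (k (c.trans (H10.card_PSL2_of 504 h (by norm_num))) (by decide +kernel) rfl))
    · exact Or.inr (Or.inr (Or.inr (k (c.trans (H10.card_PSL2_of 2448 h (by norm_num))) (by decide +kernel) rfl)))
  · exact Or.inr (Or.inr (Or.inl (k ((Nat.card_congr e.toEquiv).trans H2.Id.card_L33) (by decide +kernel) rfl)))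

end Cfsg.Agent.S0492
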