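import Cfsg.Statements.S3968
import Cfsg.Agent.H1.Harv4

set_option autoImplicit false
open Cfsg

namespace Cfsg.Agent.S3968

open H18 Subgroup H1 H5

/-- Let `p` be a prime and `G` a finite group with a faithful irreducible complex character of degree `p` (so `G` is an irreducible linear group in `p` variables). If `p ^ 2` divides the order of `G`, then the centre of `G` is nontrivial. -/
theorem result {G : Type*} [Group G] [Finite G] (p : ℕ) (hp : p.Prime) (χ : Cfsg.IrrCharacter G) (hdeg : χ.1 1 = p) (hfaith : ∀ g : G, χ.1 g = χ.1 1 → g = 1) (hdiv : p ^ 2 ∣ Nat.card G) : Subgroup.center G ≠ ⊥ := by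
  classical
  intro hZ
  haveI : Fact p.Prime := ⟨hp⟩
  haveI := Fintype.ofFinite G
  obtain ⟨P⟩ : Nonempty (Sylow p G) := inferInstance
  have hS := hall_sylow_top hp P
  have hk : charKer χ.1 = ⊥ := eq_bot_iff.2 fun g hg => hfaith g (apply_eq_of_mem_charKer hg)
  have van : ∀ z ∈ C((P : Subgroup G)), z ≠ 1 → χ.1 z = 0 := fun z hz z1 =>
    (χ.2.eq_zero_or_mem_charCenter_of_coprime (by
      rw [charDegree_eq_of_apply_one hdeg, hp.coprime_iff_not_dvd]
      exact fun h => P.not_dvd_index (h.trans (index_dvd_of_le (le_C1_iff.2 hz))))).resolve_right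
      (by rwa [χ.2.charCenter_eq_center hk, hZ])
  haveI := Fintype.ofFinite P
  have hθ := χ.2.isCharacter.restrict (P : Subgroup G)
  have h2 : p ^ 2 ∣ Nat.card P := hS.dvd_of_piNat (piNat_pow_self hp 2) (by rwa [card_top])
  by_cases ab : Abel (P : Subgroup G)
  · obtain ⟨n, hn⟩ := (isCharacter_iff_classInner.1 hθ).2 _ isIrrCharacter_one
    rw [classInner, Finset.sum_eq_single 1 (fun x _ x1 => by rw [van x (ab x.2) (by simpa using x1), zero_mul]) (by simp),
      inv_mul_eq_iff_eq_mul₀ card_ne_zero_complex] at hn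
    simp only [OneMemClass.coe_one, hdeg, map_one, mul_one] at hn
    have := Nat.le_of_dvd hp.pos (h2.trans ⟨n, by exact_mod_cast hn⟩)
    nlinarith [hp.two_le]
  obtain ⟨ψ, a, b⟩ : ∃ ψ : IrrCharacter P, classInner (fun x : P => χ.1 x) ψ ≠ 0 ∧ ψ.1 1 ≠ 1 := by
    by_contra! e
    refine ab (abel_iff_der.2 (eq_bot_iff.2 fun g hg => ?_))
    rw [← map_subtype_commutator] at hg
    obtain ⟨g, hg, rfl⟩ := hg
    refine hfaith g ((hθ.isClassFunction.apply_eq_sum_irr g).trans ((Finset.sum_congr rfl fun ψ _ => ?_).trans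
      (hθ.isClassFunction.apply_eq_sum_irr 1).symm))
    exact mul_eq_mul_left_iff.2 (or_iff_not_imp_right.2 fun f =>
      apply_eq_of_mem_charKer (ψ.2.commutator_le_charKer_iff.2 (e ψ f) hg))
  have c := hθ.sub_irr ψ.2 a
  obtain ⟨m, hm⟩ := c.exists_apply_one
  obtain ⟨d, d0, hd⟩ := ψ.2.exists_apply_one
  have d1 : p ≤ d := by
    obtain ⟨k, rfl⟩ := (hS.pi.of_dvd (ψ.2.degree_dvd_card hd)).eq_pow d0.ne'
    exact Nat.le_self_pow (by rintro rfl; exact b (by simpa using hd)) p
  have m0 : m = 0 := by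
    simp only [Pi.sub_apply, OneMemClass.coe_one, hdeg, hd, sub_eq_iff_eq_add] at hm
    have : p = m + d := by exact_mod_cast hm
    omega
  have e := sub_eq_zero.1 (c.eq_zero_of_apply_one (by rw [hm, m0, Nat.cast_zero]))
  obtain ⟨z, hz, z1⟩ := exists_mem_ne_one' (hS.pi.nil.Z_ne_bot (ne_bot_of_not_abel ab))
  have := ψ.2.mem_charCenter.1 (ψ.2.center_le_charCenter (mem_center_iff.2 fun g : P =>
    Subtype.ext (hz.2 g g.2) : (⟨z, hz.1⟩ : P) ∈ _))
  rw [← e] at this
  simp [van z hz.2 z1, hdeg] at this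
  exact hp.ne_zero (by exact_mod_cast this.symm)

end Cfsg.Agent.S3968
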