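import Cfsg.Statements.S4455
import Cfsg.Agent.H8.Cod
import Cfsg.Agent.H7.GA
import Cfsg.Agent.H3.PNilpotent

set_option autoImplicit false
open Cfsg

namespace Cfsg.Agent.S4455

open H5 H6 H8

/-- Fix a prime p and a finite group G. Let s be the sum of χ(1)² over the irreducible characters χ of G whose degree is not divisible by p and whose determinantal order o(χ) is not divisible by p. Then the order of O^p(G), the subgroup generated by the elements of order prime to p, is congruent to s modulo p. -/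
theorem result {G : Type*} [Group G] [Finite G] (p : ℕ) (hp : p.Prime) : (Nat.card (Cfsg.pResidual p G) : ℤ) ≡ (∑ᶠ χ ∈ {χ : Cfsg.IrrCharacter G | ¬ p ∣ Cfsg.charDegree (χ : G → ℂ) ∧ ¬ p ∣ Cfsg.detOrder (χ : G → ℂ)}, (Cfsg.charDegree (χ : G → ℂ) : ℤ) ^ 2) [ZMOD p] := by
  classical
  haveI := Fact.mk hp
  haveI := Fintype.ofFinite G
  rw [finsum_mem_eq_finite_toFinset_sum _ (Set.toFinite _), ← ZMod.intCast_eq_intCast_iff]
  push_cast
  set K := pResidual p G
  obtain ⟨a, ha⟩ := H3.exists_index_pResidual (p := p) (G := G)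
  obtain ⟨P⟩ : Nonempty (Sylow p G) := inferInstance
  letI := irrAct K
  have h1 : ∑ θ : IrrCharacter K, charDegree θ.1 ^ 2 = Nat.card K := by
    have := sum_sq_degrees (G := K)
    simp only [← coe_deg] at this
    exact_mod_cast this
  set T := Finset.univ.filter fun θ : IrrCharacter K => (∀ g, cj θ.1 g = θ.1) ∧ ¬ p ∣ charDegree θ.1
  have h2 := H7.sum_eq_zero_of_pgroup (k := ZMod p) (ZMod.natCast_self p) P.isPGroup'
    (fun θ : IrrCharacter K => if θ ∈ T then 0 else (charDegree θ.1 : ZMod p) ^ 2) (fun u θ => by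
      have e : charDegree (u • θ).1 = charDegree θ.1 := charDegree_congr (cj_apply_one _ _)
      simp only [T, Finset.mem_filter, Finset.mem_univ, true_and, e]
      refine if_congr (and_congr_left' ⟨fun h g => ?_, fun h g => ?_⟩) rfl rfl
      · have e1 : θ.1 = cj (u • θ).1 u := (cj_inv_cj _ _).symm
        rw [e1, h, h]
      · change cj (cj θ.1 _) g = cj θ.1 _
        rw [h, h]) fun θ h => by
      split_ifs with e
      · rfl
      simp only [T, Finset.mem_filter, Finset.mem_univ, true_and, not_and, not_not] at e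
      rw [(ZMod.natCast_eq_zero_iff _ _).2 (e (inertia_eq_top_iff.1 (top_le_iff.1 ?_))), sq, mul_zero]
      rw [← H3.pResidual_sup_sylow P]
      exact sup_le (le_inertia θ.2.isClassFunction) fun u hu => mem_inertia.2 (by
        have := congrArg Subtype.val (h ⟨u⁻¹, inv_mem hu⟩)
        change cj θ.1 (u⁻¹)⁻¹ = θ.1 at this
        rwa [inv_inv] at this)
  rw [Finset.sum_ite, Finset.sum_const_zero, zero_add] at h2
  rw [← h1, Nat.cast_sum, ← Finset.sum_filter_add_sum_filter_not _ (· ∈ T)]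
  push_cast
  rw [h2, add_zero, Finset.filter_mem_eq_inter, Finset.univ_inter]
  have h3 : ∀ χ : IrrCharacter G, ¬ p ∣ charDegree χ.1 → IsIrrCharacter K fun n => χ.1 n := fun χ h => by
    obtain ⟨θ, h4, h5⟩ := exists_irr_under (N := K) χ.2
    obtain ⟨b, h6, h7⟩ := degree_ratio_dvd h4 χ.2 h5
    obtain ⟨c, -, rfl⟩ := (Nat.dvd_prime_pow hp).1 (ha ▸ h6)
    have : c = 0 := by
      by_contra e
      rw [← h4.coe_charDegree, ← Nat.cast_mul] at h7
      exact h (charDegree_of_eq h7 ▸ (dvd_pow_self p e).mul_right _)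
    rw [eq_of_constituent_of_apply_one (χ.2.isCharacter.restrict K) h4 h5 (by simpa [this] using h7)]
    exact h4
  have h4 : ∀ θ ∈ T, ¬ p ∣ detOrder θ.1 := fun θ _ h => by
    rw [detOrder_eq] at h
    obtain ⟨m, hm⟩ := h
    have h5 : detHom θ.1 ^ m = 1 := MonoidHom.ext fun n => by
      have h6 := H3.coprime_orderOf_map_of_mem_pResidual (p := p) (detHom θ.1 ^ m) (g := n)
        (by rw [H3.pResidual_pResidual]; trivial)
      have h7 : orderOf ((detHom θ.1 ^ m) n) ∣ p := orderOf_dvd_of_pow_eq_one (by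
        rw [← MonoidHom.pow_apply, ← pow_mul, mul_comm, ← hm, pow_orderOf_eq_one]; rfl)
      exact orderOf_eq_one_iff.1 (h6.eq_one_of_dvd h7)
    have h6 : orderOf (detHom θ.1) ∣ m := orderOf_dvd_of_pow_eq_one (by exact h5)
    have h7 := orderOf_hom_pos (detHom θ.1)
    rw [hm] at h6 h7
    have h8 := Nat.le_of_dvd (Nat.pos_of_mul_pos_left h7) h6
    nlinarith [hp.two_le, Nat.pos_of_mul_pos_left h7]
  have h5 : ∀ θ ∈ T, K.index.Coprime (detOrder θ.1 * charDegree θ.1) := fun θ hθ => by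
    rw [ha]
    exact ((Nat.Prime.coprime_iff_not_dvd hp).2 (Nat.Prime.not_dvd_mul hp (h4 θ hθ)
      (Finset.mem_filter.1 hθ).2.2)).pow_left _
  symm
  refine Finset.sum_bij (fun χ h => ⟨_, h3 χ ((Set.Finite.mem_toFinset _).1 h).1⟩) (fun χ h => ?_)
    (fun χ h ψ h' e => ?_) (fun θ hθ => ?_) fun χ h => rfl
  · exact Finset.mem_filter.2 ⟨Finset.mem_univ _, fun g => cj_res χ.2.isClassFunction g,
      ((Set.Finite.mem_toFinset _).1 h).1⟩
  · have h := (Set.Finite.mem_toFinset _).1 h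
    have h' := (Set.Finite.mem_toFinset _).1 h'
    refine Subtype.ext (ext_eq_of_det_eq (h3 χ h.1) χ.2.coe_charDegree.symm ψ.2.isCharacter
      χ.2.isCharacter (fun n => (congrFun (congrArg Subtype.val e) n).symm) (fun _ => rfl)
      (k := detOrder χ.1 * detOrder ψ.1) ?_ fun g => ?_)
    · rw [ha]
      exact ((Nat.Prime.coprime_iff_not_dvd hp).2 (Nat.Prime.not_dvd_mul hp h.1
        (Nat.Prime.not_dvd_mul hp h.2 h'.2))).pow_left _
    · have e : ∀ φ : G → ℂ, detChar φ g ^ detOrder φ = 1 := fun φ =>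
        congrFun (pow_orderOf_eq_one (detChar φ)) g
      rw [pow_mul, e, one_pow, mul_comm, pow_mul, e, one_pow]
  · obtain ⟨χ, ⟨h6, h7, h8⟩, -⟩ := exists_canonical_ext θ.2 (Finset.mem_filter.1 hθ).2.1
      (coe_deg θ).symm (h5 θ hθ)
    exact ⟨⟨χ, h6⟩, (Set.Finite.mem_toFinset _).2 ⟨by
      rw [charDegree_congr (χ := χ) (ψ := θ.1) (h7 1)]; exact (Finset.mem_filter.1 hθ).2.2,
      h8 ▸ h4 θ hθ⟩, Subtype.ext (funext h7)⟩

end Cfsg.Agent.S4455
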