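import Cfsg.Statements.S4456
import Cfsg.Agent.S4455

set_option autoImplicit false
open Cfsg

namespace Cfsg.Agent.S4456

open H5 H6 H8

/-- Let p be a prime and G a finite group such that p divides the degree of every irreducible character of G of degree greater than one. Then G has a normal p-complement: a normal subgroup of order prime to p whose index is a power of p. -/
theorem result {G : Type*} [Group G] [Finite G] (p : ℕ) (hp : p.Prime) (hdeg : ∀ χ : Cfsg.IrrCharacter G, Cfsg.charDegree (χ : G → ℂ) ≠ 1 → p ∣ Cfsg.charDegree (χ : G → ℂ)) : ∃ N : Subgroup G, N.Normal ∧ (Nat.card N).Coprime p ∧ ∃ k : ℕ, N.index = p ^ k := by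
  classical
  haveI := Fact.mk hp
  haveI := Fintype.ofFinite G
  obtain ⟨a, ha⟩ := H3.exists_index_pResidual (p := p) (G := G)
  refine ⟨pResidual p G, inferInstance, ((Nat.Prime.coprime_iff_not_dvd hp).2 fun hd => ?_).symm, a, ha⟩
  have h := Cfsg.Agent.S4455.result (G := G) p hp
  haveI : Finite (G →* ℂˣ) := Finite.of_injective
    (fun lam : G →* ℂˣ => (⟨_, isIrrCharacter_hom lam⟩ : IrrCharacter G))
    fun _ _ e => hom_coe_injective (congrArg Subtype.val e)
  let S : Subgroup (G →* ℂˣ) :=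
    { carrier := {x | ¬ p ∣ orderOf x}
      one_mem' := by simpa using hp.ne_one
      mul_mem' := fun {x y} hx hy e =>
        Nat.Prime.not_dvd_mul hp hx hy (e.trans (Commute.all x y).orderOf_mul_dvd_mul_orderOf)
      inv_mem' := fun {x} hx => by simpa using hx }
  have h1 : ¬ p ∣ Nat.card S := fun e => by
    obtain ⟨x, hx⟩ := exists_prime_orderOf_dvd_card' p e
    exact x.2 (by rw [Subgroup.orderOf_coe, hx])
  rw [finsum_mem_eq_finite_toFinset_sum _ (Set.toFinite _), Finset.sum_congr rfl (g := fun _ => 1)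
    fun χ h => by
      rw [not_not.1 (mt (hdeg χ) ((Set.Finite.mem_toFinset _).1 h).1)]; simp] at h
  rw [Finset.sum_const, ← Set.ncard_eq_toFinset_card, ← Nat.card_coe_set_eq, nsmul_one,
    Int.natCast_modEq_iff] at h
  have e1 : ∀ lam : G →* ℂˣ, detOrder (fun g => (lam g : ℂ)) = orderOf lam := fun lam => by
    rw [detOrder, detChar_hom, orderOf_hom_coe]
  refine h1 (Nat.card_eq_of_bijective (fun x : S => (⟨⟨_, isIrrCharacter_hom x.1⟩, by
    rw [charDegree_of_eq (n := 1) (by simp)]; simpa using hp.ne_one, by rw [e1]; exact x.2⟩ :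
    {χ : IrrCharacter G | ¬ p ∣ charDegree χ.1 ∧ ¬ p ∣ detOrder χ.1})) ⟨fun x y e => ?_, fun χ => ?_⟩
    ▸ (h.dvd_iff dvd_rfl).1 hd)
  · exact Subtype.ext (hom_coe_injective (congrArg (fun χ => χ.1.1) e))
  · obtain ⟨lam, hl⟩ := χ.1.2.isCharacter.exists_hom_of_apply_one
      (by rw [← coe_deg, not_not.1 (mt (hdeg χ.1) χ.2.1), Nat.cast_one])
    exact ⟨⟨lam, by change ¬ p ∣ orderOf lam; rw [← e1, ← hl]; exact χ.2.2⟩, Subtype.ext (Subtype.ext hl.symm)⟩

end Cfsg.Agent.S4456
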