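import Cfsg.Statements.S4435
import Cfsg.Agent.H7.Fong

set_option autoImplicit false
open Cfsg

namespace Cfsg.Agent.S4435

open H5 H7

/-- Let N be a normal subgroup of the finite group G, b a block of N (relative to a maximal ideal M of the algebraic integers containing p), and T the stabilizer of b in G (the elements g such that conjugating any member of b by g gives a member of b); N ≤ T. Say that a block of T (or of G) covers b when some member has a constituent in b on restriction to N. Then: (i) every block B′ of T covering b induces a block B of G, B covers b, every ψ ∈ B′ induces to an irreducible character of G, and B consists exactly of the characters induced from members of B′; (ii) distinct blocks of T covering b induce distinct blocks of G; (iii) every block of G covering b is induced by some block of T covering b. -/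
theorem result {G : Type*} [Group G] [Fintype G] (p : ℕ) [Fact p.Prime] (M : Ideal Cfsg.AlgInt) (hM : Cfsg.IsPModular p M) (N : Subgroup G) [hN : N.Normal] [Fintype N] (b : Set (Cfsg.IrrCharacter N)) (hb : Cfsg.IsPBlock M b) (T : Subgroup G) [Fintype T] (hT : ∀ g : G, g ∈ T ↔ ∀ θ ∈ b, ∀ θ' : Cfsg.IrrCharacter N, (∀ n : N, (θ' : N → ℂ) n = (θ : N → ℂ) ⟨g * n * g⁻¹, hN.conj_mem n n.2 g⟩) → θ' ∈ b) (hNT : N ≤ T) : (∀ B' : Set (Cfsg.IrrCharacter T), Cfsg.IsPBlock M B' → (∃ ψ ∈ B', ∃ θ ∈ b, Cfsg.classInner (fun n : N => (ψ : T → ℂ) ⟨(n : G), hNT n.2⟩) (θ : N → ℂ) ≠ 0) → ∃ B : Set (Cfsg.IrrCharacter G), Cfsg.IsInducedBlock M T B' B ∧ (∃ χ ∈ B, ∃ θ ∈ b, Cfsg.classInner (fun n : N => (χ : G → ℂ) n) (θ : N → ℂ) ≠ 0) ∧ (∀ ψ ∈ B', Cfsg.IsIrrCharacter G (Cfsg.indFun T (ψ : T → ℂ))) ∧ ∀ χ : Cfsg.IrrCharacter G, χ ∈ B ↔ ∃ ψ ∈ B', (χ : G → ℂ) = Cfsg.indFun T (ψ : T → ℂ))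 ∧ (∀ B'₁ B'₂ : Set (Cfsg.IrrCharacter T), Cfsg.IsPBlock M B'₁ → Cfsg.IsPBlock M B'₂ → (∃ ψ ∈ B'₁, ∃ θ ∈ b, Cfsg.classInner (fun n : N => (ψ : T → ℂ) ⟨(n : G), hNT n.2⟩) (θ : N → ℂ) ≠ 0) → (∃ ψ ∈ B'₂, ∃ θ ∈ b, Cfsg.classInner (fun n : N => (ψ : T → ℂ) ⟨(n : G), hNT n.2⟩) (θ : N → ℂ) ≠ 0) → ∀ B : Set (Cfsg.IrrCharacter G), Cfsg.IsInducedBlock M T B'₁ B → Cfsg.IsInducedBlock M T B'₂ B → B'₁ = B'₂) ∧ (∀ B : Set (Cfsg.IrrCharacter G), Cfsg.IsPBlock M B → (∃ χ ∈ B, ∃ θ ∈ b, Cfsg.classInner (fun n : N => (χ : G → ℂ) n) (θ : N → ℂ) ≠ 0) → ∃ B' : Set (Cfsg.IrrCharacter T), Cfsg.IsPBlock M B' ∧ (∃ ψ ∈ B', ∃ θ ∈ b, Cfsg.classInner (fun n : N => (ψ : T → ℂ) ⟨(n : G), hNT n.2⟩) (θ : N → ℂ) ≠ 0) ∧ Cfsg.IsInducedBlock M T B' B) := by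
  haveI : PM p M := ⟨hM⟩
  replace hT := fun g => (hT g).trans (stab_iff g)
  refine ⟨fun c hc h => ?_, fun c c' hc hc' h h' B hB hB' => ?_, fun B hB ⟨χ, hχ, h⟩ => ?_⟩
  · have h1 := fr_subset hb hT hNT hc h
    obtain ⟨ψ, hψ, h⟩ := h
    obtain ⟨h2, h3⟩ := fr_irr hb hT hNT (h1 hψ)
    exact ⟨_, isInducedBlock_iff_indB.2 (fr_block hb hT hNT hc h1), ⟨⟨_, h2⟩, ⟨ψ, hψ, rfl⟩, h3⟩,
      fun ψ hψ => (fr_irr hb hT hNT (h1 hψ)).1, fun χ => Iff.rfl⟩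
  · have h1 := fr_subset hb hT hNT hc h
    have h2 := fr_subset hb hT hNT hc' h'
    have e := ((fr_block hb hT hNT hc h1).unique (isInducedBlock_iff_indB.1 hB)).trans
      ((isInducedBlock_iff_indB.1 hB').unique (fr_block hb hT hNT hc' h2))
    obtain ⟨ψ, hψ, -⟩ := h
    obtain ⟨ψ', h3, h4⟩ := (Set.ext_iff.1 e ⟨_, (fr_irr hb hT hNT (h1 hψ)).1⟩).1 ⟨ψ, hψ, rfl⟩
    exact block_eq_of_mem hc hc' hψ (fr_inj hb hT hNT (h1 hψ) (h2 h3) h4 ▸ h3)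
  · obtain ⟨ψ, h1, h2⟩ := fr_surj hb hT hNT h
    have h3 := fr_block hb hT hNT (isPBlock_blockOf ψ)
      (fr_subset hb hT hNT (isPBlock_blockOf ψ) ⟨ψ, mem_blockOf_self ψ, h1⟩)
    refine ⟨_, isPBlock_blockOf ψ, ⟨ψ, mem_blockOf_self ψ, h1⟩, isInducedBlock_iff_indB.2 ?_⟩
    rwa [block_eq_of_mem hB h3.2.1 hχ ⟨ψ, mem_blockOf_self ψ, h2⟩]

end Cfsg.Agent.S4435
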