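import Cfsg.Statements.S4492
import Cfsg.Agent.H7.Misc2
import Cfsg.Agent.H4.PSol
import Cfsg.Agent.H1.Cores

set_option autoImplicit false
open Cfsg

namespace Cfsg.Agent.S4492

open H5 H7

open MonoidAlgebra in
theorem aux {G H : Type*} [Group G] [Finite G] [Group H] [Fintype H] {p : ℕ} [Fact p.Prime]
    {M : Ideal AlgInt} [PM p M] {φ : H →* G} (h : NE φ) (hH : ¬ p ∣ Nat.card H) {θ : IrrCharacter H}
    (hi : ∀ g, ieq (h.cjA g) θ = θ)
    (hu : ∀ χ ψ : IrrCharacter G, χ ∈ covSet φ {θ} → ψ ∈ covSet φ {θ} → SameBlock M (χ : G → ℂ) ψ) :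
    IsPBlock M (covSet φ {θ}) ∧ blockDefect p (covSet φ {θ}) = (Nat.card G).factorization p := by
  have hs := isSat_of_not_dvd (M := M) hH {θ}
  have hb : IsPBlock M {θ} := ⟨θ, Set.Subset.antisymm (by simpa using mem_blockOf_self θ)
    (hs.subset_of_mem (isPBlock_blockOf θ) rfl (mem_blockOf_self θ))⟩
  have hi' : h.Invt {θ} := fun g η e => by rw [e]; exact hi g
  obtain ⟨B, hB, h1, h2⟩ := h.exists_cover_defect_ge (p := p) hb hi'
  obtain ⟨χ, hχ⟩ := block_nonempty hB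
  have e : covSet φ {θ} = B := Set.Subset.antisymm
    (fun ψ h3 => mem_of_sameBlock hB hχ (hu _ _ (h1 hχ) h3)) h1
  rw [e]
  have := factorization_card_range (p := p) h.inj
  rw [Nat.factorization_eq_zero_of_not_dvd hH] at this
  exact ⟨hB, le_antisymm blockDefect_le (by omega)⟩

/-- Let G be a finite p-solvable group, N = O_{p'}(G) its largest normal subgroup of order prime to p, and θ an irreducible character of N invariant under conjugation by G; fix a maximal ideal M of the algebraic integers containing p. Then the irreducible characters of G lying over θ (those whose restriction to N contains θ) form a single p-block of G, and the defect groups of that block are exactly the Sylow p-subgroups of G. -/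
theorem result {G : Type*} [Group G] [Fintype G] (p : ℕ) [Fact p.Prime] (M : Ideal Cfsg.AlgInt) (hM : Cfsg.IsPModular p M) (hsolv : Cfsg.IsPSolvable p G) (N : Subgroup G) [hN : N.Normal] [Fintype N] (hNdef : N = Cfsg.pPrimeCore p G) (θ : Cfsg.IrrCharacter N) (hinv : ∀ (g : G) (n : N), (θ : N → ℂ) ⟨g * n * g⁻¹, hN.conj_mem n n.2 g⟩ = (θ : N → ℂ) n) : ∃ B : Set (Cfsg.IrrCharacter G), Cfsg.IsPBlock M B ∧ (∀ χ : Cfsg.IrrCharacter G, χ ∈ B ↔ Cfsg.classInner (fun n : N => (χ : G → ℂ) n) (θ : N → ℂ) ≠ 0) ∧ (∀ P : Sylow p G, Cfsg.IsDefectGroup p M B (P : Subgroup G)) ∧ ∀ D : Subgroup G, Cfsg.IsDefectGroup p M B D → ∃ P : Sylow p G, D = (P : Subgroup G) := by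
  haveI : PM p M := ⟨hM⟩
  classical
  have hN' : ¬ p ∣ Nat.card N := hNdef ▸ not_dvd_card_pPrimeCore
  have hC : Subgroup.centralizer (pCore p (G ⧸ N) : Set (G ⧸ N)) ≤ pCore p (G ⧸ N) := by
    subst hNdef
    exact ((H4.isPSolvable_iff.1 hsolv).quotient _).centralizer_pCore_le (H1.pPrimeCore_quotient_eq_bot p G)
  have hπ := QuotientGroup.mk'_surjective N
  have hreg : ∀ y : G, ¬ p ∣ orderOf y → (y : G ⧸ N) ∈ pCore p (G ⧸ N) → y ∈ N := fun y h1 h2 =>
    (QuotientGroup.eq_one_iff y).1 ((isPE_of_mem isPGroup_pCore' h2).eq_one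
      (not_dvd_orderOf_map (QuotientGroup.mk' N) h1))
  set K := (pCore p (G ⧸ N)).comap (QuotientGroup.mk' N) with hK
  have hNK : N ≤ K := fun x hx => by
    rw [Subgroup.mem_comap, QuotientGroup.mk'_apply, (QuotientGroup.eq_one_iff x).2 hx]; exact one_mem _
  have hi : ∀ g, ieq ((ne_subtype N).cjA g) θ = θ := fun g =>
    Subtype.ext (funext fun n => by rw [ieq_apply, cjA_subtype, hinv])
  have hc : ∀ {L : Type _} [Group L] [Finite L] {φ : N →* L} (_ : NE φ) {χ : IrrCharacter L},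
      χ ∈ covSet φ {θ} → Cov M φ (θ : N → ℂ) (χ : L → ℂ) := fun h χ ⟨η, e, h1⟩ =>
    cov_of_over h.inj χ.2 θ.2 (e ▸ h1)
  obtain ⟨k1, k2⟩ := aux (M := M) (ne_incl hNK) hN' (fun g => by rw [cjA_incl]; exact hi g) fun χ ψ h1 h2 =>
    (ne_incl hNK).sameBlock_of_cov (p := p) (fun g hg => ⟨⟨g, hreg g (by simpa using hg) g.2⟩, rfl⟩)
      χ.2 ψ.2 (hc (ne_incl hNK) h1) (hc (ne_incl hNK) h2)
  have key : ∀ χ ∈ covSet N.subtype {θ}, ∀ y, ¬ p ∣ orderOf y →
      red M (centralChar ((χ : IrrCharacter G) : G → ℂ) y) ≠ 0 → y ∈ N := fun χ ⟨η, e, h1⟩ y hy h0 => by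
    obtain rfl : η = θ := e
    obtain ⟨ξ, h2, h3, h4⟩ := H6.exists_constituent_comp (Subgroup.inclusion hNK)
      (χ.2.isClassFunction.restrict K) h1
    have hB := isPBlock_blockOf (M := M) χ
    obtain ⟨Q, hQ⟩ := exists_isDefectGroup p k1
    obtain ⟨D, hD⟩ := exists_isDefectGroup p hB
    have h5 := (ne_subtype K).cle_of_cov k1 hB (θ := ⟨ξ, h2⟩) ⟨_, rfl, h4⟩ (mem_blockOf_self χ)
      (cov_of_over K.subtype_injective χ.2 h2 h3) hQ hD
    have h6 : SylIn p Q ⊤ := sylIn_iff_card.2 ⟨le_top, IsDefectGroup.isPGroup hQ, by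
      rw [IsDefectGroup.card k1 hQ, k2, Subgroup.card_top]⟩
    have h7 := (h6.map K.subtype).map (QuotientGroup.mk' N)
    rw [← MonoidHom.range_eq_map, Subgroup.range_subtype,
      show K.map _ = _ from Subgroup.map_comap_eq_self_of_surjective hπ _] at h7
    have h8 := (h5.map (QuotientGroup.mk' N))
    rw [← h7.eq_of_le isPGroup_pCore' h7.le le_rfl] at h8
    obtain ⟨c, h9, h10⟩ := IsDefectGroup.exists_conj_of_lam hB hD (mem_blockOf_self χ) h0
    obtain ⟨x, rfl⟩ := isConj_iff.1 h9.symm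
    exact hN.conj_mem _ (hreg c (by rwa [orderOf_conj'] at hy) (hC
      (Subgroup.centralizer_le h8.le_of_normal (map_mem_centralizer_map _ h10)))) x
  obtain ⟨k3, k4⟩ := aux (M := M) (ne_subtype N) hN' hi fun χ ψ h1 h2 =>
    (sameBlock_iff_pRegular (p := p) χ.2 ψ.2).2 fun y hy => by
      by_cases h : y ∈ N
      · rw [← lam_cls χ.2.isClassFunction, ← lam_cls ψ.2.isClassFunction]
        exact (((ne_subtype N).cov_iff_cls.1 (hc (ne_subtype N) h1)) ⟨y, h⟩).symm.trans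
          (((ne_subtype N).cov_iff_cls.1 (hc (ne_subtype N) h2)) ⟨y, h⟩)
      · rw [not_not.1 (mt (key χ h1 y hy) h), not_not.1 (mt (key ψ h2 y hy) h)]
  refine ⟨_, k3, fun χ => ⟨fun ⟨η, e, h⟩ => e ▸ h, fun h => ⟨θ, rfl, h⟩⟩,
    fun P => (isDefectGroup_sylow_iff k3 P).2 k4.ge, fun D hD => ?_⟩
  obtain ⟨P, hP⟩ := SylIn.exists_sylow (sylIn_iff_card.2 ⟨le_top, IsDefectGroup.isPGroup hD, by
    rw [IsDefectGroup.card k3 hD, k4, Subgroup.card_top]⟩)
  exact ⟨P, hP.symm⟩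

end Cfsg.Agent.S4492
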