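import Cfsg.Statements.S4914
import Cfsg.Agent.H8.Glaub2
import Cfsg.Agent.H5.Central

set_option autoImplicit false
open Cfsg

namespace Cfsg.Agent.S4914

open H5 H19 H8 H8.Glaub in
theorem deg_cong {Γ : Type*} [Group Γ] [Fintype Γ] {p : ℕ} (hp : p.Prime) {K C P : Subgroup Γ}
    (co : Corr p K C P) (hP : IsPGroup p P) (hCK : C ≤ K)
    (hPC : P ≤ Subgroup.normalizer (C : Set Γ)) {χ β : Γ → ℂ} (hχ : χ ∈ irr K)
    (hPχ : P ≤ stabf χ) (hβ : β ∈ irr C) (hPβ : P ≤ stabf β) (g : Gl p C χ β) {a b c : ℕ}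
    (ha : ip C (res C χ) β = a) (hb : β 1 = b) (hc : χ 1 = c) : c ≡ a * b [MOD p] := by
  have h1 : ∀ φ : Γ → ℂ, ip ⊥ (res ⊥ φ) (triv ⊥) = φ 1 := fun φ => by
    rw [ip_eq_sum_els (res_supp _ _), Finset.sum_eq_single_of_mem 1 (mem_els.2 (Subgroup.one_mem _))
      (fun b hb h => absurd (Subgroup.mem_bot.1 (mem_els.1 hb)) h)]
    simp
  refine co.modEq_mul hp le_rfl hP hCK bot_le hPC (by rw [normalizer_bot_eq]; exact le_top) hχ hPχ
    hβ hPβ (triv_mem_chars ⊥) (fun s _ => mem_stabf_of_centralizes (C := ⊥)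
      (fun x hx => triv_of_not_mem hx) fun c hc => by rw [Subgroup.mem_bot.1 hc]; simp) g ha
    (by rw [h1, hb]) (by rw [h1, hc])
open H5 H19 H8 H8.Glaub

/-- Let P and K be subgroups of a finite group G with P a p-group normalizing K, and suppose K has a normal Sylow p-subgroup Q. Let C be the subgroup of those k ∈ K whose commutator with every element of P lies in Q (so that C/Q is the fixed-point subgroup of P on K/Q). Then there is a bijection f from the P-invariant irreducible complex characters of K onto the P-invariant irreducible complex characters of C such that, for every P-invariant irreducible character χ of K, the multiplicity of f(χ) in the restriction of χ to C is a natural number congruent to 1 or to −1 modulo p, every other P-invariant irreducible character of C occurs in that restriction with multiplicity divisible by p, and the degrees of χ and f(χ) are congruent modulo p up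 to sign. -/
theorem result {G : Type*} [Group G] [Finite G] (p : ℕ) [Fact p.Prime] (P K Q C : Subgroup G) (hP : IsPGroup p ↥P) (hPK : P ≤ Subgroup.normalizer (K : Set G)) (hQK : Q ≤ K) (hQn : ∀ k ∈ K, ∀ q ∈ Q, k * q * k⁻¹ ∈ Q) (hQp : ∃ a : ℕ, Nat.card ↥Q = p ^ a) (hQsyl : ¬ p ∣ Q.relIndex K) (hCK : C ≤ K) (hC : ∀ k : G, k ∈ C ↔ (k ∈ K ∧ ∀ x ∈ P, x * k * x⁻¹ * k⁻¹ ∈ Q)) : ∃ f : {χ : Cfsg.IrrCharacter ↥K // (∀ x ∈ P, ∀ k k' : ↥K, (k' : G) = x * (k : G) * x⁻¹ → (χ : ↥K → ℂ) k' = (χ : ↥K → ℂ) k)} → {ξ : Cfsg.IrrCharacter ↥C // (∀ x ∈ P, ∀ k k' : ↥C, (k' : G) = x * (k : G) * x⁻¹ → (ξ : ↥C → ℂ) k' = (ξ : ↥C → ℂ) k)}, Function.Bijective f ∧ ∀ χ, (∀ ξ : {ξ : Cfsg.IrrCharacter ↥C // (∀ x ∈ P, ∀ k k' : ↥C, (k' : G) = x * (k : G) * x⁻¹ → (ξ : ↥C → ℂ) k' = (ξ : ↥C → ℂ) k)}, ∃ m : ℕ, (Nat.card ↥C : ℂ)⁻¹ * ∑ᶠ c : ↥C, (χ.1 : ↥K → ℂ) (Subgroup.inclusion hCK c) * (starRingEnd ℂ) ((ξ.1 : ↥C → ℂ) c) = (m : ℂ) ∧ (ξ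 = f χ → ((m : ZMod p) = 1 ∨ (m : ZMod p) = -1)) ∧ (ξ ≠ f χ → p ∣ m)) ∧ ((Cfsg.charDegree ((f χ).1 : ↥C → ℂ) : ZMod p) = (Cfsg.charDegree (χ.1 : ↥K → ℂ) : ZMod p) ∨ (Cfsg.charDegree ((f χ).1 : ↥C → ℂ) : ZMod p) = -(Cfsg.charDegree (χ.1 : ↥K → ℂ) : ZMod p)) := by
  have hp : p.Prime := Fact.out
  have := Fintype.ofFinite G
  have := Fintype.ofFinite C
  have hKQ : K ≤ Subgroup.normalizer (Q : Set G) := fun k hk =>
    H1.mem_normalizer_of_conj_mem (hQn k hk)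
  have hPQ : P ≤ Subgroup.normalizer (Q : Set G) := fun x hx =>
    H1.mem_normalizer_of_conj_mem fun q hq => by
      have h1 : x * q * x⁻¹ ∈ K := (conj_mem_iff_of_normalizer (hPK hx) q).2 (hQK hq)
      obtain ⟨a, ha⟩ := hQp
      have h2 : (x * q * x⁻¹) ^ p ^ a = 1 := by
        rw [conj_pow, ← ha, pow_card_eq_one_of_mem hq]; simp
      refine mem_of_pow_mem_of_coprime (k := Q.relIndex K) ?_ (pow_relIndex_mem hKQ h1)
      exact (Nat.Coprime.pow_left a ((Nat.Prime.coprime_iff_not_dvd hp).2 hQsyl)).coprime_dvd_left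
        (orderOf_dvd_of_pow_eq_one h2)
  have hPC : P ≤ Subgroup.normalizer (C : Set G) := fun y hy =>
    mem_normalizer_of_relC hC (hPQ hy) (hPK hy) (Subgroup.le_normalizer hy)
  have co : Corr p K C P := corr_pgroup hp P hQK hKQ hPK hPQ hP hQsyl hC
  have hin : ∀ (χ : K → ℂ) (ξ : C → ℂ), (Nat.card ↥C : ℂ)⁻¹ * ∑ᶠ c : ↥C,
      χ (Subgroup.inclusion hCK c) * (starRingEnd ℂ) (ξ c) =
      ip C (res C (extendByZero K χ)) (extendByZero C ξ) := fun χ ξ => by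
    rw [← classInner_resLe hCK, finsum_eq_sum_of_fintype]; rfl
  have hex : ∀ χ : {χ : IrrCharacter ↥K // (∀ x ∈ P, ∀ k k' : ↥K, (k' : G) = x * (k : G) * x⁻¹ →
      (χ : ↥K → ℂ) k' = (χ : ↥K → ℂ) k)}, ∃ ξ : {ξ : IrrCharacter ↥C // (∀ x ∈ P, ∀ k k' : ↥C,
      (k' : G) = x * (k : G) * x⁻¹ → (ξ : ↥C → ℂ) k' = (ξ : ↥C → ℂ) k)},
      Gl p C (extendByZero K χ.1) (extendByZero C ξ.1) := fun χ => by
    obtain ⟨β, h1, h2, h3⟩ := co.ex _ (extendByZero_mem_irr.2 χ.1.2)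
      ((inv_iff_le_stabf hPK _).1 χ.2)
    have e := extendByZero_comp_of_supp (irr_supp h1)
    exact ⟨⟨⟨fun x => β x, (mem_irr.1 h1).2⟩, (inv_iff_le_stabf hPC _).2 (e.symm ▸ h2)⟩,
      e.symm ▸ h3⟩
  choose f hf using hex
  refine ⟨f, ⟨fun a b hab => ?_, fun ξ => ?_⟩, fun χ => ⟨fun ξ => ?_, ?_⟩⟩
  · exact Subtype.ext (Subtype.ext (extendByZero_injective K (co.inj _
      (extendByZero_mem_irr.2 a.1.2) ((inv_iff_le_stabf hPK _).1 a.2) _
      (extendByZero_mem_irr.2 b.1.2) ((inv_iff_le_stabf hPK _).1 b.2) _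
      (extendByZero_mem_irr.2 (f a).1.2) ((inv_iff_le_stabf hPC _).1 (f a).2) (hf a)
      (by rw [hab]; exact hf b))))
  · obtain ⟨χ, h1, h2, h3⟩ := co.surj _ (extendByZero_mem_irr.2 ξ.1.2)
      ((inv_iff_le_stabf hPC _).1 ξ.2)
    have e := extendByZero_comp_of_supp (irr_supp h1)
    obtain ⟨χ', hχ'⟩ : ∃ χ' : {χ : IrrCharacter ↥K // (∀ x ∈ P, ∀ k k' : ↥K,
        (k' : G) = x * (k : G) * x⁻¹ → (χ : ↥K → ℂ) k' = (χ : ↥K → ℂ) k)},
        extendByZero K χ'.1.1 = χ :=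
      ⟨⟨⟨fun x => χ x, (mem_irr.1 h1).2⟩, (inv_iff_le_stabf hPK _).2 (e.symm ▸ h2)⟩, e⟩
    have h4 := hf χ'
    rw [hχ'] at h4
    exact ⟨χ', Subtype.ext (Subtype.ext (extendByZero_injective C (co.uniq χ h1 h2 _
      (extendByZero_mem_irr.2 (f χ').1.2) ((inv_iff_le_stabf hPC _).1 (f χ').2) _
      (extendByZero_mem_irr.2 ξ.1.2) ((inv_iff_le_stabf hPC _).1 ξ.2) h4 h3)))⟩
  · have h1 := extendByZero_mem_irr.2 χ.1.2
    have h2 := (inv_iff_le_stabf hPK _).1 χ.2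
    have h3 := extendByZero_mem_irr.2 ξ.1.2
    have h4 := (inv_iff_le_stabf hPC _).1 ξ.2
    obtain ⟨m, hm⟩ := ip_nat (res_mem_chars hCK (chars_of_irr h1)) (chars_of_irr h3)
    refine ⟨m, by rw [hin, hm], fun h => ?_, fun h => ?_⟩
    · subst h
      obtain ⟨m', h5, h6⟩ := hf χ
      have : m' = m := by exact_mod_cast h5.symm.trans hm
      subst this
      rcases co.cong _ h1 h2 _ h3 h4 m' hm h6 with h | h
      · exact Or.inl (by simpa using (ZMod.intCast_eq_intCast_iff _ _ p).2 h)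
      · exact Or.inr (by simpa using (ZMod.intCast_eq_intCast_iff _ _ p).2 h)
    · by_contra hd
      exact h (Subtype.ext (Subtype.ext (extendByZero_injective C (co.uniq _ h1 h2 _ h3 h4 _
        (extendByZero_mem_irr.2 (f χ).1.2) ((inv_iff_le_stabf hPC _).1 (f χ).2) ⟨m, hm, hd⟩
        (hf χ)))))
  · have h1 := extendByZero_mem_irr.2 χ.1.2
    have h2 := (inv_iff_le_stabf hPK _).1 χ.2
    have h3 := extendByZero_mem_irr.2 (f χ).1.2
    have h4 := (inv_iff_le_stabf hPC _).1 (f χ).2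
    obtain ⟨m, h5, h6⟩ := hf χ
    have h7 := deg_cong hp co hP hCK hPC h1 h2 h3 h4 (hf χ) h5
      (b := charDegree ((f χ).1 : C → ℂ)) (c := charDegree (χ.1 : K → ℂ))
      (by rw [coe_deg]; simp) (by rw [coe_deg]; simp)
    have h8 := (ZMod.natCast_eq_natCast_iff _ _ p).2 h7
    push_cast at h8
    rcases co.cong _ h1 h2 _ h3 h4 m h5 h6 with h | h
    · have : (m : ZMod p) = 1 := by simpa using (ZMod.intCast_eq_intCast_iff _ _ p).2 h
      exact Or.inl (by rw [h8, this, one_mul])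
    · have : (m : ZMod p) = -1 := by simpa using (ZMod.intCast_eq_intCast_iff _ _ p).2 h
      exact Or.inr (by rw [h8, this]; ring)

end Cfsg.Agent.S4914
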