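import Cfsg.Statements.S0224
import Cfsg.Agent.H9.Hv1

set_option autoImplicit false
open Cfsg

namespace Cfsg.Agent.S0224

open H18 H9 Subgroup

/-- Let H be a proper subgroup of even order of the finite group G. Then H is strongly embedded if and only if each involution of H fixes exactly one point (namely the coset H) in the action of G on the cosets of H. -/
theorem result {G : Type*} [Group G] [Finite G] (H : Subgroup G) (hH : H ≠ ⊤) (heven : Even (Nat.card H)) : Cfsg.IsStronglyEmbedded H ↔ ∀ t ∈ H, orderOf t = 2 → Nat.card {c : G ⧸ H // t • c = c} = 1 := by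
  refine ⟨fun h t ht o => ?_, fun h => ⟨hH, heven, fun g hg => H5.odd_of_no_inv fun s hs s2 => by_contra fun s1 => ?_⟩⟩
  · exact Nat.card_eq_one_iff_exists.2 ⟨⟨_, fix_one.2 ht⟩, fun y => Subtype.ext
      ((SA.of_se h).uniq t (ord2.1 o).1 (ord2.1 o).2 _ _ y.2 (fix_one.2 ht))⟩
  · obtain ⟨x, hx⟩ := Nat.card_eq_one_iff_exists.1 (h s hs.1 (ord2.2 ⟨s2, s1⟩))
    exact one_ne_mk hg (congrArg Subtype.val ((hx ⟨_, fix_one.2 hs.1⟩).trans (hx ⟨_, fix_mk.2 (mem_cj.1 hs.2)⟩).symm))

end Cfsg.Agent.S0224
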