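import Cfsg.Statements.S0840
import Cfsg.Agent.H6.Ind
import Cfsg.Agent.H5.FS

set_option autoImplicit false
open scoped ComplexConjugate
open Cfsg

open H5 H6 Cfsg

namespace Cfsg.Agent.S0840

/-- Class multiplication coefficients from the character table: for elements a, b, c of a finite group G, the number of ordered pairs (x, y) with x conjugate to a, y conjugate to b and x * y = c equals the product of the sizes of the conjugacy classes of a and b, divided by the order of G, times the sum over the irreducible characters χ of χ a * χ b * conj (χ c) / χ 1. -/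
theorem result {G : Type*} [Group G] [Finite G] (a b c : G) : (Nat.card {p : G × G // IsConj a p.1 ∧ IsConj b p.2 ∧ p.1 * p.2 = c} : ℂ) = (Nat.card {x : G // IsConj a x} : ℂ) * (Nat.card {x : G // IsConj b x} : ℂ) / (Nat.card G : ℂ) * ∑ᶠ χ : Cfsg.IrrCharacter G, (χ : G → ℂ) a * (χ : G → ℂ) b * conj ((χ : G → ℂ) c) / (χ : G → ℂ) 1 := by
  classical
  have := Fintype.ofFinite G
  have h := congrArg conj (card_class_mul_eq a b c)
  simp only [map_mul, map_natCast, map_sum, map_div₀, Complex.conj_conj] at h
  have h1 : ∀ χ : IrrCharacter G, conj ((χ : G → ℂ) 1) = (χ : G → ℂ) 1 :=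
    fun χ => χ.2.isCharacter.conj_apply_one
  simp only [h1] at h
  rw [finsum_eq_sum_of_fintype, card_isConj, card_isConj]
  have ha := (Subgroup.centralizer ({a} : Set G)).card_mul_index
  have hb := (Subgroup.centralizer ({b} : Set G)).card_mul_index
  have ha' : (Nat.card (Subgroup.centralizer ({a} : Set G)) : ℂ) *
    (Subgroup.centralizer ({a} : Set G)).index = Nat.card G := by exact_mod_cast ha
  have hb' : (Nat.card (Subgroup.centralizer ({b} : Set G)) : ℂ) *
    (Subgroup.centralizer ({b} : Set G)).index = Nat.card G := by exact_mod_cast hb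
  have hG := card_ne_zero G
  have ha0 := card_ne_zero (Subgroup.centralizer ({a} : Set G))
  have hb0 := card_ne_zero (Subgroup.centralizer ({b} : Set G))
  set S := ∑ χ : IrrCharacter G, (χ : G → ℂ) a * (χ : G → ℂ) b * conj ((χ : G → ℂ) c) / (χ : G → ℂ) 1
  apply mul_right_cancel₀ (mul_ne_zero ha0 hb0)
  rw [h]
  field_simp
  linear_combination (-(Nat.card G : ℂ) * S) * ha' - S * (Nat.card (Subgroup.centralizer ({a} : Set G)) : ℂ) *
    (Subgroup.centralizer ({a} : Set G)).index * hb'

end Cfsg.Agent.S0840
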