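import Cfsg.Statements.S0065
-- import your own Cfsg.Agent.* helpers here

set_option autoImplicit false
open Cfsg
open scoped commutatorElement

namespace Cfsg.Agent.S0065

/-- A nontrivial normal subgroup of a nilpotent group intersects the centre nontrivially. -/
theorem result {G : Type*} [Group G] [Finite G] [Group.IsNilpotent G]
    (N : Subgroup G) [N.Normal] (hN : N ≠ ⊥) : N ⊓ Subgroup.center G ≠ ⊥ := by
  obtain ⟨n, hn⟩ := Group.IsNilpotent.nilpotent G
  have key : ∀ k, N ⊓ Subgroup.center G = ⊥ → N ⊓ Subgroup.upperCentralSeries G k = ⊥ := by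
    intro k h
    induction k with
    | zero => simp
    | succ k ih =>
      rw [eq_bot_iff]
      intro x hx
      have hx2 := Subgroup.mem_upperCentralSeries_succ_iff.mp hx.2
      have : x ∈ N ⊓ Subgroup.center G := by
        refine ⟨hx.1, Subgroup.mem_center_iff.mpr fun g => ?_⟩
        have h1 : ⁅x, g⁆ ∈ N ⊓ Subgroup.upperCentralSeries G k := by
          refine ⟨?_, hx2 g⟩
          rw [commutatorElement_def, mul_assoc, mul_assoc]
          refine N.mul_mem hx.1 ?_
          have := ‹N.Normal›.conj_mem _ (N.inv_mem hx.1) g
          simpa [mul_assoc] using this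
        rw [ih, Subgroup.mem_bot, commutatorElement_eq_one_iff_mul_comm] at h1
        exact h1.symm
      rwa [h] at this
  intro h
  have := key n h
  rw [hn, inf_top_eq] at this
  exact hN this

end Cfsg.Agent.S0065
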