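import Cfsg.Statements.S0081
import Cfsg.Agent.H3.Tate

set_option autoImplicit false
open Cfsg

namespace Cfsg.Agent.S0081

/-- If a normal subgroup meets a Sylow p-subgroup P inside the Frattini subgroup of P, then it has a normal p-complement. -/
theorem result {G : Type*} [Group G] [Finite G] {p : ℕ} [Fact p.Prime] (P : Sylow p G) (N : Subgroup G) [N.Normal] (h : N ⊓ (P : Subgroup G) ≤ (frattini P).map (P : Subgroup G).subtype) : Cfsg.HasNormalPComplement p N := by
  let H : Subgroup G := N ⊔ (P : Subgroup G)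
  have hPH : (P : Subgroup G) ≤ H := le_sup_right
  refine H3.hasNormalPComplement_of_le (le_sup_left : N ≤ H)
    (H3.hasNormalPComplement_of_le_frattini (P.subtype hPH) ?_)
  have hq : pResidual p H ≤ N.subgroupOf H := by
    apply H3.pResidual_le_of_isPGroup_quotient
    refine P.2.of_surjective ((QuotientGroup.mk' _).comp (Subgroup.inclusion hPH)) ?_
    intro y
    obtain ⟨⟨y, hy⟩, rfl⟩ := QuotientGroup.mk_surjective y
    have hy' : y ∈ ((N ⊔ (P : Subgroup G) : Subgroup G) : Set G) := hy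
    rw [sup_comm, Subgroup.mul_normal] at hy'
    obtain ⟨x, hx, n, hn, rfl⟩ := hy'
    refine ⟨⟨x, hx⟩, QuotientGroup.eq.mpr ?_⟩
    show x⁻¹ * (x * n) ∈ N
    simpa using hn
  rintro x ⟨hx, hxP⟩
  obtain ⟨y, hy, e⟩ := h ⟨hq hx, hxP⟩
  let e' := (Subgroup.subgroupOfEquivOfLe hPH).symm
  exact ⟨e' y, frattini_le_comap_frattini_of_surjective (φ := e'.toMonoidHom) e'.surjective hy,
    Subtype.ext e⟩

end Cfsg.Agent.S0081
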