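import Cfsg.Statements.S0214
import Cfsg.Agent.H9.Hv1

set_option autoImplicit false
open Cfsg

namespace Cfsg.Agent.S0214

open H18 H9 Subgroup

/-- Let H be a proper subgroup of the finite group G and P a nontrivial Sylow 2-subgroup of H. Then H is strongly embedded in G if and only if N_G(X) ≤ H for every nontrivial subgroup X of P. -/
theorem result {G : Type*} [Group G] [Finite G] (H : Subgroup G) (hH : H ≠ ⊤) (P : Sylow 2 ↥H) (hP : (P : Subgroup ↥H) ≠ ⊥) : Cfsg.IsStronglyEmbedded H ↔ (∀ X : Subgroup ↥H, X ≤ (P : Subgroup ↥H) → X ≠ ⊥ → Subgroup.normalizer ((X.map H.subtype : Subgroup G) : Set G) ≤ H) := by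
  have hp := Nat.prime_two
  have hS := hall_map_sylow hp P
  have key := norm_iff_rank (k := 0) hp hS
  simp only [Nat.le_zero, prank_eq_zero_iff hp, prank_pos_iff hp] at key
  refine ⟨fun h X hX h1 => key.2 (fun g hg => (h.2.2 g hg).not_two_dvd_nat) _ (map_mono hX)
    ((hS.pi.of_le (map_mono hX)).dvd_card (by rwa [Ne, map_eq_bot_iff_of_injective _ H.subtype_injective])),
    fun h => ⟨hH, even_iff_two_dvd.2 ((hS.pi.dvd_card ?_).trans (card_dvd hS.le)), fun g hg =>
      Nat.two_dvd_ne_zero.1 (key.1 (fun X hX h2 => ?_) g hg) |> Nat.odd_iff.2⟩⟩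
  · rwa [Ne, map_eq_bot_iff_of_injective _ H.subtype_injective]
  · have e := map_subgroupOf_eq_of_le (hX.trans hS.le)
    rw [← e]
    refine h _ ((map_le_map_iff_of_injective H.subtype_injective).1 (e.symm ▸ hX)) fun e' => ?_
    exact ne_bot_of_prime_dvd hp h2 (by rw [← e, e', Subgroup.map_bot])

end Cfsg.Agent.S0214
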