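import Cfsg.Statements.S0222
import Cfsg.Agent.H18.Bender

set_option autoImplicit false
open Cfsg

namespace Cfsg.Agent.S0222

/-- Bender's Theorem for simple groups: let G be a non-abelian finite simple group possessing a strongly embedded subgroup. Then G is isomorphic to PSL2 over a finite field of characteristic 2 with at least 4 elements, or G is a simple group whose order is that of a Suzuki group Sz(2^(2m+1)) with m ≥ 1, or G is isomorphic to PSU3 realised over a field with q^2 elements, q ≥ 4 a power of 2. -/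
theorem result {G : Type*} [Group G] [Finite G] [IsSimpleGroup G] (hna : ∃ a b : G, a * b ≠ b * a) (H : Subgroup G) (hH : Cfsg.IsStronglyEmbedded H) : (∃ (F : Type) (_ : Field F) (_ : Fintype F), CharP F 2 ∧ 4 ≤ Fintype.card F ∧ Nonempty (G ≃* Matrix.ProjectiveSpecialLinearGroup (Fin 2) F)) ∨ Cfsg.IsSuzuki G ∨ (∃ (F : Type) (_ : Field F) (_ : Fintype F) (q : ℕ), Fintype.card F = q ^ 2 ∧ Even q ∧ 4 ≤ q ∧ Nonempty (G ≃* Cfsg.PSU 3 F q)) := by
  obtain ⟨F, _, _, ⟨n, h1, h2⟩, e⟩ | h | ⟨F, _, _, n, h1, h2, e⟩ := H9.isBender_of_se hH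
  · exact .inl ⟨F, _, _, H19.charP_of_card h2, h2 ▸ Nat.pow_le_pow_right two_pos h1, e⟩
  · exact .inr (.inl (H19.isSuzuki_of_iso h))
  · exact .inr (.inr ⟨F, _, _, 2 ^ n, h2, (Nat.even_pow' (by omega)).2 even_two, Nat.pow_le_pow_right two_pos h1, e⟩)

end Cfsg.Agent.S0222
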