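import Cfsg.Statements.S0247
import Cfsg.Agent.H11.Perm
import Cfsg.Agent.S0245

set_option autoImplicit false
open Cfsg

namespace Cfsg.Agent.S0247

/-- Sp_4(2) is isomorphic to the symmetric group S_6. -/
theorem result {F : Type*} [Field F] [Fintype F] (hF : Fintype.card F = 2) : Nonempty (Matrix.symplecticGroup (Fin 2) F ≃* Equiv.Perm (Fin 6)) := by
  obtain ⟨f, hf⟩ := H11.exists_perm_embed_sp (F := ZMod 2) 3 le_rfl
  have h := S0245.result (ZMod.card 2) 2
  have := H11.finite_of_card_eq (n := 719) h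
  obtain ⟨e⟩ := H11.equiv_of_inj_card f hf (by rw [Nat.card_perm]; exact (h.trans (by simp; decide)).symm)
  exact ⟨(H11.spCongr (ZMod.ringEquivOfPrime F Nat.prime_two hF) 2).symm.trans e⟩

end Cfsg.Agent.S0247
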