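import Cfsg.Statements.S0473
import Cfsg.Agent.L.Y24g
import Cfsg.Agent.H28.F24
import Cfsg.Agent.S1698


set_option autoImplicit false
set_option linter.unusedVariables false
open Cfsg

namespace Cfsg.Agent.S0473

/-- The largest Fischer 3-transposition group: a group of order 2 · 1255205709190661721292800 generated by a conjugacy class of 306936 3-transpositions, in which a transposition centraliser has order 2 · 4089470473293004800 and contains a simple subgroup of order 4089470473293004800; its subgroup of index 2 is simple and contains simple subgroups of orders 4089470473293004800 and 4030387200. -/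
theorem result : ∃ (G : Type) (_ : Group G) (_ : Finite G), Nat.card G = 2 * 1255205709190661721292800 ∧ ∃ D : Set G, Cfsg.IsThreeTranspositionClass D ∧ Nat.card D = 306936 ∧ (∀ d ∈ D, Nat.card (Subgroup.centralizer ({d} : Set G)) = 2 * 4089470473293004800 ∧ ∃ K : Subgroup G, K ≤ Subgroup.centralizer ({d} : Set G) ∧ Cfsg.IsFi23 K) ∧ ∃ H : Subgroup G, H.index = 2 ∧ Cfsg.IsFi24' H ∧ (∃ K : Subgroup H, Cfsg.IsFi23 K) ∧ (∃ K : Subgroup H, Cfsg.IsHe K) := by
  have hN := H15.Fi24.card
  have := H15.Fi24.bd0.top.1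
  have := H15.Fi23.simple
  have := H15.He.simple
  have c : ∀ d ∈ H28.D24, Nat.card (Subgroup.centralizer {d}) = 2 * 4089470473293004800 := fun d hd => by
    have k := (Subgroup.centralizer {d}).card_mul_index
    rw [← H15.card_conjugatesOf, ← isConj_iff_conjugatesOf_eq.1 hd, hN,
      show Nat.card (conjugatesOf _) = 306936 from H28.ncard_D24] at k
    omega
  have i : Function.Injective H15.Fi24.phi := by
    by_contra h
    have k := c _ (IsConj.refl _)
    have e : H15.Fi24.phi.range = ⊥ := eq_bot_iff.2 fun _ ⟨x, e⟩ => e ▸ by_contra fun n => h (H15.inj_of_simple _ n)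
    have l := Subgroup.card_le_of_le H15.Fi24.Kl_le_sup
    rw [e, bot_sup_eq, ← H15.Fi24.H_eq, H15.Fi24.stab, ← H28.cent24, k, Nat.card_zpowers] at l
    exact absurd (l.trans (orderOf_le_of_pow_eq_one two_pos ((sq _).trans (H15.Fi24.gen_sq 0)))) (by norm_num)
  obtain ⟨φ, h⟩ := L.he24 H15.Fi24.M hN
  refine ⟨Spor.Fi24, _, inferInstance, hN, _, H28.three24, H28.ncard_D24, fun d hd => ⟨c d hd, ?_⟩, _, H15.Fi24.comm.2,
    Cfsg.Agent.S1698.result, L.sub_comm H15.Fi23.card (by norm_num) (by norm_num) _ i,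
    L.sub_comm H15.He.card (by norm_num) (by norm_num) _ h⟩
  obtain ⟨g, rfl⟩ := isConj_iff.1 hd
  have e := MonoidHom.ofInjective (f := (MulAut.conj g).toMonoidHom.comp H15.Fi24.phi) ((MulAut.conj g).injective.comp i)
  refine ⟨_, ?_, e.symm.isSimpleGroup, (Nat.card_congr e.toEquiv).symm.trans H15.Fi23.card⟩
  rintro _ ⟨x, rfl⟩
  exact Subgroup.mem_centralizer_singleton_iff.2 ((H15.Fi24.phi_comm _ ⟨x, rfl⟩).map (MulAut.conj g)).eq

end Cfsg.Agent.S0473
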