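import Cfsg.Statements.S0517
import Cfsg.Agent.H26.T2.End
import Cfsg.Agent.S2602
import Cfsg.Agent.S2601
import Cfsg.Agent.S2603
import Cfsg.Agent.S2126
import Cfsg.Agent.S2060
import Cfsg.Agent.S2119
import Cfsg.Agent.S1141
import Cfsg.Agent.S1138
import Cfsg.Agent.S0252
import Cfsg.Agent.S0253
import Cfsg.Agent.H3.Sec
import Cfsg.Agent.H16.MinNormal
import Cfsg.Agent.H16.Centralizer
import Cfsg.Agent.H16.Normal
import Cfsg.Agent.H16.OddOrder
import Cfsg.Agent.H17.Cores
import Cfsg.Agent.H4.Factor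
import Cfsg.Agent.H26.Syl
import Cfsg.Agent.H13.SzModel

set_option autoImplicit false
open Cfsg

namespace Cfsg.Agent.S0517

open H26 Subgroup
open scoped Pointwise commutatorElement

open scoped MatrixGroups

/-- sectional `2`-rank at most four -/
def SR (G : Type*) [Group G] : Prop := ∀ H N : Subgroup G, ⁅H, H⁆ ≤ N → (∀ y ∈ H, y ^ 2 ∈ N) → N.relIndex H ≤ 16

/-- the outer automorphism group is abelian -/
def OA (G : Type*) [Group G] : Prop := ∀ a b : Out G, a * b = b * a

section
variable {G G' : Type*} [Group G] [Group G']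

theorem SR.inj (h : SR G) (f : G' →* G) (hf : Function.Injective f) : SR G' := fun H N h1 h2 => by
  have := h (H.map f) (N.map f) (by rw [← map_commutator]; exact map_mono h1)
    (by rintro _ ⟨y, hy, rfl⟩; exact ⟨y ^ 2, h2 y hy, map_pow ..⟩)
  rwa [relIndex_map_map_of_injective _ _ hf] at this

theorem SR.surj (h : SR G) (f : G →* G') (hf : Function.Surjective f) : SR G' := fun H N h1 h2 => by
  have := h (H.comap f) (N.comap f) (commutator_le.2 fun a ha b hb => by
    rw [mem_comap, map_commutatorElement]; exact h1 (commutator_mem_commutator ha hb))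
    (fun y hy => by simpa using h2 _ hy)
  rwa [relIndex_comap, map_comap_eq_self_of_surjective hf] at this

theorem SR.equiv (h : SR G) (e : G ≃* G') : SR G' := h.surj e.toMonoidHom e.surjective

theorem SR.rank (h : SR G) : PRankLE 2 4 G := fun A h1 h2 => by
  have := h A ⊥ (commutator_le.2 fun a ha b hb => commutatorElement_eq_one_iff_mul_comm.2
    (congrArg Subtype.val (h1.1.1 ⟨a, ha⟩ ⟨b, hb⟩))) h2
  rwa [relIndex_bot_left] at this

theorem SR.field (h : SR G) {F : Type*} [Field F] [Fintype F] (h2 : (2 : F) = 0) (f : F → G)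
    (h0 : ∀ a, f a = 1 ↔ a = 0) (hf : ∀ a b, f (a + b) = f a * f b) : Fintype.card F ≤ 16 := by
  let φ : Multiplicative F →* G := MonoidHom.mk' (fun a => f a.toAdd) fun a b => hf _ _
  have := (h.inj φ ((injective_iff_map_eq_one φ).2 fun a e => (h0 _).1 e)).rank ⊤
    ⟨⟨fun a b => Subtype.ext (mul_comm _ _)⟩⟩ fun a _ => by
      rw [← ofAdd_toAdd a, ← ofAdd_nsmul, nsmul_eq_mul, Nat.cast_ofNat, h2, zero_mul, ofAdd_zero]
  rwa [card_top, Nat.card_eq_fintype_card, Fintype.card_multiplicative] at this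

theorem OA.equiv (h : OA G') (e : G ≃* G') : OA G := by
  have f : Out G ≃* Out G' := by
    refine QuotientGroup.congr _ _ (MulAut.congr e) ?_
    ext σ
    constructor
    · rintro ⟨_, ⟨a, rfl⟩, rfl⟩
      exact ⟨e a, by ext x; simp⟩
    · rintro ⟨a, rfl⟩
      exact ⟨_, ⟨e.symm a, rfl⟩, by ext x; simp⟩
  exact fun a b => f.injective (by rw [map_mul, map_mul, h])

theorem comm_of_inj {A : Type*} [CommGroup A] (φ : G →* A) (h : Nat.card φ.ker = 1) (a b : G) : a * b = b * a :=
  (φ.ker_eq_bot_iff.1 (card_eq_one.1 h)) (by rw [map_mul, map_mul, mul_comm])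

theorem comm_of_two {A : Type*} [Group A] [IsCyclic A] (φ : G →* A) (h : Nat.card φ.ker ∣ 2) (a b : G) :
    a * b = b * a := by
  refine commutative_of_cyclic_center_quotient φ (fun x hx => mem_center_iff.2 fun g => ?_) a b
  rcases (Nat.dvd_prime Nat.prime_two).1 h with k | k
  · rw [card_eq_one.1 k, mem_bot] at hx
    simp [hx]
  · by_cases e : x = 1
    · simp [e]
    obtain ⟨y, -, hy⟩ := (Nat.card_eq_two_iff' (1 : φ.ker)).1 k
    have := (hy ⟨g * x * g⁻¹, (inferInstance : φ.ker.Normal).conj_mem x hx g⟩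
      fun j => e (by simpa using congrArg Subtype.val j)).trans (hy ⟨x, hx⟩ fun j => e (congrArg Subtype.val j)).symm
    exact mul_inv_eq_iff_eq_mul.1 (congrArg Subtype.val this)

theorem oa_prime {p : ℕ} (hp : p.Prime) (h : Nat.card (Out G) ∣ p) : OA G := fun a b => by
  have := Fact.mk hp
  have : Finite (Out G) := Nat.finite_of_card_ne_zero fun e => hp.ne_zero (by rwa [e, zero_dvd_iff] at h)
  have := isCyclic_of_card_dvd_prime h
  exact comm_of_two (MonoidHom.id _) (by simp) a b

theorem oa_psl2 {F : Type*} [Field F] [Fintype F] (h : 4 ≤ Fintype.card F) : OA PSL(2, F) := by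
  obtain ⟨p, _, n, hp, e⟩ := FiniteField.card' F
  have := Fact.mk hp
  obtain ⟨φ, -, -, k⟩ := Cfsg.Agent.S2602.result n.2 e (e ▸ h)
  exact comm_of_two φ (k ▸ Nat.gcd_dvd_left _ _)

theorem sr_psl2 {F : Type*} [Field F] [Fintype F] (h : SR PSL(2, F)) (h2 : (2 : F) = 0) : Fintype.card F ≤ 16 := by
  let u : F → SL(2, F) := fun a => ⟨!![1, a; 0, 1], by simp⟩
  refine h.field h2 (fun a => QuotientGroup.mk (u a)) (fun a => ?_) fun a b => ?_
  · rw [QuotientGroup.eq_one_iff, Matrix.SpecialLinearGroup.mem_center_iff]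
    refine ⟨fun ⟨r, _, e⟩ => by simpa [u] using (congrFun (congrFun e 0) 1).symm, fun e => ⟨1, by simp, ?_⟩⟩
    ext i j; fin_cases i <;> fin_cases j <;> simp [e, u]
  · rw [← QuotientGroup.mk_mul]
    congr 1
    ext i j
    rw [Matrix.SpecialLinearGroup.coe_mul]
    fin_cases i <;> fin_cases j <;> simp [add_comm, u]

/-- the list of the statement -/
def CL (G : Type*) [Group G] : Prop :=
  (∃ (F : Type) (_ : Field F) (_ : Fintype F),
      (Odd (Fintype.card F) ∨ Fintype.card F = 8 ∨ Fintype.card F = 16) ∧ Nonempty (G ≃* PSL(2, F))) ∨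
    (∃ (F : Type) (_ : Field F) (_ : Fintype F), Fintype.card F = 3 ∧ Nonempty (G ≃* PSL(3, F))) ∨
    (∃ (F : Type) (_ : Field F) (_ : Fintype F) (q : ℕ), Fintype.card F = q ^ 2 ∧ (q = 3 ∨ q = 4) ∧
      Nonempty (G ≃* PSU 3 F q)) ∨
    Nonempty (G ≃* alternatingGroup (Fin 7)) ∨ (IsSimpleGroup G ∧ (Nat.card G = 29120 ∨ Nat.card G = 7920))

theorem CL.equiv (h : CL G') (e : G ≃* G') : CL G := by
  obtain ⟨F, _, _, h, ⟨f⟩⟩ | ⟨F, _, _, h, ⟨f⟩⟩ | ⟨F, _, _, q, h, k, ⟨f⟩⟩ | ⟨⟨f⟩⟩ | ⟨h, k⟩ := h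
  exacts [.inl ⟨F, _, _, h, ⟨e.trans f⟩⟩, .inr (.inl ⟨F, _, _, h, ⟨e.trans f⟩⟩),
    .inr (.inr (.inl ⟨F, _, _, q, h, k, ⟨e.trans f⟩⟩)), .inr (.inr (.inr (.inl ⟨e.trans f⟩))),
    .inr (.inr (.inr (.inr ⟨e.isSimpleGroup, by rwa [Nat.card_congr e.toEquiv]⟩)))]

theorem cl_psl2 {F : Type} [Field F] [Fintype F] (h4 : 4 ≤ Fintype.card F) (h : SR PSL(2, F)) : CL PSL(2, F) := by
  obtain ⟨p, _, n, hp, e⟩ := FiniteField.card' F
  rcases hp.eq_two_or_odd' with rfl | o
  · have l := sr_psl2 h (by simpa using CharP.cast_eq_zero F 2)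
    obtain ⟨n, n0⟩ := n
    have : n ≤ 4 := by
      by_contra c
      have := Nat.pow_le_pow_right two_pos (show 5 ≤ n by omega)
      simp only [PNat.mk_coe] at e
      omega
    simp only [PNat.mk_coe] at e
    interval_cases n
    · omega
    · have := Fact.mk Nat.prime_five
      obtain ⟨a⟩ := Cfsg.Agent.S0252.result e
      obtain ⟨b⟩ := Cfsg.Agent.S0253.result (ZMod.card 5)
      exact .inl ⟨ZMod 5, _, _, .inl (by rw [ZMod.card]; decide), ⟨a.trans b.symm⟩⟩
    · exact .inl ⟨F, _, _, .inr (.inl e), ⟨.refl _⟩⟩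
    · exact .inl ⟨F, _, _, .inr (.inr e), ⟨.refl _⟩⟩
  · exact .inl ⟨F, _, _, .inl (e ▸ o.pow), ⟨.refl _⟩⟩

theorem cl_of [Finite G] (h : NG2 G) (r : SR G) : CL G ∧ OA G := by
  have := h.simple
  have psl : ∀ (F : Type) [Field F] [Fintype F], 4 ≤ Fintype.card F → (G ≃* PSL(2, F)) → CL G ∧ OA G :=
    fun F _ _ k e => ⟨(cl_psl2 k (r.equiv e)).equiv e, (oa_psl2 k).equiv e⟩
  rcases ng2_class h with ⟨F, _, _, k, ⟨e⟩⟩ | (⟨F, _, _, ⟨n, k, l⟩, ⟨e⟩⟩ | ⟨F, _, _, m, k, l, ⟨e⟩⟩ |
    ⟨F, _, _, n, k, l, ⟨e⟩⟩) | ⟨⟨e⟩⟩ | ⟨F, _, _, k, ⟨e⟩⟩ | ⟨⟨e⟩⟩ | k | k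
  · exact psl F k e
  · exact psl F (l ▸ Nat.pow_le_pow_right two_pos k) e
  · have : H13.Sz.IsSz F m := ⟨k, l⟩
    have f := e.trans (H13.Sz.lieEquiv F m).symm
    have c2 : (2 : F) = 0 := by
      have := FiniteField.cast_card_eq_zero F
      rw [l] at this
      exact (pow_eq_zero_iff (n := 2 * m + 1) (by omega)).1 (by exact_mod_cast this)
    have b := (r.equiv f).field c2 (H13.Sz.u m 0) (fun a => by simp [H13.Sz.u_eq_one])
      fun a b => by simp [H13.Sz.u_mul_u]
    obtain rfl : m = 1 := by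
      by_contra c
      have := Nat.pow_le_pow_right two_pos (show 5 ≤ 2 * m + 1 by omega)
      omega
    refine ⟨.inr (.inr (.inr (.inr ⟨h.simple, .inl ?_⟩))),
      (oa_prime Nat.prime_three (Cfsg.Agent.S2126.result k l).dvd).equiv e⟩
    rw [Nat.card_congr f.toEquiv, H13.Sz.card_Sz, l]
    norm_num
  · obtain ⟨S⟩ : Nonempty (Sylow 2 (PSU 3 F (2 ^ n))) := inferInstance
    obtain ⟨c1, c2, c3⟩ := Cfsg.Agent.S1141.result k l S
    obtain ⟨d1, d2, -⟩ := Cfsg.Agent.S1138.result c3
    have b := (r.equiv e).inj _ (S : Subgroup (PSU 3 F (2 ^ n))).subtype_injective ⊤ (center _)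
      (commutator_le.2 fun a _ b _ => by simpa [commutatorElement_def] using d2 a⁻¹ b⁻¹)
      fun y _ => by rw [pow_two]; exact d1 y
    have c := (center (S : Subgroup (PSU 3 F (2 ^ n)))).card_mul_index
    rw [relIndex_top_right] at b
    obtain rfl : n = 2 := by
      by_contra j
      have := Nat.pow_le_pow_right two_pos (show 3 ≤ n by omega)
      rw [c1, c2] at c
      have j := Nat.mul_le_mul_left (2 ^ n) b
      rw [c, pow_succ' _ 2] at j
      have := Nat.le_of_mul_le_mul_left j (by omega)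
      nlinarith
    obtain ⟨φ, -, -, j⟩ := Cfsg.Agent.S2603.result (p := 2) (f := 2) (n := 3) one_le_two rfl l le_rfl (by simp)
    exact ⟨.inr (.inr (.inl ⟨F, _, _, 4, l, .inr rfl, ⟨e⟩⟩)), OA.equiv (comm_of_inj φ j) e⟩
  · obtain ⟨φ, -, -, j⟩ := Cfsg.Agent.S2601.result (F := ZMod 3) (p := 3) (f := 1) (n := 3) le_rfl (ZMod.card 3) le_rfl
    exact ⟨.inr (.inl ⟨_, _, _, ZMod.card 3, ⟨e⟩⟩), OA.equiv (comm_of_inj φ j) e⟩
  · have := Fact.mk Nat.prime_three
    obtain ⟨φ, -, -, j⟩ := Cfsg.Agent.S2603.result (p := 3) (f := 1) (q := 3) (n := 3) le_rfl rfl k le_rfl (by simp)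
    exact ⟨.inr (.inr (.inl ⟨F, _, _, 3, k, .inl rfl, ⟨e⟩⟩)), OA.equiv (comm_of_inj φ j) e⟩
  · refine ⟨.inr (.inr (.inr (.inl ⟨e⟩))), (oa_prime Nat.prime_two ?_).equiv e⟩
    have b := Cfsg.Agent.S2119.result 7 (by norm_num) (by norm_num)
    have := index_map_dvd (alternatingGroup (Fin 7)) b.2
    rw [alternatingGroup.index_eq_two] at this
    refine (index_dvd_of_le ?_).trans this
    rintro _ ⟨g, hg, rfl⟩
    exact ⟨⟨g, hg⟩, by ext x; rfl⟩
  · obtain ⟨e⟩ := H2.m11_iso k
    exact ⟨.inr (.inr (.inr (.inr ⟨this, .inr k⟩))),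
      (oa_prime Nat.prime_two (Cfsg.Agent.S2060.result ▸ one_dvd _)).equiv e⟩
  · exact (k.2 r.rank).elim

theorem inv_of_normal [Finite G] (hO : oddCore G = ⊥) {N : Subgroup G} [N.Normal] (h : N ≠ ⊥) :
    ∃ t ∈ N, orderOf t = 2 := by
  have : 2 ∣ Nat.card N := by_contra fun c => h (le_bot_iff.1
    (hO ▸ H17.le_pPrimeCore_of_isSubnormal (inferInstance : N.Normal).isSubnormal c))
  obtain ⟨t, ht⟩ := exists_prime_orderOf_dvd_card' 2 this
  exact ⟨t, t.2, by rwa [orderOf_coe]⟩

theorem core [Finite G] (hO : oddCore G = ⊥) (hG : ¬ Group.IsSolvable G)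
    (hL : ∀ N : Subgroup G, IsTwoLocal N → Group.IsSolvable N) :
    ∃ N : Subgroup G, N.Normal ∧ NG2 N ∧ centralizer (N : Set G) = ⊥ := by
  classical
  have cen : ∀ {t : G}, orderOf t = 2 → Group.IsSolvable (centralizer ({t} : Set G)) := fun {t} hz =>
    have := hL _ ⟨zpowers t, IsPGroup.of_card (n := 1) (by rw [Nat.card_zpowers, hz]; rfl),
      fun e => by simp [zpowers_eq_bot.1 e] at hz, rfl⟩
    Group.isSolvable_of_isSolvable_injective (inclusion_injective H18.C1_le_N_zpowers)
  obtain ⟨N, _, n1, -, n2⟩ := H16.exists_minimal_normal_le (⊤ : Subgroup G) fun e => hG (by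
    have : Subsingleton G := ⟨fun a b => by rw [mem_bot.1 (e.le (mem_top a)), mem_bot.1 (e.le (mem_top b))]⟩
    infer_instance)
  obtain ⟨t, tN, ht⟩ := inv_of_normal hO n1
  have nc : ¬ ∀ a b : N, a * b = b * a := fun c => by
    obtain ⟨p, hp, k⟩ := H16.exists_prime_pow_eq_one_of_minimal_normal N n1 n2
      fun a ha b hb => congrArg Subtype.val (c ⟨a, ha⟩ ⟨b, hb⟩)
    obtain rfl : 2 = p := (Nat.prime_dvd_prime_iff_eq Nat.prime_two hp).1 (ht ▸ orderOf_dvd_of_pow_eq_one (k t tN))
    have := hL _ ⟨N, fun x => ⟨1, Subtype.ext (by simpa using k x x.2)⟩, n1, rfl⟩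
    rw [normalizer_eq_top] at this
    exact hG (Group.isSolvable_of_surjective (f := (⊤ : Subgroup G).subtype) fun x => ⟨⟨x, trivial⟩, rfl⟩)
  obtain ⟨T, _, m, hT, m0, ⟨e⟩⟩ := H16.exists_pi_of_minimal_normal N n1 n2
  have ncT : ¬ Group.IsSolvable T := fun c => nc fun a b => e.injective (by
    ext i; simpa using IsSimpleGroup.comm_iff_isSolvable.2 c (e a i) (e b i))
  obtain ⟨i, hi⟩ : ∃ i, e ⟨t, tN⟩ i ≠ 1 := by
    by_contra! c
    have : (⟨t, tN⟩ : N) = 1 := e.injective (by ext i; simpa using c i)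
    simp [show t = 1 from congrArg Subtype.val this] at ht
  have u : ∀ j, j = i := fun j => by_contra fun c => by
    let f : Fin m → T →* G := fun j => N.subtype.comp (e.symm.toMonoidHom.comp (MonoidHom.mulSingle (fun _ => T) j))
    have fi : ∀ j, Function.Injective (f j) := fun j =>
      N.subtype_injective.comp (e.symm.injective.comp (Pi.mulSingle_injective (M := fun _ => T) j))
    have o : orderOf (f i (e ⟨t, tN⟩ i)) = 2 := by
      rw [orderOf_injective _ (fi i)]
      refine orderOf_eq_prime ?_ hi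
      rw [← Pi.pow_apply, ← map_pow, show (⟨t, tN⟩ : N) ^ 2 = 1 from Subtype.ext (ht ▸ pow_orderOf_eq_one t),
        map_one, Pi.one_apply]
    have := cen o
    refine ncT (Group.isSolvable_of_isSolvable_injective (f := (f j).codRestrict
      (centralizer {f i (e ⟨t, tN⟩ i)}) fun x => mem_centralizer_singleton_iff.2 ?_)
      ((MonoidHom.injective_codRestrict ..).2 (fi j)))
    exact ((Pi.mulSingle_commute c x _).map (N.subtype.comp e.symm.toMonoidHom)).eq
  have : Unique (Fin m) := ⟨⟨i⟩, u⟩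
  have s := (e.trans (MulEquiv.funUnique _ T)).isSimpleGroup
  refine ⟨N, ‹_›, ⟨s, fun c => nc c.1.1, fun ⟨T, h1, h2, h3⟩ => ?_⟩, by_contra fun c => ?_⟩
  · have := hL _ ⟨T.map N.subtype, h1.map _, fun e => h2 ((map_eq_bot_iff_of_injective _ N.subtype_injective).1 e), rfl⟩
    rw [h3]
    exact Group.isSolvable_of_isSolvable_injective (f := (N.subtype.comp (Subgroup.subtype _)).codRestrict
      (normalizer (T.map N.subtype : Set G)) fun x => le_normalizer_map N.subtype (mem_map_of_mem N.subtype x.2))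
      ((MonoidHom.injective_codRestrict ..).2 (N.subtype_injective.comp (subtype_injective _)))
  · obtain ⟨z, h1, h2⟩ := inv_of_normal hO c
    have := cen h2
    exact nc (IsSimpleGroup.comm_iff_isSolvable.2 (Group.isSolvable_of_isSolvable_injective
      (inclusion_injective fun x hx => mem_centralizer_singleton_iff.2 (h1 x hx))))

theorem comm_eq {N : Subgroup G} [N.Normal] (h : NG2 N) (c : centralizer (N : Set G) = ⊥) (o : OA N) :
    commutator G = N := by
  have := h.simple
  refine le_antisymm (fun x hx => ?_) ?_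
  · let φ : G →* Out N := (QuotientGroup.mk' _).comp MulAut.conjNormal
    have : commutator G ≤ φ.ker := commutator_le.2 fun a _ b _ => by
      rw [MonoidHom.mem_ker, map_commutatorElement, commutatorElement_eq_one_iff_mul_comm, o]
    obtain ⟨n, hn⟩ := (QuotientGroup.eq_one_iff _).1 (this hx)
    have : (n : G)⁻¹ * x = 1 := mem_bot.1 (c.le fun y hy => by
      have := congrArg Subtype.val (DFunLike.congr_fun hn ⟨y, hy⟩)
      simp only [MulAut.conj_apply, MulAut.conjNormal_apply, coe_mul, coe_inv] at this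
      calc y * ((n : G)⁻¹ * x) = (n : G)⁻¹ * (n * y * (n : G)⁻¹) * x := by group
        _ = _ := by rw [this]; group)
    rw [← inv_mul_eq_one.1 this]
    exact n.2
  · rcases (inferInstance : (commutator N).Normal).eq_bot_or_eq_top with k | k
    · exact (h.nc ⟨⟨fun a b => commutatorElement_eq_one_iff_mul_comm.1
        (mem_bot.1 (k.le (commutator_mem_commutator (mem_top a) (mem_top b))))⟩⟩).elim
    · intro x hx
      have := mem_map_of_mem N.subtype (k.ge (mem_top ⟨x, hx⟩))
      rw [commutator_def, map_commutator] at this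
      exact commutator_mono le_top le_top this

end

/-- Let G be a nonsolvable finite group of sectional 2-rank at most 4 in which every 2-local subgroup is solvable, and let
D be its commutator subgroup. Then D modulo its core is isomorphic to a projective special linear group of dimension 2
over a field of odd order or of order 8 or 16, to the projective special linear group of dimension 3 over the field
with 3 elements, to a projective special unitary group of dimension 3 for q = 3 or q = 4, to the alternating group of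
degree 7, or is simple of order 29120 or 7920. -/
theorem result {G : Type*} [Group G] [Finite G]
    (hG : ¬ Group.IsSolvable G) (h4 : Cfsg.SectionalPRankLE 2 4 G)
    (hL : ∀ N : Subgroup G, Cfsg.IsTwoLocal N → Group.IsSolvable N) :
    (∃ (F : Type) (_ : Field F) (_ : Fintype F),
        (Odd (Fintype.card F) ∨ Fintype.card F = 8 ∨ Fintype.card F = 16) ∧
          Nonempty (↥(commutator G) ⧸ Cfsg.oddCore ↥(commutator G) ≃* Matrix.ProjectiveSpecialLinearGroup (Fin 2) F)) ∨
      (∃ (F : Type) (_ : Field F) (_ : Fintype F), Fintype.card F = 3 ∧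
          Nonempty (↥(commutator G) ⧸ Cfsg.oddCore ↥(commutator G) ≃* Matrix.ProjectiveSpecialLinearGroup (Fin 3) F)) ∨
      (∃ (F : Type) (_ : Field F) (_ : Fintype F) (q : ℕ), Fintype.card F = q ^ 2 ∧ (q = 3 ∨ q = 4) ∧
          Nonempty (↥(commutator G) ⧸ Cfsg.oddCore ↥(commutator G) ≃* Cfsg.PSU 3 F q)) ∨
      Nonempty (↥(commutator G) ⧸ Cfsg.oddCore ↥(commutator G) ≃* alternatingGroup (Fin 7)) ∨
      (IsSimpleGroup (↥(commutator G) ⧸ Cfsg.oddCore ↥(commutator G)) ∧
        (Nat.card (↥(commutator G) ⧸ Cfsg.oddCore ↥(commutator G)) = 29120 ∨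
          Nat.card (↥(commutator G) ⧸ Cfsg.oddCore ↥(commutator G)) = 7920)) := by
  have hf := QuotientGroup.mk'_surjective (oddCore G)
  have ho := H17.pPrimeCore_not_dvd G 2
  have r : SR G := fun H N => H3.sec_le h4
  obtain ⟨N, _, h1, h2⟩ := core (H17.pPrimeCore_quotient G 2) (fun c => hG (by
      have := H16.odd_order (oddCore G) (Nat.not_even_iff_odd.1 fun e => ho e.two_dvd)
      exact Group.isSolvable_of_ker_le_range (oddCore G).subtype (QuotientGroup.mk' (oddCore G))
        (by rw [QuotientGroup.ker_mk', range_subtype]))) (by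
    rintro _ ⟨Q, q1, q2, rfl⟩
    obtain ⟨T, hT⟩ := exists_isSyl 2 (Q.comap (QuotientGroup.mk' (oddCore G)))
    have e := hT.map (QuotientGroup.mk' (oddCore G))
    rw [map_comap_eq_self_of_surjective hf] at e
    have e := e.eq_of_le q1 e.le le_rfl
    have := hL _ ⟨T, hT.isP, fun j => q2 (by rw [e, j, Subgroup.map_bot]), rfl⟩
    rw [e, ← H4.map_normalizer_of_coprime hf (by
      rw [QuotientGroup.ker_mk']; exact ((Nat.Prime.coprime_iff_not_dvd Nat.prime_two).2 ho).symm) hT.isP]
    exact Group.isSolvable_of_surjective (MonoidHom.subgroupMap_surjective _ _))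
  obtain ⟨c, o⟩ := cl_of h1 ((r.surj _ hf).inj _ N.subtype_injective)
  let ψ := (QuotientGroup.mk' (oddCore G)).comp (commutator G).subtype
  have k : oddCore (commutator G) = ψ.ker := by
    rw [← MonoidHom.comap_ker, QuotientGroup.ker_mk']
    refine le_antisymm (map_le_iff_le_comap.1 (H17.le_pPrimeCore_of_isSubnormal ?_ ?_))
      (H17.le_pPrimeCore_of_isSubnormal (Normal.isSubnormal inferInstance) fun j => ho (j.trans ?_))
    · exact (Normal.isSubnormal inferInstance).trans' (Normal.isSubnormal inferInstance)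
    · rw [card_map_of_injective (subtype_injective _)]
      exact H17.pPrimeCore_not_dvd _ 2
    · exact card_comap_dvd_of_injective _ _ (subtype_injective _)
  have l : ψ.range = N := by
    rw [MonoidHom.range_comp, range_subtype, map_commutator_eq, MonoidHom.range_eq_top.2 hf, ← commutator_def,
      comm_eq h1 h2 o]
  exact c.equiv (((QuotientGroup.quotientMulEquivOfEq k).trans (QuotientGroup.quotientKerEquivRange ψ)).trans
    (MulEquiv.subgroupCongr l))

end Cfsg.Agent.S0517
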