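import Cfsg.Statements.S0647
import Cfsg.Agent.H4.Thompson

set_option autoImplicit false
open Cfsg

namespace Cfsg.Agent.S0647

/-- For a nonempty family of maximal abelian subgroups of a finite group, the intersection of the family is the centre of the subgroup it generates, which is also the full centralizer of that subgroup. -/
theorem result {S : Type*} [Group S] [Finite S] (𝒜 : Set (Subgroup S)) (hne : 𝒜.Nonempty) (hab : ∀ A ∈ 𝒜, IsMulCommutative A) (hmax : ∀ A ∈ 𝒜, ∀ B : Subgroup S, IsMulCommutative B → A ≤ B → B = A) : sInf 𝒜 = sSup 𝒜 ⊓ Subgroup.centralizer ((sSup 𝒜 : Subgroup S) : Set S) ∧ sInf 𝒜 = Subgroup.centralizer ((sSup 𝒜 : Subgroup S) : Set S) := by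
  have key : sInf 𝒜 = Subgroup.centralizer ((sSup 𝒜 : Subgroup S) : Set S) := by
    apply le_antisymm
    · rw [Subgroup.le_centralizer_iff, sSup_le_iff]
      intro A hA
      exact (H4.comm_le_centralizer (hab A hA)).trans (H26.centralizer_anti (sInf_le hA))
    · rw [le_sInf_iff]
      intro A hA x hx
      have hx' : x ∈ Subgroup.centralizer (A : Set S) := H26.centralizer_anti (le_sSup hA) hx
      have := hmax A hA _ (H4.comm_sup (H4.comm_zpowers x) (hab A hA) (Subgroup.zpowers_le.2 hx')) le_sup_right
      exact this ▸ Subgroup.mem_sup_left (Subgroup.mem_zpowers x)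
  refine ⟨?_, key⟩
  obtain ⟨A, hA⟩ := hne
  rw [← key, eq_comm, inf_eq_right]
  exact (sInf_le hA).trans (le_sSup hA)

end Cfsg.Agent.S0647
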