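import Cfsg.Statements.S0650
import Cfsg.Agent.H4.GlReplace
import Cfsg.Agent.H4.Critical

set_option autoImplicit false
open Cfsg

namespace Cfsg.Agent.S0650

/-- The Glauberman replacement Theorem: from an abelian A ⊇ [B, B] not normalized by the normal subgroup B and a suitable b ∈ B one gets the abelian subgroup A* = (A ∩ b⁻¹Ab)[A, b] of the same order, containing [B, B], meeting B strictly more than A does but not containing B, mutually normalizing with A, with strictly larger normalizer containing b, and (p odd) of no larger exponent. -/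
theorem result {S : Type*} [Group S] [Finite S] {p : ℕ} [Fact p.Prime] (hS : IsPGroup p S) (B : Subgroup S) [B.Normal] (hB2 : p = 2 → IsMulCommutative B) (A : Subgroup S) (hA : IsMulCommutative A) (hBA : ⁅B, B⁆ ≤ A) (hnot : ¬ B ≤ Subgroup.normalizer (A : Set S)) (b : S) (hb : b ∈ B) (hbN : b ∈ Subgroup.normalizer ((Subgroup.normalizer (A : Set S)) : Set S)) (hbA : b ∉ Subgroup.normalizer (A : Set S)) : Nat.card ↥((A ⊓ A.map (MulAut.conj (b⁻¹)).toMonoidHom) ⊔ Subgroup.closure {g : S | ∃ a ∈ A, g = a * b⁻¹ * a⁻¹ * b}) = Nat.card A ∧ IsMulCommutative ↥((A ⊓ A.map (MulAut.conj (b⁻¹)).toMonoidHom) ⊔ Subgroup.closure {g : S | ∃ a ∈ A, g = a * b⁻¹ * a⁻¹ * b}) ∧ ⁅B, B⁆ ≤ ((A ⊓ A.map (MulAut.conj (b⁻¹)).toMonoidHom) ⊔ Subgroup.closure {g : S | ∃ a ∈ A, g = a * b⁻¹ * a⁻¹ * b}) ∧ A ⊓ B < ((A ⊓ A.map (MulAut.conj (b⁻¹)).toMonoidHom) ⊔ Subgroup.closure {g : S | ∃ a ∈ A, g = a * b⁻¹ * a⁻¹ * b}) ⊓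 B ∧ ((A ⊓ A.map (MulAut.conj (b⁻¹)).toMonoidHom) ⊔ Subgroup.closure {g : S | ∃ a ∈ A, g = a * b⁻¹ * a⁻¹ * b}) ⊓ B < B ∧ A ≤ Subgroup.normalizer (((A ⊓ A.map (MulAut.conj (b⁻¹)).toMonoidHom) ⊔ Subgroup.closure {g : S | ∃ a ∈ A, g = a * b⁻¹ * a⁻¹ * b} : Subgroup S) : Set S) ∧ ((A ⊓ A.map (MulAut.conj (b⁻¹)).toMonoidHom) ⊔ Subgroup.closure {g : S | ∃ a ∈ A, g = a * b⁻¹ * a⁻¹ * b}) ≤ Subgroup.normalizer (A : Set S) ∧ b ∈ Subgroup.normalizer (((A ⊓ A.map (MulAut.conj (b⁻¹)).toMonoidHom) ⊔ Subgroup.closure {g : S | ∃ a ∈ A, g = a * b⁻¹ * a⁻¹ * b} : Subgroup S) : Set S) ∧ Subgroup.normalizer (A : Set S) < Subgroup.normalizer (((A ⊓ A.map (MulAut.conj (b⁻¹)).toMonoidHom) ⊔ Subgroup.closure {g : S | ∃ a ∈ A, g = a * b⁻¹ * a⁻¹ * b} : Subgroup S) : Set S) ∧ (p ≠ 2 → Monoid.exponent ↥((A ⊓ A.map (MulAut.conj (b⁻¹)).toMonoidHom) ⊔ Subgroup.closure {g : S | ∃ a ∈ A, g = a * b⁻¹ * a⁻¹ * b}) ∣ Monoid.exponent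 A) := by
  have hBN : ∀ N : Subgroup S, N ≤ Subgroup.normalizer (B : Set S) := fun N => Subgroup.normalizer_eq_top B ▸ le_top
  have hodd : ∀ w ∈ ⁅B, B⁆, w ^ 2 = 1 → w = 1 := by
    intro w hw h2
    by_cases hp : p = 2
    · have := Subgroup.commutator_self_eq_bot_iff.2 (hB2 hp)
      rw [this] at hw
      exact hw
    · exact H4.eq_one_of_sq_of_isPGroup hp (hS.to_subgroup _) hw h2
  have h : H4.GlHyp A B (Subgroup.normalizer (A : Set S)) b :=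
    ⟨hA, Subgroup.le_normalizer, le_rfl, hBN _, hb, hbN, hBA, hodd⟩
  refine ⟨h.card_star, h.star_comm, h.der_le_star, h.inf_lt hbA, h.inf_lt' hbA,
    Subgroup.le_normalizer.trans h.N_le_star, h.star_le_N, h.mem_normalizer_star,
    lt_of_le_of_ne h.N_le_star fun he => hbA (he.ge h.mem_normalizer_star), fun hp => ?_⟩
  obtain ⟨k, hk⟩ : ∃ k, Monoid.exponent A = p ^ k := by
    have := (hS.to_subgroup A).exists_card_eq
    obtain ⟨n, hn⟩ := this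
    obtain ⟨k, -, hk⟩ := (Nat.dvd_prime_pow Fact.out).1 (hn ▸ Group.exponent_dvd_nat_card (G := A))
    exact ⟨k, hk⟩
  have ho : Odd (Monoid.exponent A) := hk ▸ (H4.odd_of_ne_two hp).pow
  have h1 := h.star_elemAb (Or.inr ho) fun a ha => by
    have := Monoid.pow_exponent_eq_one (⟨a, ha⟩ : A)
    exact congrArg Subtype.val this
  exact Monoid.exponent_dvd_of_forall_pow_eq_one fun g => Subtype.ext (h1.2 g g.2)

end Cfsg.Agent.S0650
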