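import Cfsg.Statements.S0999
import Cfsg.Agent.H10.BR4

set_option autoImplicit false
open Cfsg

namespace Cfsg.Agent.S0999

/-- Let G be a non-cyclic finite simple group and p a prime divisor of its order with p^3 > |G|. Then p > 3 and G is isomorphic to the projective special linear group of dimension 2 over the field with p elements, or p - 1 is a power of 2 and G is isomorphic to that group over the field with p - 1 elements. -/
theorem result {G : Type*} [Group G] [Finite G] [IsSimpleGroup G] (hG : ¬ IsCyclic G) (p : ℕ) (hp : p.Prime) (hdvd : p ∣ Nat.card G) (hbig : Nat.card G < p ^ 3) : (∃ (F : Type) (_ : Field F) (_ : Fintype F), Fintype.card F = p ∧ 3 < p ∧ Nonempty (G ≃* Matrix.ProjectiveSpecialLinearGroup (Fin 2) F)) ∨ (∃ (m : ℕ) (F : Type) (_ : Field F) (_ : Fintype F), Fintype.card F = 2 ^ m ∧ p = 2 ^ m + 1 ∧ 3 < p ∧ Nonempty (G ≃* Matrix.ProjectiveSpecialLinearGroup (Fin 2) F)) := by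
  haveI := Fact.mk hp
  have hc : ¬ IsMulCommutative G := fun h => hG (by
    haveI := Fact.mk (H5.card_prime_of_isSimpleGroup_of_comm (G := G) fun a b => h.is_comm.comm a b)
    exact isCyclic_of_prime_card rfl)
  obtain ⟨P⟩ : Nonempty (Sylow p G) := inferInstance
  have hperf := H10.commutator_eq_top_of_simple hc
  obtain ⟨h3, e | ⟨m, F, _, _, hF, hp, e, -⟩⟩ := H10.brauer_cube hperf hdvd hbig P
    (fun h => by
      have h1 : Subsingleton (Sylow p G) := by
        haveI := Sylow.unique_of_normal P h
        infer_instance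
      obtain ⟨g, hg⟩ := exists_prime_orderOf_dvd_card' p hdvd
      have := H10.eq_one_of_smul_sylow_of_simple hc hdvd g fun Q => Subsingleton.elim _ _
      rw [this, orderOf_one] at hg
      exact hp.one_lt.ne hg)
    (fun N hN h2 => by
      rcases hN.eq_bot_or_eq_top with rfl | rfl
      · simp at h2
      · haveI : Fact (Nat.Prime 2) := ⟨Nat.prime_two⟩
        exact hG (isCyclic_of_prime_card (p := 2) (by simpa using h2)))
  · exact Or.inl ⟨ZMod p, inferInstance, inferInstance, ZMod.card p, h3, e⟩
  · exact Or.inr ⟨m, F, inferInstance, inferInstance, hF, hp, h3, e⟩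

end Cfsg.Agent.S0999
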