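import Cfsg.Statements.S1154
import Cfsg.Agent.H13.ReeInv

set_option autoImplicit false
open Cfsg

namespace Cfsg.Agent.S1154

open H13 H13.Ree

/-- In the small Ree group ²G₂(q), q = 3^(2m+1) with m ≥ 1, realised as G¹ inside the Chevalley group G₂ over the field with q elements (θ the 3^m-th power map), with `U¹ = G¹ ∩ U` (U the positive unipotent subgroup of the ambient G₂): `U¹` has exactly `q² - 1` elements of order 3. -/
theorem result {K : Type*} [Field K] [Fintype K] {m : ℕ} (hm : 1 ≤ m) (hK : Fintype.card K = 3 ^ (2 * m + 1)) :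
    Nat.card {u : ↥(Cfsg.Lie.chevG2.posUnipotent K ⊓ Cfsg.Lie.twistedG2 K (3 ^ m)) // orderOf u = 3} = (3 ^ (2 * m + 1)) ^ 2 - 1 := by
  haveI : H13.Ree.IsRee K m := ⟨hK⟩
  classical
  let e := equivInf (K := K) (m := m) fun _ => mem_U_iff'
  have : Function.Bijective fun p : {p : K × K // p ≠ 0} =>
      (⟨e ⟨u m 0 p.1.1 p.1.2, u_mem_U _ _ _⟩, by
        rw [MulEquiv.orderOf_eq, Subgroup.orderOf_mk, orderOf_u_eq_three]
        exact ⟨rfl, fun h => p.2 (Prod.ext h.1 h.2)⟩⟩ : {x // orderOf x = 3}) := by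
    constructor
    · rintro ⟨⟨a, b⟩, h⟩ ⟨⟨c, d⟩, h'⟩ e'
      simpa [u_inj] using e'
    · rintro ⟨x, hx⟩
      obtain ⟨⟨x, hx'⟩, rfl⟩ := e.surjective x
      obtain ⟨t, a, b, rfl⟩ := mem_U.1 hx'
      rw [MulEquiv.orderOf_eq, Subgroup.orderOf_mk, orderOf_u_eq_three] at hx
      obtain ⟨rfl, h⟩ := hx
      exact ⟨⟨(a, b), by simpa using h⟩, rfl⟩
  rw [← Nat.card_eq_of_bijective _ this, Nat.card_eq_fintype_card, Fintype.card_subtype_compl, Fintype.card_prod, hK, sq]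
  simp

end Cfsg.Agent.S1154
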