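import Cfsg.Statements.S1159
import Cfsg.Agent.H13.ReeTori2

set_option autoImplicit false
open Cfsg

namespace Cfsg.Agent.S1159

open H13 H13.Ree

/-- In the small Ree group ²G₂(q), q = 3^(2m+1) with m ≥ 1, realised as G¹ inside the Chevalley group G₂ over the field with q elements (θ the 3^m-th power map), with `r = 3^(m+1)`: a natural number is the order of an element of `G¹` iff it divides one of `6`, `9`, `q - 1`, `(q + 1)/2`, `q - r + 1`, `q + r + 1`. -/
theorem result {K : Type*} [Field K] [Fintype K] {m : ℕ} (hm : 1 ≤ m) (hK : Fintype.card K = 3 ^ (2 * m + 1)) (d : ℕ) :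
    (∃ g : ↥(Cfsg.Lie.twistedG2 K (3 ^ m)), orderOf g = d) ↔
      (d ∣ 6 ∨ d ∣ 9 ∨ d ∣ 3 ^ (2 * m + 1) - 1 ∨ d ∣ (3 ^ (2 * m + 1) + 1) / 2 ∨
        d ∣ 3 ^ (2 * m + 1) - 3 ^ (m + 1) + 1 ∨ d ∣ 3 ^ (2 * m + 1) + 3 ^ (m + 1) + 1) := by
  haveI : H13.Ree.IsRee K m := ⟨hK⟩
  rw [← hK]
  obtain ⟨⟨A, F⟩, ⟨A', F'⟩, hn⟩ := exists_pkg_E (K := K) hm
  constructor
  · rintro ⟨g, rfl⟩
    rcases order_cases g with h | h | h | h | h
    · tauto
    · exact Or.inl (mem_conjSet_X6.1 h).dvd
    · tauto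
    · tauto
    · by_cases h1 : g = 1
      · simp [h1]
      obtain ⟨p, hp, hd⟩ := Nat.exists_prime_and_dvd (mt orderOf_eq_one_iff.1 h1)
      obtain ⟨x, hx, rfl⟩ := exists_prime_pow hp hd
      have key : ∀ {A : Subgroup (R K m)} {k n : ℕ}, Pkg A A k n → orderOf x ∣ k → orderOf g ∣ k := fun F h => by
        obtain ⟨k, a, ha, rfl⟩ := F.conj x h
        obtain ⟨b, hb, rfl⟩ := mem_conjSet_of_commute (F.cent a ha (by rintro rfl; simp at hp; exact Nat.not_prime_one hp)) hx
        rw [orderOf_conj', ← F.card]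
        exact Subgroup.orderOf_dvd_natCard _ hb
      have := hd.trans h
      rw [hn, hp.dvd_mul] at this
      rcases this with h | h
      · have := key F' h; tauto
      · have := key F h; tauto
  · have key : ∀ g : R K m, d ∣ orderOf g → ∃ g : R K m, orderOf g = d := fun g h => by
      obtain ⟨a, -, e⟩ := exists_orderOf_eq_of_dvd (Subgroup.zpowers g) (d := d) (by rwa [Nat.card_zpowers])
      exact ⟨a, e⟩
    have key' : ∀ (A : Subgroup (R K m)) [IsCyclic A], d ∣ Nat.card A → ∃ g : R K m, orderOf g = d := fun A _ h => by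
      obtain ⟨a, -, e⟩ := exists_orderOf_eq_of_dvd A h
      exact ⟨a, e⟩
    rintro (h | h | h | h | h | h)
    · exact key _ (orderOf_uj (K := K) one_ne_zero ▸ h)
    · exact key _ (orderOf_u (K := K) one_ne_zero 0 0 ▸ h)
    · exact key' (H K m) (by rwa [card_H])
    · exact key' (T2 K m) (by rwa [card_T2])
    · exact haveI := F.cyc; key' A (by rwa [F.card])
    · exact haveI := F'.cyc; key' A' (by rwa [F'.card])

end Cfsg.Agent.S1159
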