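import Cfsg.Statements.S1250
import Cfsg.Agent.H4.SC

set_option autoImplicit false
open Cfsg

namespace Cfsg.Agent.S1250

/-- Let S be a Sylow p-subgroup of the finite group G, A ≤ S strongly closed in S, and N a normal subgroup. Then the image of A in G ⧸ N is strongly closed in the image of S (which is a Sylow p-subgroup of G ⧸ N). -/
theorem result {G : Type*} [Group G] [Finite G] {p : ℕ} [Fact p.Prime] (S : Sylow p G) (A : Subgroup G) (hA : Cfsg.IsStronglyClosed A (S : Subgroup G)) (N : Subgroup G) [N.Normal] : Cfsg.IsStronglyClosed (A.map (QuotientGroup.mk' N)) ((S : Subgroup G).map (QuotientGroup.mk' N)) := by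
  refine ⟨Subgroup.map_mono hA.1, ?_⟩
  have hs := H4.Gs.scl_cl (H17.isSyl_sylow S) hA
  have m : ∀ X : Subgroup G, H18.mim ((QuotientGroup.mk' N).comp (⊤ : Subgroup G).subtype) X = X.map (QuotientGroup.mk' N) :=
    fun X => by rw [H18.mim, ← Subgroup.map_map, Subgroup.subgroupOf_map_subtype, inf_top_eq]
  have e := hs.mim_gen_syl (f := (QuotientGroup.mk' N).comp (⊤ : Subgroup G).subtype) le_rfl (H17.isSyl_sylow S)
  have h2 := hs.mim (f := (QuotientGroup.mk' N).comp (⊤ : Subgroup G).subtype) le_rfl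
  rw [H4.Gs.gen_cl (H17.isSyl_sylow S) hA, m, m] at e
  rw [m, H17.map_mk'_top] at h2
  exact (e ▸ h2.sclosed (S.isPGroup'.map _)).2

end Cfsg.Agent.S1250
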