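import Cfsg.Statements.S1251
import Cfsg.Agent.H4.SC

set_option autoImplicit false
open Cfsg

namespace Cfsg.Agent.S1251

/-- Let S be a Sylow 2-subgroup of the finite group G and A ≤ S strongly closed in S. If H is a subgroup normalized by A with no nontrivial normal subgroup of odd order and A ∩ H = 1, then A ≤ C_G(H). -/
theorem result {G : Type*} [Group G] [Finite G] (S : Sylow 2 G) (A : Subgroup G) (hA : Cfsg.IsStronglyClosed A (S : Subgroup G)) (H : Subgroup G) (hAH : A ≤ Subgroup.normalizer (H : Set G)) (hO : Cfsg.oddCore ↥H = ⊥) (hdisj : A ⊓ H = ⊥) : A ≤ Subgroup.centralizer (H : Set G) := by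
  have hs := H4.Gs.scl_cl (H17.isSyl_sylow S) hA
  have h0 : H17.oQ 2 H = ⊥ := by rw [H17.oQ, show Cfsg.pPrimeCore 2 H = ⊥ from hO, Subgroup.map_bot]
  obtain ⟨R, hR, hAR⟩ := H17.exists_isSyl_ge (S.isPGroup'.to_le hA.1) (le_sup_left : A ≤ A ⊔ H)
  have e := hs.gen_eq (H17.isSyl_sylow S) le_rfl hR.pgroup le_top ((H4.Gs.gen_cl (H17.isSyl_sylow S) hA).le.trans hAR)
  rw [H4.Gs.gen_cl (H17.isSyl_sylow S) hA] at e
  have hT := hR.inf_normal le_sup_right (hR.le.trans (sup_le hAH H18.le_N))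
  refine fun a ha => hs.cent le_top h0 (hs.gen_eq_bot_of_syl hT le_top ?_) (H4.Gs.mem_cl ha) trivial (hAH ha)
  rw [← hs.gen_inf hR.pgroup le_top, e, hdisj]

end Cfsg.Agent.S1251
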