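import Cfsg.Statements.S1292
import Cfsg.Agent.H17.Bal

set_option autoImplicit false
open Cfsg

namespace Cfsg.Agent.S1292

/-- Let G be a finite group such that F*(C_G(t)) = O_2(C_G(t)) for every involution t. Then F*(N_G(T)) = O_2(N_G(T)) for every nontrivial 2-subgroup T of G. -/
theorem result {G : Type*} [Group G] [Finite G] (h : ∀ t : G, orderOf t = 2 → Cfsg.generalizedFittingSubgroup ↥(Subgroup.centralizer ({t} : Set G)) = Cfsg.pCore 2 ↥(Subgroup.centralizer ({t} : Set G))) (T : Subgroup G) (hT : IsPGroup 2 ↥T) (hT1 : T ≠ ⊥) : Cfsg.generalizedFittingSubgroup ↥(Subgroup.normalizer (T : Set G)) = Cfsg.pCore 2 ↥(Subgroup.normalizer (T : Set G)) := by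
  rw [H17.gfit_eq_oP_iff]
  obtain ⟨z, hz, hz2⟩ := H17.exists_orderOf_eq_of_dvd (H17.dvd_card_of_pgroup_ne_bot (hT.to_inf_left)
    (H17.inf_centralizer_ne_bot hT hT Subgroup.le_normalizer hT1))
  have h1 : T ≤ Subgroup.centralizer {z} := fun t ht =>
    Subgroup.mem_centralizer_singleton_iff.mpr (hz.2 t ht)
  have h2 := (H17.gfit_eq_oP_iff.mp (h z hz2)).centralizer hT (h1.trans Subgroup.le_normalizer)
  rw [inf_eq_right.mpr (H17.centralizer_le_centralizer_singleton hz.1)] at h2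
  have h3 := H17.oQE_centralizer_eq (H := ⊤) hT le_top
  rw [top_inf_eq, top_inf_eq] at h3
  rwa [H17.charP_iff_oQE, ← h3, ← H17.charP_iff_oQE]

end Cfsg.Agent.S1292
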