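import Cfsg.Statements.S1294
import Cfsg.Agent.H17.SFG

set_option autoImplicit false
open Cfsg

namespace Cfsg.Agent.S1294

open H18 H17 Subgroup

/-- Let G be finite with O_{p'}(G) = 1 and p-rank at least 3, whose reduced rank-2 commuting graph for p is connected. Let θ assign to every element a of order p with m_p(C_G(a)) ≥ 3 a solvable subgroup θ a ≤ C_G(a) of order prime to p, so that θ (g a g⁻¹) = g (θ a) g⁻¹ for all g and θ a ∩ C_G(b) ≤ θ b for commuting such a, b. Then θ a = 1 for every such a. -/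
theorem result {G : Type*} [Group G] [Finite G] (p : ℕ) [Fact p.Prime] (hO : Cfsg.pPrimeCore p G = ⊥) (hrk : ¬ Cfsg.PRankLE p 2 G) (hconn : Cfsg.IsRankGraphConnected p 2 G) (θ : G → Subgroup G) (hC : ∀ a : G, (orderOf a = p ∧ ¬ Cfsg.PRankLE p 2 ↥(Subgroup.centralizer ({a} : Set G))) → θ a ≤ Subgroup.centralizer ({a} : Set G) ∧ ¬ p ∣ Nat.card ↥(θ a) ∧ Group.IsSolvable ↥(θ a)) (heq : ∀ a g : G, (orderOf a = p ∧ ¬ Cfsg.PRankLE p 2 ↥(Subgroup.centralizer ({a} : Set G))) → θ (g * a * g⁻¹) = (θ a).map (MulAut.conj g).toMonoidHom) (hbal : ∀ a b : G, (orderOf a = p ∧ ¬ Cfsg.PRankLE p 2 ↥(Subgroup.centralizer ({a} : Set G))) → (orderOf b = p ∧ ¬ Cfsg.PRankLE p 2 ↥(Subgroup.centralizer ({b} : Set G))) → a * b = b * a → θ a ⊓ Subgroup.centralizer {b} ≤ θ b) (a : G) (ha : (orderOf a = p ∧ ¬ Cfsg.PRankLE p 2 ↥(Subgroup.centralizer ({a} : Set G)))) : θ a = ⊥ := by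
  have hp : p.Prime := Fact.out
  have I : ∀ A : Subgroup G, Elem p A → p ^ 3 ≤ Nat.card A → ∀ a ∈ A, a ≠ 1 →
      orderOf a = p ∧ ¬ PRankLE p 2 C1(a) := fun A he h3 a ha h1 =>
    ⟨he.orderOf hp ha h1, not_prankLE_of_elem hp (he.abel.trans (C_le_C1 ha)) he h3⟩
  have eq : ∀ {A : Subgroup G} {g}, Elem p A → p ^ 3 ≤ Nat.card A → ∀ a ∈ A, a ≠ 1 →
      θ (g * a * g⁻¹) = H18.cj g (θ a) := fun he h3 a ha h1 => heq a _ (I _ he h3 a ha h1)
  have hs : GSF p ⊤ θ := fun A _ he h3 => ⟨hp, he, fun a ha h1 => (hC a (I A he h3 a ha h1)).1,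
    fun a ha h1 => (piNat_compl_iff hp).2 (hC a (I A he h3 a ha h1)).2.1, fun a ha h1 g hg => mem_N_iff_cj.2 (by
      rw [← eq he h3 a ha h1, conj_eq_self_of_C1 (C_le_C1 ha (he.abel hg))]),
    fun a ha h1 => (hC a (I A he h3 a ha h1)).2.2, fun a ha h1 b hb h2 =>
      hbal a b (I A he h3 a ha h1) (I A he h3 b hb h2) (comm_of_cent he.abel ha hb)⟩
  obtain ⟨F, hF, he, h3⟩ := exists_elem_of_not_prankLE hp ha.2
  have hA : Elem p (F ⊔ zpowers a) := he.sup (H18.elem_zpowers (ha.1 ▸ pow_orderOf_eq_one a)) (toC hF)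
  have h3' : p ^ 3 ≤ Nat.card ↥(F ⊔ zpowers a) := h3.ge.trans (card_le le_sup_left)
  have v : ∀ {A : Subgroup G}, Elem p A → p ^ 3 ≤ Nat.card A → IsRankGraphVertex p 2 A := fun he h3 =>
    ⟨he.isElem, sq_le_of_cube hp h3, not_prankLE_of_elem hp he.abel he h3⟩
  have c : ∀ E E' : Subgroup G, IsRankGraphVertex p 2 E → IsRankGraphVertex p 2 E' → WB θ E = WB θ E' := by
    intro E E' h1 h2
    induction hconn E E' h1 h2 with
    | refl => rfl
    | tail _ e ih => exact (ih e.1).trans (hs.eq_of_comm hp le_top le_top (H18.elem_iff.2 e.1.1) (H18.elem_iff.2 e.2.1.1)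
        e.1.2.1 e.2.1.2.1 (cent_iff.2 e.2.2))
  have := le_pcore (H := ⊤) ⟨le_top, fun g _ => mem_N_iff_cj.2 ((cj_WB (eq hA h3')).trans
    (c _ _ (v (hA.cj g) (by rwa [H18.card_cj])) (v hA h3')))⟩ ((hs _ le_top hA h3').mem_WB h3').pi
  rw [← pPrimeCore_eq hp, hO] at this
  exact le_bot_iff.1 ((le_WB (mem_sup_right (mem_zpowers a)) fun e => hp.one_lt.ne' (by
    rw [← ha.1, e, orderOf_one])).trans this)

end Cfsg.Agent.S1294
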