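import Cfsg.Statements.S1295
import Cfsg.Agent.H17.SFG
import Cfsg.Agent.S1294

set_option autoImplicit false
open Cfsg

namespace Cfsg.Agent.S1295

open H18 H17 Subgroup

/-- Let G be finite with O_{p'}(G) = 1 and p-rank at least 3, whose reduced rank-2 commuting graph for p is connected. Suppose that for every element a of order p with m_p(C_G(a)) ≥ 3 the p-layer of C_G(a) is trivial and O_{p'}(C_G(a)) is solvable. Then F*(C_G(a)) = O_p(C_G(a)) for every such a. -/
theorem result {G : Type*} [Group G] [Finite G] (p : ℕ) [Fact p.Prime] (hO : Cfsg.pPrimeCore p G = ⊥) (hrk : ¬ Cfsg.PRankLE p 2 G) (hconn : Cfsg.IsRankGraphConnected p 2 G) (hL : ∀ a : G, (orderOf a = p ∧ ¬ Cfsg.PRankLE p 2 ↥(Subgroup.centralizer ({a} : Set G))) → Cfsg.pLayer p ↥(Subgroup.centralizer ({a} : Set G)) = ⊥ ∧ Group.IsSolvable ↥(Cfsg.centralizerPPrimeCore p a)) (a : G) (ha : (orderOf a = p ∧ ¬ Cfsg.PRankLE p 2 ↥(Subgroup.centralizer ({a} : Set G)))) : Cfsg.generalizedFittingSubgroup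 ↥(Subgroup.centralizer ({a} : Set G)) = Cfsg.pCore p ↥(Subgroup.centralizer ({a} : Set G)) := by
  have L : ∀ a : G, orderOf a = p ∧ ¬ PRankLE p 2 C1(a) → pLay p C1(a) = ⊥ := fun a ha => by
    rw [pLay, (hL a ha).1, Subgroup.map_bot]
  refine gfit_eq_oP_iff.2 (charP_iff_oQE.2 ?_)
  rw [oQE, L a ha, sup_bot_eq]
  exact Cfsg.Agent.S1294.result p hO hrk hconn (centralizerPPrimeCore p)
    (fun a ha => ⟨oQ_le p _, oQ_not_dvd p _, (hL a ha).2⟩) (fun a g _ => core_conj a g)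
    (fun a b ha hb e => core_le_core (L b hb) (isPGroup_zpowers_of_orderOf ha.1) (mem_C1.2 e)) a ha

end Cfsg.Agent.S1295
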