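import Cfsg.Statements.S1296
import Cfsg.Agent.H17.Dich
import Cfsg.Agent.S1221

set_option autoImplicit false
open Cfsg

namespace Cfsg.Agent.S1296

open H17 H18 Subgroup

/-- Dichotomy Theorem. Let G be a finite group of even order with no normal subgroup of index 2 and with O(G) = 1. Then G has 2-rank at most 2, or G is of component type, or G is of characteristic 2 type. -/
theorem result {G : Type*} [Group G] [Finite G] (heven : Even (Nat.card G)) (hO2 : ∀ N : Subgroup G, N.Normal → N.index ≠ 2) (hO : Cfsg.oddCore G = ⊥) : Cfsg.PRankLE 2 2 G ∨ Cfsg.IsComponentType G ∨ Cfsg.IsCharacteristicTwoType G := by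
  refine or_iff_not_imp_left.2 fun h3 => or_iff_not_imp_left.2 fun hc => ?_
  have c : ∀ t : G, orderOf t = 2 → pLay 2 C1(t) = ⊥ := fun t ht =>
    pLay_eq_bot_of_not_hasComponent fun e => hc ⟨t, ht, e⟩
  obtain ⟨S, hS⟩ := exists_sylow Nat.prime_two (⊤ : Subgroup G)
  obtain ⟨M, W, h⟩ := exists_DS c hS (big_sylow hS h3)
  exact charTwoType_of heven c fun t => h.eq_bot (fun t ht => h.big_of_transfer hO2 (h.le ht)) hO Cfsg.Agent.S1221.result

end Cfsg.Agent.S1296
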