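import Cfsg.Statements.S1303
import Cfsg.Agent.H17.Bal
import Cfsg.Agent.H17.Cam4

set_option autoImplicit false
open Cfsg

namespace Cfsg.Agent.S1303

open H17 Subgroup

abbrev X := Matrix.SpecialLinearGroup (Fin 2) (ZMod 3)

def u : X := ⟨!![1, 1; 0, 1], by decide⟩

theorem cardX : Nat.card X = 24 := by rw [Nat.card_eq_fintype_card]; decide +kernel

theorem core : pPrimeCore 2 X = ⊥ := by
  have key : ∀ x : X, x ^ 3 = 1 → (∀ g : X, (x⁻¹ * (g * x * g⁻¹)) ^ 3 = 1) → x = 1 := by decide +kernel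
  have h3 : ∀ y ∈ pPrimeCore 2 X, y ^ 3 = 1 := fun y hy => by
    have h1 : orderOf y ∣ 2 ^ 3 * 3 := (orderOf_dvd_natCard y).trans (dvd_of_eq cardX)
    have h2 : ¬ 2 ∣ orderOf y := fun k => pPrimeCore_not_dvd (G := X) 2 (k.trans (orderOf_dvd_card_of_mem hy))
    exact orderOf_dvd_iff_pow_eq_one.1 (Nat.Coprime.dvd_of_dvd_mul_left
      (((Nat.Prime.coprime_iff_not_dvd Nat.prime_two).2 h2).symm.pow_right 3) h1)
  have n : (pPrimeCore 2 X).Normal := inferInstance
  exact eq_bot_iff.2 fun x hx => key x (h3 x hx) fun g => h3 _ (mul_mem (inv_mem hx) (n.conj_mem x hx g))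

/-- The group X = SL(2, 3): it is 2-constrained, O_{2'}(X) = 1, its centre A = Z(X) contains every involution of X = C_X(A), and X has a subgroup of order 3 (normalized by A) not contained in O_{2'}(X). -/
theorem result : Cfsg.IsPConstrained 2 (Matrix.SpecialLinearGroup (Fin 2) (ZMod 3)) ∧ Cfsg.pPrimeCore 2 (Matrix.SpecialLinearGroup (Fin 2) (ZMod 3)) = ⊥ ∧ (∀ t : Matrix.SpecialLinearGroup (Fin 2) (ZMod 3), orderOf t = 2 → t ∈ Subgroup.center (Matrix.SpecialLinearGroup (Fin 2) (ZMod 3))) ∧ ∃ Q : Subgroup (Matrix.SpecialLinearGroup (Fin 2) (ZMod 3)), Nat.card ↥Q = 3 ∧ ¬ (Q ≤ Cfsg.pPrimeCore 2 (Matrix.SpecialLinearGroup (Fin 2) (ZMod 3))) := by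
  refine ⟨isPConstrained_iff.2 (pLay_top.symm.trans (pLay_eq_bot_of_solvable (H21.solv_paqb Nat.prime_two Nat.prime_three
    fun t pt ht => ?_))), core, fun t ht => ?_, zpowers u, ?_, fun k => ?_⟩
  · rw [card_top, cardX, show 24 = 2 ^ 3 * 3 from rfl] at ht
    rcases (Nat.Prime.dvd_mul pt).1 ht with h | h
    · exact Or.inl ((Nat.prime_dvd_prime_iff_eq pt Nat.prime_two).1 (pt.dvd_of_dvd_pow h))
    · exact Or.inr ((Nat.prime_dvd_prime_iff_eq pt Nat.prime_three).1 h)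
  · have key : ∀ x : X, x ^ 2 = 1 → ∀ g : X, g * x = x * g := by decide +kernel
    exact mem_center_iff.2 (key t (orderOf_dvd_iff_pow_eq_one.1 (dvd_of_eq ht)))
  · rw [Nat.card_zpowers]
    exact orderOf_eq_prime (by decide +kernel) (by decide +kernel)
  · rw [core] at k
    exact absurd (mem_bot.1 (k (mem_zpowers _))) (by decide +kernel)

end Cfsg.Agent.S1303
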