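import Cfsg.Statements.S1322
import Cfsg.Agent.H17.Std2

set_option autoImplicit false
open Cfsg

namespace Cfsg.Agent.S1322

open H17 H18 Subgroup

/-- Let G be finite with L_{2'}(G) = E(G), t an involution and L ≤ C_G(t) a component of C_G(t). Then there is a component D of G with: L = D; or L < D and D = ⁅D, ⟨t⟩⁆; or tDt⁻¹ ≠ D and L is the layer of C_{D ⊔ tDt⁻¹}(t). -/
theorem result {G : Type*} [Group G] [Finite G] (hL2 : Cfsg.pLayer 2 G = Cfsg.layer G) (t : G) (ht : orderOf t = 2) (L : Subgroup G) (hLt : L ≤ Subgroup.centralizer ({t} : Set G)) (hL : Cfsg.IsComponent (L.subgroupOf (Subgroup.centralizer ({t} : Set G)))) : ∃ D : Subgroup G, Cfsg.IsComponent D ∧ (L = D ∨ (L < D ∧ D = ⁅D, Subgroup.zpowers t⁆) ∨ (D.map (MulAut.conj t).toMonoidHom ≠ D ∧ L = (Cfsg.layer ↥((D ⊔ D.map (MulAut.conj t).toMonoidHom) ⊓ Subgroup.centralizer ({t} : Set G))).map ((D ⊔ D.map (MulAut.conj t).toMonoidHom) ⊓ Subgroup.centralizer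 ({t} : Set G)).subtype)) := by
  have h := isComp_iff.2 ⟨hLt, hL⟩
  obtain ⟨D, hD, ⟨n, l⟩ | ⟨n, dg, e⟩⟩ := pump_two (H := ⊤) (by rw [top_inf_eq]; exact h.two) ht (by simp)
    (by rw [pLay_top, lay_top, hL2])
  · refine ⟨D, isComp_top_iff.1 hD, ?_⟩
    by_cases e : L = D
    · exact Or.inl e
    refine Or.inr (Or.inl ⟨lt_of_le_of_ne l e, ((qs_commutator_eq_or hD.qs (zpowers_le.2 n)).resolve_right fun c =>
      e (h.eq_of_le (hD.mono ?_ le_top) l)).symm⟩)
    rw [← C_zpowers]; exact comm_eq_bot_iff.1 c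
  · refine ⟨D, isComp_top_iff.1 hD, Or.inr (Or.inr ⟨fun c => n (mem_normalizer_iff_cj.2 c), ?_⟩)⟩
    have := dg.lay_eq hD.qs
    rw [dg.orb_two] at this
    exact e.trans this.symm

end Cfsg.Agent.S1322
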