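import Cfsg.Statements.S1323
import Cfsg.Agent.H17.Comp
import Cfsg.Agent.H18.Basic

set_option autoImplicit false
open Cfsg

namespace Cfsg.Agent.S1323

open H18 Subgroup Equiv Equiv.Perm
open scoped Pointwise

variable {α : Type*} [Fintype α] [DecidableEq α] {s t : Finset α}

abbrev A (s : Finset α) : Subgroup (alternatingGroup α) := (alternatingGroup.ofSubtype s).range

theorem mem {k : alternatingGroup α} : k ∈ A s ↔ ∀ x, x ∉ s → (k : Perm α) x = x := by
  rw [alternatingGroup.mem_range_ofSubtype_iff]
  exact ⟨fun h x hx => by_contra fun e => hx (h (mem_support.2 e)), fun h x hx => by_contra fun e => mem_support.1 hx (h x e)⟩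

theorem three {x w : α} (hx : x ∈ s) (h : 2 ≤ ((s.erase x).erase w).card) (hw : w ≠ x) :
    ∃ k ∈ A s, (k : Perm α) x ≠ x ∧ (k : Perm α) w = w := by
  obtain ⟨y, hy, z, hz, n⟩ := Finset.one_lt_card.1 h
  simp only [Finset.mem_erase] at hy hz
  refine ⟨⟨swap x y * swap x z, by simp [mem_alternatingGroup, hy.2.1.symm, hz.2.1.symm]⟩, mem.2 fun v hv => ?_, ?_, ?_⟩
  · have a : v ≠ x := fun e => hv (e ▸ hx)
    have b : v ≠ y := fun e => hv (e ▸ hy.2.2)
    have c : v ≠ z := fun e => hv (e ▸ hz.2.2)
    simp [swap_apply_of_ne_of_ne, a, b, c]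
  · simp [swap_apply_of_ne_of_ne hz.2.1 n.symm, hz.2.1]
  · simp [swap_apply_of_ne_of_ne, hw, hy.1.symm, hz.1.symm]

theorem cent (h : 4 ≤ s.card) : C(A s) = A sᶜ := by
  refine le_antisymm (fun g hg => mem.2 fun x hx => by_contra fun e => ?_) fun g hg k hk => Subtype.ext ?_
  · rw [Finset.mem_compl, not_not] at hx
    obtain ⟨k, hk, k1, k2⟩ := three (w := (g : Perm α) x) hx (by
      have := Finset.pred_card_le_card_erase (s := s) (a := x)
      have := Finset.pred_card_le_card_erase (s := s.erase x) (a := (g : Perm α) x)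
      omega) e
    have := congrArg (fun f : alternatingGroup α => (f : Perm α) x) (hg k hk)
    simp only [Subgroup.coe_mul, Perm.mul_apply, k2] at this
    exact k1 ((g : Perm α).injective this).symm
  · refine Perm.Disjoint.commute (fun x => ?_)
    by_cases c : x ∈ s
    · exact Or.inr (mem.1 hg x (by simpa using c))
    · exact Or.inl (mem.1 hk x c)

theorem sub (h : 4 ≤ s.card) (e : A s ≤ A t) : s ⊆ t := fun x hx => by_contra fun n => by
  obtain ⟨w, hw⟩ := Finset.card_pos.1 (show 0 < (s.erase x).card by rw [Finset.card_erase_of_mem hx]; omega)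
  obtain ⟨k, hk, k1, -⟩ := three (w := w) hx (by
    rw [Finset.card_erase_of_mem hw, Finset.card_erase_of_mem hx]; omega) (Finset.mem_erase.1 hw).1
  exact k1 (mem.1 (e hk) x n)

theorem cjA (g : alternatingGroup α) : (A s).map (MulAut.conj g).toMonoidHom = A (g • s) :=
  alternatingGroup.conj_smul_range_ofSubtype s g

theorem cardA (h : 2 ≤ s.card) : 2 * Nat.card (A s) = s.card.factorial := by
  have : Nontrivial s := Fintype.one_lt_card_iff_nontrivial.1 (by simp; omega)
  rw [← Nat.card_congr (MonoidHom.ofInjective alternatingGroup.ofSubtype_injective).toEquiv,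
    two_mul_nat_card_alternatingGroup, Nat.card_perm, Nat.card_eq_finsetCard]

theorem std (h : 5 ≤ s.card) (h4 : sᶜ.card = 4) : IsStandardSubgroup (A s) := by
  have c := cent (s := s) (by omega)
  refine ⟨?_, ?_, fun g _ e => ?_, le_antisymm N_le_N_C ?_⟩
  · have := alternatingGroup.isSimpleGroup (α := s) (by rwa [Nat.card_eq_finsetCard])
    refine H17.isQuasisimple_of_mulEquiv (MonoidHom.ofInjective alternatingGroup.ofSubtype_injective)
      (H17.isQuasisimple_of_simple fun k => ?_)
    have := alternatingGroup.isMulCommutative_iff_card_le_three.1 k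
    rw [Nat.card_eq_finsetCard] at this
    omega
  · rw [c]
    refine ⟨?_, fun g hg => ?_⟩
    · have := cardA (s := sᶜ) (by omega)
      rw [h4] at this
      exact ⟨6, by simp [Nat.factorial] at this ⊢; omega⟩
    · have lt : (sᶜ ∩ g • sᶜ).card ≤ 3 := by
        by_contra k
        have e := Finset.eq_of_subset_of_card_le (Finset.inter_subset_left (s₁ := sᶜ) (s₂ := g • sᶜ)) (by omega)
        refine hg (mem_N_iff_cj.2 ((cjA g).trans (congrArg A (Finset.eq_of_subset_of_card_le
          (Finset.inter_eq_left.1 e) (by simp)).symm)))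
      obtain ⟨v, v1, v2⟩ := Finset.exists_superset_card_eq lt (by
        have := Finset.card_le_univ s; omega)
      have c3 := cardA (s := v) (by omega)
      rw [v2] at c3
      refine Odd.of_dvd_nat (n := Nat.card (A v)) ⟨1, by simp [Nat.factorial] at c3 ⊢; omega⟩ (card_dvd_of_le fun k hk => ?_)
      rw [cjA] at hk
      exact mem.2 fun x hx => by
        by_cases q : x ∈ sᶜ
        · exact mem.1 hk.2 x fun r => hx (v1 (Finset.mem_inter.2 ⟨q, r⟩))
        · exact mem.1 hk.1 x q
  · rw [cjA] at e
    have := Finset.card_le_card (sub (by simp; omega) (c ▸ cent_symm (comm_eq_bot_iff.1 e)))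
    simp only [Finset.card_smul_finset] at this
    omega
  · refine N_le_N_C.trans (le_of_eq ?_)
    rw [c, cent h4.ge, compl_compl]

/-- For n ≥ 9, the subgroup of the alternating group on Fin n fixing each of the points 0, 1, 2, 3 is a standard subgroup. -/
theorem result (n : ℕ) (h4 : 4 ≤ n) (hn : 9 ≤ n) : Cfsg.IsStandardSubgroup (⨅ i : Fin 4, MulAction.stabilizer ↥(alternatingGroup (Fin n)) (Fin.castLE h4 i : Fin n)) := by
  have e : (⨅ i : Fin 4, MulAction.stabilizer ↥(alternatingGroup (Fin n)) (Fin.castLE h4 i : Fin n)) =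
      A (Finset.univ.map (Fin.castLEEmb h4))ᶜ := by
    ext k
    rw [mem]
    simp [mem_iInf, Subgroup.smul_def]
  rw [e]
  exact std (by simp [Finset.card_compl]; omega) (by simp)

end Cfsg.Agent.S1323
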