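import Cfsg.Statements.S1339
import Cfsg.Agent.H17.FStar
import Cfsg.Agent.H18.Basic

set_option autoImplicit false
open Cfsg

namespace Cfsg.Agent.S1339

open H17 Subgroup Matrix
set_option linter.unusedSectionVars false

variable {F : Type*} [Field F] [Fintype F] [DecidableEq F] {n : ℕ}

theorem charP_of_self {G : Type*} [Group G] [Finite G] {p : ℕ} [Fact p.Prime] {E H : Subgroup G} (h1 : E ≤ H)
    (h2 : H ≤ normalizer (E : Set G)) (h3 : IsPGroup p E) (h4 : H ⊓ centralizer (E : Set G) ≤ E) : CharP p H := by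
  have e : oQE p H ≤ E := (le_inf (oQE_le p H) ((oQE_le_centralizer_oP H).trans (centralizer_anti (le_oP h1 h2 h3)))).trans h4
  refine charP_iff_oQE.2 (eq_bot_iff.2 ((oUp_oQE H).ge.trans (oUp_le_iff.2 fun g hg n => ?_)))
  obtain ⟨k, hk⟩ := isPGroup_iff_forall.1 h3 g (e hg)
  exact eq_one_of_pow_of_not_dvd hk n

def ap (g : SpecialLinearGroup (Fin n) F) (v : Fin n → F) : Fin n → F := g.1 *ᵥ v
theorem ap_mul (a b : SpecialLinearGroup (Fin n) F) (v : Fin n → F) : ap (a * b) v = ap a (ap b v) :=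
  (mulVec_mulVec v a.1 b.1).symm
theorem ap_one (v : Fin n → F) : ap 1 v = v := one_mulVec v
theorem ap_add (a : SpecialLinearGroup (Fin n) F) (v w : Fin n → F) (c : F) : ap a (v + c • w) = ap a v + c • ap a w := by
  rw [ap, mulVec_add, mulVec_smul]; rfl
theorem inv_vec (a : SpecialLinearGroup (Fin n) F) (v : Fin n → F) : ap a (ap a⁻¹ v) = v := by
  rw [← ap_mul, mul_inv_cancel, ap_one]

def HH (e : Fin n → F) : Subgroup (SpecialLinearGroup (Fin n) F) where
  carrier := {g | ap g e = e}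
  one_mem' := ap_one e
  mul_mem' := fun {a b} (ha : _ = _) (hb : _ = _) => show ap (a * b) e = e by rw [ap_mul, hb, ha]
  inv_mem' := fun {a} (ha : _ = _) => show ap a⁻¹ e = e by
    conv_lhs => rw [← ha, ← ap_mul, inv_mul_cancel, ap_one]

def EE (e : Fin n → F) : Subgroup (SpecialLinearGroup (Fin n) F) where
  carrier := {g | g ∈ HH e ∧ ∀ v, ∃ c : F, ap g v = v + c • e}
  one_mem' := ⟨one_mem _, fun v => ⟨0, by simp [ap_one]⟩⟩
  mul_mem' := fun {a b} ha hb => ⟨mul_mem ha.1 hb.1, fun v => by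
    obtain ⟨c, hc⟩ := hb.2 v
    obtain ⟨d, hd⟩ := ha.2 (v + c • e)
    exact ⟨c + d, by rw [ap_mul, hc, hd, add_smul, add_assoc]⟩⟩
  inv_mem' := fun {a} ha => ⟨inv_mem ha.1, fun v => by
    obtain ⟨c, hc⟩ := ha.2 (ap a⁻¹ v)
    rw [inv_vec] at hc
    exact ⟨-c, by rw [neg_smul, ← sub_eq_add_neg, eq_sub_iff_add_eq, ← hc]⟩⟩

theorem tv {i k : Fin n} {T : SpecialLinearGroup (Fin n) F} (h : T.1 = transvection i k 1) (v : Fin n → F) :
    ap T v = v + v k • Pi.single i 1 := by
  rw [ap, h, transvection, add_mulVec, one_mulVec, single_mulVec]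
  congr 1
  ext x
  by_cases h : x = i <;> simp [h, Function.update]

theorem ap_ext {a : SpecialLinearGroup (Fin n) F} (h : ∀ v, ap a v = v) : a = 1 :=
  Subtype.ext (Matrix.ext_of_mulVec_single fun k => (h _).trans (one_mulVec _).symm)

theorem charH (h2 : (2 : F) = 0) (i : Fin n) : CharP 2 (HH (Pi.single i (1 : F))) := by
  refine charP_of_self (E := EE (Pi.single i 1)) (fun g h => h.1) (H18.norm_iff.2 fun h hh g hg =>
    ⟨mul_mem (mul_mem hh hg.1) (inv_mem hh), fun v => ?_⟩) (isPGroup_iff_forall.2 fun g hg => ⟨1, ap_ext fun v => ?_⟩)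
    fun g hg => ⟨hg.1, fun v => ⟨ap g v i - v i, funext fun k => ?_⟩⟩
  · obtain ⟨c, hc⟩ := hg.2 (ap h⁻¹ v)
    exact ⟨c, by rw [ap_mul, ap_mul, hc, ap_add, inv_vec, show ap h _ = _ from hh]⟩
  · obtain ⟨c, hc⟩ := hg.2 v
    rw [pow_one, pow_two, ap_mul, hc, ap_add, hc, show ap g _ = _ from hg.1, add_assoc, ← add_smul, ← two_mul, h2, zero_mul,
      zero_smul, add_zero]
  · by_cases c : k = i
    · simp [c]
    · let T : SpecialLinearGroup (Fin n) F := ⟨transvection i k 1, det_transvection_of_ne _ _ (Ne.symm c) _⟩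
      have e := tv (T := T) rfl
      have hT : T ∈ EE (Pi.single i (1 : F)) := ⟨show ap T _ = _ by rw [e]; simp [c], fun v => ⟨_, e v⟩⟩
      have := congrArg (fun x => ap x v i) (hg.2 T hT)
      simp only [ap_mul, e, ap_add, show ap g _ = _ from hg.1] at this
      simpa [c] using this

/-- Let F be a field with 2 elements, n ≥ 3, and t ∈ SL(n, F) a transvection (t = 1 + E_{ij}, i ≠ j). Then the generalized Fitting subgroup of C(t) is O_2(C(t)). -/
theorem result {F : Type*} [Field F] [Fintype F] [DecidableEq F] (hF : Fintype.card F = 2) (n : ℕ) (hn : 3 ≤ n) (i j : Fin n) (hij : i ≠ j) (t : Matrix.SpecialLinearGroup (Fin n) F) (ht : (t : Matrix (Fin n) (Fin n) F) = Matrix.transvection i j 1) : Cfsg.generalizedFittingSubgroup ↥(Subgroup.centralizer ({t} : Set (Matrix.SpecialLinearGroup (Fin n) F))) = Cfsg.pCore 2 ↥(Subgroup.centralizer ({t} : Set (Matrix.SpecialLinearGroup (Fin n) F))) := by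
  have h01 : ∀ x : F, x ≠ 0 → x = 1 := fun x hx => by simpa [hF] using FiniteField.pow_card_sub_one_eq_one x hx
  have h2 : (2 : F) = 0 := by
    by_contra k
    have := h01 2 k
    rw [← one_add_one_eq_two, add_eq_left] at this
    exact one_ne_zero this
  have e := tv ht
  have t2 : t ^ 2 ^ 1 = 1 := ap_ext fun v => by
    rw [pow_one, pow_two, ap_mul, e, e]
    rw [Pi.add_apply, Pi.smul_apply, Pi.single_eq_of_ne hij.symm, smul_zero, add_zero, add_assoc, ← add_smul, ← two_mul, h2,
      zero_mul, zero_smul, add_zero]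
  have le : centralizer {t} ≤ HH (Pi.single i (1 : F)) := fun g hg => by
    have := congrArg (fun x => ap x (Pi.single j 1)) (mem_centralizer_singleton_iff.1 hg)
    simp only [ap_mul, e, ap_add] at this
    rw [add_right_inj, Pi.single_eq_same, one_smul] at this
    refine this.trans (by
      rw [h01 (ap g (Pi.single j 1) j) fun k => ?_, one_smul]
      rw [k, zero_smul] at this
      have e := inv_vec g⁻¹ (Pi.single i (1 : F))
      rw [inv_inv, this, ap, mulVec_zero] at e
      simpa using congrFun e i)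
  have := (charH h2 i).centralizer (isPGroup_zpowers_of_pow t2)
    ((zpowers_le.2 (le (mem_centralizer_singleton_iff.2 rfl))).trans le_normalizer)
  rw [← centralizer_singleton_eq_zpowers, inf_eq_right.2 le] at this
  exact gfit_eq_oP_iff.2 this

end Cfsg.Agent.S1339
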