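import Cfsg.Statements.S1340
import Cfsg.Agent.H17.Sm3

set_option autoImplicit false
open Cfsg

namespace Cfsg.Agent.S1340

open H17 H24 Subgroup Matrix

variable {ι : Type*} [Fintype ι] [DecidableEq ι] {F : Type*} [Field F]

def bh : GL ι F →* GL (Unit ⊕ ι) F := MonoidHom.mk' (blk 1) fun a b => by rw [← blk_mul, one_mul]

theorem bh_inj : Function.Injective (bh : GL ι F →* _) := fun _ _ h =>
  Units.ext (fromBlocks_inj.1 (congrArg Units.val h)).2.2.2

/-- Let F be a finite field of odd order and n ≥ 3 with (n, |F|) ≠ (3, 3). Then GL(n, F) has a non-central involution t such that C(t) / O(C(t)) has a component. -/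
theorem result {F : Type*} [Field F] [Fintype F] [DecidableEq F] (hF : Odd (Fintype.card F)) (n : ℕ) (hn : 3 ≤ n) (h33 : ¬ (n = 3 ∧ Fintype.card F = 3)) : ∃ t : Matrix.GeneralLinearGroup (Fin n) F, orderOf t = 2 ∧ t ∉ Subgroup.center (Matrix.GeneralLinearGroup (Fin n) F) ∧ Cfsg.HasComponent (↥(Subgroup.centralizer ({t} : Set (Matrix.GeneralLinearGroup (Fin n) F))) ⧸ Cfsg.oddCore ↥(Subgroup.centralizer ({t} : Set (Matrix.GeneralLinearGroup (Fin n) F)))) := by
  obtain ⟨m, rfl⟩ : ∃ m, n = m + 1 := ⟨n - 1, by omega⟩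
  have h2 := two_ne_of_odd hF
  let e : Unit ⊕ Fin m ≃ Fin (m + 1) := Fintype.equivOfCardEq (by simp [add_comm])
  let φ : GL (Fin m) F →* GL (Fin (m + 1)) F := (glReindex e).toMonoidHom.comp bh
  have inj : Function.Injective φ := (glReindex e).injective.comp bh_inj
  have : Nontrivial (Fin m) := Fin.nontrivial_iff_two_le.2 (by omega)
  have i : Fin m := ⟨0, by omega⟩
  have qs : IsQuasisimple (SpecialLinearGroup (Fin m) F) := qs_SL (by
    have := Fintype.one_lt_card (α := F)
    obtain ⟨k, hk⟩ := hF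
    omega)
  have hc : IsComp ((SS (Fin m) F).map φ) (centralizer {φ (-1)}) := by
    refine ⟨Subn.of_normal ?_ (H18.norm_iff.2 fun g hg => ?_), (qs_map_injective_iff inj).2 (qs_SS qs)⟩
    · rintro _ ⟨x, -, rfl⟩
      exact mem_centralizer_singleton_iff.2 (by rw [← map_mul, ← map_mul]; simp)
    · rintro _ ⟨x, hx, rfl⟩
      obtain ⟨y, rfl⟩ := (glReindex e).surjective g
      obtain ⟨c, d, rfl⟩ := blk_of_comm (g := y) h2 ((glReindex e).injective (by
        rw [map_mul, map_mul]; exact mem_centralizer_singleton_iff.1 hg))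
      refine ⟨d * x * d⁻¹, Normal.conj_mem inferInstance x hx d, ?_⟩
      show glReindex e (blk 1 _) = glReindex e _ * glReindex e (blk 1 x) * _
      rw [← map_inv, ← map_mul, ← map_mul, blk_inv, ← blk_mul, ← blk_mul, mul_one, mul_inv_cancel]
  refine ⟨φ (-1), orderOf_eq_prime (by rw [← map_pow]; simp) fun k => h2 ?_, fun k => h2 ?_, ?_⟩
  · have := congrArg (fun x : GL (Fin m) F => (x : Matrix _ _ F) i i) (inj (k.trans φ.map_one.symm))
    simpa [neg_eq_iff_add_eq_zero, one_add_one_eq_two] using this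
  · obtain ⟨r, hr⟩ := scalar_of_cent (d := blk 1 (-1 : GL (Fin m) F)) fun x _ => (glReindex e).injective (by
      rw [map_mul, map_mul]; exact mem_center_iff.1 k _)
    have a := congrFun (congrFun hr (Sum.inl ())) (Sum.inl ())
    have b := congrFun (congrFun hr (Sum.inr i)) (Sum.inr i)
    simp [coe_blk] at a b
    rw [a, eq_neg_iff_add_eq_zero, one_add_one_eq_two] at b
    exact b
  · rcases (isComp_top_iff.2 (isComp_iff.1 hc).2).map (QuotientGroup.mk' (oddCore _)) with k | k
    · refine absurd ?_ (not_dvd_card_of_le (map_mk'_eq_bot_iff.1 k) (pPrimeCore_not_dvd _ 2))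
      rw [Nat.card_congr (subgroupOfEquivOfLe hc.le).toEquiv, card_map_of_injective inj]
      exact even_card_SS h2
    · rw [map_mk'_top] at k
      exact ⟨_, isComp_top_iff.1 k⟩

end Cfsg.Agent.S1340
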