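import Cfsg.Statements.S1551
import Cfsg.Agent.H14.M24Use

set_option autoImplicit false
open scoped Pointwise
open Cfsg

namespace Cfsg.Agent.S1551

open H14 MulAction
open scoped Pointwise
set_option maxRecDepth 100000
abbrev A := fixingSubgroup M24 (bsets [0x800007, 0x24028, 0x41900, 0x108600, 0x2800c0, 0x412010] : Set (Finset GolayPt))
theorem inv_fixS {m : ℕ} (h : m ∈ [0x800007, 0x24028, 0x41900, 0x108600, 0x2800c0, 0x412010]) : M0.Inv A m :=
  (inv_stab_bset m).mono fun g hg => (mem_fixingSubgroup_iff _).1 hg _ (mem_bsets.2 ⟨m, h, rfl⟩)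
theorem i2 : M0.Inv (A ⊓ M0.fixL []) (nat_lit 0x800007) :=
  (((inv_fixS (m := 0x800007) (by decide)).mono inf_le_left)).of_eq (by decide +kernel)
theorem i4 : M0.Inv (A ⊓ M0.fixL []) (nat_lit 0x24028) :=
  (((inv_fixS (m := 0x24028) (by decide)).mono inf_le_left)).of_eq (by decide +kernel)
theorem i6 : M0.Inv (A ⊓ M0.fixL []) (nat_lit 0x41900) :=
  (((inv_fixS (m := 0x41900) (by decide)).mono inf_le_left)).of_eq (by decide +kernel)
theorem i8 : M0.Inv (A ⊓ M0.fixL []) (nat_lit 0x108600) :=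
  (((inv_fixS (m := 0x108600) (by decide)).mono inf_le_left)).of_eq (by decide +kernel)
theorem i10 : M0.Inv (A ⊓ M0.fixL []) (nat_lit 0x2800c0) :=
  (((inv_fixS (m := 0x2800c0) (by decide)).mono inf_le_left)).of_eq (by decide +kernel)
theorem i13 : M0.Inv (A ⊓ M0.fixL [0]) (nat_lit 0x1) :=
  (PM.Inv.pt (b := 0) (by decide +kernel)).of_eq (by decide +kernel)
theorem i14 : M0.Inv (A ⊓ M0.fixL [0]) (nat_lit 0x800006) :=
  ((i2.lift (by decide +kernel)).sdf i13).of_eq (by decide +kernel)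
theorem ub4 : Nat.card (A ⊓ M0.fixL [1, 8, 3, 0] : Subgroup _) ≤ 1 :=
  M0.card_le_enum M0_eq4 m24cov4 (dw (nat_lit 0x0308020e080d0c)) (Ys := [(nat_lit 0x108600), (nat_lit 0x2800c0)]) (fa_cons (i8.lift (by decide +kernel)) (fa_cons (i10.lift (by decide +kernel)) fa_nil)) (by decide +kernel)
theorem ub3 : Nat.card (A ⊓ M0.fixL [8, 3, 0] : Subgroup _) ≤ 3 :=
  M0.card_le_step (p := 3) (i14.lift (by decide +kernel)) (by decide +kernel) ub4
theorem ub2 : Nat.card (A ⊓ M0.fixL [3, 0] : Subgroup _) ≤ 12 :=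
  M0.card_le_step (p := 4) (i6.lift (by decide +kernel)) (by decide +kernel) ub3
theorem ub1 : Nat.card (A ⊓ M0.fixL [0] : Subgroup _) ≤ 48 :=
  M0.card_le_step (p := 4) (i4.lift (by decide +kernel)) (by decide +kernel) ub2
theorem ub0 : Nat.card (A ⊓ M0.fixL [] : Subgroup _) ≤ 192 :=
  M0.card_le_step (p := 4) i2 (by decide +kernel) ub1
theorem ub : Nat.card (A) ≤ 192 := M0.card_le_of_nil ub0
noncomputable def wN : List Word := [dw (nat_lit 0x0103020e13151311), dw (nat_lit 0x010103010b07120b0d0f11151312), dw (nat_lit 0x0e10141611), dw (nat_lit 0x010103010b07120b14101512), dw (nat_lit 0x030b07120b0e160f121311), dw (nat_lit 0x0103021410111513)]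
noncomputable def EN : List Word := [[], dw (nat_lit 0x0103020e13151311), dw (nat_lit 0x010103010b07120b0d0f11151312), dw (nat_lit 0x0e10141611), dw (nat_lit 0x010103010b07120b14101512), dw (nat_lit 0x030b07120b0e160f121311), dw (nat_lit 0x0103021410111513), dw (nat_lit 0x030b07120b0e101512)
, dw (nat_lit 0x01030211101614), dw (nat_lit 0x030b07120b0e160f12), dw (nat_lit 0x010103010b07120b141015121311), dw (nat_lit 0x0e160f1315), dw (nat_lit 0x010103010b07120b0e151312), dw (nat_lit 0x0e160f1215), dw (nat_lit 0x01030214101611), dw (nat_lit 0x030b07120b0e160f1411)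
, dw (nat_lit 0x010103010b07120b111015121311), dw (nat_lit 0x030b07120b11151312), dw (nat_lit 0x0103020d0f151412), dw (nat_lit 0x0103020e1315), dw (nat_lit 0x030b07120b0e10151411), dw (nat_lit 0x010103010b07120b0d0f161311), dw (nat_lit 0x030b07120b10140f1611), dw (nat_lit 0x01030214101614)
, dw (nat_lit 0x0e160f141612), dw (nat_lit 0x010103010b07120b1410151411), dw (nat_lit 0x030b07120b161412), dw (nat_lit 0x010103010b07120b11101512), dw (nat_lit 0x10140f1513), dw (nat_lit 0x1311), dw (nat_lit 0x010103010b07120b0d0f16), dw (nat_lit 0x030b07120b0e101513)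
, dw (nat_lit 0x10140f15121311), dw (nat_lit 0x0103020d0f15), dw (nat_lit 0x030b07120b161311), dw (nat_lit 0x030b07120b0e1015121311), dw (nat_lit 0x0103020e141612), dw (nat_lit 0x1412), dw (nat_lit 0x01030211101611), dw (nat_lit 0x030b07120b10140f161312)
, dw (nat_lit 0x010103010b07120b0e1514), dw (nat_lit 0x0e160f13151311), dw (nat_lit 0x0103020d0f151311), dw (nat_lit 0x10140f1512), dw (nat_lit 0x010103010b07120b11101513), dw (nat_lit 0x010103010b07120b0d0f161412), dw (nat_lit 0x121312), dw (nat_lit 0x0103020e1215)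
, dw (nat_lit 0x0e10131513), dw (nat_lit 0x010103010b07120b0e1511), dw (nat_lit 0x030b07120b10140f111513), dw (nat_lit 0x0103021410161312), dw (nat_lit 0x030b07120b10140f1614), dw (nat_lit 0x0103021110111513), dw (nat_lit 0x0e10121512), dw (nat_lit 0x010103010b07120b14101513)
, dw (nat_lit 0x10140f151411), dw (nat_lit 0x010103010b07120b0e151213), dw (nat_lit 0x0e10131512), dw (nat_lit 0x0103021110161312), dw (nat_lit 0x030b07120b0e160f13), dw (nat_lit 0x0103020d0f15121312), dw (nat_lit 0x010103010b07120b1110151411), dw (nat_lit 0x030b07120b16)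
]
theorem covN : Cover M0.gen (sub M0.gen wN) [EN] :=
  M0.cover_of_closed (D := 5) (by norm_num) (by norm_num) EN (by decide +kernel)
theorem cardN : Nat.card (sub M0.gen wN) = 64 :=
  M0.card_of_cover covN (.cons (nat_lit 0) [dw (nat_lit 0x01), dw (nat_lit 0x050301)] [dw (nat_lit 0x01), dw (nat_lit 0x03)]
(.cons (nat_lit 3) [dw (nat_lit 0x070503), dw (nat_lit 0x05)] [dw (nat_lit 0x03), dw (nat_lit 0x01)]
(.cons (nat_lit 4) [dw (nat_lit 0x090701), dw (nat_lit 0x0b070301)] [dw (nat_lit 0x01), dw (nat_lit 0x03)]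
.nil))) (by decide +kernel)
theorem nml : stabilizer M24 (fSx 0) ≤ Subgroup.normalizer (sub M0.gen wN : Set M24) :=
  HSx_eq ▸ le_normalizer_of (vs := [dw (nat_lit 0x0907050301), dw (nat_lit 0x0b01), dw (nat_lit 0x0905), dw (nat_lit 0x0b070501), dw (nat_lit 0x0703), dw (nat_lit 0x0b07050301), dw (nat_lit 0x0503), dw (nat_lit 0x0b0901)
, dw (nat_lit 0x0b090503), dw (nat_lit 0x0b0907050301), dw (nat_lit 0x0b090301), dw (nat_lit 0x0b070501), dw (nat_lit 0x0b09050301), dw (nat_lit 0x0b0905), dw (nat_lit 0x0b0501), dw (nat_lit 0x07)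
, dw (nat_lit 0x0b0901), dw (nat_lit 0x090503), dw (nat_lit 0x07050301), dw (nat_lit 0x03), dw (nat_lit 0x09050301), dw (nat_lit 0x0b070501), dw (nat_lit 0x0701), dw (nat_lit 0x0903)
, dw (nat_lit 0x0301), dw (nat_lit 0x03), dw (nat_lit 0x0b090705), dw (nat_lit 0x07), dw (nat_lit 0x0b), dw (nat_lit 0x09), dw (nat_lit 0x07050301), dw (nat_lit 0x0b0701)
, dw (nat_lit 0x0b090705), dw (nat_lit 0x0b0905), dw (nat_lit 0x09), dw (nat_lit 0x0b)]) (M0.rels_of_idArr (D := 5) (by norm_num) (by decide +kernel))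

/-- Structure of a sextet stabiliser: it induces every permutation of the six tetrads, the subgroup fixing each tetrad setwise has order 192, and there is a normal subgroup of order 64 consisting of elements squaring to the identity. -/
theorem result (S : Finset (Finset Cfsg.GolayPt)) (hS : S ∈ Cfsg.sextets) : (∀ e : Equiv.Perm ↥S, ∃ g ∈ MulAction.stabilizer Cfsg.M24 S, ∀ t : ↥S, (g : Equiv.Perm Cfsg.GolayPt) • (t : Finset Cfsg.GolayPt) = ((e t : ↥S) : Finset Cfsg.GolayPt)) ∧ Nat.card {g : ↥(MulAction.stabilizer Cfsg.M24 S) // ∀ t ∈ S, ((g : Cfsg.M24) : Equiv.Perm Cfsg.GolayPt) • t = t} = 192 ∧ ∃ N : Subgroup ↥(MulAction.stabilizer Cfsg.M24 S), N.Normal ∧ Nat.card N = 64 ∧ ∀ x ∈ N, x * x = 1 := by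
  obtain ⟨g, rfl⟩ := oSx.std hS
  obtain ⟨h1, h2, -⟩ := resHom_top (Γ := M24) (s := g • fSx 0) (k := 192) (by
    rw [ncard_pw, fSx0]
    exact (Nat.card_congr (Equiv.subtypeEquivRight fun g => mem_fixingSubgroup_iff _)).symm.trans_le ub)
    (by rw [card_HSx hS, hS.1]; norm_num [Nat.factorial])
  refine ⟨exists_of_top h1, ?_, ?_⟩
  · rw [← h2, ← card_ker_resHom]
    exact Nat.card_congr (Equiv.subtypeEquivRight fun a => (mem_ker_resHom (g := a)).symm)
  let e := conjEquiv g fun x => conj_mem_stab g x (fSx 0)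
  refine ⟨((sub M0.gen wN).subgroupOf _).map (e : _ →* _), (normal_subgroupOf nml).map _ e.surjective, ?_, ?_⟩
  · rw [Subgroup.card_map_of_injective e.injective, card_subgroupOf (oSx.le_stab (by decide +kernel)), cardN]
  · rintro _ ⟨x, hx, rfl⟩
    rw [← map_mul, ← sq, show x ^ 2 = 1 from Subtype.ext (M0.pow_eq_one (D := 5) (by norm_num) (by norm_num) covN
      (by norm_num) (by decide +kernel) _ hx), map_one]

end Cfsg.Agent.S1551
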