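import Cfsg.Statements.S1623
import Cfsg.Agent.H25.JN
import Cfsg.Agent.H14.CzJ2
import Cfsg.Agent.H14.CZ2
-- import your own Cfsg.Agent.* helpers here

set_option autoImplicit false
open Quaternion
open Cfsg

namespace Cfsg.Agent.S1623

/-- A reflection centraliser in the Hall–Janko group is an extension of an extraspecial group of order 32 by the alternating group of degree 5. -/
theorem result (f : Equiv.Perm ↥Cfsg.Spor.icoLeech) (hf : Cfsg.Spor.IsIcoReflection f) (hfm : f ∈ Cfsg.Spor.twoJ2) : ∃ (Q : Subgroup ↥(Subgroup.centralizer {(QuotientGroup.mk ⟨f, hfm⟩ : Cfsg.Spor.J2)})) (_ : Q.Normal), Nat.card Q = 32 ∧ Cfsg.IsExtraspecial 2 Q ∧ Nonempty (↥(Subgroup.centralizer {(QuotientGroup.mk ⟨f, hfm⟩ : Cfsg.Spor.J2)}) ⧸ Q ≃* alternatingGroup (Fin 5)) := by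
  obtain ⟨S, g, -, h2, -⟩ := H15.J2.std_spec
  have := S.finite
  obtain ⟨A⟩ := H15.StdAlt5.std
  obtain ⟨i, hi, e⟩ := H15.J2.refl_iff.1 hf
  obtain ⟨u, -, e'⟩ := H15.J2.conj_gen hi
  have h3 := S.M.rels_of_chk (H25.sep2 S) (l := [(H14.conjW L.CzJ2.z [17, 15], H14.getL [] H15.J2.gw 0)])
    (by decide +kernel) _ (List.mem_singleton_self _)
  rw [H14.ev_conjW, ← h2 0 (by decide)] at h3
  obtain ⟨S', h5⟩ := S.congr (MulAut.conj (H15.J2.q u * H14.ev S.M.gen [17, 15])).symm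
  have E := L.CzJ2.ext S'.M S'.card (L.Pres.of fun _ _ y hy => H15.StdAlt5.hom A y hy) A.card
  have h4 : (QuotientGroup.mk ⟨f, hfm⟩ : Cfsg.Spor.J2) = H14.ev S'.M.gen L.CzJ2.z := by
    rw [show (⟨f, hfm⟩ : Cfsg.Spor.twoJ2) = u * H15.J2.gen 0 * u⁻¹ from Subtype.ext (e'.trans e).symm,
      show S'.M.gen = fun l => (MulAut.conj (H15.J2.q u * H14.ev S.M.gen [17, 15])).toMonoidHom (S.M.gen l) from
        funext fun l => (MulEquiv.symm_apply_eq _).1 (h5 l), ← H14.map_ev]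
    show H15.J2.q _ = MulAut.conj _ _
    rw [map_mul, map_mul, map_inv, ← h3, MulAut.conj_apply]
    group
  rw [h4]
  have := E.normal
  exact ⟨_, this, (Nat.card_congr (Subgroup.subgroupOfEquivOfLe E.le).toEquiv).trans E.card,
    H21.isExtraspecial_of_equiv Nat.prime_two (Subgroup.subgroupOfEquivOfLe E.le).symm E.es,
    E.iso _ (Subgroup.map_subgroupOf_eq_of_le E.le)⟩

end Cfsg.Agent.S1623
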