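import Cfsg.Statements.S1624
import Cfsg.Agent.H25.JN
import Cfsg.Agent.H15.StdU33
import Cfsg.Agent.L.Out2
import Cfsg.Agent.S0283
import Cfsg.Agent.H15.Lite
-- import your own Cfsg.Agent.* helpers here

set_option autoImplicit false
open Quaternion
open Cfsg

namespace Cfsg.Agent.S1624

/-- The Hall–Janko group contains PSU(3, 3) with index 100 and acts on the 100 cosets with rank 3 and subdegrees 1, 36, 63. -/
theorem result : ∃ H : Subgroup Cfsg.Spor.J2, H.index = 100 ∧ (∃ (F : Type) (_ : Field F) (_ : Fintype F), Fintype.card F = 9 ∧ Nonempty (↥H ≃* Cfsg.PSU 3 F 3)) ∧ ∃ c₁ c₂ : Cfsg.Spor.J2 ⧸ H, (MulAction.orbit ↥H c₁).ncard = 36 ∧ (MulAction.orbit ↥H c₂).ncard = 63 := by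
  obtain ⟨S⟩ := H15.J2.std
  have := S.finite
  have := Fintype.ofFinite (GaloisField 3 2)
  have hF : Fintype.card (GaloisField 3 2) = 9 := by
    rw [← Nat.card_eq_fintype_card, GaloisField.card 3 2 two_ne_zero]; rfl
  obtain ⟨T⟩ := H15.StdU33.std hF
  obtain ⟨φ, h0, h⟩ := H15.StdU33.hom' T _ (L.rels_loc (vs := [[7,15,7,15], [19,8,8], [5,3,20,17], [22,2,4], [23,17], [9]])
    (S.M.rels_of_chk (H25.sep2 S) (by decide +kernel)))
  have := S0283.result (q := 3) hF 3 le_rfl (by decide)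
  have hi := H15.inj_of_simple φ (g := T.M.gen 5) (h 5 (by decide) ▸
    H15.ne_one_of_move S.M (w := [9]) (b := 1) (by decide) (by decide +kernel))
  have hR := H15.StdJ2.rels_of_all S.rels
  have h1 : H14.sub S.M.gen H15.StdJ2.ws1 = MulAction.stabilizer _ (S.M.dec 0) := by
    rw [← H15.StdJ2.stab0 S.M hR, S.top, top_inf_eq]
  have h2 := H15.StdJ2.card1 S.M hR
  have h3 : φ.range = H14.sub S.M.gen H15.StdJ2.ws1 := by
    refine Subgroup.eq_of_le_of_card_ge ?_ ?_
    · rw [h0, h1]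
      refine H14.sub_lets_le fun l hl => ?_
      have k : ∀ w : H14.Word, H14.tb (H14.runW (H14.letN H15.StdJ2.nets) w (H14.bit 0)) 0 = true →
          H14.ev S.M.gen w ∈ MulAction.stabilizer _ (S.M.dec 0) := fun w hw =>
        ((S.M.mem_S_runW_bit w (by decide) _).1 (by rw [H14.PM.mem_S, S.M.enc_dec 0 (by decide), ← H14.tb_eq, hw])).symm
      interval_cases l <;> exact k _ (by decide +kernel)
    · rw [h2, ← Nat.card_congr (MonoidHom.ofInjective hi).toEquiv, T.card]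
  have o1 := H15.orb_of_chk S.M (ws := H15.StdJ2.ws1) (a := 0) (p := 36)
    (s := ⟨[3], nat_lit 0x30003c9c50479c358900218de, [[0], [2], [4], [14], [1, 6], [2]], []⟩) (by decide +kernel)
  have o2 := H15.orb_of_chk S.M (ws := H15.StdJ2.ws1) (a := 0) (p := 63)
    (s := ⟨[6], nat_lit 0xcfffc363afb863ca76ffde720, [[0], [2], [4], [8], [6], [0], [0, 0], [2]], []⟩) (by decide +kernel)
  refine ⟨H14.sub S.M.gen H15.StdJ2.ws1, ?_, ⟨_, _, _, hF, ⟨((MonoidHom.ofInjective hi).trans (MulEquiv.subgroupCongr h3)).symm⟩⟩,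
    _, _, (H15.ncard_orbit_quot' h1 o1.1).trans o1.2, (H15.ncard_orbit_quot' h1 o2.1).trans o2.2⟩
  have h4 := (H14.sub S.M.gen H15.StdJ2.ws1).card_mul_index
  rw [h2, S.card] at h4
  omega

end Cfsg.Agent.S1624
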