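import Cfsg.Statements.S1651
import Cfsg.Agent.H25.JN
import Cfsg.Agent.H15.StdU33
import Cfsg.Agent.L.Out2
import Cfsg.Agent.S0283
-- import your own Cfsg.Agent.* helpers here

set_option autoImplicit false
open Cfsg

namespace Cfsg.Agent.S1651

/-- A group of Hall–Janko type contains U₃(3): let a finite simple group have exactly two conjugacy classes of involutions and an involution t whose centraliser C has a normal extraspecial subgroup Q of order 32 with no elementary abelian subgroup of order 8, whose centraliser in C lies in Q, with C / Q isomorphic to the alternating group of degree 5. Then the group has a subgroup isomorphic to PSU(3, 3), realised over a field with 9 elements. -/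
theorem result {G : Type*} [Group G] [Finite G] [IsSimpleGroup G] (t : G) (ht : orderOf t = 2) (Q : Subgroup (Subgroup.centralizer ({t} : Set G))) [Q.Normal] (hQ : Cfsg.IsExtraspecial 2 Q) (hcard : Nat.card Q = 32) (hminus : ∀ E : Subgroup Q, Cfsg.IsElementaryAbelian 2 E → Nat.card E ≤ 2 ^ 2) (h2c : Subgroup.centralizer (Q : Set (Subgroup.centralizer ({t} : Set G))) ≤ Q) (e : (Subgroup.centralizer ({t} : Set G)) ⧸ Q ≃* alternatingGroup (Fin 5)) (htwo : ∃ x y : G, orderOf x = 2 ∧ orderOf y = 2 ∧ ¬ IsConj x y ∧ ∀ z : G, orderOf z = 2 → IsConj z x ∨ IsConj z y) : ∃ (H : Subgroup G) (K : Type) (_ : Field K) (_ : Fintype K), Fintype.card K = 9 ∧ Nonempty (H ≃* Cfsg.PSU 3 K 3) := by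
  obtain ⟨a, b, c, d, e', x, t', u, s, J⟩ := H25.j1_of_simple ht Q hQ hcard e
  obtain ⟨p, q, h1, h2, h3, -⟩ := htwo
  obtain ⟨S, -⟩ := (J.j2' ⟨p, q, h1, h2, h3⟩).std
  have := Fintype.ofFinite (GaloisField 3 2)
  have hF : Fintype.card (GaloisField 3 2) = 9 := by
    rw [← Nat.card_eq_fintype_card, GaloisField.card 3 2 two_ne_zero]; rfl
  obtain ⟨T⟩ := H15.StdU33.std hF
  obtain ⟨φ, -, h⟩ := H15.StdU33.hom' T _ (L.rels_loc (vs := [[7,15,7,15], [19,8,8], [5,3,20,17], [22,2,4], [23,17], [9]])
    (S.M.rels_of_chk (H25.sep2 S) (by decide +kernel)))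
  have := S0283.result (q := 3) hF 3 le_rfl (by decide)
  exact ⟨_, _, _, _, hF, ⟨(MonoidHom.ofInjective (H15.inj_of_simple φ (g := T.M.gen 5) (h 5 (by decide) ▸
    H15.ne_one_of_move S.M (w := [9]) (b := 1) (by decide) (by decide +kernel)))).symm⟩⟩

end Cfsg.Agent.S1651
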