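import Cfsg.Statements.S1722
import Cfsg.Agent.H25.JT
-- import your own Cfsg.Agent.* helpers here

set_option autoImplicit false
open Cfsg

namespace Cfsg.Agent.S1722

/-- Sylow 5-structure of a group of Hall–Janko type (large-extraspecial hypothesis with Q of order 32, quotient Ω⁻(4, 2), z not weakly closed in Q, more than one class of involutions): a Sylow 5-subgroup P is its own centraliser, has order 25, its normaliser has order 300, and the subgroups of order 5 fall into exactly two conjugacy classes. -/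
theorem result {G : Type*} [Group G] [Finite G] (z : G) (hz : orderOf z = 2) (Q : Subgroup (Subgroup.centralizer ({z} : Set G))) [Q.Normal] (hF : Cfsg.generalizedFittingSubgroup (Subgroup.centralizer ({z} : Set G)) = Q) (hQ : Cfsg.IsExtraspecial 2 Q) (hcard : Nat.card Q = 2 ^ 5) (e : (Subgroup.centralizer ({z} : Set G)) ⧸ Q ≃* Cfsg.Omega (ZMod 2) (Cfsg.quadFormMinus 1 (ZMod 2) 1 1)) (hnwc : ∃ g : G, (∃ hq : g * z * g⁻¹ ∈ Subgroup.centralizer ({z} : Set G), (⟨g * z * g⁻¹, hq⟩ : Subgroup.centralizer ({z} : Set G)) ∈ Q) ∧ g * z * g⁻¹ ≠ z) (hcl : ∃ x y : G, orderOf x = 2 ∧ orderOf y = 2 ∧ ¬ IsConj x y) (P : Sylow 5 G) : Subgroup.centralizer ((P : Subgroup G) : Set G) = P ∧ Nat.card P = 25 ∧ Nat.card (Subgroup.normalizer ((P : Subgroup G) : Set G)) = 300 ∧ ∃ X Y : Subgroup G, Nat.card X = 5 ∧ Nat.card Y = 5 ∧ (∀ g : G, X.map (MulAut.conj g).toMonoidHom ≠ Y) ∧ ∀ W : Subgroup G, Nat.card W = 5 → ∃ g : G, W.map (MulAut.conj g).toMonoidHom = X ∨ W.map (MulAut.conj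 g).toMonoidHom = Y := by
  have := Fact.mk Nat.prime_five
  obtain ⟨a, b, c, d, e', x, t', u, s, J⟩ := H25.j2_of_large hz Q hF hQ hcard e hnwc hcl
  obtain ⟨S, -⟩ := J.std
  obtain ⟨S, h⟩ := H25.J2m.syl S (m := 24192) (H25.J2m.n5 S).2.1 rfl (by decide) P
  have oa := H25.J2m.ord S (w := H25.J2m.a5) Nat.prime_five (by decide +kernel)
  have ob := H25.J2m.ord S (w := H25.J2m.b5) Nat.prime_five (by decide +kernel)
  have key : ∀ {y r g : G}, orderOf y = 5 → orderOf r = 5 → g * y * g⁻¹ ∈ Subgroup.zpowers r →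
      (Subgroup.zpowers y).map (MulAut.conj g).toMonoidHom = Subgroup.zpowers r := fun {y r g} hy hr hm => by
    rw [MonoidHom.map_zpowers]
    exact Subgroup.eq_of_le_of_card_ge (Subgroup.zpowers_le_of_mem hm) (by
      rw [Nat.card_zpowers, Nat.card_zpowers, hr, ← hy]; exact ((MulAut.conj g).orderOf_eq y).ge)
  refine ⟨h ▸ H25.J2m.c5 S, h ▸ (H25.J2m.n5 S).2.1, h ▸ (H25.J2m.n5 S).2.2.2, _, _, (Nat.card_zpowers _).trans oa,
    (Nat.card_zpowers _).trans ob, fun g hg => ?_, fun W hW => ?_⟩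
  · have h1 := H25.J2m.ca5 S
    have h2 := H25.J2m.cb5 S
    rw [← H14.centralizer_zpowers, ← hg, MonoidHom.map_zpowers, H14.centralizer_zpowers] at h2
    exact absurd ((h1.trans (H14.card_conj g (H14.card_cent_conj rfl)).ge).trans h2) (by decide)
  · obtain ⟨y, hy, rfl⟩ := H14.exists_zpowers_eq Nat.prime_five hW
    obtain ⟨g, hg⟩ := H14.exists_conj_mem P (y := y) (k := 1) (by rw [pow_one, ← hy, pow_orderOf_eq_one])
    obtain ⟨r, hr, k, hk⟩ := H25.J2m.cls5 S (h ▸ hg)
    replace hk : k * g * y * (k * g)⁻¹ = H14.ev S.M.gen r := by rw [← hk]; group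
    simp only [List.mem_cons, List.not_mem_nil, or_false] at hr
    refine ⟨k * g, ?_⟩
    rcases hr with rfl | rfl | rfl | rfl | rfl
    · rw [H14.ev_nil, mul_inv_eq_one, mul_eq_left] at hk
      simp [hk] at hy
    · exact Or.inl (key hy oa (hk ▸ Subgroup.mem_zpowers _))
    · exact Or.inl (key hy oa (by rw [hk, H14.ev_append]; exact mul_mem (Subgroup.mem_zpowers _) (Subgroup.mem_zpowers _)))
    · exact Or.inr (key hy ob (hk ▸ Subgroup.mem_zpowers _))
    · exact Or.inr (key hy ob (by rw [hk, H14.ev_append]; exact mul_mem (Subgroup.mem_zpowers _) (Subgroup.mem_zpowers _)))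

end Cfsg.Agent.S1722
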