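import Cfsg.Statements.S1723
import Cfsg.Agent.H25.JT
import Cfsg.Agent.H3.LM3
-- import your own Cfsg.Agent.* helpers here

set_option autoImplicit false
open Cfsg

namespace Cfsg.Agent.S1723

/-- Sylow 3-structure of a group of Hall–Janko type (large-extraspecial hypothesis with Q of order 32, quotient Ω⁻(4, 2), z not weakly closed in Q, more than one class of involutions): a Sylow 3-subgroup P is extraspecial of order 27, its normaliser has order 216, and the elements of order 3 form exactly two conjugacy classes. -/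
theorem result {G : Type*} [Group G] [Finite G] (z : G) (hz : orderOf z = 2) (Q : Subgroup (Subgroup.centralizer ({z} : Set G))) [Q.Normal] (hF : Cfsg.generalizedFittingSubgroup (Subgroup.centralizer ({z} : Set G)) = Q) (hQ : Cfsg.IsExtraspecial 2 Q) (hcard : Nat.card Q = 2 ^ 5) (e : (Subgroup.centralizer ({z} : Set G)) ⧸ Q ≃* Cfsg.Omega (ZMod 2) (Cfsg.quadFormMinus 1 (ZMod 2) 1 1)) (hnwc : ∃ g : G, (∃ hq : g * z * g⁻¹ ∈ Subgroup.centralizer ({z} : Set G), (⟨g * z * g⁻¹, hq⟩ : Subgroup.centralizer ({z} : Set G)) ∈ Q) ∧ g * z * g⁻¹ ≠ z) (hcl : ∃ x y : G, orderOf x = 2 ∧ orderOf y = 2 ∧ ¬ IsConj x y) (P : Sylow 3 G) : Cfsg.IsExtraspecial 3 (P : Subgroup G) ∧ Nat.card P = 27 ∧ Nat.card (Subgroup.normalizer ((P : Subgroup G) : Set G)) = 216 ∧ ∃ a b : G, orderOf a = 3 ∧ orderOf b = 3 ∧ ¬ IsConj a b ∧ ∀ c : G, orderOf c = 3 → IsConj c a ∨ IsConj c b := by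
  obtain ⟨a, b, c, d, e', x, t', u, s, J⟩ := H25.j2_of_large hz Q hF hQ hcard e hnwc hcl
  obtain ⟨S, -⟩ := J.std
  obtain ⟨S, h⟩ := H25.J2m.syl S (m := 22400) (H25.J2m.n3 S).2.1 rfl (by decide) P
  have hc : Nat.card (P : Subgroup G) = 3 ^ 3 := h ▸ (H25.J2m.n3 S).2.1
  have hA : ¬ H18.Abel (P : Subgroup G) := fun hA => by
    refine S.M.ev_ne (D := 7) (u := [10] ++ [8, 18]) (v := [8, 18] ++ [10]) (by decide) (by decide +kernel) ?_
    rw [H14.ev_append, H14.ev_append]
    rw [← h] at hA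
    exact hA (H14.ev_mem_sub _ List.mem_cons_self) _ (H14.ev_mem_sub _ (List.mem_cons_of_mem _ List.mem_cons_self))
  refine ⟨(H21.isExtraspecial_iff Nat.prime_three).2 ⟨H3.es_of_cube Nat.prime_three hc hA, hA⟩, hc,
    h ▸ (H25.J2m.n3 S).2.2.2, H14.ev S.M.gen [10], H14.ev S.M.gen [8, 8, 19],
    H25.J2m.ord S Nat.prime_three (by decide +kernel), H25.J2m.ord S Nat.prime_three (by decide +kernel), fun hc => ?_,
    fun y hy => ?_⟩
  · obtain ⟨g, hg⟩ := isConj_iff.1 hc
    have := H14.nfix_conj (Ω := H15.Pt S.π) hg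
    rw [S.M.nfix_ev (D := 7) (by decide) _ (k := 4) (by decide +kernel),
      S.M.nfix_ev (D := 7) (by decide) _ (k := 10) (by decide +kernel)] at this
    exact absurd this (by decide)
  · obtain ⟨g, hg⟩ := H14.exists_conj_mem P (y := y) (k := 1) (by rw [pow_one, ← hy, pow_orderOf_eq_one])
    obtain ⟨r, hr, k, hk⟩ := H25.J2m.cls3 S (h ▸ hg)
    have hc : IsConj y (H14.ev S.M.gen r) := (isConj_iff.2 ⟨g, rfl⟩).trans (isConj_iff.2 ⟨k, hk⟩)
    simp only [List.mem_cons, List.not_mem_nil, or_false] at hr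
    rcases hr with rfl | rfl | rfl
    · rw [H14.ev_nil, isConj_one_left] at hc
      simp [hc] at hy
    exacts [Or.inl hc, Or.inr hc]

end Cfsg.Agent.S1723
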