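import Cfsg.Statements.S1724
import Cfsg.Agent.H25.JT
-- import your own Cfsg.Agent.* helpers here

set_option autoImplicit false
open Cfsg

namespace Cfsg.Agent.S1724

/-- In a group of Hall–Janko type (large-extraspecial hypothesis with Q of order 32, quotient Ω⁻(4, 2), z not weakly closed in Q, more than one class of involutions), a Sylow 7-subgroup is its own centraliser and its normaliser is non-abelian of order 42. -/
theorem result {G : Type*} [Group G] [Finite G] (z : G) (hz : orderOf z = 2) (Q : Subgroup (Subgroup.centralizer ({z} : Set G))) [Q.Normal] (hF : Cfsg.generalizedFittingSubgroup (Subgroup.centralizer ({z} : Set G)) = Q) (hQ : Cfsg.IsExtraspecial 2 Q) (hcard : Nat.card Q = 2 ^ 5) (e : (Subgroup.centralizer ({z} : Set G)) ⧸ Q ≃* Cfsg.Omega (ZMod 2) (Cfsg.quadFormMinus 1 (ZMod 2) 1 1)) (hnwc : ∃ g : G, (∃ hq : g * z * g⁻¹ ∈ Subgroup.centralizer ({z} : Set G), (⟨g * z * g⁻¹, hq⟩ : Subgroup.centralizer ({z} : Set G))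 ∈ Q) ∧ g * z * g⁻¹ ≠ z) (hcl : ∃ x y : G, orderOf x = 2 ∧ orderOf y = 2 ∧ ¬ IsConj x y) (D : Sylow 7 G) : Subgroup.centralizer ((D : Subgroup G) : Set G) = D ∧ Nat.card (Subgroup.normalizer ((D : Subgroup G) : Set G)) = 42 ∧ ¬ IsMulCommutative (Subgroup.normalizer ((D : Subgroup G) : Set G)) := by
  have := Fact.mk (by decide : Nat.Prime 7)
  obtain ⟨a, b, c, d, e', x, t', u, s, J⟩ := H25.j2_of_large hz Q hF hQ hcard e hnwc hcl
  obtain ⟨S, -⟩ := J.std
  obtain ⟨S, h⟩ := H25.J2m.syl S (m := 86400) (H25.J2m.n7 S).2.1 rfl (by decide) D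
  rw [← h]
  refine ⟨H25.J2m.c7 S, (H25.J2m.n7 S).2.2.2, fun hc => ?_⟩
  rw [← (H25.J2m.n7 S).2.2.1] at hc
  refine S.M.ev_ne (D := 7) (u := [12] ++ [0, 15]) (v := [0, 15] ++ [12]) (by decide) (by decide +kernel) ?_
  rw [H14.ev_append, H14.ev_append]
  exact congrArg Subtype.val (hc.is_comm.comm ⟨_, H14.ev_mem_sub _ (List.mem_cons_of_mem _ List.mem_cons_self)⟩
    ⟨_, H14.ev_mem_sub _ List.mem_cons_self⟩)

end Cfsg.Agent.S1724
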