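import Cfsg.Statements.S1823
import Cfsg.Agent.H27.St4

set_option autoImplicit false
open Cfsg

namespace Cfsg.Agent.S1823

open H26 H27 Subgroup

open H118 H18.PU H27.Sq H4

/-- A common nontrivial normal 2-subgroup for a pair of 2-local-type subgroups over a Sylow 2-subgroup of a simple QTKE-group. Let G be a non-abelian finite simple QTKE-group and T a Sylow 2-subgroup of G. Let M₀ and H be subgroups of G containing T with O₂(M₀) ≠ 1 and O₂(H) ≠ 1, such that T lies in a unique maximal subgroup of H. Let R be a nontrivial subgroup of T that is a Sylow 2-subgroup of O²(H)R and is normalized by M₀. Then some nontrivial subgroup R₀ of R is normalized by both M₀ and H (that is, R₀ is normal in ⟨M₀, H⟩). -/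
theorem result {G : Type*} [Group G] [Finite G] [IsSimpleGroup G]
    (hG : ¬ IsMulCommutative G) (hQ : Cfsg.IsQTKE G) (T : Sylow 2 G) (M₀ H : Subgroup G)
    (hM₀ : M₀ ∈ Cfsg.calHOver (T : Subgroup G)) (hH : H ∈ Cfsg.calHOver (T : Subgroup G))
    (hU : ∃! K : Subgroup ↥H, IsCoatom K ∧ (T : Subgroup G).subgroupOf H ≤ K)
    (R : Subgroup G) (hR : R ≠ ⊥) (hRT : R ≤ (T : Subgroup G))
    (hRS : ∃ P : Sylow 2 ↥(Cfsg.oddGenerated H ⊔ R),
      (P : Subgroup ↥(Cfsg.oddGenerated H ⊔ R)) = R.subgroupOf (Cfsg.oddGenerated H ⊔ R))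
    (hRM : M₀ ≤ Subgroup.normalizer (R : Set G)) :
    ∃ R₀ : Subgroup G, R₀ ≠ ⊥ ∧ R₀ ≤ R ∧ M₀ ⊔ H ≤ Subgroup.normalizer (R₀ : Set G) := by
  have sy := isSyl_top T
  have ev : ∀ Q : Subgroup G, IsPGroup 2 Q → Q ≠ ⊥ → (T : Subgroup G) ≤ 𝐍 Q → CharPOf 2 (𝐍 Q) := fun Q a b c =>
    charPOf_iff.2 (hQ.2.2 _ ⟨Q, a, b, rfl⟩ ⟨T, c⟩)
  have e : oddGenerated H = pResidualOf 2 H := by
    rw [pResidualOf_eq, oddGenerated]; simp only [Nat.coprime_two_right]
  have n := le_normalizer_pCoreOf 2 H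
  have cN := ev _ (isPGroup_pCoreOf 2 H) (fun k => hH.1 ((Subgroup.map_eq_bot_iff_of_injective _ H.subtype_injective).1 k))
    (hH.2.trans n)
  obtain ⟨M, hu⟩ := existsUnique_coatom_subtype_iff.1 hU
  rw [map_subgroupOf_eq_of_le hH.2] at hu
  obtain ⟨P, hP⟩ := hRS
  have s := isSyl_of_coe_eq le_sup_right P hP
  rw [e] at s
  exact common sy ev (cN.of_le n ((sy.mono (hH.2.trans n) le_top).pCoreOf_le.trans hH.2)) hu hM₀.2 hR hRT s hRM

end Cfsg.Agent.S1823
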