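import Cfsg.Statements.S1905
import Cfsg.Agent.H18.BG8
import Cfsg.Agent.S0208
import Cfsg.Agent.S0209
import Cfsg.Agent.S0223
import Cfsg.Agent.S1225

set_option autoImplicit false
open Cfsg

namespace Cfsg.Agent.S1905
open H18 Subgroup

/-- Let M be a subgroup of even order of a finite group S such that M contains the centralizer in S of each of its involutions and the normal core of M in S has odd order. Then all involutions of S are conjugate. If moreover N_S(X) ≤ M for a Sylow 2-subgroup X of M and I is an involution in the centre of X, then all involutions of M are conjugate in M and M = M₀ C_M(I) for some subgroup M₀ of M of odd order. -/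
theorem result {S : Type*} [Group S] [Finite S] (M : Subgroup S) (hM : Even (Nat.card M))
    (hC : ∀ i ∈ M, orderOf i = 2 → Subgroup.centralizer ({i} : Set S) ≤ M) (hcore : Odd (Nat.card M.normalCore)) :
    (∀ x y : S, orderOf x = 2 → orderOf y = 2 → IsConj x y) ∧
      ∀ (X : Sylow 2 M) (I : M), I ∈ (Subgroup.center ↥(X : Subgroup ↥M)).map (X : Subgroup ↥M).subtype → orderOf I = 2 →
        Subgroup.normalizer (((X : Subgroup M).map M.subtype : Subgroup S) : Set S) ≤ M →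
        (∀ x y : M, orderOf x = 2 → orderOf y = 2 → IsConj x y) ∧
          ∃ M₀ : Subgroup M, Odd (Nat.card M₀) ∧
            ∀ m : M, ∃ a ∈ M₀, ∃ c ∈ Subgroup.centralizer ({I} : Set M), m = a * c := by
  have p2 := Nat.prime_two
  obtain ⟨i, iM, hi⟩ := cauchy p2 hM.two_dvd
  obtain ⟨j, hj, jM⟩ : ∃ j : S, orderOf j = 2 ∧ j ∉ M := by
    by_contra! h
    exact (Nat.not_even_iff_odd.2 hcore) (even_iff_two_dvd.2 (hi ▸ orderOf_dvd_card
      (show i ∈ M.normalCore from fun b => h _ (by rw [orderOf_conj, hi]))))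
  have a : ∀ x y : S, orderOf x = 2 → orderOf y = 2 → x ∈ M → y ∉ M → IsConj x y := fun x y hx hy xM yM => by
    rcases Nat.even_or_odd (orderOf (x * y)) with e | e
    · obtain ⟨b1, b2, b3⟩ := S0209.result x y hx hy e
      exact absurd (hC _ (hC x xM hx (mem_C1.2 b2)) b1 (mem_C1.2 b3.symm)) yM
    · obtain ⟨d, -, hd⟩ := S0208.result x y hx hy e
      exact isConj_iff.2 ⟨d, hd⟩
  have b : ∀ x : S, orderOf x = 2 → IsConj i x := fun x hx => by
    by_cases h : x ∈ M
    · exact (a i j hi hj iM jM).trans (a x j hx hj h jM).symm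
    · exact a i x hi hx iM h
  have c : ∀ x y : S, orderOf x = 2 → orderOf y = 2 → IsConj x y := fun x y hx hy => (b x hx).symm.trans (b y hy)
  refine ⟨c, fun X I hI hI2 hN => ?_⟩
  have hX := hall_map_sylow p2 X
  have hX' := hX.top_of_norm_le p2 hN
  have hI' : orderOf (I : S) = 2 := by rwa [Subgroup.orderOf_coe]
  have hc : (X : Subgroup M).map M.subtype ≤ C1((I : S)) := by
    rintro _ ⟨x, hx, rfl⟩
    obtain ⟨y, hy, rfl⟩ := hI
    exact mem_C1.2 (congrArg (fun z : (X : Subgroup M) => ((z : M) : S)) (mem_center_iff.1 hy ⟨x, hx⟩))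
  have d : ∀ t ∈ M, orderOf t = 2 → ∃ m ∈ M, m * I * m⁻¹ = t := fun t tM ht => by
    obtain ⟨g, rfl⟩ := isConj_iff.1 (c I t hI' ht)
    obtain ⟨m, hm, e⟩ := sylow_conj p2 hX ((hX'.cj_top g).of_le
      (((cj_mono hc).trans cj_C1.le).trans (hC _ tM ht)) le_top)
    exact ⟨g, (mul_mem_cancel_left (inv_mem hm)).1 (hN (mem_N_iff_cj.2 (by rw [cj_mul, e, cj_inv_cj]))), rfl⟩
  have d' : ∀ t ∈ M, ∀ s ∈ M, orderOf t = 2 → orderOf s = 2 → ∃ h ∈ M, h * t * h⁻¹ = s := fun t tM s sM ht hs => by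
    obtain ⟨m, hm, rfl⟩ := d t tM ht
    obtain ⟨n, hn, rfl⟩ := d s sM hs
    exact ⟨n * m⁻¹, mul_mem hn (inv_mem hm), by group⟩
  have se := (S0223.result M (fun e => jM (e ▸ mem_top _)) hM).2 ⟨hC, fun t tM s sM ht hs _ => d' t tM s sM ht hs⟩
  refine ⟨fun x y hx hy => ?_, (M ⊓ cj j M).subgroupOf M, by rw [card_subgroupOf inf_le_left]; exact se.2.2 j jM, fun m => ?_⟩
  · obtain ⟨h, hh, e⟩ := d' x x.2 y y.2 (by rwa [Subgroup.orderOf_coe]) (by rwa [Subgroup.orderOf_coe])
    exact isConj_iff.2 ⟨⟨h, hh⟩, Subtype.ext e⟩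
  obtain ⟨u, hu, e⟩ := (S1225.result M se j hj jM I (m * I * (m : S)⁻¹) hI' I.2 (by rw [orderOf_conj, hI'])
    (m * I * m⁻¹).2).1
  refine ⟨⟨u, hu.1⟩, hu, ⟨u, hu.1⟩⁻¹ * m, mem_C1.2 (Subtype.ext ?_), by group⟩
  show u⁻¹ * m * I = I * (u⁻¹ * m)
  calc u⁻¹ * m * I = u⁻¹ * (m * I * (m : S)⁻¹) * m := by group
    _ = _ := by rw [← e]; group

end Cfsg.Agent.S1905
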