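import Cfsg.Statements.S1907
import Cfsg.Agent.H18.BG1

set_option autoImplicit false
open Cfsg

namespace Cfsg.Agent.S1907
open H18 Subgroup

/-- Let P be a Sylow p-subgroup of a finite group G, H = P ∩ O_{p',p}(G), N = N_G(H) and D = O_{p'}(G). (a) If y is an element of p-power order of N and d ∈ D with d⁻¹ y d ∈ N, then d = d₁ d₂ with d₁ ∈ C_D(y) and d₂ ∈ C_D(H). (b) Two elements of P that are conjugate in G are conjugate in N. -/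
theorem result {G : Type*} [Group G] [Finite G] {p : ℕ} [Fact p.Prime] (P : Sylow p G) :
    (∀ y ∈ Subgroup.normalizer (((P : Subgroup G) ⊓ Cfsg.pPrimePCore p G : Subgroup G) : Set G), (∃ k : ℕ, orderOf y = p ^ k) →
      ∀ d ∈ Cfsg.pPrimeCore p G, d⁻¹ * y * d ∈ Subgroup.normalizer (((P : Subgroup G) ⊓ Cfsg.pPrimePCore p G : Subgroup G) : Set G) →
        ∃ d₁ ∈ Cfsg.pPrimeCore p G ⊓ Subgroup.centralizer ({y} : Set G),
          ∃ d₂ ∈ Cfsg.pPrimeCore p G ⊓ Subgroup.centralizer (((P : Subgroup G) ⊓ Cfsg.pPrimePCore p G : Subgroup G) : Set G), d = d₁ * d₂) ∧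
    ∀ x y : G, x ∈ (P : Subgroup G) → y ∈ (P : Subgroup G) → IsConj x y →
      ∃ n ∈ Subgroup.normalizer (((P : Subgroup G) ⊓ Cfsg.pPrimePCore p G : Subgroup G) : Set G), n * x * n⁻¹ = y := by
  have hp : p.Prime := Fact.out
  rw [pPrimePCore_eq hp, pPrimeCore_eq hp]
  have hH := (hall_sylow_top hp P).inf_nml (pcore2_nml (π := {p}ᶜ) (ρ := {p}))
  set H := (P : Subgroup G) ⊓ O2[{p}ᶜ,{p}]((⊤ : Subgroup G))
  have a : ∀ y ∈ N(H), (∃ k : ℕ, orderOf y = p ^ k) → ∀ d ∈ O[{p}ᶜ]((⊤ : Subgroup G)), d⁻¹ * y * d ∈ N(H) →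
      ∃ d₁ ∈ O[{p}ᶜ]((⊤ : Subgroup G)) ⊓ C1(y), ∃ d₂ ∈ O[{p}ᶜ]((⊤ : Subgroup G)) ⊓ C(H), d = d₁ * d₂ := by
    rintro y hy ⟨k, hk⟩ d hd hdy
    obtain ⟨c, hc, e⟩ := H18.Cop.exists_cent_cj (cop_p'core le_top (piGrp_zpowers.2 (by rw [PiElt, hk]; exact piNat_pow_self hp k)))
      (zpowers_le.2 hy) hd (by rw [← cj_N]; exact zpowers_le.2 (mem_cj.2 hdy))
    rw [C_zpowers] at hc
    refine ⟨c, hc, c⁻¹ * d, ?_, by group⟩
    rw [← (cop_p'core le_top hH.pi).inf_N]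
    exact ⟨Subgroup.mul_mem _ (inv_mem hc.1) hd, mem_N_iff_cj.2 (by rw [cj_mul, ← e, cj_inv_cj])⟩
  refine ⟨a, fun x y hx hy hxy => ?_⟩
  obtain ⟨g, rfl⟩ := isConj_iff.1 hxy
  obtain ⟨k, hk, n, hn, rfl⟩ := frattini_elt hp hH (pcore2_nml.norm (mem_top g))
  rw [← hH.sup_pcore2] at hk
  obtain ⟨d, hd, h, hh, rfl⟩ := (mem_sup_of_norm' (le_top.trans pcore_nml.norm)).1 hk
  have nP : (P : Subgroup G) ≤ N(H) := norm_inf le_N (le_top.trans pcore2_nml.norm)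
  have hm := mul_mem (le_N hh) hn
  obtain ⟨c, hc, e, he, h1⟩ := a (h * n * x * (h * n)⁻¹) (mul_mem (mul_mem hm (nP hx)) (inv_mem hm))
    (by rw [orderOf_conj]; exact ((hall_sylow_top hp P).pi.elt hx).eq_pow (orderOf_pos x).ne') d⁻¹ (inv_mem hd)
    (by convert nP hy using 1; group)
  refine ⟨e⁻¹ * (h * n), mul_mem (inv_mem (C_le_N he.2)) hm, ?_⟩
  obtain rfl : d = e⁻¹ * c⁻¹ := by rw [← mul_inv_rev, ← h1, inv_inv]
  calc _ = e⁻¹ * (c⁻¹ * (h * n * x * (h * n)⁻¹) * c⁻¹⁻¹) * e := by rw [conj_eq_self_of_C1 (inv_mem hc.2)]; group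
    _ = _ := by group

end Cfsg.Agent.S1907
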