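import Cfsg.Statements.S1909
import Cfsg.Agent.H1.Fro5

set_option autoImplicit false
open Cfsg

namespace Cfsg.Agent.S1909

/-- Let G be a finite group all of whose composition factors are N-groups (every local subgroup solvable), and n a divisor of the order of G such that exactly n elements x of G satisfy x^n = 1. Then these elements form a subgroup. -/
theorem result {G : Type*} [Group G] [Finite G]
    (hN : ∀ H : Subgroup G, H.IsSubnormal → ∀ (N : Subgroup H) [N.Normal], IsSimpleGroup (H ⧸ N) → Cfsg.IsNGroup (H ⧸ N))
    (n : ℕ) (hn : n ∣ Nat.card G) (hcount : Nat.card {x : G // x ^ n = 1} = n) :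
    ∃ H : Subgroup G, (H : Set G) = {x : G | x ^ n = 1} := by
  obtain ⟨H, c⟩ := H1.Fro.zemlin _ G rfl (fun H a X _ f s b => by
    have e := QuotientGroup.quotientKerEquivOfSurjective f s
    have := e.isSimpleGroup
    exact (H1.Fro.tv_ng (hN H a f.ker this)).equiv e.symm) n hn hcount
  exact ⟨H, Set.ext (H1.Fro.mem_iff c hcount)⟩
end Cfsg.Agent.S1909
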