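import Cfsg.Statements.S1910
import Cfsg.Agent.H18.BG7
import Cfsg.Agent.H26.JC5

set_option autoImplicit false
open Cfsg

namespace Cfsg.Agent.S1910
open H18 Subgroup
open scoped commutatorElement

section
variable {G : Type*} [Group G] [Finite G] {Q Q' T S : Subgroup G}

/-- a nontrivial `2`-subgroup of `Q ⊓ Q ^ x` forces `x ∈ N(Q)` -/
def TE (Q : Subgroup G) : Prop := ∀ x : G, ∀ T ≤ Q ⊓ cj x Q, PiGrp {2} T → T ≠ ⊥ → x ∈ N(Q)

omit [Finite G] in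
theorem TE.cj (h : TE Q) (g : G) : TE (cj g Q) := fun x T h1 h2 h3 => by
  rw [← cj_N, mem_cj]
  refine h _ (H18.cj g⁻¹ T) ?_ (h2.cj _) (by simpa)
  rwa [cj_le_iff, inv_inv, cj_inf, cj_cj, ← mul_assoc, ← mul_assoc, mul_inv_cancel, one_mul, cj_mul]

omit [Finite G] in
theorem TE.cent (h : TE Q) (hT : T ≤ Q) (h2 : PiGrp {2} T) (h1 : T ≠ ⊥) : N(T) ≤ N(Q) := fun x hx =>
  h x T (le_inf hT ((cj_eq_self hx).ge.trans (cj_mono hT))) h2 h1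

theorem aux (h' : TE Q') {g : G} (hg : Q' = cj g Q) (hT : Hall {2} T (Q' ⊓ N(Q))) (hS : Hall {2} S (Q ⊔ T)) (hTS : T ≤ S)
    (hd : T ⊓ Q = ⊥) : ⁅T, S ⊓ N(T) ⊓ Q⁆ = ⊥ ∧ T ⊔ (S ⊓ N(T) ⊓ Q) = S ⊓ N(T) ∧
      Nat.card T ≤ Nat.card ↥(S ⊓ N(T) ⊓ Q) ∧ (Nat.card ↥(S ⊓ N(T) ⊓ Q) ≤ Nat.card T → Nonempty (↥(S ⊓ N(T) ⊓ Q) ≃* T)) := by
  have nQ : T ≤ N(Q) := hT.le.trans inf_le_right
  have hQ := hT.le.trans inf_le_left
  have nS : S ≤ N(Q) := hS.le.trans (sup_le le_N nQ)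
  have a : ⁅T, S ⊓ N(T) ⊓ Q⁆ = ⊥ := eq_bot_mono (le_inf (comm_le_left (inf_le_left.trans inf_le_right))
    ((comm_mono le_rfl inf_le_right).trans (comm_le_right nQ))) hd
  have b : T ⊔ (S ⊓ N(T) ⊓ Q) = S ⊓ N(T) := by
    rw [← Nrm2.modular_left (.inl nQ) (le_inf hTS le_N), inf_eq_left, sup_comm]; exact inf_le_left.trans hS.le
  refine ⟨a, b, ?_⟩
  by_cases e : S ≤ N(T)
  · rw [inf_eq_left.2 e]
    obtain ⟨x, -, hx⟩ := sylow_le_cj Nat.prime_two ((hS.inf_nml (nml_sup_left nQ)).cj g) hT.pi (hg ▸ hQ)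
    exact ⟨by simpa using card_le hx, fun h => ⟨(cjEquiv g _).trans ((MulEquiv.subgroupCongr
      (eq_of_card_ge hx (by simpa)).symm).trans (cjEquiv x T).symm)⟩⟩
  obtain ⟨s, ⟨hs, hn⟩, h1⟩ := SetLike.exists_of_lt (hS.pi.nil.lt_norm (inf_lt_left.2 e))
  have c1 : cj s T ≤ S ⊓ N(T) := cj_le_of_mem_N (le_inf hTS le_N) hn
  have c2 : T ⊓ cj s T = ⊥ := by
    by_contra h
    have := h' s _ (inf_le_inf hQ (cj_mono hQ)) hT.pi.inf_left h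
    refine h1 ⟨hs, ?_⟩
    rw [← hT.eq_of_le (le_inf hTS hQ) (le_inf inf_le_right (inf_le_left.trans nS)) hS.pi.inf_left]
    exact norm_inf (le_norm (zpowers_le.2 hs)) (zpowers_le.2 this) (mem_zpowers s)
  have d : T ⊓ (S ⊓ N(T) ⊓ Q) = ⊥ := eq_bot_mono (inf_le_inf_left _ inf_le_right) hd
  have c3 := card_sup_of_cent (comm_eq_bot_iff.1 a) d
  have c4 := Nrm2.card_sup_of_disj (.inr (c1.trans inf_le_right)) c2
  have c5 : T ⊔ cj s T ≤ S ⊓ N(T) := sup_le (le_inf hTS le_N) c1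
  rw [b] at c3
  rw [card_cj] at c4
  refine ⟨Nat.le_of_mul_le_mul_left (c3 ▸ c4 ▸ card_le c5) card_pos', fun h => ?_⟩
  exact ⟨(H26.equiv_of_compl inf_le_right d b c2 (eq_of_card_ge c5 (c3 ▸ c4 ▸ Nat.mul_le_mul_left _ h))).some.trans
    (cjEquiv s T).symm⟩

end

/-- Let Q be a tightly embedded subgroup of a finite group G, g an element outside N_G(Q), T a nontrivial Sylow 2-subgroup of Q^g ∩ N_G(Q), and S a Sylow 2-subgroup of QT containing T. Then T ∩ Q = 1, and N_S(T) is the direct product of T and N_S(T) ∩ Q, with N_S(T) ∩ Q isomorphic to T. -/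
theorem result {G : Type*} [Group G] [Finite G] (Q : Subgroup G) (hQ : Cfsg.IsTightlyEmbedded Q)
    (g : G) (hg : g ∉ Subgroup.normalizer (Q : Set G))
    (T : Subgroup G) (hT1 : T ≠ ⊥) (hT : T ≤ Q.map (MulAut.conj g).toMonoidHom ⊓ Subgroup.normalizer (Q : Set G))
    (hTsyl : IsPGroup 2 T ∧ ¬ 2 ∣ T.relIndex (Q.map (MulAut.conj g).toMonoidHom ⊓ Subgroup.normalizer (Q : Set G)))
    (S : Subgroup G) (hTS : T ≤ S) (hS : S ≤ Q ⊔ T) (hSsyl : IsPGroup 2 S ∧ ¬ 2 ∣ S.relIndex (Q ⊔ T)) :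
    T ⊓ Q = ⊥ ∧
      T ⊓ (S ⊓ Subgroup.normalizer (T : Set G) ⊓ Q) = ⊥ ∧
      ⁅T, S ⊓ Subgroup.normalizer (T : Set G) ⊓ Q⁆ = ⊥ ∧
      T ⊔ (S ⊓ Subgroup.normalizer (T : Set G) ⊓ Q) = S ⊓ Subgroup.normalizer (T : Set G) ∧
      Nonempty (↥(S ⊓ Subgroup.normalizer (T : Set G) ⊓ Q) ≃* T) := by
  have p2 := Nat.prime_two
  have h : TE Q := fun x T h1 h2 h3 => by
    by_contra e; exact (hQ.2 x e).not_two_dvd_nat ((h2.dvd_card h3).trans (card_dvd h1))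
  have hT' : Hall {2} T (cj g Q ⊓ N(Q)) := ⟨hT, piGrp_of_isPGroup p2 hTsyl.1, (piNat_compl_iff p2).2 hTsyl.2⟩
  have hS' : Hall {2} S (Q ⊔ T) := ⟨hS, piGrp_of_isPGroup p2 hSsyl.1, (piNat_compl_iff p2).2 hSsyl.2⟩
  have hQ' := hT'.le.trans inf_le_left
  have d : T ⊓ Q = ⊥ := by
    by_contra e; exact hg (h g _ (le_inf inf_le_right (inf_le_left.trans hQ')) hT'.pi.inf_left e)
  obtain ⟨a1, a2, a3, a4⟩ := aux (h.cj g) rfl hT' hS' hTS d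
  refine ⟨d, eq_bot_mono (inf_le_inf_left _ inf_le_right) d, a1, a2, a4 ?_⟩
  obtain ⟨R, hR, b1⟩ := exists_sylow_le p2 (Q := S ⊓ N(T) ⊓ Q) hS'.pi.inf_left.inf_left
    (le_inf inf_le_right ((inf_le_left.trans inf_le_right).trans ((h.cj g).cent hQ' hT'.pi hT1)))
  obtain ⟨U, hU, b2⟩ := exists_sylow_le p2 hR.pi (le_sup_right : R ≤ cj g Q ⊔ R)
  have hRQ := hR.le.trans inf_le_left
  have R1 : R ≠ ⊥ := fun e => by
    rw [eq_bot_mono b1 e, card_bot] at a3; exact absurd (one_lt_card hT1) (by omega)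
  obtain ⟨-, -, c, -⟩ := aux (g := g⁻¹) h (by simp) hR hU b2 (by
    by_contra e; exact hg (h g _ (inf_le_inf_right _ hRQ) hR.pi.inf_left e))
  exact (card_le b1).trans (c.trans (Nat.le_of_dvd card_pos' (hT'.card_dvd (le_inf inf_le_right
    ((inf_le_left.trans inf_le_right).trans (h.cent hRQ hR.pi R1))) hU.pi.inf_left.inf_left)))

end Cfsg.Agent.S1910
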