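import Cfsg.Statements.S1913
import Cfsg.Agent.H21.RED2

set_option autoImplicit false
open Cfsg

namespace Cfsg.Agent.S1913

open H18 H9 Subgroup in

/-- Let z be an involution in the centre of a Sylow 2-subgroup of a finite group G and H a proper subgroup such that z ∈ gHg⁻¹ exactly when g ∈ H, and such that for every involution u commuting with z whose centralizer is not contained in H, the subgroup H ∩ L is strongly embedded in L = ⟨G-conjugates of z commuting with u⟩. Then, with K the normal closure of z in G, H ∩ K is strongly embedded in K. -/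
theorem result {G : Type*} [Group G] [Finite G] (P : Sylow 2 G) (z : G) (hz2 : orderOf z = 2)
    (hzP : z ∈ (Subgroup.center ↥(P : Subgroup G)).map (P : Subgroup G).subtype)
    (H : Subgroup G) (hH : H ≠ ⊤) (hi : ∀ g : G, z ∈ H.map (MulAut.conj g).toMonoidHom ↔ g ∈ H)
    (hii : ∀ u : G, orderOf u = 2 → u * z = z * u → ¬ Subgroup.centralizer ({u} : Set G) ≤ H →
      Cfsg.IsStronglyEmbedded (H.subgroupOf (Subgroup.closure {x : G | IsConj z x ∧ x * u = u * x}))) :
    Cfsg.IsStronglyEmbedded (H.subgroupOf (Subgroup.normalClosure ({z} : Set G))) := by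
  obtain ⟨z2, z1⟩ := orderOf_eq_two.1 hz2
  have hc : (P : Subgroup G) ≤ centralizer {z} := fun s hs => by
    obtain ⟨z, hz, rfl⟩ := hzP
    exact mem_C1.2 (congrArg Subtype.val (mem_center_iff.1 hz ⟨s, hs⟩))
  have := H21.se_class z2 z1 hH (by simpa using (hi 1).2 (one_mem _)) (H21.odd_index_of_syl P hc) (fun g hg => by
      simpa using (hi g⁻¹).1 ⟨_, hg, by simp [mul_assoc]⟩) fun u u2 u1 uH c n m => by
    have h := sein_of_se (hii u (orderOf_eq_two.2 ⟨u2, u1⟩) c n)
    have e : {x : G | IsConj z x ∧ x * u = u * x} = {x | IsConj z x} ∩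
      (centralizer {u} : Subgroup G) := Set.ext fun x => and_congr_right fun _ => mem_C1.symm
    rw [e] at h
    obtain ⟨g, hg, gH⟩ := SetLike.exists_of_lt h.lt
    have := mem_C1.1 ((closure_le (centralizer {u})).2 Set.inter_subset_right hg)
    exact u1 (h.odd g hg gH u ⟨m, uH⟩ (by rw [mul_assoc, ← this, inv_mul_cancel_left]; exact ⟨m, uH⟩) u2)
  have e : normalClosure {z} = Subgroup.closure {x | IsConj z x} := by
    rw [normalClosure]; congr 1; ext x; simp [Group.mem_conjugatesOfSet_iff]
  rw [e, ← inf_subgroupOf_left]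
  exact this.se

end Cfsg.Agent.S1913
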