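import Cfsg.Statements.S1914
import Cfsg.Agent.H9.Z4c

set_option autoImplicit false
open Cfsg

namespace Cfsg.Agent.S1914

open Subgroup H2 H9.Z4
open scoped Pointwise

theorem two_inv {G : Type*} [Group G] [Finite G] {A S : Subgroup G} (hS : SylIn 2 S A)
    (hrk : ¬ Cfsg.PRankLE 2 1 A) : ∃ y₁ y₂ : G, y₁ ∈ S ∧ y₂ ∈ S ∧ y₁ ≠ 1 ∧ y₂ ≠ 1 ∧
      y₁ ≠ y₂ ∧ y₁ * y₁ = 1 ∧ y₂ * y₂ = 1 := by
  classical
  haveI : Fact (Nat.Prime 2) := Nat.fact_prime_two
  unfold Cfsg.PRankLE at hrk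
  push Not at hrk
  obtain ⟨K, -, hK2, hK3⟩ := hrk
  have sq : ∀ x : K, ((x : A) : G) * ((x : A) : G) = 1 := fun x => by
    rw [← pow_two]; exact congrArg Subtype.val (hK2 x x.2)
  obtain ⟨k, -, -, hm⟩ := ext (K := ⊤) (R := K.map A.subtype) (g := 1) hS le_top (by
    rintro ⟨_, x, hx, rfl⟩
    exact ⟨1, Subtype.ext (show (x : G) ^ 2 = 1 from congrArg Subtype.val (hK2 x hx))⟩) (map_subtype_le K)
    (one_mem _) fun _ _ => trivial
  simp only [one_mul, inv_one, mul_one] at hm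
  haveI := Fintype.ofFinite K
  rw [Nat.card_eq_fintype_card] at hK3
  obtain ⟨x₁, e1⟩ := Fintype.exists_ne_of_one_lt_card (by omega) (1 : K)
  obtain ⟨x₂, e2, e4⟩ : ∃ x₂ : K, x₂ ≠ 1 ∧ x₂ ≠ x₁ := by
    by_contra hall
    push Not at hall
    have : (Finset.univ : Finset K) ⊆ {1, x₁} := fun x _ => by
      by_cases hx : x = 1
      · simp [hx]
      · simp [hall x hx]
    have h5 := (Finset.card_le_card this).trans Finset.card_le_two
    rw [Finset.card_univ] at h5; omega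
  exact ⟨_, _, hm _ ⟨x₁, x₁.2, rfl⟩, hm _ ⟨x₂, x₂.2, rfl⟩, cj_ne (fun e => e1 (Subtype.ext (Subtype.ext e))) k,
    cj_ne (fun e => e2 (Subtype.ext (Subtype.ext e))) k, fun e => e4 (Subtype.ext (Subtype.ext (cj_inj e).symm)),
    cj1 (sq x₁) k, cj1 (sq x₂) k⟩

theorem gen {G : Type*} [Group G] [Finite G] {C R : Subgroup G} {t : G}
    (hC : ∀ R : Sylow 2 C, IsCyclic R ∧ Nat.card R = 4) (hR : IsPGroup 2 R) (h : R ≤ C) :
    ∃ u ∈ C, SylIn 2 (zpowers u) C ∧ R ≤ zpowers u ∧ orderOf u = 4 := by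
  haveI : Fact (Nat.Prime 2) := Nat.fact_prime_two
  obtain ⟨Q, h1, hQ⟩ := exists_sylIn_ge hR h
  obtain ⟨c1, c2⟩ := hC hQ.toSylow
  let e : hQ.toSylow ≃* Q := subgroupOfEquivOfLe hQ.le
  haveI : IsCyclic Q := isCyclic_of_surjective e e.surjective
  obtain ⟨u, rfl⟩ := (Subgroup.isCyclic_iff_exists_zpowers_eq_top Q).1 inferInstance
  exact ⟨u, hQ.le (mem_zpowers u), hQ, h1, by rw [← Nat.card_zpowers, ← Nat.card_congr e.toEquiv, c2]⟩

/-- Let A be a semisimple subgroup (a central product of quasisimple groups, A = E(A)) of a finite group and t an involution normalizing A such that the Sylow 2-subgroups of C_A(t) are cyclic of order 4. Then A has 2-rank exactly 1. -/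
theorem result {G : Type*} [Group G] [Finite G] (A : Subgroup G) (hA : Cfsg.layer ↥A = ⊤)
    (t : G) (ht : orderOf t = 2) (htA : t ∈ Subgroup.normalizer (A : Set G))
    (hC : ∀ R : Sylow 2 ↥(A ⊓ Subgroup.centralizer ({t} : Set G)), IsCyclic R ∧ Nat.card R = 4) :
    Cfsg.PRankLE 2 1 A ∧ ¬ Cfsg.PRankLE 2 0 A := by
  haveI : Fact (Nat.Prime 2) := Nat.fact_prime_two
  have t2 : t * t = 1 := by rw [← pow_two, ← ht, pow_orderOf_eq_one]
  have sq : ∀ u : G, orderOf u = 4 → u * u ≠ 1 ∧ u * u * (u * u) = 1 := fun u h => ⟨fun e => by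
    have := orderOf_dvd_of_pow_eq_one ((pow_two u).trans e)
    rw [h] at this; omega, by
    rw [← pow_orderOf_eq_one u, h]; simp [pow_succ, mul_assoc]⟩
  obtain ⟨u, hu, hU, -, u4⟩ := gen (t := t) hC (R := ⊥) IsPGroup.of_bot bot_le
  obtain ⟨z1, z2⟩ := sq u u4
  have ut : u * t = t * u := mem_centralizer_singleton_iff.1 hu.2
  refine ⟨?_, fun h => ?_⟩
  swap
  · have := h (zpowers (⟨u * u, mul_mem hu.1 hu.1⟩ : A)) inferInstance (by
      rintro _ ⟨i, rfl⟩
      simp only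
      rw [← zpow_natCast, ← zpow_mul, mul_comm, zpow_mul, zpow_natCast,
        show (⟨u * u, mul_mem hu.1 hu.1⟩ : A) ^ 2 = 1 from Subtype.ext ((pow_two _).trans z2), one_zpow])
    rw [pow_zero, Nat.card_zpowers] at this
    exact z1 (congrArg Subtype.val (orderOf_eq_one_iff.1 (le_antisymm this (orderOf_pos _))))
  by_contra hrk
  have hLA : A ⊔ zpowers t ≤ normalizer (A : Set G) := sup_le le_normalizer (zpowers_le.2 htA)
  have pt : IsPGroup 2 (zpowers t) := IsPGroup.of_card (n := 1) (by rw [Nat.card_zpowers, ht, pow_one])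
  obtain ⟨T, hUT, hT⟩ := exists_sylIn_ge (hU.isPGroup.to_sup_of_normal_right' pt
    (zpowers_le.2 (norm_zp (Or.inl (by rw [ut]; group))))) (sup_le_sup_right (hU.le.trans inf_le_left) _)
  have hS := hT.inf_of_normal le_sup_left (hT.le.trans hLA)
  obtain ⟨y₁, y₂, h1, h2, h11, h21, h12, hs1, hs2⟩ := two_inv hS hrk
  have tT : t ∈ T := hUT (mem_sup_right (mem_zpowers t))
  have uS : u ∈ T ⊓ A := ⟨hUT (mem_sup_left (mem_zpowers u)), hu.1⟩
  have zu : u * u ∈ zpowers u := mul_mem (mem_zpowers u) (mem_zpowers u)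
  have cu : ∀ g ∈ T ⊓ A, g * t = t * g → g ∈ zpowers u := fun g hg e =>
    (hU.eq_of_le (R := T ⊓ (A ⊓ centralizer {t})) hT.isPGroup.to_inf_left
      (le_inf (zpowers_le.2 uS.1) hU.le) inf_le_right).le ⟨hg.1, hg.2, mem_centralizer_singleton_iff.2 e⟩
  haveI : (A.subgroupOf T).Normal := ⟨fun a ha g => (mem_normalizer_iff.1 (hLA (hT.le g.2)) _).1 ha⟩
  obtain ⟨z', hz, hzc, hzo⟩ := H9.exists_central_involution hT.isPGroup (A.subgroupOf T) (fun e => h11 (by
    have : (⟨y₁, h1.1⟩ : T) ∈ A.subgroupOf T := h1.2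
    rw [e] at this; exact congrArg Subtype.val this))
  have ez : (z' : G) = u * u := (uniq zu z1 z2 (cu z' ⟨z'.2, hz⟩
    (congrArg Subtype.val (mem_center_iff.1 hzc ⟨t, tT⟩)).symm)
    (by rw [← pow_two, ← hzo]; exact congrArg Subtype.val (pow_orderOf_eq_one z'))).resolve_left fun e => by
      rw [show z' = 1 from Subtype.ext e, orderOf_one] at hzo; omega
  have zc : ∀ g ∈ T, g * (u * u) = u * u * g := fun g hg => ez ▸ congrArg Subtype.val (mem_center_iff.1 hzc ⟨g, hg⟩)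
  have tA : t ∉ A := fun e => by
    have all : ∀ g ∈ T ⊓ A, g ∈ zpowers u := fun g hg => cu g hg (by
      rcases uniq zu z1 z2 (cu t ⟨tT, e⟩ rfl) t2 with e | e <;> rw [e]
      exacts [by simp, zc g hg.1])
    exact h12 (((uniq zu z1 z2 (all _ h1) hs1).resolve_left h11).trans
      ((uniq zu z1 z2 (all _ h2) hs2).resolve_left h21).symm)
  refine St.false (A := A) (L := A ⊔ zpowers t) (T := T) (t := t) (u := u) (z := u * u)
    ⟨fun M _ hM => H2.Kf.no_index_two_of_layer hA M hM, fun hs => ?_, le_sup_left, hLA, hT, tT, tA, t2,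
      fun g hg => (mem_ext (fun k hk => (mem_normalizer_iff.1 htA k).1 hk) (t2 ▸ one_mem _)).1 hg, uS, ut, rfl, zc,
      z1, z2, cu, fun a ha b hb e1 e2 a2 b2 e a1 b1 => ?_⟩ h1 h2 h11 h21 h12 hs1 hs2
  · haveI : Nontrivial A := ⟨⟨⟨y₁, h1.2⟩, 1, fun e => h11 (congrArg Subtype.val e)⟩⟩
    refine (Group.IsSolvable.commutator_lt_top_of_nontrivial A).ne (top_le_iff.1 (hA ▸ sSup_le fun K hK => ?_))
    have hp : ⁅K, K⁆ = K := Subgroup.isPerfect_iff.1 hK.2.1
    rw [← hp]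
    exact commutator_mono le_top le_top
  · have p2 : ∀ a : G, a * a = 1 → IsPGroup 2 (zpowers a) := fun a h x => ⟨1, Subtype.ext (by
      obtain ⟨_, i, rfl⟩ := x
      show (a ^ i) ^ 2 ^ 1 = 1
      rw [pow_one, pow_two, ← (Commute.refl a).mul_zpow, h, one_zpow])⟩
    obtain ⟨w, -, -, hw, w4⟩ := gen (t := t) hC ((p2 a a2).to_sup_of_normal_right' (p2 b b2)
      (zpowers_le.2 (norm_zp (Or.inl (by rw [e]; group)))))
      (sup_le (zpowers_le.2 ⟨ha, mem_centralizer_singleton_iff.2 e1⟩)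
        (zpowers_le.2 ⟨hb, mem_centralizer_singleton_iff.2 e2⟩))
    have zw : w * w ∈ zpowers w := mul_mem (mem_zpowers w) (mem_zpowers w)
    exact ((uniq zw (sq w w4).1 (sq w w4).2 (hw (mem_sup_left (mem_zpowers a))) a2).resolve_left a1).trans
      ((uniq zw (sq w w4).1 (sq w w4).2 (hw (mem_sup_right (mem_zpowers b))) b2).resolve_left b1).symm

end Cfsg.Agent.S1914
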