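import Cfsg.Statements.S1915
import Cfsg.Agent.H2.Kf2

set_option autoImplicit false
open Cfsg

open Subgroup
open scoped Pointwise

namespace Cfsg.Agent.S1915

theorem rank_mono {G : Type*} [Group G] {H K : Subgroup G} (h : H ≤ K) {p k : ℕ}
    (hK : Cfsg.PRankLE p k K) : Cfsg.PRankLE p k H := by
  intro B hB hp
  have := hK (B.map (inclusion h)) inferInstance (by
    rintro _ ⟨b, hb, rfl⟩
    rw [← map_pow, hp b hb, map_one])
  rwa [Subgroup.card_map_of_injective (inclusion_injective h)] at this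

theorem eq_of_rank {G : Type*} [Group G] [Finite G] {H : Subgroup G} (h : Cfsg.PRankLE 2 1 H) {a b : G}
    (ha : a ∈ H) (hb : b ∈ H) (haa : a * a = 1) (hbb : b * b = 1) (hab : a * b = b * a) (ha1 : a ≠ 1)
    (hb1 : b ≠ 1) : a = b := by
  classical
  by_contra hne
  let a' : H := ⟨a, ha⟩
  let b' : H := ⟨b, hb⟩
  have hc : ∀ x ∈ ({a', b'} : Set H), ∀ y ∈ ({a', b'} : Set H), x * y = y * x := by
    rintro x (rfl | rfl) y (rfl | rfl)
    · rfl
    · exact Subtype.ext hab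
    · exact Subtype.ext hab.symm
    · rfl
  have hcomm : IsMulCommutative (closure ({a', b'} : Set H)) := isMulCommutative_closure hc
  have := h (closure ({a', b'} : Set H)) hcomm (fun x hx => by
    induction hx using closure_induction with
    | mem x hx =>
      rcases hx with rfl | rfl
      · exact Subtype.ext (by simp [a', pow_two, haa])
      · exact Subtype.ext (by simp [b', pow_two, hbb])
    | one => simp
    | mul x y hx hy h1 h2 =>
      have : Commute x y := congrArg Subtype.val (hcomm.is_comm.comm ⟨x, hx⟩ ⟨y, hy⟩)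
      rw [this.mul_pow, h1, h2, mul_one]
    | inv x hx h1 => rw [inv_pow, h1, inv_one])
  have h3 : 2 < Nat.card (closure ({a', b'} : Set H)) := by
    haveI := Fintype.ofFinite (closure ({a', b'} : Set H))
    rw [Nat.card_eq_fintype_card, Fintype.two_lt_card_iff]
    refine ⟨1, ⟨a', subset_closure (by simp)⟩, ⟨b', subset_closure (by simp)⟩, ?_, ?_, ?_⟩
    · intro e; exact ha1 (congrArg (fun x => ((x.1 : H) : G)) e).symm
    · intro e; exact hb1 (congrArg (fun x => ((x.1 : H) : G)) e).symm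
    · intro e; exact hne (congrArg (fun x => ((x.1 : H) : G)) e)
  omega

/-- Let A be a semisimple subgroup (A = E(A)) of a finite group and U a Klein four-group normalizing A. If the subgroup of A generated by the normalizers N_A(V) of the nontrivial subgroups V of U has 2-rank exactly 1, then A has 2-rank exactly 1. -/
theorem result {G : Type*} [Group G] [Finite G] (A : Subgroup G) (hA : Cfsg.layer ↥A = ⊤)
    (U : Subgroup G) (hU : IsKleinFour U) (hUA : U ≤ Subgroup.normalizer (A : Set G))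
    (hΓ : Cfsg.PRankLE 2 1 ↥(⨆ V : {V : Subgroup G // V ≤ U ∧ V ≠ ⊥}, A ⊓ Subgroup.normalizer ((V : Subgroup G) : Set G)) ∧
      ¬ Cfsg.PRankLE 2 0 ↥(⨆ V : {V : Subgroup G // V ≤ U ∧ V ≠ ⊥}, A ⊓ Subgroup.normalizer ((V : Subgroup G) : Set G))) :
    Cfsg.PRankLE 2 1 A ∧ ¬ Cfsg.PRankLE 2 0 A := by
  classical
  haveI : Fact (Nat.Prime 2) := Nat.fact_prime_two
  have hΓA : (⨆ V : {V : Subgroup G // V ≤ U ∧ V ≠ ⊥}, A ⊓ Subgroup.normalizer ((V : Subgroup G) : Set G)) ≤ A :=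
    iSup_le fun V => inf_le_left
  refine ⟨?_, fun h => hΓ.2 (rank_mono hΓA h)⟩
  have hC : ∀ u ∈ U, u ≠ 1 → ∀ a ∈ A, ∀ b ∈ A, u * a * u⁻¹ = a → u * b * u⁻¹ = b → a * a = 1 → b * b = 1 →
      a * b = b * a → a ≠ 1 → b ≠ 1 → a = b := by
    intro u hu hu1 a ha b hb h1 h2
    have hle := le_iSup (fun V : {V : Subgroup G // V ≤ U ∧ V ≠ ⊥} =>
      A ⊓ Subgroup.normalizer ((V : Subgroup G) : Set G)) ⟨zpowers u, zpowers_le.2 hu, by simpa using hu1⟩
    have hn : ∀ x, u * x * u⁻¹ = x → x ∈ Subgroup.normalizer ((zpowers u : Subgroup G) : Set G) := fun x hx => by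
      refine centralizer_le_normalizer _ fun y hy => ?_
      obtain ⟨i, rfl⟩ := mem_zpowers_iff.1 hy
      exact (Commute.zpow_left (mul_inv_eq_iff_eq_mul.1 hx) i).eq
    exact eq_of_rank hΓ.1 (hle ⟨ha, hn a h1⟩) (hle ⟨hb, hn b h2⟩)
  have hUU : ∀ u ∈ U, u * u = 1 := fun u hu => congrArg Subtype.val (IsKleinFour.mul_self (⟨u, hu⟩ : U))
  obtain ⟨u₁, hu₁, u₂, hu₂, hu11, hu21, hu12⟩ : ∃ u₁ ∈ U, ∃ u₂ ∈ U, u₁ ≠ 1 ∧ u₂ ≠ 1 ∧ u₁ * u₂ ≠ 1 := by
    haveI := Fintype.ofFinite U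
    have h3 : 2 < Fintype.card U := by rw [IsKleinFour.card_four']; norm_num
    obtain ⟨u₁, h1⟩ := Fintype.exists_ne_of_one_lt_card (by omega) (1 : U)
    obtain ⟨u₂, h2, h4⟩ : ∃ u₂ : U, u₂ ≠ 1 ∧ u₂ ≠ u₁ := by
      by_contra hall
      push Not at hall
      have : (Finset.univ : Finset U) ⊆ {1, u₁} := fun x _ => by
        by_cases hx : x = 1
        · simp [hx]
        · simp [hall x hx]
      have h5 := (Finset.card_le_card this).trans Finset.card_le_two
      rw [Finset.card_univ] at h5; omega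
    refine ⟨u₁, u₁.2, u₂, u₂.2, fun e => h1 (Subtype.ext e), fun e => h2 (Subtype.ext e), fun e => h4 ?_⟩
    exact Subtype.ext (mul_left_cancel (e.trans (hUU _ u₁.2).symm))
  -- an element with at most two conjugates is centralized by some nontrivial element of `U`
  have hpick : ∀ b b' : G, (∀ u ∈ U, u * b * u⁻¹ = b ∨ u * b * u⁻¹ = b') →
      ∃ u ∈ U, u ≠ 1 ∧ u * b * u⁻¹ = b := by
    intro b b' h
    rcases h u₁ hu₁ with h1 | h1
    · exact ⟨u₁, hu₁, hu11, h1⟩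
    rcases h u₂ hu₂ with h2 | h2
    · exact ⟨u₂, hu₂, hu21, h2⟩
    refine ⟨u₁ * u₂, mul_mem hu₁ hu₂, hu12, ?_⟩
    calc u₁ * u₂ * b * (u₁ * u₂)⁻¹ = u₁ * (u₂ * b * u₂⁻¹) * u₁⁻¹ := by group
      _ = (u₁ * u₁) * b * (u₁ * u₁)⁻¹ := by rw [h2, ← h1]; group
      _ = b := by rw [hUU _ hu₁]; group
  have hU2 : IsPGroup 2 U := fun x => ⟨1, by rw [pow_one, pow_two, IsKleinFour.mul_self]⟩
  obtain ⟨T, hUT, hT⟩ := H2.exists_sylIn_ge hU2 (le_sup_right : U ≤ A ⊔ U)
  have hLA : A ⊔ U ≤ normalizer (A : Set G) := sup_le le_normalizer hUA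
  have hS := hT.inf_of_normal le_sup_left (hT.le.trans hLA)
  by_contra hrk
  obtain ⟨y₁, y₂, h1, h2, h11, h21, h12, hs1, hs2⟩ : ∃ y₁ y₂ : G, y₁ ∈ T ⊓ A ∧ y₂ ∈ T ⊓ A ∧ y₁ ≠ 1 ∧ y₂ ≠ 1 ∧
      y₁ ≠ y₂ ∧ y₁ * y₁ = 1 ∧ y₂ * y₂ = 1 := by
    unfold Cfsg.PRankLE at hrk
    push Not at hrk
    obtain ⟨K, -, hK2, hK3⟩ := hrk
    obtain ⟨k, -, hle⟩ := hS.exists_le_conj (R := K.map A.subtype) (by
      rintro ⟨_, x, hx, rfl⟩
      exact ⟨1, Subtype.ext (show (x : G) ^ 2 = 1 from congrArg Subtype.val (hK2 x hx))⟩) (map_subtype_le K)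
    have hm : ∀ x : K, k⁻¹ * ((x : A) : G) * k ∈ T ⊓ A := fun x => by
      have := hle ⟨x, x.2, rfl⟩
      rw [mem_pointwise_smul_iff_inv_smul_mem, ← map_inv, MulAut.smul_def, MulAut.conj_apply, inv_inv] at this
      exact this
    have hsq : ∀ x : K, k⁻¹ * ((x : A) : G) * k * (k⁻¹ * ((x : A) : G) * k) = 1 := fun x => by
      have : ((x : A) : G) * ((x : A) : G) = 1 := by
        rw [← pow_two]; exact congrArg Subtype.val (hK2 x x.2)
      calc k⁻¹ * ((x : A) : G) * k * (k⁻¹ * ((x : A) : G) * k) = k⁻¹ * (((x : A) : G) * ((x : A) : G)) * k := by group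
        _ = 1 := by rw [this]; group
    have hinj : ∀ x y : K, k⁻¹ * ((x : A) : G) * k = k⁻¹ * ((y : A) : G) * k → x = y := fun x y h =>
      Subtype.ext (Subtype.ext (by simpa using h))
    haveI := Fintype.ofFinite K
    rw [Nat.card_eq_fintype_card] at hK3
    obtain ⟨x₁, e1⟩ := Fintype.exists_ne_of_one_lt_card (by omega) (1 : K)
    obtain ⟨x₂, e2, e4⟩ : ∃ x₂ : K, x₂ ≠ 1 ∧ x₂ ≠ x₁ := by
      by_contra hall
      push Not at hall
      have : (Finset.univ : Finset K) ⊆ {1, x₁} := fun x _ => by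
        by_cases hx : x = 1
        · simp [hx]
        · simp [hall x hx]
      have h5 := (Finset.card_le_card this).trans Finset.card_le_two
      rw [Finset.card_univ] at h5; omega
    exact ⟨_, _, hm x₁, hm x₂, fun e => e1 (hinj _ _ (by simpa using e)),
      fun e => e2 (hinj _ _ (by simpa using e)), fun e => e4 (hinj _ _ e).symm, hsq x₁, hsq x₂⟩
  haveI : (A.subgroupOf T).Normal := ⟨fun a ha g =>
    (mem_normalizer_iff.1 (hLA (hT.le g.2)) _).1 ha⟩
  obtain ⟨z, w, y, hzc, hz1, hz2, hwS, hww, hwi, huniq, hinv, -, hyS, hyy, hyw⟩ :=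
    H2.Kf.struct (T := T) hT.isPGroup (A.subgroupOf T) (by
      intro z b hz hb hz1 hz2 hzc hbb hb1 hbz hg
      obtain ⟨u, hu, hu1, hub⟩ := hpick b (z * b) fun u hu =>
        (hg ⟨u, hUT hu⟩).imp (congrArg Subtype.val) (congrArg Subtype.val)
      have hzz : ∀ t : T, (t : G) * z = z * t := fun t => congrArg Subtype.val (mem_center_iff.1 hzc t)
      exact hbz (Subtype.ext (hC u hu hu1 b hb z hz hub (by rw [hzz ⟨u, hUT hu⟩]; group)
        (congrArg Subtype.val hbb) (congrArg Subtype.val hz2) (hzz b)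
        (fun e => hb1 (Subtype.ext e)) (fun e => hz1 (Subtype.ext e)))))
      (y₁ := ⟨y₁, h1.1⟩) (y₂ := ⟨y₂, h2.1⟩) h1.2 h2.2 (fun e => h11 (congrArg Subtype.val e))
      (fun e => h21 (congrArg Subtype.val e)) (fun e => h12 (congrArg Subtype.val e))
      (Subtype.ext hs1) (Subtype.ext hs2)
  have hzz : ∀ t : T, t * z = z * t := mem_center_iff.1 hzc
  obtain ⟨u, hu, hu1, huw⟩ := hpick w (w : G)⁻¹ fun u hu =>
    (hwi ⟨u, hUT hu⟩).imp (congrArg Subtype.val) (congrArg Subtype.val)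
  let u' : T := ⟨u, hUT hu⟩
  have huw' : u' * w * u'⁻¹ = w := Subtype.ext huw
  have huu : u' * u' = 1 := Subtype.ext (hUU u hu)
  have hzS : z ∈ A.subgroupOf T := hww ▸ mul_mem hwS hwS
  have hm : u' * y * u'⁻¹ * y⁻¹ ∈ A.subgroupOf T :=
    mul_mem (Subgroup.Normal.conj_mem ‹_› y hyS u') (inv_mem hyS)
  have hyi : y⁻¹ = y := inv_eq_of_mul_eq_one_right hyy
  have hui : u'⁻¹ = u' := inv_eq_of_mul_eq_one_right huu
  have hmw : u' * y * u'⁻¹ * y⁻¹ * w = w * (u' * y * u'⁻¹ * y⁻¹) := by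
    have e1 : y⁻¹ * w * y = w⁻¹ := by rw [← hyw, hyi]
    have e2 : u'⁻¹ * w * u' = w := by
      conv_rhs => rw [← huw']
      rw [hui]
    calc u' * y * u'⁻¹ * y⁻¹ * w = u' * y * u'⁻¹ * (y⁻¹ * w * y) * y⁻¹ := by group
      _ = u' * y * (u'⁻¹ * w * u')⁻¹ * u'⁻¹ * y⁻¹ := by rw [e1]; group
      _ = u' * (y * w * y⁻¹)⁻¹ * y * u'⁻¹ * y⁻¹ := by rw [e2]; group
      _ = (u' * w * u'⁻¹) * (u' * y * u'⁻¹ * y⁻¹) := by rw [hyw]; group
      _ = _ := by rw [huw']
  have hm2 := hinv _ hm hmw u' huw' (by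
    calc u' * (u' * y * u'⁻¹ * y⁻¹) * u'⁻¹ = (u' * u') * y * (u' * u')⁻¹ * (u' * y * u'⁻¹)⁻¹ := by group
      _ = _ := by rw [huu]; group)
  have hwne : w⁻¹ ≠ w := fun e => hz1 (by rw [← hww]; nth_rewrite 1 [← e]; rw [inv_mul_cancel])
  have hyz : y ≠ z := fun e => hwne (by rw [← hyw, e, ← hzz]; group)
  have hy1 : y ≠ 1 := fun e => hwne (by rw [← hyw, e]; group)
  have huy : u' * y * u'⁻¹ = z * y := by
    rcases huniq _ hm hmw hm2 with h | h
    · exact absurd (Subtype.ext (hC u hu hu1 y hyS z hzS (congrArg Subtype.val (mul_inv_eq_one.1 h))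
        (congrArg Subtype.val (show u' * z * u'⁻¹ = z by rw [hzz]; group))
        (congrArg Subtype.val hyy) (congrArg Subtype.val hz2) (congrArg Subtype.val (hzz y))
        (fun e => hy1 (Subtype.ext e)) (fun e => hz1 (Subtype.ext e)))) hyz
    · exact mul_inv_eq_iff_eq_mul.1 h
  have hvv : u' * w * (u' * w) = z := by
    calc u' * w * (u' * w) = (u' * w * u'⁻¹) * (u' * u') * w := by group
      _ = z := by rw [huw', huu, mul_one, hww]
  have hvy : u' * w * y = y * (u' * w) := by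
    have e1 : w * y = z * y * w := by
      calc w * y = (w * w) * (y * w * y⁻¹) * y := by rw [hyw]; group
        _ = _ := by rw [hww]; group
    calc u' * w * y = u' * (w * y) := by group
      _ = (u' * z) * y * w := by rw [e1]; group
      _ = z * (u' * y * u'⁻¹) * (u' * w) := by rw [hzz]; group
      _ = (z * z) * y * (u' * w) := by rw [huy]; group
      _ = _ := by rw [hz2, one_mul]
  refine H2.Kf.fuse_contra (fun M _ hM => H2.Kf.no_index_two_of_layer hA M hM) le_sup_left hLA hT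
    (z := z) (w := w) (y := y) (v := (u' * w : T))
    (fun t ht => congrArg Subtype.val (hzz ⟨t, ht⟩)) (fun e => hz1 (Subtype.ext e))
    (congrArg Subtype.val hz2)
    (fun t ht => (hwi ⟨t, ht⟩).imp (congrArg Subtype.val) (congrArg Subtype.val))
    (congrArg Subtype.val hww)
    (fun m hm h1 h2 => (huniq ⟨m, hm.1⟩ hm.2 (Subtype.ext h1) (Subtype.ext h2)).imp
      (congrArg Subtype.val) (congrArg Subtype.val))
    ⟨y.2, hyS⟩ (congrArg Subtype.val hyy) (congrArg Subtype.val hyw) (hT.le (u' * w).2)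
    (congrArg Subtype.val hvv) (congrArg Subtype.val hvy) fun t ht => ?_
  have htL : t ∈ ((A ⊔ U : Subgroup G) : Set G) := hT.le ht
  rw [coe_mul_of_right_le_normalizer_left A U hUA] at htL
  obtain ⟨a, ha, v, hv, rfl⟩ := htL
  have := A.mul_mem ha ((mem_normalizer_iff.1 (hUA hv) a).1 ha)
  convert this using 1
  rw [inv_eq_of_mul_eq_one_right (hUU v hv)]
  simp only [mul_assoc]

end Cfsg.Agent.S1915
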