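import Cfsg.Statements.S1916
import Cfsg.Agent.H22.AutK

set_option autoImplicit false
open Cfsg

namespace Cfsg.Agent.S1916

open H18 H22 Subgroup in
theorem key {F A : Type*} [Field F] [Fintype F] [Group A] [Finite A] (M : H25.PG F A) (h2 : (2 : F) ≠ 0)
    (hq : 3 < Fintype.card F) {a b : A} (ha : a * a = 1) (hb : b * b = 1) (hc : a * b = b * a) (hne : a ≠ b)
    (h1 : NF (M.E ⊓ C1(a))) (h3 : NF (M.E ⊓ C1(b))) (h4 : a ∉ M.E) (h5 : b ∉ M.E) :
    M.E ≤ (M.E ⊓ C1(a)) ⊔ (M.E ⊓ C1(b)) := by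
  obtain ⟨τ, rfl⟩ := pg_tau M h1 ha
  obtain ⟨ω, rfl⟩ := pg_tau M h3 hb
  have oa : orderOf (M.D τ) = 2 := ord2.2 ⟨ha, fun e => h4 (e ▸ one_mem _)⟩
  have ob : orderOf (M.D ω) = 2 := ord2.2 ⟨hb, fun e => h5 (e ▸ one_mem _)⟩
  have := M.normalE
  have hn : zpowers (M.D τ) ≤ N((M.E ⊓ C1(M.D τ)) ⊔ (M.E ⊓ C1(M.D ω))) :=
    norm_sup (norm_inf norm_of_normal (le_norm (zpowers_le.2 C1_self)))
      (norm_inf norm_of_normal (le_norm (zpowers_le.2 (mem_C1.2 hc))))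
  have h6 := pg_max M h2 hq (M.ord2_D oa) h4
    (H := zpowers (M.D τ) ⊔ ((M.E ⊓ C1(M.D τ)) ⊔ (M.E ⊓ C1(M.D ω)))) (lt_of_le_of_ne (fun x hx => ?_) fun e => ?_)
    (sup_le (zpowers_le.2 ⟨τ, rfl⟩) (sup_le (inf_le_left.trans M.E_le) (inf_le_left.trans M.E_le)))
  · have h7 := Nrm2.modular_left' (H := M.E) (Or.inl hn) (sup_le inf_le_left inf_le_left)
    rw [inf_eq_left.2 h6] at h7
    refine h7.le.trans (sup_le (fun x hx => ?_) le_rfl)
    rcases (mem_zp_sq ha).1 hx.2 with rfl | rfl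
    exacts [one_mem _, (h4 hx.1).elim]
  · by_cases e : x ∈ M.E
    · exact mem_sup_right (mem_sup_left ⟨e, hx.2⟩)
    · have h7 : M.D τ * x ∈ M.E := (mul_mem_iff_of_index_two (pg_relIndex M h2) (a := ⟨_, τ, rfl⟩)
        (b := ⟨x, hx.1⟩)).2 (iff_of_false h4 e)
      rw [show x = M.D τ * (M.D τ * x) by rw [← mul_assoc, ha, one_mul]]
      exact mul_mem_sup' (mem_zpowers _) (mem_sup_left ⟨h7, mul_mem C1_self hx.2⟩)
  · have ht := M.ord2_D ob
    have h7 : M.E ⊓ M.K ω ≤ C1(M.D τ) := (inf_le_inf_left _ (M.K_le_C1 ω)).trans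
      ((le_sup_right.trans le_sup_right).trans (e.ge.trans inf_le_right))
    refine pg_T_ne M h2 hq ht (Inv.eq_bot (t := M.D τ) (fun g hg => ?_) (pg_T_odd M h2 ht h5) h7)
    exact M.inv_K h2 ht (M.anti_of_not_memK (mem_C1.2 hc) fun c => hne (M.eq_of_ord2 h2 ht c oa)) hg.2

/-- Let L be a non-abelian simple subgroup of a finite group with dihedral Sylow 2-subgroups, and a, b two distinct commuting involutions normalizing L such that C_L(a) and C_L(b) have cyclic Sylow 2-subgroups and L is not contained in the subgroup generated by a, b, C_L(a) and C_L(b). Then ab centralizes L. -/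
theorem result {G : Type*} [Group G] [Finite G] (L : Subgroup G) (hL : IsSimpleGroup L) (hLn : ¬ IsMulCommutative L)
    (hD : ∀ P : Sylow 2 L, ∃ n : ℕ, Nonempty (↥(P : Subgroup L) ≃* DihedralGroup n))
    (a b : G) (ha : orderOf a = 2) (hb : orderOf b = 2) (hab : a ≠ b) (hc : a * b = b * a)
    (haL : a ∈ Subgroup.normalizer (L : Set G)) (hbL : b ∈ Subgroup.normalizer (L : Set G))
    (hCa : ∀ R : Sylow 2 ↥(L ⊓ Subgroup.centralizer ({a} : Set G)), IsCyclic R)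
    (hCb : ∀ R : Sylow 2 ↥(L ⊓ Subgroup.centralizer ({b} : Set G)), IsCyclic R)
    (hgen : ¬ L ≤ Subgroup.closure ({a, b} : Set G) ⊔ (L ⊓ Subgroup.centralizer ({a} : Set G)) ⊔ (L ⊓ Subgroup.centralizer ({b} : Set G))) :
    a * b ∈ Subgroup.centralizer (L : Set G) := by
  open H18 H22 Subgroup in
  obtain ⟨P⟩ : Nonempty (Sylow 2 L) := inferInstance
  obtain ⟨n, ⟨eP⟩⟩ := hD P
  have hd : DS L := by simpa [← MonoidHom.range_eq_map] using (ds_of_dihedral P eP).subtype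
  have hk := gw_sylow hLn P eP
  have hZ := inf_C_eq_bot hk.center_eq
  have h0 : L ≠ ⊥ := fun e => hLn (e ▸ abel_bot.comm)
  have hp : ⁅L, L⁆ = L := by
    by_contra e
    have := nml_der.subgroupOf_normal (H := L)
    rcases this.eq_bot_or_eq_top with c | c
    · exact hLn (abel_iff_der.2 (by rwa [subgroupOf_eq_bot, disjoint_iff, inf_eq_left.2 der_le] at c)).comm
    · exact e (le_antisymm der_le (subgroupOf_eq_top.1 c))
  have key2 : ∀ {A : Type} [Group A] [Finite A] (f : N(L) →* A), mker f = C(L) → ∀ a ∈ N(L), orderOf a = 2 →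
      (∀ R : Sylow 2 ↥(L ⊓ C1(a)), IsCyclic R) → mfun f a * mfun f a = 1 ∧ mim f (L ⊓ C1(a)) = mim f L ⊓ C1(mfun f a) ∧
        NF (mim f L ⊓ C1(mfun f a)) ∧ mfun f a ∉ mim f L := fun f hf a ha h2 h3 => by
    have h4 := mim_inf_C1' (f := f) le_N (hf ▸ hZ) ha ha
    have h5 : mfun f a * mfun f a = 1 := by rw [← mfun_mul ha ha, sq1 h2, mfun_one]
    have h6 := h4 ▸ (nf_of_sylow h3).mim (f := f) (inf_le_left.trans le_N)
    refine ⟨h5, h4, h6, h6.not_mem (hd.mim le_N) (by rw [← mim_comm le_N le_N, hp]) (fun e => h0 ?_) h5⟩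
    rw [← hZ, ← hf, left_eq_inf]
    exact (mim_eq_bot_iff le_N).1 e
  rcases hk with ⟨F, _, _, h1, h2, ⟨e⟩⟩ | ⟨⟨e⟩⟩
  · obtain ⟨f, hf, hE⟩ := exists_conj_hom e
    obtain ⟨M, hM⟩ := H25.exists_PG (H24.two_ne_zero_of_odd h1)
    obtain ⟨a1, a2, a3, a4⟩ := key2 f hf a haL ha hCa
    obtain ⟨b1, b2, b3, b4⟩ := key2 f hf b hbL hb hCb
    by_contra hne
    have h3 := key M (H24.two_ne_zero_of_odd h1) h2 a1 b1 (by rw [← mfun_mul haL hbL, hc, mfun_mul hbL haL])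
      (fun c => hne (by rwa [mfun_eq_iff haL hbL, hf, inv_of_sq (sq1 ha)] at c))
    rw [hM, ← hE, ← a2, ← b2, ← mim_sup (inf_le_left.trans le_N) (inf_le_left.trans le_N), a2, b2] at h3
    have h4 := card_le (h3 a3 b3 a4 b4)
    have h5 : L ⊓ C1(a) ⊔ L ⊓ C1(b) ≤ L := sup_le inf_le_left inf_le_left
    rw [card_mim_of_disj le_N (hf ▸ hZ)] at h4
    exact hgen ((eq_of_card_ge h5 (h4.trans card_mim_le)).ge.trans (sup_le (le_sup_right.trans le_sup_left) le_sup_right))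
  · obtain ⟨f, hf, hE⟩ := exists_hom_S7 e
    obtain ⟨a1, -, a3, -⟩ := key2 f hf a haL ha hCa
    exact (not_nf_S7 a1 (hE ▸ a3)).elim

end Cfsg.Agent.S1916
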