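import Cfsg.Statements.S1921
import Cfsg.Agent.H17.FStar

set_option autoImplicit false
open Cfsg

namespace Cfsg.Agent.S1921

/-- Let a be an involution of a finite group H and L a component of H with a L a⁻¹ ≠ L; put M = ⟨L, aLa⁻¹⟩ and let J be the subgroup generated by the elements x · a x a⁻¹ with x ∈ L (the diagonal). Then every element of M outside J·Z(M) generates M together with J. -/
theorem result {H : Type*} [Group H] [Finite H] (a : H) (ha : orderOf a = 2) (L : Subgroup H) (hL : Cfsg.IsComponent L)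
    (hLa : L.map (MulAut.conj a).toMonoidHom ≠ L) (x : H) (hxM : x ∈ L ⊔ L.map (MulAut.conj a).toMonoidHom)
    (hxJ : x ∉ Subgroup.closure {y : H | ∃ l ∈ L, y = l * (a * l * a⁻¹)} ⊔
      ((L ⊔ L.map (MulAut.conj a).toMonoidHom) ⊓ Subgroup.centralizer ((L ⊔ L.map (MulAut.conj a).toMonoidHom : Subgroup H) : Set H))) :
    Subgroup.closure {y : H | ∃ l ∈ L, y = l * (a * l * a⁻¹)} ⊔ Subgroup.zpowers x = L ⊔ L.map (MulAut.conj a).toMonoidHom := by
  have hL' := H17.isComp_top_iff.mpr hL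
  have hc : ⁅L, H17.cj a L⁆ = ⊥ :=
    (hL'.eq_or_commutator (hL'.cj_of_mem_normalizer (H17.mem_normalizer_of_normal a ⊤))).resolve_left (Ne.symm hLa)
  refine le_antisymm (sup_le (H17.diag_le a L) (Subgroup.zpowers_le.mpr hxM))
    (H17.sup_le_of_diag_le hL'.qs hc le_sup_left fun h => hxJ ?_)
  obtain ⟨l, hl, _, ⟨m, hm, rfl⟩, rfl⟩ :=
    (H17.mem_sup_of_le_normalizer_right (H17.le_normalizer_of_commutator_eq_bot hc)).mp hxM
  have h1 : l * (MulAut.conj a).toMonoidHom m = (l * m⁻¹) * (m * (a * m * a⁻¹)) := by simp [mul_assoc]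
  have h2 : l * m⁻¹ ∈ L := mul_mem hl (inv_mem hm)
  have h3 : l * m⁻¹ ∈ Subgroup.centralizer (L : Set H) := by
    refine h ⟨?_, h2⟩
    have := mul_mem (Subgroup.mem_sup_right (S := H17.diag a L) (Subgroup.mem_zpowers (l * (MulAut.conj a).toMonoidHom m)))
      (inv_mem (Subgroup.mem_sup_left (H17.mem_diag (x := a) hm)))
    rwa [h1, mul_inv_cancel_right, ← h1] at this
  rw [h1]
  refine mul_mem (Subgroup.mem_sup_right ⟨Subgroup.mem_sup_left h2, ?_⟩) (Subgroup.mem_sup_left (H17.mem_diag hm))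
  rw [H17.centralizer_sup]
  exact ⟨h3, H17.le_centralizer_of_commutator_eq_bot hc h2⟩

end Cfsg.Agent.S1921
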