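import Cfsg.Statements.S1922
import Cfsg.Agent.H18.BG8
import Cfsg.Agent.S0209
import Cfsg.Agent.H22.Count

set_option autoImplicit false
open Cfsg

namespace Cfsg.Agent.S1922
open H18 Subgroup

/-- Let z be an involution of a finite group G and H a proper subgroup such that z lies in gHg⁻¹ exactly when g ∈ H. Then the following are equivalent: (1) for every conjugate t ≠ z of z commuting with z, the product zt lies in gHg⁻¹ exactly when g ∈ H; (2) z lies in the centre of some Sylow 2-subgroup of G, and for every conjugate t ≠ z of z commuting with z, the centralizer of zt is contained in H. -/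
theorem result {G : Type*} [Group G] [Finite G] (z : G) (hz : orderOf z = 2) (H : Subgroup G) (hH : H ≠ ⊤)
    (h0 : ∀ g : G, z ∈ H.map (MulAut.conj g).toMonoidHom ↔ g ∈ H) :
    (∀ t : G, IsConj z t → t ≠ z → t * z = z * t → ∀ g : G, z * t ∈ H.map (MulAut.conj g).toMonoidHom ↔ g ∈ H) ↔
      ((∃ P : Sylow 2 G, z ∈ (Subgroup.center ↥(P : Subgroup G)).map (P : Subgroup G).subtype) ∧
        ∀ t : G, IsConj z t → t ≠ z → t * z = z * t → Subgroup.centralizer ({z * t} : Set G) ≤ H) := by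
  have p2 := Nat.prime_two
  have h0 : ∀ g : G, z ∈ cj g H ↔ g ∈ H := h0
  have zH : z ∈ H := by simpa using (h0 1).2 (one_mem _)
  have u0 : ∀ {x : G}, (∀ g : G, x ∈ cj g H ↔ g ∈ H) → C1(x) ≤ H := fun {x} h g hg =>
    (h g).1 (by rw [← conj_eq_self_of_C1 hg]; exact conj_mem_cj (by simpa using (h 1).2 (one_mem _)))
  have u1 : ∀ a g : G, a * z * a⁻¹ ∈ cj g H ↔ a⁻¹ * g ∈ H := fun a g => by
    rw [← h0, mem_cj, mem_cj]; congr! 1; group
  have zz : z * z = 1 := by rw [← sq, ← hz, pow_orderOf_eq_one]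
  refine ⟨fun h => ⟨?_, fun t h1 h2 h3 => u0 (h t h1 h2 h3)⟩, fun ⟨⟨P, hP⟩, h⟩ t h1 h2 h3 g => ⟨fun e => ?_, fun e => ?_⟩⟩
  · -- two commuting conjugates: the product lies in a unique conjugate of `H`
    have k1 : ∀ a b : G, a * z * a⁻¹ ≠ b * z * b⁻¹ → Commute (a * z * a⁻¹) (b * z * b⁻¹) → ∀ g,
        a * z * a⁻¹ * (b * z * b⁻¹) ∈ cj g H ↔ a⁻¹ * g ∈ H := fun a b h1 h2 g => by
      rw [← h (a⁻¹ * b * z * (a⁻¹ * b)⁻¹) (isConj_iff.2 ⟨_, rfl⟩) (fun e => h1 (by nth_rw 1 [← e]; group)) (by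
        calc _ = a⁻¹ * (b * z * b⁻¹ * (a * z * a⁻¹)) * a := by group
          _ = _ := by rw [← h2.eq]; group)]
      show _ ↔ _ ∈ cj _ H
      rw [mem_cj, mem_cj]; congr! 1; group
    have o : ∀ a : G, orderOf (a * z * a⁻¹) = 2 := fun a => by rw [orderOf_conj, hz]
    have sq' : ∀ a : G, a * z * a⁻¹ * (a * z * a⁻¹) = 1 := fun a => by rw [← sq, ← o a, pow_orderOf_eq_one]
    -- conjugates with different fixed points are swapped by a conjugate in the group they generate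
    have k2 : ∀ a : G, a ∉ H → ∃ c : G, c * z * c⁻¹ ∈ closure {z, a * z * a⁻¹} ∧
        c * z * c⁻¹ * z * (c * z * c⁻¹)⁻¹ = a * z * a⁻¹ := fun a ha => by
      set r := z * (a * z * a⁻¹) with hr
      have i1 : z * r * z⁻¹ = r⁻¹ := by
        rw [eq_inv_iff_mul_eq_one, hr, ← mul_assoc z z, zz, one_mul, ← mul_assoc, inv_mul_cancel_right, sq']
      have i2 : ∀ k : ℕ, z * r ^ k = (r ^ k)⁻¹ * z := fun k => by rw [← inv_pow, ← i1, conj_pow, inv_mul_cancel_right]
      have i3 : ∀ k : ℕ, ∃ c, c * z * c⁻¹ = z * r ^ k := fun k => by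
        obtain ⟨j, rfl | rfl⟩ := k.even_or_odd'
        · exact ⟨(r ^ j)⁻¹, by rw [← i2]; group⟩
        · refine ⟨(r ^ j)⁻¹ * a, ?_⟩
          calc _ = (r ^ j)⁻¹ * z * r * r ^ j := by rw [mul_assoc _ z r, hr, ← mul_assoc z z, zz]; group
            _ = _ := by rw [← i2]; group
      rcases Nat.even_or_odd (orderOf r) with e | ⟨j, e⟩
      · obtain ⟨b1, b2, b3⟩ := S0209.result _ _ hz (o a) e
        obtain ⟨c, hc⟩ := i3 (orderOf r / 2)
        have := u0 (h _ (isConj_iff.2 ⟨c, hc⟩) (fun e => by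
          rw [← hr, mul_eq_left.1 e, orderOf_one] at b1; exact absurd b1 (by decide)) ((Commute.refl z).mul_left b2))
        rw [← mul_assoc, zz, one_mul] at this
        have := (u1 a 1).1 (by rw [cj_one]; exact this (mem_C1.2 b3.symm))
        exact absurd (by simpa using this) ha
      · obtain ⟨c, hc⟩ := i3 (j + 1)
        have m1 : z ∈ closure {z, a * z * a⁻¹} := subset_closure (.inl rfl)
        refine ⟨c, hc ▸ mul_mem m1 (pow_mem (mul_mem m1 (subset_closure (.inr rfl))) _), ?_⟩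
        rw [inv_eq_of_mul_eq_one_right (sq' c), hc]
        calc _ = (r ^ (j + 1))⁻¹ * z * (z * z) * r ^ (j + 1) := by nth_rw 1 [i2]; group
          _ = z * r * r ^ (2 * j + 1) := by rw [zz, ← i2]; group
          _ = _ := by rw [← e, pow_orderOf_eq_one, hr, ← mul_assoc, zz]; group
    obtain ⟨a, ha⟩ : ∃ a, a ∉ H := by by_contra! e; exact hH (eq_top_iff.2 fun x _ => e x)
    have cz : ∀ {a b : G}, a * z * a⁻¹ = b * z * b⁻¹ → b⁻¹ * a ∈ C1(z) := fun {a b} e => mem_C1.2 (by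
      calc _ = b⁻¹ * (a * z * a⁻¹) * a := by group
        _ = _ := by rw [e]; group)
    obtain ⟨c, -, hc⟩ := k2 a ha
    set s := c * z * c⁻¹
    have sH : s ∉ H := fun e => ha (inv_mem_iff.1 ((mul_mem_cancel_right e).1 (u0 h0 (cz hc))))
    have ss : s⁻¹ = s := inv_eq_of_mul_eq_one_right (sq' c)
    let W := {w : G | (∃ b, b * z * b⁻¹ = w) ∧ s * w ∈ H}
    have k3 : ∀ w ∈ W, ∀ w' ∈ W, Commute w w' → w = w' := by
      rintro _ ⟨⟨b, rfl⟩, h1⟩ _ ⟨⟨b', rfl⟩, h2⟩ e
      by_contra ne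
      have a1 := (k1 b b' ne e 1).1 (by
        rw [cj_one, ← inv_eq_of_mul_eq_one_right (sq' b)]; convert mul_mem (inv_mem h1) h2 using 1; group)
      have a2 := (k1 b b' ne e s).1 (mem_cj.2 (by
        rw [← inv_eq_of_mul_eq_one_right (sq' b'), ss]; nth_rw 2 [← ss]; convert mul_mem h1 (inv_mem h2) using 1; group))
      rw [mul_one] at a1
      exact sH ((mul_mem_cancel_left a1).1 a2)
    have k4 : Odd W.ncard := by
      have := Fintype.ofFinite W
      let f : Function.End W := fun w => ⟨s * w * s⁻¹, by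
        obtain ⟨w, ⟨b, rfl⟩, h⟩ := w
        refine ⟨⟨s * b, by group⟩, ?_⟩
        show s * (s * (b * z * b⁻¹) * s⁻¹) ∈ H
        rw [← mul_assoc, ← mul_assoc s s, sq' c, one_mul, ← inv_eq_of_mul_eq_one_right (sq' b), ← mul_inv_rev]
        exact inv_mem h⟩
      have sW : s ∈ W := ⟨⟨c, rfl⟩, by rw [sq' c]; exact one_mem _⟩
      classical
      have e := Equiv.Perm.card_fixedPoints_modEq (f := f) (p := 2) (n := 1) (by
        funext w; apply Subtype.ext
        show s * (s * w * s⁻¹) * s⁻¹ = w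
        calc _ = (s * s) * w * (s * s)⁻¹ := by group
          _ = _ := by rw [sq' c]; group)
      rw [show Fintype.card (Function.fixedPoints f) = 1 from Fintype.card_eq_one_iff.2 ⟨⟨⟨s, sW⟩,
        Subtype.ext (mul_inv_cancel_right s s)⟩, fun w => Subtype.ext (Subtype.ext (k3 _ w.1.2 _ sW
          (mul_inv_eq_iff_eq_mul.1 (congrArg Subtype.val w.2)).symm))⟩, Fintype.card_eq_nat_card, Nat.card_coe_set_eq] at e
      exact Nat.odd_iff.2 e
    have k5 : W.ncard = C1(z).relIndex H := by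
      rw [← H22.ncard_conj_by_subgroup]
      refine Set.ncard_congr (fun w _ => s * w * z * (s * w)⁻¹) (fun w hw => ⟨_, hw.2, rfl⟩) (fun w w' hw hw' e => ?_) ?_
      · obtain ⟨b, m, hb⟩ := k2 w fun e => sH ((mul_mem_cancel_right e).1 hw.2)
        have : ∀ v ∈ W, v * z * v⁻¹ = w * z * w⁻¹ → v = b * z * b⁻¹ := fun v hv e => by
          rw [← e] at hb m
          have a1 := cz hb
          have a2 : v⁻¹ = v := by obtain ⟨⟨d, rfl⟩, -⟩ := hv; exact inv_eq_of_mul_eq_one_right (sq' d)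
          refine k3 _ hv _ ⟨⟨b, rfl⟩, by simpa [mul_assoc] using mul_mem hv.2 (u0 h0 a1)⟩ ?_
          have a3 : closure {z, v * z * v⁻¹} ≤ C1(v⁻¹ * (b * z * b⁻¹)) := (closure_le _).2 (by
            rintro _ (rfl | rfl)
            · exact mem_C1_comm.1 a1
            · have : v⁻¹ * (b * z * b⁻¹) * (v * z * v⁻¹) * (v⁻¹ * (b * z * b⁻¹))⁻¹ = v * z * v⁻¹ := by
                calc _ = v⁻¹ * (b * z * b⁻¹ * (b * z * b⁻¹) * z * (b * z * b⁻¹ * (b * z * b⁻¹))⁻¹) * v := by rw [← hb]; group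
                  _ = _ := by rw [sq', a2]; group
              exact mem_C1.2 (mul_inv_eq_iff_eq_mul.1 this).symm)
          have a4 := mem_C1.1 (a3 m)
          rw [← mul_assoc, mul_left_inj, a2] at a4
          exact a4.symm
        rw [this w hw rfl, this w' hw' (by
          calc _ = s⁻¹ * (s * w' * z * (s * w')⁻¹) * s := by group
            _ = _ := by rw [← e]; group)]
      · rintro _ ⟨n, hn, rfl⟩
        obtain ⟨b, -, hb⟩ := k2 (s * n) fun e => sH ((mul_mem_cancel_right hn).1 e)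
        refine ⟨b * z * b⁻¹, ⟨⟨b, rfl⟩, ?_⟩, ?_⟩
        · have := mul_mem hn (u0 h0 (cz hb))
          rwa [mul_inv_rev, ss, ← mul_assoc, mul_inv_cancel_left] at this
        · calc _ = s * (b * z * b⁻¹ * z * (b * z * b⁻¹)⁻¹) * s⁻¹ := by group
            _ = s * s * n * z * n⁻¹ * (s * s)⁻¹ := by rw [hb]; group
            _ = _ := by rw [sq' c]; group
    obtain ⟨R, hR, hz'⟩ := exists_sylow_le p2 (piGrp_of_prime p2 (card_zpowers'.trans hz)) (zpowers_le.2 C1_self)
    have zR := hz' (mem_zpowers z)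
    obtain ⟨P, rfl⟩ := ((hR.of_idx (u0 h0) ((piNat_compl_iff p2).2 (k5 ▸ k4).not_two_dvd_nat)).top_of_norm_le p2 fun g hg => by
      simpa using (u1 g 1).1 (by rw [cj_one]; exact u0 h0 (hR.le (conj_mem_N hg zR)))).exists_sylow_top p2
    exact ⟨P, ⟨z, zR⟩, mem_center_iff.2 fun x => Subtype.ext (mem_C1.1 (hR.le x.2)), rfl⟩
  · obtain ⟨S, hS, hu⟩ := exists_sylow_le p2 (piElt_of_pow_eq_one p2 (x := z * t) (by
      obtain ⟨c, rfl⟩ := isConj_iff.1 h1
      rw [Commute.mul_pow h3.symm, conj_pow, sq, zz]; simp)).zpowers (zpowers_le.2 e)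
    have hc : (P : Subgroup G) ≤ C1(z) := by
      obtain ⟨y, hy, rfl⟩ := hP
      exact fun x hx => mem_C1.2 (congrArg Subtype.val (mem_center_iff.1 hy ⟨x, hx⟩))
    have hP' := hall_sylow_top p2 P
    obtain ⟨m, hm, rfl⟩ := sylow_conj p2 ((hP'.of_le (hc.trans (u0 h0)) le_top).cj g) hS
    have a : z * t ∈ C1(m * g * z * (m * g)⁻¹) := by
      rw [← cj_C1, cj_mul]; exact cj_mono (cj_mono hc) (hu (mem_zpowers _))
    have b := (u1 (m * g) 1).1 (by rw [cj_one]; exact h t h1 h2 h3 (mem_C1_comm.1 a))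
    rw [mul_one, inv_mem_iff] at b
    have c := mem_cj.1 hm
    rw [mul_assoc] at c
    exact inv_mem_iff.1 ((mul_mem_cancel_right b).1 c)
  · show _ ∈ cj g H
    rw [cj_eq_self_of_mem e]; exact mul_mem zH (u0 h0 (mem_C1.2 h3))

end Cfsg.Agent.S1922
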