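import Cfsg.Statements.S1930
import Cfsg.Agent.H27.Eq5
import Cfsg.Agent.H17.Comp

set_option autoImplicit false
open Cfsg

namespace Cfsg.Agent.S1930

open H26 H27 Subgroup

/-- Inside a finite group let G be a nontrivial subgroup and R an r-subgroup (r a prime) normalizing G, with the order of G prime to r. Let p > 3 be a prime with F*(G) = O_p(G), and let P be the intersection of all R-invariant Sylow p-subgroups of G. Then P has a nontrivial characteristic subgroup that is normalized by G. -/
theorem result {X : Type*} [Group X] [Finite X] (G R : Subgroup X) (r : ℕ) [Fact r.Prime] (hR : IsPGroup r ↥R) (hcop : (Nat.card ↥G).Coprime r) (hnorm : R ≤ Subgroup.normalizer (G : Set X)) (hG : G ≠ ⊥) (p : ℕ) [Fact p.Prime] (hp : 3 < p) (hF : Cfsg.generalizedFittingSubgroup ↥G = Cfsg.pCore p ↥G) (P : Subgroup X) (hP : P = ⨅ S : {S : Sylow p ↥G // ∀ a ∈ R, ((S : Subgroup ↥G).map G.subtype).map (MulAut.conj a).toMonoidHom = (S : Subgroup ↥G).map G.subtype}, ((S : Sylow p ↥G) : Subgroup ↥G).map G.subtype)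 : ∃ C : Subgroup ↥P, C.Characteristic ∧ C ≠ ⊥ ∧ G ≤ Subgroup.normalizer ((C.map P.subtype : Subgroup X) : Set X) := by
    have mem : ∀ x, x ∈ P ↔ ∀ S : Subgroup X, H1.IsSylowIn p S G → R ≤ normalizer (S : Set X) → x ∈ S := fun x => by
      rw [hP, mem_iInf]
      constructor
      · intro h S hS hn
        obtain ⟨T, rfl⟩ := H1.isSylowIn_iff_exists.1 hS
        exact h ⟨T, fun a ha => H28.mem_normalizer_iff_cj.1 (hn ha)⟩
      · rintro h ⟨T, hT⟩
        exact h _ (H1.isSylowIn_map T) fun a ha => H28.mem_normalizer_iff_cj.2 (hT a ha)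
    obtain ⟨n, hn⟩ := IsPGroup.iff_card.1 hR
    have hc : (Nat.card R).Coprime (Nat.card G) := hn ▸ hcop.symm.pow_left n
    have := hR.isNilpotent
    obtain ⟨S₀, hS₀, hS₁⟩ := H1.exists_invariant_isSylowIn hnorm hc (Or.inl inferInstance) p
    have hPS : P ≤ S₀ := fun x hx => (mem x).1 hx S₀ hS₀ hS₁
    have h : Eq.Hy p G R P := ⟨hnorm, hc, inferInstance, hPS.trans hS₀.le, hS₀.isPGroup.to_le hPS,
      le_normalizer_iff.2 fun a ha x hx => (mem _).2 fun S h1 h2 => le_normalizer_iff.1 h2 a ha x ((mem x).1 hx S h1 h2),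
      le_normalizer_iff.2 fun c hc x hx => (mem _).2 fun S h1 h2 => by
        have := (mem x).1 hx _ (h1.conj_of_mem_normalizer (le_normalizer (inv_mem hc.1)))
          (le_normalizer_iff.2 fun a ha y hy => by
            rw [mem_pointwise_smul_iff_inv_smul_mem] at hy ⊢
            have e : a * c = c * a := hc.2 a ha
            have := le_normalizer_iff.1 h2 a ha _ hy
            simp only [map_inv, inv_inv, MulAut.smul_def, MulAut.conj_apply] at this ⊢
            rwa [show c * (a * y * a⁻¹) * c⁻¹ = (c * a) * y * (c * a)⁻¹ by group, ← e,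
              show a * c * y * (a * c)⁻¹ = a * (c * y * c⁻¹) * a⁻¹ by group])
        rw [mem_pointwise_smul_iff_inv_smul_mem] at this
        simpa using this⟩
    have hT : pCoreOf p G ≤ P := fun x hx => (mem x).2 fun S h1 _ => h1.map_pCore_le hx
    have hC : CharPOf p G := charPOf_iff.2 (hF ▸ H17.centralizer_generalizedFittingSubgroup_le G)
    have h0 : P ≠ ⊥ := fun e => hG (eq_bot_iff.2 fun x hx => by
      have e' : pCoreOf p G = ⊥ := eq_bot_iff.2 (hT.trans e.le)
      exact e'.le (hC ⟨hx, by simp [e']⟩))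
    refine ⟨kInfLower P, characteristic_iff_map_eq.2 fun φ => (isCharPFunctor_kInfLower (p := p)).2 _ _ h.pP φ,
      (isCharPFunctor_kInfLower (p := p)).1 _ h.pP ((nontrivial_iff_ne_bot P).2 h0), ?_⟩
    have h5 : 5 ≤ p := (Fact.out : p.Prime).five_le_of_ne_two_of_ne_three (by omega) (by omega)
    have := H27.Eq.le_normalizer_kL h5 h hT hC
    rwa [← inducedFunctor_kInfLower] at this

end Cfsg.Agent.S1930
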