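import Cfsg.Statements.S1931
import Cfsg.Agent.H27.Eq6

set_option autoImplicit false
open Cfsg

namespace Cfsg.Agent.S1931

open H26 H27 Subgroup

/-- Inside a finite group let G be a subgroup and R a noncyclic abelian r-subgroup (r a prime) normalizing G, with the order of G prime to r, and let p > 3 be a prime. Suppose that for every nonidentity a ∈ R, R centralizes the subgroup O^p(F*(C_G(a))) generated by the p'-elements of the generalized Fitting subgroup of C_G(a). Then R centralizes O^p(F*(G)). -/
theorem result {X : Type*} [Group X] [Finite X] (G R : Subgroup X) (r : ℕ) [Fact r.Prime] (hR : IsPGroup r ↥R) (hcop : (Nat.card ↥G).Coprime r) (hnorm : R ≤ Subgroup.normalizer (G : Set X)) (hab : IsMulCommutative ↥R) (hnc : ¬ IsCyclic ↥R) (p : ℕ) [Fact p.Prime] (hp : 3 < p) (hloc : ∀ a ∈ R, a ≠ 1 → R ≤ Subgroup.centralizer ((((Cfsg.pResidual p ↥(Cfsg.generalizedFittingSubgroup ↥(G ⊓ Subgroup.centralizer ({a} : Set X)))).map (Cfsg.generalizedFittingSubgroup ↥(G ⊓ Subgroup.centralizer ({a} : Set X))).subtype).map (G ⊓ Subgroup.centralizer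 ({a} : Set X)).subtype : Subgroup X) : Set X)) : R ≤ Subgroup.centralizer ((((Cfsg.pResidual p ↥(Cfsg.generalizedFittingSubgroup ↥G)).map (Cfsg.generalizedFittingSubgroup ↥G).subtype).map G.subtype : Subgroup X) : Set X) := by
    have h5 : 5 ≤ p := (Fact.out : p.Prime).five_le_of_ne_two_of_ne_three (by omega) (by omega)
    obtain ⟨n, hn⟩ := IsPGroup.iff_card.1 hR
    have hc : (Nat.card R).Coprime (Nat.card G) := hn ▸ hcop.symm.pow_left n
    have e : ∀ H : Subgroup X, ((pResidual p (generalizedFittingSubgroup H)).map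
        (generalizedFittingSubgroup H).subtype).map H.subtype = pResidualOf p (H17.gfit H) := fun H =>
      map_pResidualOf_of_injective H.subtype_injective _
    have ab : R ≤ centralizer (R : Set X) := le_centralizer R
    rw [e]
    refine (H27.Eq.gd_main h5 _ X G R rfl ⟨hnorm, hc, ab, hnc, fun a ha a1 => ?_⟩).gfit
    have := hloc a ha a1
    rw [e, ← centralizer_zpowers] at this
    exact H27.Eq.gd_of_gfit (le_normalizer_inf hnorm ((ab.trans (centralizer_anti (zpowers_le.2 ha))).trans
      le_normalizer)) (H1.coprime_of_le_right hc inf_le_left) this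

end Cfsg.Agent.S1931
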