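import Cfsg.Statements.S1944
import Cfsg.Agent.S1907

set_option autoImplicit false
open Cfsg

namespace Cfsg.Agent.S1944
open H18 Subgroup
open scoped IsMulCommutative

theorem aux {N A : Type*} [Group N] [Finite N] [CommGroup A] (φ : N →* MulAut A) (S : Subgroup N) :
    ∃ ν : A →* A, (∀ a, (∀ s ∈ S, φ s a = a) → ∀ n, φ n (ν a) = ν a) ∧ ∀ a, (∀ n, φ n a = a) → ν a = a ^ S.index := by
  have := Fintype.ofFinite (N ⧸ S)
  refine ⟨∏ c : N ⧸ S, (φ c.out).toMonoidHom, fun a h n => ?_, fun a h => ?_⟩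
  · simp only [MonoidHom.finset_prod_apply, map_prod, MulEquiv.coe_toMonoidHom]
    refine Fintype.prod_equiv (MulAction.toPerm n) _ _ fun c => ?_
    obtain ⟨s, hs⟩ := QuotientGroup.mk_out_eq_mul S (n * c.out)
    have : MulAction.toPerm n c = ((n * c.out : N) : N ⧸ S) := by
      rw [MulAction.toPerm_apply, ← smul_eq_mul, MulAction.Quotient.coe_smul_out]
    rw [this, hs, map_mul, map_mul, MulAut.mul_apply, MulAut.mul_apply, h s s.2]
  · simp [MonoidHom.finset_prod_apply, h, Subgroup.index]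

/-- Let S be a Sylow p-subgroup of the finite group G and suppose that the centre Z(S) lies in O_{p',p}(G). The elements of S each of which is its only G-conjugate in S form a subgroup W of Z(S); W is then a direct factor of Z(S): there is a subgroup K of Z(S) with W ∩ K = 1 and WK = Z(S). -/
theorem result {G : Type*} [Group G] [Finite G] {p : ℕ} [Fact p.Prime] (S : Sylow p G)
    (hZ : ((S : Subgroup G) ⊓ Subgroup.centralizer ((S : Subgroup G) : Set G)) ≤ Cfsg.pPrimePCore p G) :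
    ∃ W K : Subgroup G, (∀ x : G, x ∈ W ↔ (x ∈ (S : Subgroup G) ∧ ∀ g : G, g * x * g⁻¹ ∈ (S : Subgroup G) → g * x * g⁻¹ = x)) ∧
      K ≤ ((S : Subgroup G) ⊓ Subgroup.centralizer ((S : Subgroup G) : Set G)) ∧ W ⊓ K = ⊥ ∧ W ⊔ K = ((S : Subgroup G) ⊓ Subgroup.centralizer ((S : Subgroup G) : Set G)) := by
  have hp : p.Prime := Fact.out
  have h2 := (S1907.result S).2
  have hS := hall_sylow_top hp S
  have nP : (S : Subgroup G) ≤ N((S : Subgroup G) ⊓ pPrimePCore p G) :=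
    norm_inf le_N (by rw [pPrimePCore_eq hp]; exact le_top.trans pcore2_nml.norm)
  set H := (S : Subgroup G) ⊓ pPrimePCore p G
  have hZ' : Z((S : Subgroup G)) ≤ Z(H) := le_inf (le_inf inf_le_left hZ) (inf_le_right.trans (C_anti inf_le_left))
  have := (abel_Z (H := H)).comm
  let φ : N(H) →* MulAut ↥(Z(H)) := (actf Z(H)).comp (inclusion (norm_Z le_rfl))
  have hφ : ∀ n a, ((φ n a : ↥(Z(H))) : G) = n * a * (n : G)⁻¹ := fun n a => rfl
  obtain ⟨ν, h3, h4⟩ := aux (A := ↥(Z(H))) φ ((S : Subgroup G).subgroupOf N(H))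
  have hi : (((S : Subgroup G).subgroupOf N(H)).index).Coprime (Nat.card (S : Subgroup G)) :=
    (hS.of_le nP le_top).coprime.symm
  have hW : ∀ a : ↥(Z(H)), (a : G) ∈ C(N(H)) → ∀ n, φ n a = a := fun a ha n =>
    Subtype.ext (by rw [hφ, mem_C.1 ha n n.2, mul_inv_cancel_right])
  refine ⟨S ⊓ C(N(H)), ν.ker.map Z(H).subtype ⊓ Z((S : Subgroup G)), fun x => ⟨fun h => ⟨h.1, fun g hg => ?_⟩,
    fun h => ⟨h.1, mem_C.2 fun n hn => ?_⟩⟩, inf_le_right, eq_bot_iff.2 ?_, le_antisymm (sup_le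
      (inf_le_inf_left _ (C_anti nP)) inf_le_right) fun z hz => ?_⟩
  · obtain ⟨n, hn, e⟩ := h2 x _ h.1 hg (isConj_iff.2 ⟨g, rfl⟩)
    rw [← e, mem_C.1 h.2 n hn, mul_inv_cancel_right]
  · have : x ∈ H := ⟨h.1, hZ ⟨h.1, mem_C.2 fun s hs => mul_inv_eq_iff_eq_mul.1
      (h.2 s (mul_mem (mul_mem hs h.1) (inv_mem hs)))⟩⟩
    exact mul_inv_eq_iff_eq_mul.1 (h.2 n (conj_mem_N hn this).1)
  · rintro _ ⟨h, ⟨a, ha, rfl⟩, -⟩
    have e := (h4 a (hW a h.2)).symm.trans ha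
    have : orderOf (a : G) = 1 := Nat.eq_one_of_dvd_coprimes hi
      (orderOf_dvd_of_pow_eq_one (congrArg Subtype.val e)) (orderOf_dvd_card h.1)
    exact orderOf_eq_one_iff.1 this
  · have b := h3 ⟨z, hZ' hz⟩ fun s hs => Subtype.ext (by rw [hφ, mem_C.1 hz.2 s hs, mul_inv_cancel_right])
    set u := ν ⟨z, hZ' hz⟩ with hu
    have hu' : (u : G) ∈ (S : Subgroup G) ⊓ C(N(H)) := ⟨u.2.1.1, mem_C.2 fun n hn =>
      mul_inv_eq_iff_eq_mul.1 (congrArg Subtype.val (b ⟨n, hn⟩))⟩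
    obtain ⟨k, hk⟩ := exists_pow_eq_self_of_coprime (x := u) (hi.coprime_dvd_right
      (by rw [← Subgroup.orderOf_coe]; exact orderOf_dvd_card hu'.1))
    have c := pow_mem hu' k
    rw [show z = (u : G) ^ k * (((u : G) ^ k)⁻¹ * z) by group]
    refine mul_mem_sup c ⟨⟨(u ^ k)⁻¹ * ⟨z, hZ' hz⟩, ?_, rfl⟩, Subgroup.mul_mem _ (inv_mem (inf_le_inf_left _ (C_anti nP) c)) hz⟩
    rw [SetLike.mem_coe, MonoidHom.mem_ker, map_mul, map_inv, map_pow, h4 u b, hk, ← hu, inv_mul_cancel]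

end Cfsg.Agent.S1944
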