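import Cfsg.Statements.S1949
import Cfsg.Agent.S1946
import Cfsg.Agent.H1.Hol
import Cfsg.Agent.H4.Critical
import Cfsg.Agent.H3.BG4b

set_option autoImplicit false
open Cfsg

namespace Cfsg.Agent.S1949
open H18 H1 Subgroup
open scoped commutatorElement

section
variable {P : Type*} [Group P] [Finite P] {p : ℕ} {α : MulAut P} {K A : Subgroup P}

theorem l1 (hp : p.Prime) (hP : IsPGroup p P) (ho : (orderOf α).Coprime p) {x : P} (h : α (x⁻¹ * α x) = x⁻¹ * α x) : α x = x := by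
  have a : ∀ n : ℕ, (α ^ n) x = x * (x⁻¹ * α x) ^ n := fun n => by
    induction n with
    | zero => simp
    | succ n ih => rw [pow_succ', MulAut.mul_apply, ih, map_mul, map_pow, h, pow_succ', ← mul_assoc, mul_inv_cancel_left]
  have b := a (orderOf α)
  rw [pow_orderOf_eq_one, MulAut.one_apply, left_eq_mul] at b
  obtain ⟨k, hk⟩ := hP (x⁻¹ * α x)
  have := orderOf_eq_one_iff.1 (Nat.eq_one_of_dvd_coprimes (ho.pow_right k) (orderOf_dvd_of_pow_eq_one b)
    (orderOf_dvd_of_pow_eq_one hk))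
  exact (inv_mul_eq_one.1 this).symm

theorem l3 (hp : p.Prime) (hP : IsPGroup p P) (ho : (orderOf α).Coprime p) (hn : K ≤ N(A)) (hK : ∀ x ∈ K, α x ∈ K)
    (hc : K ⊓ C(A) ≤ A) (h : ∀ a ∈ A, α a = a) : ∀ x ∈ K, α x = x := fun x hx =>
  l1 hp hP ho (h _ (hc ⟨Subgroup.mul_mem _ (inv_mem hx) (hK x hx), mem_C.2 fun a ha => by
    have := h _ (conj_mem hn hx ha)
    rw [map_mul, map_mul, map_inv, h a ha] at this
    calc _ = x⁻¹ * (x * a * x⁻¹) * α x := by group
      _ = _ := by rw [← this]; group⟩))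

theorem l2 (hp : p.Prime) (hP : IsPGroup p P) (ho : (orderOf α).Coprime p) (hK : ∀ β ∈ zpowers α, ∀ x ∈ K, β x ∈ K)
    (h : ∀ x ∈ K, (x ^ p = 1 ∨ (p = 2 ∧ x ^ 4 = 1)) → α x = x) : ∀ x ∈ K, α x = x := fun x hx => by
  have := S1946.small hp (Q := hl (MonoidHom.id (MulAut P)) K) (piGrp_hl.2 (piGrp_of_isPGroup hp (hP.to_subgroup K)))
    (hr_norm_iff.2 hK) (piGrp_hr.2 (piGrp_zpowers.2 ((piNat_compl_iff_coprime hp).2 ho))) fun x hx h4 => by
      obtain ⟨x, hx', rfl⟩ := mem_hl.1 hx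
      simp only [← map_pow, map_eq_one_iff _ SemidirectProduct.inl_injective] at h4
      exact inl_mem_C.2 (mem_fixS_zpowers.2 (h x hx' h4))
  exact mem_fixS_zpowers.1 (hl_le_C_iff.1 (cent_symm this) hx)

theorem l4 (p : ℕ) (G : Type*) [Group G] : (pResidual p G).Normal := ⟨fun a ha b =>
  (show pResidual p G ≤ (pResidual p G).comap (MulAut.conj b).toMonoidHom from (closure_le _).2 fun g hg =>
    subset_closure (show (orderOf (b * g * b⁻¹)).Coprime p by rwa [orderOf_conj])) ha⟩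

end

/-- Let P be a finite p-group and G a group of automorphisms of P containing the inner automorphisms. Then there is a G-invariant subgroup D of P, contained in the subgroup generated by the elements x⁻¹α(x) with x in P and α in O^p(G), of exponent dividing p when p is odd and dividing 4 when p = 2, with [D, P] ≤ Z(D), such that every automorphism in G of order prime to p that fixes D elementwise is the identity; moreover every maximal abelian subgroup A of D is normal in P and every automorphism in G fixing A elementwise has p-power order. -/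
theorem result {P : Type*} [Group P] [Finite P] {p : ℕ} [Fact p.Prime] (hP : IsPGroup p P)
    (G : Subgroup (MulAut P)) (hG : Cfsg.Inn P ≤ G) :
    ∃ D : Subgroup P,
      (∀ α ∈ G, D.map α.toMonoidHom = D) ∧
      D ≤ Subgroup.closure {y : P | ∃ α ∈ Cfsg.pResidual p ↥G, ∃ x : P, y = x⁻¹ * (α : MulAut P) x} ∧
      (∀ d ∈ D, d ^ p = 1 ∨ (p = 2 ∧ d ^ 4 = 1)) ∧
      ⁅D, (⊤ : Subgroup P)⁆ ≤ D ⊓ Subgroup.centralizer (D : Set P) ∧
      (∀ α ∈ G, (orderOf α).Coprime p → (∀ d ∈ D, α d = d) → α = 1) ∧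
      ∀ A : Subgroup P, A ≤ D → IsMulCommutative ↥A →
        (∀ B : Subgroup P, A ≤ B → B ≤ D → IsMulCommutative ↥B → B = A) →
        A.Normal ∧ ∀ α ∈ G, (∀ a ∈ A, α a = a) → ∃ k : ℕ, orderOf α = p ^ k := by
  have hp : p.Prime := Fact.out
  obtain ⟨H, hH, h1, h2, h3⟩ := H4.exists_critical hP
  set R := closure {y : P | ∃ α ∈ Cfsg.pResidual p ↥G, ∃ x : P, y = x⁻¹ * (α : MulAut P) x}
  have nR : ∀ β ∈ G, ∀ y ∈ R, β y ∈ R := fun β hβ y hy => by
    refine (show R ≤ R.comap β.toMonoidHom from (closure_le _).2 ?_) hy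
    rintro _ ⟨α, hα, x, rfl⟩
    refine subset_closure ⟨_, (l4 p G).conj_mem α hα ⟨β, hβ⟩, β x, ?_⟩
    show β (x⁻¹ * α.1 x) = (β x)⁻¹ * β (α.1 (β⁻¹ (β x)))
    rw [map_mul, map_inv, MulAut.inv_apply_self]
  have nH : ∀ β : MulAut P, ∀ y ∈ H, β y ∈ H := fun β y => H4.mem_of_characteristic β
  have c1 : ∀ x ∈ H, ∀ y : P, ⁅x, y⁆ ∈ Z(H) := fun x hx y => h2 (commutator_mem_commutator hx (mem_top y))
  have c2 : ∀ x ∈ H, ∀ y ∈ H, ⁅x, y⁆ ^ p = 1 := fun x hx y hy => by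
    have := H3.comm_pow_pow (mem_C.1 (c1 x hx y).2 x hx) (mem_C.1 (c1 x hx y).2 y hy) p 1
    rw [mul_one, pow_one] at this
    rw [← this, commutatorElement_eq_one_iff_mul_comm]; exact (mem_C.1 (h1 (H4.pow_mem_phi hx)).2 y hy).symm
  let D : Subgroup P :=
    { carrier := {x | x ∈ H ⊓ R ∧ (x ^ p = 1 ∨ (p = 2 ∧ x ^ 4 = 1))}
      one_mem' := ⟨one_mem _, .inl (one_pow _)⟩
      inv_mem' := fun h => ⟨inv_mem h.1, by simpa using h.2⟩
      mul_mem' := fun {x y} hx hy => ⟨mul_mem hx.1 hy.1, by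
        have e := H3.mul_pow_class_two (mem_C.1 (c1 y hy.1.1 x).2 x hx.1.1) (mem_C.1 (c1 y hy.1.1 x).2 y hy.1.1)
        have c := c2 y hy.1.1 x hx.1.1
        by_cases h : p = 2
        · subst h
          have : ∀ z : P, (z ^ 2 = 1 ∨ (2 = 2 ∧ z ^ 4 = 1)) → z ^ 4 = 1 := fun z h =>
            h.elim (fun h => by rw [show 4 = 2 * 2 from rfl, pow_mul, h, one_pow]) (·.2)
          exact .inr ⟨rfl, by rw [e, this x hx.2, this y hy.2, show Nat.choose 4 2 = 2 * 3 from rfl, pow_mul, c]; simp⟩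
        · obtain ⟨k, hk⟩ := hp.dvd_choose_self two_ne_zero (lt_of_le_of_ne hp.two_le (Ne.symm h))
          exact .inl (by rw [e, hx.2.resolve_right fun e => h e.1, hy.2.resolve_right fun e => h e.1, hk, pow_mul, c]; simp)⟩ }
  have nD : ∀ β ∈ G, ∀ y ∈ D, β y ∈ D := fun β hβ y hy => ⟨⟨nH β y hy.1.1, nR β hβ y hy.1.2⟩, by
    simpa only [← map_pow, EmbeddingLike.map_eq_one_iff] using hy.2⟩
  have d1 : ⁅D, (⊤ : Subgroup P)⁆ ≤ Z(D) := commutator_le.2 fun x hx y _ => ⟨by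
    rw [commutatorElement_def, mul_assoc, mul_assoc, ← mul_assoc y]
    exact mul_mem hx (nD (MulAut.conj y) (hG ⟨y, rfl⟩) _ (inv_mem hx)), C_anti (A := D) (fun z hz => hz.1.1) (c1 x hx.1.1 y).2⟩
  have d2 : ∀ α ∈ G, (orderOf α).Coprime p → (∀ d ∈ D, α d = d) → α = 1 := fun α hα ho h => by
    have a := l2 (K := H ⊓ R) hp hP ho (fun β hβ x hx => ⟨nH β x hx.1, nR β (zpowers_le.2 hα hβ) x hx.2⟩)
      fun x hx hs => h x ⟨hx, hs⟩
    ext x
    exact l3 (K := ⊤) hp hP ho norm_of_normal (fun _ _ => mem_top _) (inf_le_right.trans h3) (fun y hy => l1 hp hP ho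
      (a _ ⟨Subgroup.mul_mem _ (inv_mem hy) (nH α y hy), subset_closure ⟨⟨α, hα⟩, subset_closure (by simpa), y, rfl⟩⟩)) x (mem_top x)
  refine ⟨D, fun α hα => eq_of_card_eq ?_ (card_map_of_injective α.injective), fun x hx => hx.1.2, fun x hx => hx.2, d1, d2,
    fun A hA ha hm => ?_⟩
  · rintro _ ⟨x, hx, rfl⟩; exact nD α hα x hx
  have e : D ⊓ C(A) ≤ A := fun x hx => hm (A ⊔ zpowers x) le_sup_left (sup_le hA (zpowers_le.2 hx.1))
    ((abel_of_comm ha).sup abel_zpowers (cent_symm (zpowers_le.2 hx.2))).comm ▸ mem_sup_right (mem_zpowers x)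
  have n : (⊤ : Subgroup P) ≤ N(A) := norm_iff_comm_le'.2 ((comm_mono hA le_rfl).trans (d1.trans
    ((inf_le_inf_left _ (C_anti hA)).trans e)))
  refine ⟨norm_top_iff.1 n, fun α hα h => (piPart_eq_one_iff.1 ?_).of_compl_compl.eq_pow (orderOf_pos α).ne'⟩
  have m := zpowers_le.2 hα (piPart_mem_zpowers (π := {p}ᶜ))
  have o := (piNat_compl_iff_coprime hp).1 (piElt_piPart (π := {p}ᶜ) (x := α))
  exact d2 _ m o (l3 hp hP o (le_top.trans n) (nD _ m) e fun a ha => (mem_fixS (φ := MonoidHom.id _)).1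
    (mem_fixS_zpowers.2 (h a ha)) _ piPart_mem_zpowers)

end Cfsg.Agent.S1949
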