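import Cfsg.Statements.S2078
import Cfsg.Agent.L.OON


set_option autoImplicit false
open Cfsg

namespace Cfsg.Agent.S2078

/-- The outer automorphism group of the O'Nan group (the finitely presented group of the definitions) has order 2. -/
theorem result : Nat.card (Cfsg.Out Cfsg.Spor.ON) = 2 := by
  have := H15.ON.simple
  have e : List.take 7 L.OON.nets = List.take 7 H15.ONP.nets := rfl
  refine L.OON.out (L.OON.mach (L.encPM H15.ON.M) (L.real_take _ e)) H15.ON.card fun P hP => ?_
  obtain ⟨φ, h⟩ := H15.exists_hom H15.ON.ix P (by decide) hP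
  refine ⟨φ, fun l hl => ?_⟩
  rw [L.gen_eq_take H15.ON.M (L.OON.mach (L.encPM H15.ON.M) (L.real_take _ e)) rfl e hl]
  obtain ⟨a, rfl⟩ : ∃ a, H15.ON.ix a = l := ⟨H15.ON.gl.getD l .g, by revert l; decide⟩
  rw [H15.ON.M_gen]
  exact h a

end Cfsg.Agent.S2078
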