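import Cfsg.Statements.S2081
import Cfsg.Agent.L.O24c
import Cfsg.Agent.H15.Fi24


set_option autoImplicit false
set_option linter.unusedVariables false
open Cfsg

namespace Cfsg.Agent.S2081

/-- The outer automorphism group of the Fischer group Fi₂₄′ (the commutator subgroup of the presented group Fi₂₄) has order 2. -/
theorem result : Nat.card (Cfsg.Out Cfsg.Spor.Fi24') = 2 := by
  have hN := H15.Fi24.card
  have : Finite Spor.Fi24 := Nat.finite_of_card_ne_zero (by rw [hN]; decide)
  have := H15.Fi24.simple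
  generalize hM : H15.Fi24.M = M
  have hK : H14.sub M.gen [L.O24c.a, L.O24c.u, L.O24c.b] = commutator Spor.Fi24 :=
    le_antisymm (L.O24c.le M hN H15.Fi24.comm.2) (hM ▸ H15.Fi24.top.ge.trans (L.O24c.gen _ hN))
  have r := L.O24c.rel2 M hN
  have e : H14.ev M.gen L.O24c.a = H14.ev (L.cjM M (H14.ev M.gen L.O24c.h)).gen L.N24x29.x := by
    rw [r _ List.mem_cons_self, L.ev_cjM, H14.ev_append, H14.ev_append, H14.ev_invW]
  have hC : ∀ g, g * H14.ev M.gen L.O24c.a = H14.ev M.gen L.O24c.a * g →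
      g ∈ Subgroup.zpowers (H14.ev M.gen L.O24c.a) := fun g hg => by
    rw [e] at hg ⊢
    generalize L.cjM M _ = M at hg ⊢
    obtain ⟨h1, -, h2, h3⟩ := L.N24x29.frb M hN
    have h4 : g ∈ Subgroup.centralizer (H14.sub M.gen [L.N24x29.x] : Set Spor.Fi24) := by
      rw [L.sub_single, Subgroup.zpowers_eq_closure, Subgroup.centralizer_closure]
      exact Subgroup.mem_centralizer_singleton_iff.2 hg
    rw [← L.sub_single, ← h2]
    exact ⟨(L.eq_of_cards h3 (L.N24x29.nrm M hN) h1.ge).1.le (Subgroup.centralizer_le_normalizer _ h4), h4⟩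
  refine (L.out_of_inner (L.center_simple' H15.Fi24.card_comm (by decide) (by norm_num)) (fun g hg => ?_)
    (L.aut_inner (p := 29) (s := 27) (m := 2) (t := L.O24c.t) (by norm_num) (e ▸ L.N24x29.ord _ hN)
      (by rw [hN]; norm_num) ?_ ?_ (by norm_num) (by norm_num) hC ?_ ?_ hK (fun g hg => ?_)
      (L.O24c.rel M hN) (L.O24c.kil M hN))).trans H15.Fi24.comm.2
  · have h1 := hK.le (H14.ev_mem_sub M.gen List.mem_cons_self)
    exact (Subgroup.zpowers_le.2 h1) (hC g (hg _ h1).symm)
  · simpa only [H14.ev_append, H14.ev_powW] using r (_ ++ _, _ ++ H14.powW _ 27) (by simp)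
  · simpa only [H14.ev_append, pow_two] using r (_, L.O24c.t ++ L.O24c.t) (by simp)
  · exact fun k h h0 => (by decide +kernel : ∀ k < 29, k ≠ 0 → ∃ i < 28, 27 ^ i % 29 = k) k h h0 |>.imp fun _ => And.right
  · simpa only [H14.ev_append] using r (L.O24c.u ++ L.O24c.b, L.O24c.b ++ L.O24c.u) (by simp)
  · refine (L.O24c.en M hN).2 g ((L.O24c.cen M hN).1.le ?_)
    rw [L.sub_single, Subgroup.zpowers_eq_closure, Subgroup.centralizer_closure]
    exact Subgroup.mem_centralizer_singleton_iff.2 hg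

end Cfsg.Agent.S2081
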