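import Cfsg.Statements.S2083
import Cfsg.Agent.H14.ThB

set_option autoImplicit false
open Cfsg

namespace Cfsg.Agent.S2083



/-- The outer automorphism group of the Thompson group (the finitely presented group of the definitions) is trivial: every automorphism is inner. -/
theorem result : Nat.card (Cfsg.Out Cfsg.Spor.Th) = 1 := by
  exact H14.Th.out_Th

end Cfsg.Agent.S2083
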