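import Cfsg.Statements.S2219
import Cfsg.Agent.H6.K3d

set_option autoImplicit false
open Cfsg


namespace Cfsg.Agent.S2219

/-- Let G be a non-abelian finite simple group of order 9·2ᵃ·qᵇ for a prime q other than 2 and 3, having at least three conjugacy classes of nonidentity 3-elements (elements of order 3 or 9). Then G is isomorphic to PSL(2,8) or to PSL(2,17). -/
theorem result {G : Type*} [Group G] [Finite G] [IsSimpleGroup G] (hG : ¬ IsMulCommutative G)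
    (q a b : ℕ) (hq : q.Prime) (hq2 : q ≠ 2) (hq3 : q ≠ 3) (hcard : Nat.card G = 9 * 2 ^ a * q ^ b)
    (h3 : 3 ≤ Nat.card {C : ConjClasses G // ∃ g ∈ C.carrier, g ≠ 1 ∧ orderOf g ∣ 9}) :
    (∃ (F : Type) (_ : Field F) (_ : Fintype F), Fintype.card F = 8 ∧
        Nonempty (G ≃* Matrix.ProjectiveSpecialLinearGroup (Fin 2) F)) ∨
      Nonempty (G ≃* Matrix.ProjectiveSpecialLinearGroup (Fin 2) (ZMod 17)) := by
  ---
    have : Fact (Nat.Prime 3) := ⟨Nat.prime_three⟩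
    have h : H6.K3 G q a b := ⟨hG, hq, hq2, hq3, hcard⟩
    obtain ⟨R⟩ : Nonempty (Sylow 3 G) := inferInstance
    obtain ⟨hR, c⟩ := h.exists_as R
    have k : ∀ C : {C : ConjClasses G // ∃ g ∈ C.carrier, g ≠ 1 ∧ orderOf g ∣ 9}, ∃ r ∈ (R : Subgroup G), r ≠ 1 ∧ ConjClasses.mk r = C := by
      rintro ⟨C, g, hg, g1, g9⟩
      obtain ⟨x, -, hx⟩ := hR.syl.exists_cj_le (H7.isPE_of_pow (p := 3) (k := 2) (orderOf_dvd_iff_pow_eq_one.1 g9)).isPGroup_zpowers le_top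
      exact ⟨_, H7.cj_le_iff'.1 hx _ (Subgroup.mem_zpowers g), by simpa using g1,
        (ConjClasses.mk_eq_mk_iff_isConj.2 (isConj_iff.2 ⟨x, rfl⟩).symm).trans (ConjClasses.mem_carrier_iff_mk_eq.1 hg)⟩
    choose r h1 h2 h4 using k
    have := Fintype.ofFinite {C : ConjClasses G // ∃ g ∈ C.carrier, g ≠ 1 ∧ orderOf g ∣ 9}
    rw [Nat.card_eq_fintype_card] at h3
    obtain ⟨x, y, z, xy, xz, yz⟩ := Fintype.two_lt_card_iff.1 h3
    have d : ∀ u v, u ≠ v → ¬ IsConj (r u) (r v) := fun u v e e' =>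
      e (Subtype.ext ((h4 u).symm.trans ((ConjClasses.mk_eq_mk_iff_isConj.2 e').trans (h4 v))))
    exact h.three hR c (h1 x) (h1 y) (h1 z) (h2 x) (h2 y) (h2 z) (d _ _ xy) (d _ _ xz) (d _ _ yz)

end Cfsg.Agent.S2219
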