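import Cfsg.Statements.S2220
import Cfsg.Agent.H6.K3h

set_option autoImplicit false
open Cfsg


namespace Cfsg.Agent.S2220

/-- Let G be a non-abelian finite simple group of order 9·2ᵃ·qᵇ for a prime q other than 2 and 3, and suppose a Sylow 3-subgroup R of G is strongly self-centralizing: C_G(k) = R for every nonidentity k ∈ R. Then G is isomorphic to the alternating group of degree 6, to PSL(2,8) or to PSL(2,17). -/
theorem result {G : Type*} [Group G] [Finite G] [IsSimpleGroup G] (hG : ¬ IsMulCommutative G)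
    (q a b : ℕ) (hq : q.Prime) (hq2 : q ≠ 2) (hq3 : q ≠ 3) (hcard : Nat.card G = 9 * 2 ^ a * q ^ b)
    (R : Sylow 3 G) (hR : ∀ k ∈ (R : Subgroup G), k ≠ 1 → Subgroup.centralizer ({k} : Set G) = R) :
    Nonempty (G ≃* ↥(alternatingGroup (Fin 6))) ∨
      (∃ (F : Type) (_ : Field F) (_ : Fintype F), Fintype.card F = 8 ∧
        Nonempty (G ≃* Matrix.ProjectiveSpecialLinearGroup (Fin 2) F)) ∨
      Nonempty (G ≃* Matrix.ProjectiveSpecialLinearGroup (Fin 2) (ZMod 17)) := by
  ---
    have : Fact (Nat.Prime 3) := ⟨Nat.prime_three⟩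
    have h : H6.K3 G q a b := ⟨hG, hq, hq2, hq3, hcard⟩
    obtain ⟨hA, c⟩ := h.exists_as R
    by_cases e : ∀ g ∈ (R : Subgroup G), g ^ 3 = 1
    · refine h.c3 fun g hg => ?_
      have o := orderOf_pow_orderOf_div (x := g) (orderOf_pos g).ne' hg
      obtain ⟨x, hx⟩ := H9.exists_conj_mem_sylow (k := 1) (x := g ^ (orderOf g / 3)) (orderOf_dvd_iff_pow_eq_one.1 o.dvd) R
      have := e (x * g * x⁻¹) ((hR _ hx (by simp; rintro e; simp [e] at o)).le (Subgroup.mem_centralizer_singleton_iff.2 (by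
        rw [conj_mul, conj_mul, (Commute.self_pow g _).eq])))
      simpa using this
    · push Not at e
      obtain ⟨g, hg, g3⟩ := e
      exact .inr (h.cyc hA c hg g3)

end Cfsg.Agent.S2220
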