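import Cfsg.Statements.S2228
import Cfsg.Agent.H25.JM
-- import your own Cfsg.Agent.* helpers here

set_option autoImplicit false
open Cfsg

namespace Cfsg.Agent.S2228

/-- Let G be a finite simple group in which all involutions are conjugate and the centralizer of an involution has a normal extraspecial subgroup of order 32 complemented by a subgroup isomorphic to the alternating group of degree 5 (a group of J₃-type). Then a Sylow 19-subgroup of G is self-centralizing with normalizer-quotient cyclic of order 9, and a Sylow 17-subgroup is self-centralizing with normalizer-quotient cyclic of order 8. -/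
theorem result {G : Type*} [Group G] [Finite G] [IsSimpleGroup G]
    (hone : ∀ x y : G, orderOf x = 2 → orderOf y = 2 → IsConj x y)
    (t : G) (ht : orderOf t = 2) (E A : Subgroup ↥(Subgroup.centralizer ({t} : Set G))) [E.Normal]
    (hE : Cfsg.IsExtraspecial 2 ↥E) (hE32 : Nat.card ↥E = 32) (hEA : E.IsComplement' A)
    (eA : ↥A ≃* ↥(alternatingGroup (Fin 5))) :
    (∀ X : Sylow 19 G, Subgroup.centralizer ((X : Subgroup G) : Set G) = X ∧
        ∃ h : ((X : Subgroup G).subgroupOf (Subgroup.normalizer ((X : Subgroup G) : Set G))).Normal,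
          IsCyclic (↥(Subgroup.normalizer ((X : Subgroup G) : Set G)) ⧸ (X : Subgroup G).subgroupOf _) ∧
          Nat.card (↥(Subgroup.normalizer ((X : Subgroup G) : Set G)) ⧸ (X : Subgroup G).subgroupOf _) = 9) ∧
    (∀ Y : Sylow 17 G, Subgroup.centralizer ((Y : Subgroup G) : Set G) = Y ∧
        ∃ h : ((Y : Subgroup G).subgroupOf (Subgroup.normalizer ((Y : Subgroup G) : Set G))).Normal,
          IsCyclic (↥(Subgroup.normalizer ((Y : Subgroup G) : Set G)) ⧸ (Y : Subgroup G).subgroupOf _) ∧
          Nat.card (↥(Subgroup.normalizer ((Y : Subgroup G) : Set G)) ⧸ (Y : Subgroup G).subgroupOf _) = 8) := by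
  obtain ⟨a, b, c, d, e', x, t', u, s, J⟩ := H25.j1_of_simple ht E hE hE32 (hEA.symm.QuotientMulEquiv.trans eA)
  have J3 := J.j3' hone
  obtain ⟨S⟩ := J3.std
  have p19 : Nat.Prime 19 := by norm_num
  have p17 : Nat.Prime 17 := by norm_num
  constructor
  · intro X
    have := Fact.mk p19
    have hc : Nat.card X = 19 := by rw [X.card_eq_multiplicity, S.card]; decide +kernel
    exact ⟨(H25.syl19 S J3.cent hc).1, H25.syl_fin p19 hc (H25.syl19 S J3.cent hc).1 (H25.syl19 S J3.cent hc).2⟩
  · intro X
    have := Fact.mk p17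
    have hc : Nat.card X = 17 := by rw [X.card_eq_multiplicity, S.card]; decide +kernel
    exact ⟨(H25.syl17 S J3.cent hc).1, H25.syl_fin p17 hc (H25.syl17 S J3.cent hc).1 (H25.syl17 S J3.cent hc).2⟩

end Cfsg.Agent.S2228
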