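import Cfsg.Statements.S2247
import Cfsg.Agent.H13.SzSub2

set_option autoImplicit false
open Cfsg

namespace Cfsg.Agent.S2247

open H13 H13.Sz in
theorem aux {F : Type*} [Field F] [Fintype F] {m : ℕ} [IsSz F m] {M : Subgroup (Cfsg.Sz F m)}
    (hU : U F m ≤ M) (hB : ¬ M ≤ B F m) : M = ⊤ := by
  obtain ⟨c, hc⟩ := exists_th_ne (F := F)
  obtain ⟨g, hg, hgB⟩ := SetLike.not_le_iff_exists.mp hB
  obtain ⟨v, hv, hH⟩ := exists_split (M := M)
  apply cj_eq_top (g := v)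
  have hU' : U F m ≤ cj v M := fun x hx =>
    mem_cj.mpr (hU (mul_mem (mul_mem (inv_mem hv) hx) hv))
  obtain ⟨K, -, hu, hh, hw⟩ := exists_subfield (not_le_cj hB (U_le_B hv))
    ⟨1, c, one_ne_zero, fun h => hc (by simp [h]), fun h => hc (by simp [← h]),
      hU' (u_mem_U _ _), hU' (u_mem_U _ _)⟩ hH (hU' (u_mem_U 1 0))
  rw [eq_top_iff]
  rintro x -
  induction x using induction_on with
  | hu a b => exact hU' (u_mem_U a b)
  | hh s => exact (hh s).mpr ((hu s 0).mp (hU' (u_mem_U _ _))).1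
  | hw => exact hw
  | hmul x y hx hy => exact mul_mem hx hy


/-- In the Suzuki group with q = 2^(2m+1), m ≥ 1 (realised as the stabiliser in SL₄ of the Suzuki–Tits ovoid), the normalizer of a Sylow 2-subgroup P is a maximal subgroup and is the only maximal subgroup containing P. -/
theorem result {F : Type*} [Field F] [Fintype F] {m : ℕ} (hm : 1 ≤ m) (hF : Fintype.card F = 2 ^ (2 * m + 1)) (P : Sylow 2 ↥(Cfsg.Sz F m)) :
    IsCoatom (Subgroup.normalizer ((P : Subgroup ↥(Cfsg.Sz F m)) : Set ↥(Cfsg.Sz F m))) ∧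
    ∀ M : Subgroup ↥(Cfsg.Sz F m), IsCoatom M → (P : Subgroup ↥(Cfsg.Sz F m)) ≤ M → M = Subgroup.normalizer ((P : Subgroup ↥(Cfsg.Sz F m)) : Set ↥(Cfsg.Sz F m)) := by
  have : H13.Sz.IsSz F m := ⟨hm, hF⟩
  obtain ⟨k, hk⟩ := H13.Sz.sylow_eq_cj P
  rw [hk, H13.Sz.normalizer_cj, H13.Sz.normalizer_U]
  have key : ∀ M : Subgroup ↥(Cfsg.Sz F m), H13.Sz.cj k (H13.Sz.U F m) ≤ M → M ≠ ⊤ →
      M ≤ H13.Sz.cj k (H13.Sz.B F m) := by
    intro M h1 h2
    by_contra h3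
    apply h2
    apply H13.Sz.cj_eq_top (g := k⁻¹)
    apply aux
    · rw [← H13.Sz.cj_inv_cj k (H13.Sz.U F m)]
      exact Subgroup.map_mono h1
    · intro h4
      apply h3
      rw [← H13.Sz.cj_cj_inv k M]
      exact Subgroup.map_mono h4
  have hne : H13.Sz.cj k (H13.Sz.B F m) ≠ ⊤ := fun h =>
    H13.Sz.w_not_mem_B (H13.Sz.cj_eq_top h ▸ Subgroup.mem_top _)
  refine ⟨⟨hne, fun M hM => ?_⟩, fun M hM h => ?_⟩
  · by_contra h
    exact hM.not_ge (key M ((Subgroup.map_mono H13.Sz.U_le_B).trans hM.le) h)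
  · exact ((hM.le_iff.mp (key M h hM.1)).resolve_left hne).symm

end Cfsg.Agent.S2247
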