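import Cfsg.Statements.S2648
import Cfsg.Agent.S0261
import Cfsg.Agent.S0245
import Cfsg.Agent.H11.ThA
import Cfsg.Agent.H10.SL

set_option autoImplicit false
open Cfsg

namespace Cfsg.Agent.S2648

section
open Subgroup Module H11 H11.PForm
open scoped commutatorElement
variable {G G' : Type*} [Group G] [Group G']

/-- ambient derived series -/
def ds (H : Subgroup G) : ℕ → Subgroup G
  | 0 => H
  | n + 1 => ⁅ds H n, ds H n⁆

theorem ds_succ (H : Subgroup G) (n : ℕ) : ds H (n + 1) = ⁅ds H n, ds H n⁆ := rfl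

theorem ds_succ' (H : Subgroup G) (n : ℕ) : ds H (n + 1) = ds ⁅H, H⁆ n := by
  induction n with
  | zero => rfl
  | succ n ih => rw [ds_succ, ih]; rfl

theorem ds_mono {H K : Subgroup G} (h : H ≤ K) (n : ℕ) : ds H n ≤ ds K n := by
  induction n with
  | zero => exact h
  | succ n ih => exact commutator_mono ih ih

theorem ds_map (H : Subgroup G) (f : G →* G') (n : ℕ) : ds (H.map f) n = (ds H n).map f := by
  induction n with
  | zero => rfl
  | succ n ih => rw [ds_succ, ih, ds_succ, map_commutator]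

theorem ds_prod (H : Subgroup G) (K : Subgroup G') (n : ℕ) :
    ds (H.prod K) n = (ds H n).prod (ds K n) := by
  induction n with
  | zero => rfl
  | succ n ih => rw [ds_succ, ih, commutator_prod_prod]; rfl

theorem ds_bot {H : Subgroup G} {a b : ℕ} (h : ds H a = ⊥) (hab : a ≤ b) : ds H b = ⊥ := by
  induction hab with
  | refl => exact h
  | step _ ih => rw [ds_succ, ih, commutator_bot_left]

theorem ds_map_eq_bot {H : Subgroup G} {f : G →* G'} (hf : Function.Injective f) {n : ℕ} :
    ds (H.map f) n = ⊥ ↔ ds H n = ⊥ := by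
  rw [ds_map, map_eq_bot_iff_of_injective _ hf]

theorem ds_top (n : ℕ) : ds (⊤ : Subgroup G) n = derivedSeries G n := by
  induction n with
  | zero => rfl
  | succ n ih => rw [ds_succ, ih]; rfl

theorem ds_iff (H : Subgroup G) (n : ℕ) : derivedSeries H n = ⊥ ↔ ds H n = ⊥ := by
  rw [← ds_top, ← ds_map_eq_bot H.subtype_injective, ← MonoidHom.range_eq_map, range_subtype]

theorem ds_equiv (e : G ≃* G') (n : ℕ) : derivedSeries G n = ⊥ ↔ derivedSeries G' n = ⊥ := by
  rw [← ds_top, ← ds_top, ← ds_map_eq_bot (f := e.toMonoidHom) e.injective,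
    map_top_of_surjective _ e.surjective]

theorem ds_quat {n : ℕ} (hn : 2 ≤ n) : derivedSeries (QuaternionGroup n) 2 = ⊥ ∧
    derivedSeries (QuaternionGroup n) 1 ≠ ⊥ := by
  have h1 : ∀ x ∈ derivedSeries (QuaternionGroup n) 1, ∃ i, QuaternionGroup.a i = x := by
    let A : Subgroup (QuaternionGroup n) :=
      { carrier := {x | ∃ i, QuaternionGroup.a i = x}
        mul_mem' := by rintro _ _ ⟨i, rfl⟩ ⟨j, rfl⟩; exact ⟨_, rfl⟩
        one_mem' := ⟨0, rfl⟩
        inv_mem' := by rintro _ ⟨i, rfl⟩; exact ⟨-i, rfl⟩ }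
    refine (commutator_le (H₃ := A)).2 ?_
    rintro (i | i) - (j | j) - <;> exact ⟨_, rfl⟩
  refine ⟨eq_bot_iff.2 (commutator_le.2 fun x hx y hy => ?_), fun h => ?_⟩
  · obtain ⟨i, rfl⟩ := h1 x hx
    obtain ⟨j, rfl⟩ := h1 y hy
    rw [mem_bot, commutatorElement_eq_one_iff_mul_comm]
    simp [add_comm]
  · have h2 : ⁅(QuaternionGroup.a 1 : QuaternionGroup n), QuaternionGroup.xa 0⁆ ∈
      derivedSeries (QuaternionGroup n) 1 := commutator_mem_commutator trivial trivial
    rw [h, mem_bot, commutatorElement_eq_one_iff_mul_comm] at h2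
    simp only [QuaternionGroup.a_mul_xa, QuaternionGroup.xa_mul_a, QuaternionGroup.xa.injEq] at h2
    have h3 : ((2 : ℕ) : ZMod (2 * n)) = 0 := by push_cast; linear_combination -h2
    have := Nat.le_of_dvd two_pos ((ZMod.natCast_eq_zero_iff _ _).1 h3)
    omega

theorem exists_ext (B : Subgroup G) {s : G} (h1 : s * s = 1) (h2 : ∀ b ∈ B, s * b * s ∈ B)
    (h3 : s ∉ B) : ∃ W : Subgroup G, B ≤ W ∧ s ∈ W ∧ Nat.card W = 2 * Nat.card B ∧ ⁅W, W⁆ ≤ B := by
  have hs : s⁻¹ = s := inv_eq_of_mul_eq_one_right h1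
  let W : Subgroup G :=
    { carrier := {g | g ∈ B ∨ g * s ∈ B}
      mul_mem' := by
        rintro a b (ha | ha) (hb | hb)
        · exact .inl (B.mul_mem ha hb)
        · exact .inr (mul_assoc a b s ▸ B.mul_mem ha hb)
        · refine .inr ?_
          have := B.mul_mem ha (h2 b hb)
          rwa [show a * s * (s * b * s) = a * (s * s) * b * s by group, h1, mul_one] at this
        · refine .inl ?_
          have := B.mul_mem ha (h2 _ hb)
          rwa [show a * s * (s * (b * s) * s) = a * (s * s) * b * (s * s) by group, h1, mul_one,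
            mul_one] at this
      one_mem' := .inl B.one_mem
      inv_mem' := by
        rintro a (ha | ha)
        · exact .inl (B.inv_mem ha)
        · refine .inr ?_
          have := h2 _ (B.inv_mem ha)
          rwa [mul_inv_rev, hs, ← mul_assoc, h1, one_mul] at this }
  have hB : B ≤ W := fun _ h => .inl h
  have hs' : s ∈ W := .inr (h1 ▸ B.one_mem)
  have hi : (B.subgroupOf W).index = 2 := index_eq_two_iff.2 ⟨⟨s, hs'⟩, fun b => by
    rw [mem_subgroupOf, mem_subgroupOf]
    by_cases hb : b.1 ∈ B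
    · exact .inr ⟨hb, fun h => h3 ((B.mul_mem_cancel_left hb).1 h)⟩
    · exact .inl ⟨b.2.resolve_left hb, hb⟩⟩
  refine ⟨W, hB, hs', ?_, commutator_le.2 fun x hx y hy => ?_⟩
  · rw [← (B.subgroupOf W).index_mul_card, hi, Nat.card_congr (subgroupOfEquivOfLe hB).toEquiv]
  · change ⁅(⟨x, hx⟩ : W), ⟨y, hy⟩⁆ ∈ B.subgroupOf W
    simp only [commutatorElement_def, mul_mem_iff_of_index_two hi, inv_mem_iff]
    tauto

universe u
/-- a `2`-subgroup of order `2 ^ e` and derived length `d + 1` of a symplectic group of rank `k` -/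
def D (F : Type u) [Field F] (k d e : ℕ) : Prop :=
  ∃ (V : Type u) (_ : AddCommGroup V) (_ : Module F V) (_ : FiniteDimensional F V)
    (S : PForm (sympP F) V) (H : Subgroup S.Isom), S.Nondeg ∧ finrank F V = 2 * k ∧
      Nat.card H = 2 ^ e ∧ ds H (d + 1) = ⊥ ∧ ds H d ≠ ⊥

variable {F : Type u} [Field F]

theorem card_map_prod {G₃ : Type*} [Group G₃] (H : Subgroup G) (K : Subgroup G') {f : G × G' →* G₃}
    (hf : Function.Injective f) : Nat.card ((H.prod K).map f) = Nat.card H * Nat.card K := by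
  rw [card_map_of_injective hf, Nat.card_congr (H.prodEquiv K).toEquiv, Nat.card_prod]

theorem D.prod {k d e k' d' e' : ℕ} (h : D F k d e) (h' : D F k' d' e') (hd : d' ≤ d) :
    D F (k + k') d (e + e') := by
  obtain ⟨V, _, _, _, S, H, h1, h2, h3, h4, h5⟩ := h
  obtain ⟨V', _, _, _, S', H', h1', h2', h3', h4', -⟩ := h'
  refine ⟨V × V', inferInstance, inferInstance, inferInstance, S.prod S',
    (H.prod H').map (prodI S S'), h1.prod h1', by rw [finrank_prod, h2, h2', mul_add],
    by rw [card_map_prod _ _ prodI_injective, h3, h3', pow_add], ?_, ?_⟩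
  · rw [ds_map_eq_bot prodI_injective, ds_prod, h4, ds_bot h4' (by omega), bot_prod_bot]
  · rw [Ne, ds_map_eq_bot prodI_injective, ds_prod, prod_eq_bot_iff]
    exact fun h => h5 h.1

theorem D.wr {k d e : ℕ} (h : D F k d e) (hk : 0 < k) : D F (2 * k) (d + 1) (2 * e + 1) := by
  obtain ⟨V, _, _, _, S, H, h1, h2, h3, h4, h5⟩ := h
  let s : (S.prod S).Isom := ⟨LinearEquiv.prodComm F V V, symp_isIsom fun x y => by
    simp [prod_h, add_comm]⟩
  have hs : ∀ a b, s * prodI S S (a, b) * s = prodI S S (b, a) := fun a b => isom_ext fun x => rfl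
  have hs' : s * s = 1 := isom_ext fun x => rfl
  obtain ⟨W, h6, h7, h8, h9⟩ := exists_ext ((H.prod H).map (prodI S S)) hs'
    (by rintro _ ⟨⟨a, b⟩, ⟨ha, hb⟩, rfl⟩; exact ⟨(b, a), ⟨hb, ha⟩, (hs a b).symm⟩) (by
      rintro ⟨⟨a, b⟩, -, h⟩
      have : Nontrivial V := Module.nontrivial_of_finrank_pos (R := F) (by omega)
      obtain ⟨x, hx⟩ := exists_ne (0 : V)
      have h6 : b.1 0 = x := congrArg (fun g : (S.prod S).Isom => (g.1 (x, 0)).2) h
      exact hx (by rw [← h6, map_zero]))
  refine ⟨V × V, inferInstance, inferInstance, inferInstance, S.prod S, W, h1.prod h1,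
    by rw [finrank_prod, h2]; ring, by rw [h8, card_map_prod _ _ prodI_injective, h3]; ring, ?_, ?_⟩
  · rw [ds_succ', eq_bot_iff]
    refine (ds_mono h9 _).trans (le_of_eq ?_)
    rw [ds_map_eq_bot prodI_injective, ds_prod, h4, bot_prod_bot]
  · intro h
    rw [ds_succ'] at h
    have h10 : ds (⁅W, W⁆.comap (prodI S S)) d = ⊥ := (ds_map_eq_bot prodI_injective).1
      (eq_bot_iff.2 ((ds_mono (map_comap_le _ _) _).trans h.le))
    have h11 : H ≤ (⁅W, W⁆.comap (prodI S S)).map (MonoidHom.fst _ _) := fun a ha => by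
      refine ⟨(a, a⁻¹), ?_, rfl⟩
      have := commutator_mem_commutator (h6 ⟨(a, 1), ⟨ha, H.one_mem⟩, rfl⟩) h7
      rwa [commutatorElement_def, inv_eq_of_mul_eq_one_right hs', ← map_inv, mul_assoc, mul_assoc,
        ← mul_assoc s, Prod.inv_mk, hs, ← map_mul, Prod.mk_mul_mk, inv_one, mul_one, one_mul] at this
    refine h5 (eq_bot_iff.2 ((ds_mono h11 _).trans (le_of_eq ?_)))
    rw [ds_map, h10, Subgroup.map_bot]

theorem D.pow (n : ℕ) : ∀ {k d e : ℕ}, D F k d e → 0 < k → 0 < n →
    D F (k * n) (d + Nat.log 2 n) (n * e + padicValNat 2 n.factorial) := by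
  induction n using Nat.strong_induction_on with
  | h n ih =>
  intro k d e h hk hn
  have key : ∀ m, 0 < m → m < n → D F (k * (2 * m)) (d + (Nat.log 2 m + 1))
      (2 * m * e + padicValNat 2 (2 * m).factorial) := fun m hm hm' => by
    have := ih m hm' (h.wr hk) (by omega) hm
    rw [padicValNat_factorial_mul]
    convert this using 1 <;> ring
  obtain ⟨m, rfl | rfl⟩ := Nat.even_or_odd' n
  · rw [mul_comm 2 m, Nat.log_mul_base one_lt_two (by omega), mul_comm m 2]
    exact key m (by omega) (by omega)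
  · rcases Nat.eq_zero_or_pos m with rfl | hm
    · simpa using h
    · have := (key m hm (by omega)).prod h (by omega)
      rw [padicValNat_factorial_mul_add _ one_lt_two, Nat.log_of_one_lt_of_le one_lt_two (by omega),
        show (2 * m + 1) / 2 = m by omega]
      convert this using 1 <;> ring

theorem D.base [Fintype F] (hF : Odd (Fintype.card F)) :
    D F 1 1 (padicValNat 2 (Fintype.card F ^ 2 - 1)) := by
  classical
  let S : PForm (sympP F) (Fin 2 → F) := sympS (Matrix.toBilin' !![0, 1; -1, 0]) fun x => by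
    simp [Matrix.toBilin'_apply, Fin.sum_univ_two, mul_comm]
  have hS : ∀ x y, S.h x y = x 0 * y 1 - x 1 * y 0 := fun x y => by
    change Matrix.toBilin' !![0, 1; -1, 0] x y = _
    simp [Matrix.toBilin'_apply, Fin.sum_univ_two, sub_eq_add_neg]
  let φ : Matrix.SpecialLinearGroup (Fin 2) F →* S.Isom :=
    Matrix.SpecialLinearGroup.toLin'.codRestrict _ fun g => symp_isIsom fun x y => by
      have := g.det_coe
      rw [Matrix.det_fin_two] at this
      simp only [hS, Matrix.SpecialLinearGroup.toLin'_apply, Matrix.toLin'_apply, Matrix.mulVec,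
        dotProduct, Fin.sum_univ_two]
      linear_combination (x 0 * y 1 - x 1 * y 0) * this
  have hφ : Function.Injective φ := fun a b h =>
    Matrix.SpecialLinearGroup.toLin'_injective (congrArg Subtype.val h)
  obtain ⟨P⟩ : Nonempty (Sylow 2 (Matrix.SpecialLinearGroup (Fin 2) F)) := inferInstance
  obtain ⟨k, hk, ⟨e⟩⟩ := Cfsg.Agent.S0261.result hF P
  have h1 := ds_quat (n := 2 ^ k) (Nat.le_self_pow (by omega) 2)
  rw [Ne, ← ds_equiv e, ← ds_equiv e, ds_iff, ds_iff, ← ds_map_eq_bot hφ, ← ds_map_eq_bot hφ] at h1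
  refine ⟨Fin 2 → F, inferInstance, inferInstance, inferInstance, S, P.1.map φ, fun x hx => ?_,
    by simp, ?_, h1.1, h1.2⟩
  · have h2 := hx ![0, 1]
    have h3 := hx ![1, 0]
    rw [hS] at h2 h3
    ext i
    fin_cases i
    · simpa using h2
    · simpa using h3
  · have h2 : 1 < Fintype.card F := Fintype.one_lt_card
    have h3 : Fintype.card F ^ 2 - 1 ≠ 0 := by
      have := Nat.one_lt_pow two_ne_zero h2
      omega
    rw [card_map_of_injective hφ, P.card_eq_multiplicity, H10.card_SL2, mul_assoc, mul_comm (_ - 1),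
      ← Nat.sq_sub_sq, one_pow,
      Nat.factorization_def _ Nat.prime_two, padicValNat.mul (by omega) h3,
      padicValNat.eq_zero_of_not_dvd hF.not_two_dvd_nat, zero_add]

theorem val_prod {q : ℕ} (h1 : 1 < q) (hq : Odd q) (n : ℕ) :
    padicValNat 2 (∏ i ∈ Finset.range n, (q ^ (2 * (i + 1)) - 1)) =
      n * padicValNat 2 (q ^ 2 - 1) + padicValNat 2 n.factorial := by
  have h0 : ∀ i, q ^ (2 * (i + 1)) - 1 ≠ 0 := fun i => by
    have := Nat.one_lt_pow (n := 2 * (i + 1)) (by omega) h1
    omega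
  induction n with
  | zero => simp
  | succ n ih =>
    have h2 := padicValNat.pow_two_sub_one h1 hq.not_two_dvd_nat two_ne_zero even_two
    have h3 := padicValNat.pow_two_sub_one h1 hq.not_two_dvd_nat (n := 2 * (n + 1)) (by omega)
      (even_two_mul _)
    rw [padicValNat.mul two_ne_zero (by omega)] at h3
    rw [Finset.prod_range_succ, padicValNat.mul (Finset.prod_ne_zero_iff.2 fun i _ => h0 i) (h0 n),
      ih, Nat.factorial_succ, padicValNat.mul (by omega) (Nat.factorial_ne_zero n), add_mul]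
    omega

end

/-- Let q be odd, F a field with q elements and n ≥ 1. A Sylow 2-subgroup R of the symplectic group Sp_{2n}(F) has derived length exactly k + 1, where 2^k ≤ 2n < 2^{k+1}: the (k+1)-st term of its derived series is trivial and the k-th is not. -/
theorem result {F : Type*} [Field F] [Fintype F] [DecidableEq F] (q : ℕ) (hF : Fintype.card F = q) (hq : Odd q) (n : ℕ) (hn : 1 ≤ n) (R : Sylow 2 ↥(Matrix.symplecticGroup (Fin n) F)) : derivedSeries ↥(R : Subgroup ↥(Matrix.symplecticGroup (Fin n) F)) (Nat.log 2 (2 * n) + 1) = ⊥ ∧ derivedSeries ↥(R : Subgroup ↥(Matrix.symplecticGroup (Fin n) F)) (Nat.log 2 (2 * n)) ≠ ⊥ := by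
  subst hF
  have h0 : 1 < Fintype.card F := Fintype.one_lt_card
  obtain ⟨V, _, _, _, S, H, h1, h2, h3, h4, h5⟩ := (D.base hq).pow n one_pos hn
  obtain ⟨e⟩ := (H11.PForm.symp_eqv _ h1 (H11.stdSymp_nondeg n) h2
    (by rw [H11.finrank_sum_fun, one_mul])).nonempty_mulEquiv
  let e' := e.trans (H11.spEquiv n F).symm
  have h6 : Nat.card (H.map e'.toMonoidHom) =
      2 ^ (Nat.card (Matrix.symplecticGroup (Fin n) F)).factorization 2 := by
    rw [Subgroup.card_map_of_injective e'.injective, h3, Cfsg.Agent.S0245.result rfl,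
      Nat.factorization_def _ Nat.prime_two, padicValNat.mul (by positivity)
        (Finset.prod_ne_zero_iff.2 fun i _ => by
          have := Nat.one_lt_pow (n := 2 * (i + 1)) (by omega) h0
          omega), padicValNat.eq_zero_of_not_dvd hq.pow.not_two_dvd_nat, zero_add, val_prod h0 hq]
  have h7 := fun d => (ds_equiv (R.equiv (Sylow.ofCard _ h6)) d).trans
    ((ds_iff _ d).trans (ds_map_eq_bot (H := H) (f := e'.toMonoidHom) e'.injective))
  rw [Ne, h7, h7, mul_comm, Nat.log_mul_base one_lt_two (by omega), add_comm (Nat.log 2 n) 1]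
  exact ⟨h4, h5⟩

end Cfsg.Agent.S2648
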