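import Cfsg.Statements.S2249
import Cfsg.Agent.S2648
import Cfsg.Agent.H20.El1
import Cfsg.Agent.H11.Res

set_option autoImplicit false
open Cfsg

namespace Cfsg.Agent.S2249

section
open Subgroup Module
variable {G G' G₃ : Type*} [Group G] [Group G'] [Group G₃]

/-- `Z` (of order `2 ^ r`) contains every normal elementary abelian subgroup of `H`, as witnessed by
the normal abelian subgroup `T` -/
structure Pr (H T Z : Subgroup G) (r : ℕ) : Prop where
  tle : T ≤ H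
  zle : Z ≤ H
  tn : ∀ h ∈ H, ∀ t ∈ T, h * t * h⁻¹ ∈ T
  zn : ∀ h ∈ H, ∀ t ∈ Z, h * t * h⁻¹ ∈ Z
  tc : ∀ a ∈ T, ∀ b ∈ T, a * b = b * a
  z2 : ∀ a ∈ Z, a * a = 1
  cz : Nat.card Z = 2 ^ r
  cl : ∀ e ∈ H, e * e = 1 → (∀ t ∈ T, e * (t * t) = t * t * e) → e ∈ Z

theorem Pr.map {H T Z : Subgroup G} {r : ℕ} (h : Pr H T Z r) {f : G →* G'}
    (hf : Function.Injective f) : Pr (H.map f) (T.map f) (Z.map f) r where
  tle := map_mono h.tle
  zle := map_mono h.zle
  tn := by rintro _ ⟨a, ha, rfl⟩ _ ⟨b, hb, rfl⟩; exact ⟨_, h.tn a ha b hb, by simp⟩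
  zn := by rintro _ ⟨a, ha, rfl⟩ _ ⟨b, hb, rfl⟩; exact ⟨_, h.zn a ha b hb, by simp⟩
  tc := by rintro _ ⟨a, ha, rfl⟩ _ ⟨b, hb, rfl⟩; rw [← map_mul, h.tc a ha b hb, map_mul]
  z2 := by rintro _ ⟨a, ha, rfl⟩; rw [← map_mul, h.z2 a ha, map_one]
  cz := by rw [card_map_of_injective hf, h.cz]
  cl := by
    rintro _ ⟨a, ha, rfl⟩ h1 h2
    exact ⟨a, h.cl a ha (hf (by simpa using h1)) fun t ht => hf (by
      simpa using h2 _ ⟨t, ht, rfl⟩), rfl⟩

theorem Pr.prod {H T Z : Subgroup G} {r : ℕ} (h : Pr H T Z r) {H' T' Z' : Subgroup G'} {r' : ℕ}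
    (h' : Pr H' T' Z' r') : Pr (H.prod H') (T.prod T') (Z.prod Z') (r + r') where
  tle := prod_mono h.tle h'.tle
  zle := prod_mono h.zle h'.zle
  tn a ha b hb := ⟨h.tn _ ha.1 _ hb.1, h'.tn _ ha.2 _ hb.2⟩
  zn a ha b hb := ⟨h.zn _ ha.1 _ hb.1, h'.zn _ ha.2 _ hb.2⟩
  tc a ha b hb := Prod.ext (h.tc _ ha.1 _ hb.1) (h'.tc _ ha.2 _ hb.2)
  z2 a ha := Prod.ext (h.z2 _ ha.1) (h'.z2 _ ha.2)
  cz := by rw [Nat.card_congr (Z.prodEquiv Z').toEquiv, Nat.card_prod, h.cz, h'.cz, pow_add]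
  cl e he h1 h2 := ⟨h.cl _ he.1 (congrArg Prod.fst h1) fun t ht =>
    congrArg Prod.fst (h2 (t, 1) ⟨ht, T'.one_mem⟩), h'.cl _ he.2 (congrArg Prod.snd h1) fun t ht =>
    congrArg Prod.snd (h2 (1, t) ⟨T.one_mem, ht⟩)⟩

theorem exists_ext (B : Subgroup G) [Finite B] {s : G} (h1 : s * s = 1)
    (h2 : ∀ b ∈ B, s * b * s ∈ B) (h3 : s ∉ B) : ∃ W : Subgroup G, B ≤ W ∧
      Nat.card W = 2 * Nat.card B ∧ ∀ g ∈ W, g ∈ B ∨ ∃ b ∈ B, g = b * s := by
  obtain ⟨W, h4, h5, h6, -⟩ := Cfsg.Agent.S2648.exists_ext B h1 h2 h3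
  refine ⟨W, h4, h6, fun g hg => ?_⟩
  have hi : (B.subgroupOf W).index = 2 := by
    have := (B.subgroupOf W).index_mul_card
    rw [h6, Nat.card_congr (subgroupOfEquivOfLe h4).toEquiv] at this
    exact Nat.eq_of_mul_eq_mul_right Nat.card_pos this
  by_cases hg' : g ∈ B
  · exact .inl hg'
  · exact .inr ⟨g * s, (mul_mem_iff_of_index_two hi (a := ⟨g, hg⟩) (b := ⟨s, h5⟩)).2
      (iff_of_false hg' h3), by rw [mul_assoc, h1, mul_one]⟩

theorem Pr.ext {B T Z W : Subgroup G} {r : ℕ} (h : Pr B T Z r) {s : G} (h1 : s * s = 1)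
    (hB : B ≤ W) (hW : ∀ g ∈ W, g ∈ B ∨ ∃ b ∈ B, g = b * s) (hT : ∀ t ∈ T, s * t * s ∈ T)
    (hZ : ∀ t ∈ Z, s * t * s ∈ Z)
    (hs : ∀ b ∈ B, ∃ t ∈ T, b * s * (t * t) ≠ t * t * (b * s)) : Pr W T Z r := by
  have key : ∀ X : Subgroup G, (∀ h ∈ B, ∀ t ∈ X, h * t * h⁻¹ ∈ X) → (∀ t ∈ X, s * t * s ∈ X) →
      ∀ h ∈ W, ∀ t ∈ X, h * t * h⁻¹ ∈ X := fun X h2 h3 g hg t ht => by
    rcases hW g hg with h4 | ⟨b, hb, rfl⟩
    · exact h2 g h4 t ht
    · have := h2 b hb _ (h3 t ht)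
      rwa [mul_inv_rev, inv_eq_of_mul_eq_one_right h1,
        show b * s * t * (s * b⁻¹) = b * (s * t * s) * b⁻¹ by group]
  refine ⟨h.tle.trans hB, h.zle.trans hB, key T h.tn hT, key Z h.zn hZ, h.tc, h.z2, h.cz,
    fun e he h2 h3 => ?_⟩
  rcases hW e he with h4 | ⟨b, hb, rfl⟩
  · exact h.cl e h4 h2 h3
  · obtain ⟨t, ht, h5⟩ := hs b hb
    exact absurd (h3 t ht) h5

theorem Pr.fin {H T Z : Subgroup G} {r : ℕ} (h : Pr H T Z r) (e : H ≃* G') :
    (∃ E : Subgroup G', E.Normal ∧ Cfsg.IsElementaryAbelian 2 E ∧ 2 ^ r ≤ Nat.card E) ∧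
      ∀ E : Subgroup G', E.Normal → Cfsg.IsElementaryAbelian 2 E → Nat.card E ≤ 2 ^ r := by
  let f : G' →* G := H.subtype.comp e.symm.toMonoidHom
  have hf : Function.Injective f := H.subtype_injective.comp e.symm.injective
  have hf' : ∀ x, f x ∈ H := fun x => (e.symm x).2
  have hs : ∀ x ∈ H, ∃ y, f y = x := fun x hx => ⟨e ⟨x, hx⟩, by simp [f]⟩
  have hc : Nat.card (Z.comap f) = 2 ^ r := by
    rw [← card_map_of_injective hf, map_comap_eq_self fun x hx => hs x (h.zle hx), h.cz]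
  refine ⟨⟨Z.comap f, ⟨fun a ha g => by simpa using h.zn _ (hf' g) _ ha⟩, ⟨⟨⟨fun a b =>
    Subtype.ext (hf ?_)⟩⟩, fun a ha => hf (by rw [sq, map_mul, h.z2 _ ha, map_one])⟩, hc.ge⟩,
    fun E hE hE' => ?_⟩
  · have h1 := h.z2 _ (Z.mul_mem a.2 b.2)
    have h2 := h.z2 _ a.2
    have h3 := h.z2 _ b.2
    rw [coe_mul, coe_mul, map_mul, map_mul]
    calc f a * f b = (f a * f b)⁻¹ := eq_inv_of_mul_eq_one_left h1
      _ = f b * f a := by
        rw [mul_inv_rev, inv_eq_of_mul_eq_one_left h2, inv_eq_of_mul_eq_one_left h3]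
  · have : Finite (Z.comap f) := Nat.finite_of_card_ne_zero (by rw [hc]; positivity)
    refine hc ▸ card_le_of_le fun a ha => h.cl _ (hf' a) (by
      rw [← map_mul, ← sq, hE'.2 a ha, map_one]) fun t ht => ?_
    obtain ⟨t, rfl⟩ := hs t (h.tle ht)
    have h1 : (a * t * a⁻¹ * t⁻¹) ^ 2 = 1 := hE'.2 _ (by
      rw [mul_assoc, mul_assoc, ← mul_assoc t]; exact E.mul_mem ha (hE.conj_mem _ (E.inv_mem ha) t))
    have h2 := h.tc _ (h.tn _ (hf' a) _ ht) _ (T.inv_mem ht)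
    have h3 := congrArg f h1
    simp only [sq, map_mul, map_inv, map_one] at h3
    set u := f a * f t * (f a)⁻¹ with hu
    rw [mul_assoc u, ← mul_assoc (f t)⁻¹, ← h2, ← mul_assoc, ← mul_assoc, mul_inv_eq_one,
      mul_inv_eq_iff_eq_mul] at h3
    calc f a * (f t * f t) = u * u * f a := by rw [hu]; group
      _ = _ := by rw [h3]

universe u
variable {F : Type u} [Field F]

/-- product of linear automorphisms -/
def prodE (F : Type u) [Field F] (V W : Type u) [AddCommGroup V] [Module F V] [AddCommGroup W]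
    [Module F W] : (V ≃ₗ[F] V) × (W ≃ₗ[F] W) →* ((V × W) ≃ₗ[F] (V × W)) where
  toFun p := p.1.prodCongr p.2
  map_one' := rfl
  map_mul' _ _ := rfl

theorem prodE_inj {V W : Type u} [AddCommGroup V] [Module F V] [AddCommGroup W] [Module F W] :
    Function.Injective (prodE F V W) := fun a b h =>
  Prod.ext (LinearEquiv.ext fun x => congrArg (fun g : (V × W) ≃ₗ[F] (V × W) => (g (x, 0)).1) h)
    (LinearEquiv.ext fun x => congrArg (fun g : (V × W) ≃ₗ[F] (V × W) => (g (0, x)).2) h)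

/-- a `2`-subgroup of order `2 ^ e` and normal rank `r` of `GL_k` -/
def D (F : Type u) [Field F] (k e r : ℕ) (nt : Prop) : Prop :=
  ∃ (V : Type u) (_ : AddCommGroup V) (_ : Module F V) (_ : FiniteDimensional F V)
    (H T Z : Subgroup (V ≃ₗ[F] V)), finrank F V = k ∧ Nat.card H = 2 ^ e ∧ Pr H T Z r ∧
      (nt → ∃ t ∈ T, t * t ≠ 1)

theorem D.prod {k e r k' e' r' : ℕ} {nt nt' : Prop} (h : D F k e r nt) (h' : D F k' e' r' nt') :
    D F (k + k') (e + e') (r + r') nt := by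
  obtain ⟨V, _, _, _, H, T, Z, h1, h2, h3, h4⟩ := h
  obtain ⟨V', _, _, _, H', T', Z', h1', h2', h3', -⟩ := h'
  refine ⟨V × V', inferInstance, inferInstance, inferInstance, _, _, _,
    by rw [finrank_prod, h1, h1'], ?_, (h3.prod h3').map prodE_inj, fun h => ?_⟩
  · rw [Cfsg.Agent.S2648.card_map_prod _ _ prodE_inj, h2, h2', pow_add]
  · obtain ⟨t, ht, h5⟩ := h4 h
    exact ⟨_, ⟨(t, 1), ⟨ht, T'.one_mem⟩, rfl⟩, fun h => h5 (congrArg Prod.fst
      (prodE_inj (a₂ := 1) ((map_mul _ _ _).trans (h.trans (map_one _).symm))))⟩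

theorem D.wr {k e r : ℕ} (h : D F k e r True) : D F (2 * k) (2 * e + 1) (2 * r) True := by
  obtain ⟨V, _, _, _, H, T, Z, h1, h2, h3, h4⟩ := h
  obtain ⟨t, ht, h4⟩ := h4 trivial
  let s := LinearEquiv.prodComm F V V
  have hs : ∀ X : Subgroup (V ≃ₗ[F] V), ∀ b ∈ (X.prod X).map (prodE F V V),
      s * b * s ∈ (X.prod X).map (prodE F V V) := by
    rintro X _ ⟨⟨a, b⟩, ⟨ha, hb⟩, rfl⟩
    exact ⟨(b, a), ⟨hb, ha⟩, rfl⟩
  have hs' : s * s = 1 := rfl
  have h5 : ∀ b ∈ (H.prod H).map (prodE F V V), ∃ t ∈ (T.prod T).map (prodE F V V),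
      b * s * (t * t) ≠ t * t * (b * s) := by
    rintro _ ⟨⟨a, b⟩, -, rfl⟩
    exact ⟨_, ⟨(t, 1), ⟨ht, T.one_mem⟩, rfl⟩, fun h => h4 (LinearEquiv.ext fun x => b.injective
      (congrArg (fun g : (V × V) ≃ₗ[F] (V × V) => (g (x, 0)).2) h))⟩
  have h6 : Nat.card ((H.prod H).map (prodE F V V)) = 2 ^ e * 2 ^ e := by
    rw [Cfsg.Agent.S2648.card_map_prod _ _ prodE_inj, h2]
  have : Finite ((H.prod H).map (prodE F V V)) :=
    Nat.finite_of_card_ne_zero (by rw [h6]; positivity)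
  obtain ⟨W, h7, h8, h9⟩ := exists_ext _ hs' (hs H) fun h => by
    obtain ⟨u, hu, h7⟩ := h5 _ h
    exact h7 (by rw [hs', one_mul, mul_one])
  refine ⟨V × V, inferInstance, inferInstance, inferInstance, W, (T.prod T).map (prodE F V V), _,
    by rw [finrank_prod, h1, two_mul], by rw [h8, h6]; ring,
    two_mul r ▸ ((h3.prod h3).map prodE_inj).ext hs' h7 h9 (hs T) (hs Z) h5, fun _ =>
    ⟨_, ⟨(t, 1), ⟨ht, T.one_mem⟩, rfl⟩, fun h => h4 (congrArg Prod.fst
      (prodE_inj (a₂ := 1) ((map_mul _ _ _).trans (h.trans (map_one _).symm))))⟩⟩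

theorem D.pow (n : ℕ) : ∀ {k e r : ℕ}, D F k e r True → 0 < n →
    D F (k * n) (n * e + padicValNat 2 n.factorial) (r * n) True := by
  induction n using Nat.strong_induction_on with
  | h n ih =>
  intro k e r h hn
  have key : ∀ m, 0 < m → m < n → D F (k * (2 * m))
      (2 * m * e + padicValNat 2 (2 * m).factorial) (r * (2 * m)) True := fun m hm hm' => by
    have := ih m hm' h.wr hm
    rw [padicValNat_factorial_mul]
    convert this using 1 <;> ring
  obtain ⟨m, rfl | rfl⟩ := Nat.even_or_odd' n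
  · exact key m (by omega) (by omega)
  · rcases Nat.eq_zero_or_pos m with rfl | hm
    · simpa using h
    · have := (key m hm (by omega)).prod h
      rw [padicValNat_factorial_mul_add _ one_lt_two]
      convert this using 1 <;> ring

theorem D.fin [Fintype F] {n e r : ℕ} {nt : Prop} (h : D F n e r nt) (hF : Odd (Nat.card F))
    (he : padicValNat 2 (H20.El.gO (Nat.card F) n) = e) (S : Sylow 2 (GL (Fin n) F)) :
    (∃ E : Subgroup S, E.Normal ∧ Cfsg.IsElementaryAbelian 2 E ∧ 2 ^ r ≤ Nat.card E) ∧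
      ∀ E : Subgroup S, E.Normal → Cfsg.IsElementaryAbelian 2 E → Nat.card E ≤ 2 ^ r := by
  classical
  obtain ⟨V, _, _, _, H, T, Z, h1, h2, h3, -⟩ := h
  let f := ((Matrix.GeneralLinearGroup.toLin' (Module.finBasisOfFinrankEq F V h1)).trans
    (LinearMap.GeneralLinearGroup.generalLinearEquiv F V)).symm
  have h4 : Nat.card (H.map f.toMonoidHom) = 2 ^ (Nat.card (GL (Fin n) F)).factorization 2 := by
    rw [card_map_of_injective f.injective, h2, ← Nat.card_congr f.toEquiv, H20.El.card_gl,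
      Nat.factorization_def _ Nat.prime_two, padicValNat.mul (pow_ne_zero _ Nat.card_pos.ne')
        (H20.El.gO_pos Finite.one_lt_card _).ne',
      padicValNat.eq_zero_of_not_dvd hF.pow.not_two_dvd_nat, zero_add, h1, he]
  exact h3.fin ((H.equivMapOfInjective f.toMonoidHom f.injective).trans
    ((Sylow.ofCard _ h4).equiv S))

theorem pr_cyc {K : Type*} [Field K] (h2 : (2 : K) ≠ 0) {P : Subgroup Kˣ} (hP : -1 ∈ P) :
    Pr P P (zpowers (-1)) 1 where
  tle := le_rfl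
  zle := zpowers_le.2 hP
  tn a _ b hb := by simpa using hb
  zn a _ b hb := by simpa using hb
  tc a _ b _ := mul_comm a b
  z2 := by
    rintro _ ⟨k, rfl⟩
    simp [← mul_zpow]
  cz := by
    rw [Nat.card_zpowers, pow_one]
    exact orderOf_eq_prime (by simp) fun h => h2 (by
      have h3 : (-1 : K) = 1 := Units.ext_iff.1 h
      linear_combination -h3)
  cl e _ h _ := by
    rcases mul_self_eq_one_iff.1 (Units.ext_iff.1 h : (e : K) * e = 1) with h | h
    · rw [(Units.ext h : e = 1)]; exact one_mem _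
    · rw [(Units.ext h : e = -1)]; exact mem_zpowers _

theorem exists_syl (K : Type*) [Field K] [Finite K] (h : Odd (Nat.card K)) :
    (2 : K) ≠ 0 ∧ ∃ P : Subgroup Kˣ, Nat.card P = 2 ^ padicValNat 2 (Nat.card K - 1) ∧
      (∀ (x : Kˣ) (j : ℕ), x ^ 2 ^ j = 1 → x ∈ P) ∧
      ∃ t ∈ P, orderOf t = 2 ^ padicValNat 2 (Nat.card K - 1) := by
  have := Fintype.ofFinite K
  refine ⟨fun h2 => ?_, ?_⟩
  · obtain ⟨k, hk⟩ := h
    have h3 := FiniteField.cast_card_eq_zero K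
    rw [← Nat.card_eq_fintype_card, hk] at h3
    simp [h2] at h3
  obtain ⟨P⟩ : Nonempty (Sylow 2 Kˣ) := inferInstance
  have h1 : Nat.card P = 2 ^ padicValNat 2 (Nat.card K - 1) := by
    rw [P.card_eq_multiplicity, Nat.card_units, Nat.factorization_def _ Nat.prime_two]
  obtain ⟨t, ht⟩ := IsCyclic.exists_ofOrder_eq_natCard (α := P)
  refine ⟨P, h1, fun x j hx => ?_, t, t.2, by rw [orderOf_coe, ht, h1]⟩
  have h2 : IsPGroup 2 (zpowers x) := by
    obtain ⟨i, -, hi⟩ := (Nat.dvd_prime_pow Nat.prime_two).1 (orderOf_dvd_of_pow_eq_one hx)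
    exact IsPGroup.of_card (by rw [Nat.card_zpowers, hi])
  exact h2.le_sylow_of_normal P (mem_zpowers x)

/-- multiplications as linear automorphisms -/
noncomputable def mulE (F : Type u) (K : Type u) [Field F] [Field K] [Algebra F K] :
    Kˣ →* (K ≃ₗ[F] K) := DistribMulAction.toModuleAut F K

theorem mulE_inj {K : Type u} [Field K] [Algebra F K] : Function.Injective (mulE F K) :=
  fun a b h => Units.ext (by
    have h1 : (a : K) * 1 = b * 1 := congrArg (fun g : K ≃ₗ[F] K => g 1) h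
    simpa using h1)

theorem D.base₁ [Finite F] (h : Odd (Nat.card F)) :
    D F 1 (padicValNat 2 (Nat.card F - 1)) 1 (4 ∣ Nat.card F - 1) := by
  obtain ⟨h2, P, h3, h4, t, ht, h5⟩ := exists_syl F h
  refine ⟨F, inferInstance, inferInstance, inferInstance, _, _, _, finrank_self F,
    by rw [card_map_of_injective mulE_inj, h3], (pr_cyc h2 (h4 _ 1 (by simp))).map mulE_inj,
    fun h6 => ⟨_, ⟨t, ht, rfl⟩, fun h7 => ?_⟩⟩
  rw [← map_mul, map_eq_one_iff _ mulE_inj, ← sq, ← orderOf_dvd_iff_pow_eq_one, h5] at h7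
  have h8 := (padicValNat_dvd_iff_le (p := 2) (n := 2)
    (Nat.sub_ne_zero_of_lt Finite.one_lt_card)).1 h6
  have := (Nat.pow_dvd_pow_iff_le_right one_lt_two).1 (h7.trans (pow_one 2).symm.dvd)
  omega

theorem D.base₂ [Finite F] (h : Nat.card F % 4 = 3) :
    D F 2 (padicValNat 2 (Nat.card F ^ 2 - 1) + 1) 1 True := by
  have := Fintype.ofFinite F
  set q := Nat.card F with hq
  have hq' : Fintype.card F = q := by rw [hq, Nat.card_eq_fintype_card]
  obtain ⟨c, hc⟩ : ∃ c, q = 4 * c + 3 := ⟨q / 4, by omega⟩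
  have hP : Irreducible (Polynomial.X ^ 2 - Polynomial.C (-1 : F)) :=
    X_pow_sub_C_irreducible_of_prime Nat.prime_two fun b hb =>
      (FiniteField.isSquare_neg_one_iff.1 ⟨b, by rw [← hb, sq]⟩) (hq' ▸ h)
  obtain ⟨K, _, _, _, -, -, hK2⟩ := H11.exists_root_field hP
  rw [Polynomial.natDegree_X_pow_sub_C] at hK2
  have : FiniteDimensional F K := .of_finrank_eq_succ hK2
  have := Fintype.ofFinite K
  have hK : Nat.card K = q ^ 2 := by rw [natCard_eq_pow_finrank (K := F), hK2]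
  obtain ⟨σ, hσq, hσσ, -⟩ := H11.exists_frob (F := K) (q := q) (by rw [← hK, Nat.card_eq_fintype_card])
  obtain ⟨h2, P, h3, h4, t, ht, h5⟩ := exists_syl K (hK ▸ (Nat.odd_iff.2 (by omega)).pow)
  rw [hK] at h3 h5
  let s : K ≃ₗ[F] K := LinearEquiv.ofInvolutive
    { toFun := σ, map_add' := map_add σ, map_smul' := fun a x => by
        rw [Algebra.smul_def, map_mul, hσq (algebraMap F K a),
          (H11.fix_iff_mem_range _).2 ⟨a, rfl⟩, RingHom.id_apply, Algebra.smul_def] } hσσ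
  have hs' : s * s = 1 := LinearEquiv.ext hσσ
  have hs : ∀ X : Subgroup Kˣ, ∀ b ∈ X.map (mulE F K), s * b * s ∈ X.map (mulE F K) := by
    rintro X _ ⟨a, ha, rfl⟩
    refine ⟨a ^ q, X.pow_mem ha q, LinearEquiv.ext fun x => ?_⟩
    change ((a ^ q : Kˣ) : K) * x = σ (a * σ x)
    rw [map_mul, hσσ, hσq, Units.val_pow_eq_pow_val]
  have h8 : 2 ^ 3 ∣ orderOf t := by
    rw [h5]
    refine Nat.pow_dvd_pow 2 ((padicValNat_dvd_iff_le (Nat.sub_ne_zero_of_lt
      (Nat.one_lt_pow two_ne_zero (by omega)))).1 ⟨2 * c ^ 2 + 3 * c + 1, ?_⟩)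
    rw [hc, Nat.sub_eq_iff_eq_add (Nat.one_le_pow _ _ (by omega))]; ring
  have h6 : ∀ b ∈ P.map (mulE F K), ∃ t ∈ P.map (mulE F K), b * s * (t * t) ≠ t * t * (b * s) := by
    rintro _ ⟨a, -, rfl⟩
    refine ⟨_, ⟨t, ht, rfl⟩, fun h => ?_⟩
    have h7 : (a : K) * σ (t * (t * 1)) = t * (t * (a * σ 1)) := congrArg (fun g : K ≃ₗ[F] K => g 1) h
    have h9 : (t ^ 2) ^ q = t ^ 2 := Units.ext (mul_left_cancel₀ a.ne_zero (by
      rw [map_one, mul_one, mul_one, hσq] at h7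
      push_cast
      rw [sq, h7]; ring))
    rw [← pow_mul, pow_eq_pow_iff_modEq, hc] at h9
    have := h9.of_dvd h8
    simp only [Nat.ModEq] at this
    omega
  have : Finite (P.map (mulE F K)) := Nat.finite_of_card_ne_zero (by
    rw [card_map_of_injective mulE_inj, h3]; positivity)
  obtain ⟨W, h7, h9, h10⟩ := exists_ext _ hs' (hs P) fun h => by
    obtain ⟨u, hu, h7⟩ := h6 _ h
    exact h7 (by rw [hs', one_mul, mul_one])
  refine ⟨K, inferInstance, inferInstance, inferInstance, W, _, _, hK2,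
    by rw [h9, card_map_of_injective mulE_inj, h3]; ring,
    ((pr_cyc h2 (h4 _ 1 (by simp))).map mulE_inj).ext hs' h7 h10 (hs _) (hs _) h6,
    fun _ => ⟨_, ⟨t, ht, rfl⟩, fun h7 => ?_⟩⟩
  rw [← map_mul, map_eq_one_iff _ mulE_inj, ← sq, ← orderOf_dvd_iff_pow_eq_one] at h7
  exact absurd (Nat.le_of_dvd two_pos (h8.trans h7)) (by norm_num)

theorem val_odd {q i : ℕ} (h1 : 1 < q) (hq : Odd q) (hi : Odd i) :
    padicValNat 2 (q ^ i - 1) = padicValNat 2 (q - 1) := by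
  obtain ⟨x, rfl⟩ : ∃ x, q = x + 1 := ⟨q - 1, by omega⟩
  have h2 : Odd (∑ j ∈ Finset.range i, (x + 1) ^ j) := by
    rw [Finset.odd_sum_iff_odd_card_odd, Finset.filter_true_of_mem fun j _ => hq.pow]
    simpa using hi
  rw [← geom_sum_mul_add x i, Nat.add_sub_cancel, Nat.add_sub_cancel,
    padicValNat.mul h2.pos.ne' (by omega), padicValNat.eq_zero_of_not_dvd h2.not_two_dvd_nat, zero_add]

theorem val_two {m : ℕ} (h : m % 4 = 2) : padicValNat 2 m = 1 := by
  rw [show m = 2 * (2 * (m / 4) + 1) by omega, padicValNat.mul two_ne_zero (by omega),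
    padicValNat.self one_lt_two, padicValNat.eq_zero_of_not_dvd (by omega)]

theorem val_succ {q : ℕ} (h1 : 1 < q) (n : ℕ) : padicValNat 2 (H20.El.gO q (n + 1)) =
    padicValNat 2 (H20.El.gO q n) + padicValNat 2 (q ^ (n + 1) - 1) := by
  rw [H20.El.gO_succ, padicValNat.mul (H20.El.gO_pos h1 n).ne'
    (Nat.sub_ne_zero_of_lt (Nat.one_lt_pow (by omega) h1))]

theorem val_one {q : ℕ} (h1 : 1 < q) (hq : q % 4 = 1) (n : ℕ) : padicValNat 2 (H20.El.gO q n) =
    n * padicValNat 2 (q - 1) + padicValNat 2 n.factorial := by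
  have ho : Odd q := Nat.odd_iff.2 (by omega)
  induction n with
  | zero => simp [H20.El.gO]
  | succ n ih =>
    rw [val_succ h1, ih, Nat.factorial_succ, padicValNat.mul (by omega) n.factorial_ne_zero, add_mul]
    rcases Nat.even_or_odd (n + 1) with h | h
    · have := padicValNat.pow_two_sub_one h1 ho.not_two_dvd_nat (by omega) h
      rw [val_two (m := q + 1) (by omega)] at this
      omega
    · rw [val_odd h1 ho h, padicValNat.eq_zero_of_not_dvd h.not_two_dvd_nat]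
      omega

theorem val_three {q : ℕ} (hq : q % 4 = 3) (n : ℕ) : padicValNat 2 (H20.El.gO q (2 * n)) =
    n * (padicValNat 2 (q ^ 2 - 1) + 1) + padicValNat 2 n.factorial ∧
    padicValNat 2 (H20.El.gO q (2 * n + 1)) = padicValNat 2 (H20.El.gO q (2 * n)) +
      padicValNat 2 (q - 1) := by
  have ho : Odd q := Nat.odd_iff.2 (by omega)
  have h1 : 1 < q := by omega
  have key : ∀ n, padicValNat 2 (H20.El.gO q (2 * n + 1)) = padicValNat 2 (H20.El.gO q (2 * n)) +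
      padicValNat 2 (q - 1) := fun n => by rw [val_succ h1, val_odd h1 ho (odd_two_mul_add_one n)]
  refine ⟨?_, key n⟩
  induction n with
  | zero => simp [H20.El.gO]
  | succ n ih =>
    have h2 := padicValNat.pow_two_sub_one h1 ho.not_two_dvd_nat two_ne_zero even_two
    have h3 := padicValNat.pow_two_sub_one h1 ho.not_two_dvd_nat (n := 2 * (n + 1)) (by omega)
      (even_two_mul _)
    rw [padicValNat.mul two_ne_zero (by omega)] at h3
    rw [show 2 * (n + 1) = 2 * n + 1 + 1 by ring, val_succ h1, key, ih, Nat.factorial_succ,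
      padicValNat.mul (by omega) n.factorial_ne_zero, add_mul, val_two (m := q - 1) (by omega),
      show 2 * n + 1 + 1 = 2 * (n + 1) by ring]
    omega

end

/-- The normal 2-rank of the general linear group over a finite field of odd order q: for n ≥ 1 and S a Sylow 2-subgroup of GL_n(F), the largest rank of an elementary abelian subgroup of S that is normal in S equals n when q ≡ 1 (mod 4) and ⌊(n + 1)/2⌋ when q ≡ 3 (mod 4). -/
theorem result {F : Type*} [Field F] [Fintype F] {q : ℕ} (hF : Fintype.card F = q) (hodd : Odd q) (n : ℕ) (hn : 1 ≤ n) (S : Sylow 2 (Matrix.GeneralLinearGroup (Fin n) F)) :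
    (q % 4 = 1 → ((∃ E : Subgroup ↥(S : Subgroup (Matrix.GeneralLinearGroup (Fin n) F)), E.Normal ∧ Cfsg.IsElementaryAbelian 2 E ∧ 2 ^ (n) ≤ Nat.card ↥E) ∧
      ∀ E : Subgroup ↥(S : Subgroup (Matrix.GeneralLinearGroup (Fin n) F)), E.Normal → Cfsg.IsElementaryAbelian 2 E → Nat.card ↥E ≤ 2 ^ (n))) ∧
    (q % 4 = 3 → ((∃ E : Subgroup ↥(S : Subgroup (Matrix.GeneralLinearGroup (Fin n) F)), E.Normal ∧ Cfsg.IsElementaryAbelian 2 E ∧ 2 ^ ((n + 1) / 2) ≤ Nat.card ↥E) ∧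
      ∀ E : Subgroup ↥(S : Subgroup (Matrix.GeneralLinearGroup (Fin n) F)), E.Normal → Cfsg.IsElementaryAbelian 2 E → Nat.card ↥E ≤ 2 ^ ((n + 1) / 2))) := by
  rw [← Nat.card_eq_fintype_card] at hF
  subst hF
  have h1 : 1 < Nat.card F := Finite.one_lt_card
  have h2 := D.base₁ hodd
  refine ⟨fun h => ?_, fun h => ?_⟩
  · rw [eq_true (show 4 ∣ Nat.card F - 1 by omega)] at h2
    have h3 := h2.pow n hn
    rw [one_mul] at h3
    exact h3.fin hodd (val_one h1 h n) S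
  · obtain ⟨m, rfl | rfl⟩ := Nat.even_or_odd' n
    · have h3 := (D.base₂ h).pow m (by omega)
      rw [show (2 * m + 1) / 2 = 1 * m by omega]
      exact h3.fin hodd (val_three h m).1 S
    · rw [show (2 * m + 1 + 1) / 2 = 1 * m + 1 by omega]
      rcases Nat.eq_zero_or_pos m with rfl | hm
      · exact h2.fin hodd ((val_three h 0).2.trans (by simp [H20.El.gO])) S
      · exact (((D.base₂ h).pow m hm).prod h2).fin hodd
          ((val_three h m).2.trans (by rw [(val_three h m).1])) S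

end Cfsg.Agent.S2249
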