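import Cfsg.Statements.S2271
import Cfsg.Agent.H16.Basic

set_option autoImplicit false
open Cfsg

namespace Cfsg.Agent.S2271

open Equiv Equiv.Perm MulAction Finset

section
variable {Ω : Type*} [Fintype Ω] [DecidableEq Ω]

def N (b c h : Perm Ω) : ℕ := #{y | h (b y) = c (h y)}

theorem N_inv (b c h : Perm Ω) : N c b h⁻¹ = N b c h :=
  (card_equiv h fun y => by simp [symm_apply_eq, eq_comm (a := h (b y))]).symm

theorem N_mul {b s : Perm Ω} (c h : Perm Ω) (e : Commute s b) : N b c (h * s) = N b c h :=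
  card_equiv s fun y => by
    rw [mem_filter_univ, mem_filter_univ, ← show s (b y) = b (s y) from congrArg (· y) e.eq]; rfl

theorem cnt {G X : Type*} [Group G] [Fintype G] [MulAction G X] [DecidableEq X] {p q : X} (h : q ∈ orbit G p) :
    (orbit G p).ncard * #{g : G | g • p = q} = Fintype.card G := by
  obtain ⟨k, rfl⟩ := h
  rw [← Nat.card_eq_fintype_card, ← H16.card_orbit_mul_card_stabilizer p, Nat.card_coe_set_eq, ← Fintype.card_subtype,
    ← Nat.card_eq_fintype_card]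
  exact congrArg _ (Nat.card_congr ((Equiv.mulLeft k).subtypeEquiv fun g => by simp [mul_smul]).symm)

theorem avg (h4 : 4 ≤ Fintype.card Ω) (b c : Perm Ω) {k : ℕ} (h : ∀ g ∈ alternatingGroup Ω, N b c g = k) :
    Fintype.card Ω * (Fintype.card Ω - 1) * k = #b.supportᶜ * #c.supportᶜ * (Fintype.card Ω - 1) + #b.support * #c.support := by
  have t2 : IsMultiplyPretransitive (alternatingGroup Ω) Ω 2 :=
    haveI := alternatingGroup.isMultiplyPretransitive Ω
    isMultiplyPretransitive_of_le (n := Nat.card Ω - 2) (by simp; omega) (by simp)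
  haveI := isPretransitive_of_is_two_pretransitive (G := alternatingGroup Ω) (α := Ω)
  have a1 : ∀ y : Ω, orbit (alternatingGroup Ω) (y, y) = Set.diagonal Ω := fun y => Set.ext fun q =>
    ⟨by rintro ⟨g, rfl⟩; rfl, fun e => (exists_smul_eq (alternatingGroup Ω) y q.1).imp fun g d => Prod.ext d (d.trans e)⟩
  have a2 : ∀ y z : Ω, y ≠ z → orbit (alternatingGroup Ω) (y, z) = (Set.diagonal Ω)ᶜ := fun y z e => Set.ext fun q =>
    ⟨by rintro ⟨g, rfl⟩; exact (MulAction.injective g).ne e, fun d => (H16.exists_smul2 t2 e d).imp fun g d => Prod.ext d.1 d.2⟩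
  have a3 : (Set.diagonal Ω).ncard = Fintype.card Ω := by
    rw [← Set.range_diag, Set.ncard_range_of_injective Function.diag_injective, Nat.card_eq_fintype_card]
  have a4 : (Set.diagonal Ω)ᶜ.ncard = Fintype.card Ω * (Fintype.card Ω - 1) := by
    rw [Set.ncard_compl, a3, Nat.card_prod, Nat.card_eq_fintype_card, Nat.mul_sub_one]
  have a5 : ∀ y x, Fintype.card Ω * (Fintype.card Ω - 1) * #{g : alternatingGroup Ω | g • (y, b y) = (x, c x)} =
      Fintype.card (alternatingGroup Ω) * ((if y ∈ b.supportᶜ then 1 else 0) * (if x ∈ c.supportᶜ then 1 else 0) *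
        (Fintype.card Ω - 1) + (if y ∈ b.support then 1 else 0) * if x ∈ c.support then 1 else 0) := fun y x => by
    by_cases e : b y = y <;> by_cases d : c x = x
    · rw [e, d, mul_right_comm, ← a3, ← a1 y, cnt (a1 y ▸ rfl), a1, a3]; simp [e, d]
    · rw [card_eq_zero.2 (filter_eq_empty_iff.2 fun g _ f => d (by simp [e] at f; rw [← f.2, f.1]))]; simp [e, d]
    · rw [card_eq_zero.2 (filter_eq_empty_iff.2 fun g _ f => e (by
        simp [d] at f; exact MulAction.injective g (f.2.trans f.1.symm)))]; simp [e, d]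
    · rw [← a4, ← a2 y _ (Ne.symm e), cnt (a2 y _ (Ne.symm e) ▸ Ne.symm d)]; simp [e, d]
  have a6 : Fintype.card (alternatingGroup Ω) * k = ∑ y, ∑ x, #{g : alternatingGroup Ω | g • (y, b y) = (x, c x)} := by
    rw [← smul_eq_mul, ← card_univ, ← sum_const, sum_congr rfl fun (g : alternatingGroup Ω) _ => (h g g.2).symm]
    simp only [N, card_filter]
    rw [sum_comm]
    refine sum_congr rfl fun y _ => ?_
    rw [sum_comm]
    refine sum_congr rfl fun g _ => ?_
    rw [sum_eq_single (g.1 y) (fun x _ e => if_neg fun f => e (congrArg Prod.fst f).symm) (by simp)]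
    simp [Subgroup.smul_def]
  refine Nat.eq_of_mul_eq_mul_left (Fintype.card_pos (α := alternatingGroup Ω)) ?_
  rw [mul_left_comm, a6]
  simp only [mul_sum, a5]
  simp only [← mul_sum, sum_add_distrib, ← sum_mul, sum_ite_mem, univ_inter, sum_const, smul_eq_mul, mul_one]

theorem even_of {P : Perm Ω → Prop} {h s : Perm Ω} (h1 : P h) (h2 : P (h * s)) (hs : s.IsSwap) : ∃ g ∈ alternatingGroup Ω, P g := by
  rcases Int.units_eq_one_or (sign h) with e | e
  exacts [⟨h, e, h1⟩, ⟨h * s, by simp [e, hs.sign_eq], h2⟩]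

theorem big1 (h5 : 5 ≤ Fintype.card Ω) {b c : Perm Ω} (hb : b ≠ 1) (hc : c ≠ 1) (h : #b.supportᶜ ≤ #c.supportᶜ) :
    ∃ g ∈ alternatingGroup Ω, #b.supportᶜ + 1 ≤ N b c g := by
  obtain ⟨u, hu⟩ : ∃ u, b u ≠ u := not_forall.1 fun e => hb (Equiv.ext e)
  obtain ⟨v, hv⟩ : ∃ v, c v ≠ v := not_forall.1 fun e => hc (Equiv.ext e)
  obtain ⟨j⟩ := Function.Embedding.nonempty_of_card_le (α := ↑b.supportᶜ) (β := ↑c.supportᶜ) (by rwa [Fintype.card_coe, Fintype.card_coe])
  have a : ∀ {b : Perm Ω} {u : Ω}, b u ≠ u → ∀ (x : ↑b.supportᶜ) i, x.1 ≠ ![u, b u] i := fun {b u} e x i d => by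
    have := x.2
    fin_cases i <;> simp_all
  obtain ⟨g, hg⟩ := Perm.exists_extending_pair _ _ (Subtype.val_injective.sumElim (H16.inj2 hu.symm) (a hu))
    ((Subtype.val_injective.comp j.injective).sumElim (H16.inj2 hv.symm) fun x => a hv (j x))
  obtain ⟨x, h1, y, h2, h3, h4⟩ := exists_ne_map_eq_of_card_lt_of_maps_to (s := {u, b u}ᶜ) (t := univ)
    (f := fun x => decide (b x = x)) (by rw [card_compl, card_pair hu.symm]; simp; omega) fun _ _ => mem_univ _
  simp only [mem_compl, mem_insert, mem_singleton, not_or, decide_eq_decide] at h1 h2 h4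
  obtain ⟨g, d, d1, d2, d3⟩ := even_of (P := fun g => (∀ y, b y = y → c (g y) = g y) ∧ g u = v ∧ g (b u) = c v) (h := g)
    (s := swap x y) ⟨fun y e => by
      have := (j ⟨y, by simpa⟩).2
      rwa [show (j _).1 = _ from (hg (.inl _)).symm, mem_compl, notMem_support] at this, hg (.inr 0), hg (.inr 1)⟩ ⟨fun z e => by
      have := (j ⟨swap x y z, by rw [swap_apply_def]; split_ifs <;> simp_all⟩).2
      rwa [show (j _).1 = _ from (hg (.inl _)).symm, mem_compl, notMem_support] at this, by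
      rw [Perm.mul_apply, swap_apply_of_ne_of_ne (Ne.symm h1.1) (Ne.symm h2.1)]; exact hg (.inr 0), by
      rw [Perm.mul_apply, swap_apply_of_ne_of_ne (Ne.symm h1.2) (Ne.symm h2.2)]; exact hg (.inr 1)⟩ ⟨x, y, h3, rfl⟩
  refine ⟨g, d, (card_insert_of_notMem (a := u) (by simpa)).ge.trans (card_le_card fun z e => ?_)⟩
  rcases mem_insert.1 e with rfl | e
  · simp [d2, d3]
  · simp [show b z = z by simpa using e, d1 z (by simpa using e)]

theorem arcs {b : Perm Ω} (h : 4 ≤ #b.support) : ∃ u v, u ≠ b u ∧ u ≠ v ∧ u ≠ b v ∧ b u ≠ v ∧ v ≠ b v := by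
  obtain ⟨u, hu⟩ := card_pos.1 (show 0 < #b.support by omega)
  obtain ⟨v, h1, h2⟩ := exists_mem_notMem_of_card_lt_card (s := {u, b u, b⁻¹ u}) (card_le_three.trans_lt h)
  simp only [mem_insert, mem_singleton, not_or, mem_support] at *
  exact ⟨u, v, Ne.symm hu, Ne.symm h2.1, fun e => h2.2.2 (by simp [e]), Ne.symm h2.2.1, Ne.symm h1⟩

theorem big2 (h5 : 5 ≤ Fintype.card Ω) {b c : Perm Ω} (hb : 4 ≤ #b.support) (hc : 4 ≤ #c.support) :
    ∃ g ∈ alternatingGroup Ω, 2 ≤ N b c g := by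
  have key : ∀ {b c : Perm Ω}, 4 ≤ #b.support → 4 ≤ #c.support → (∀ u, b (b u) = u) → ∃ g ∈ alternatingGroup Ω, 2 ≤ N b c g :=
    fun {b c} hb hc e => by
    obtain ⟨u, u', a1, a2, a3, a4, a5⟩ := arcs hb
    obtain ⟨v, v', b1, b2, b3, b4, b5⟩ := arcs hc
    obtain ⟨g, c1, c2, c3, c4⟩ := H16.exists_smul4 (Perm.isMultiplyPretransitive Ω 4) a1 a2 a3 a4 (b.injective.ne a2) a5
      b1 b2 b3 b4 (c.injective.ne b2) b5
    have d : 2 ≤ N b c g := one_lt_card.2 ⟨u, by simp_all, u', by simp_all, a2⟩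
    exact even_of d (by rwa [N_mul c g (mul_inv_eq_iff_eq_mul.1 (by rw [← swap_apply_apply, e, swap_comm])).symm]) ⟨_, _, a1, rfl⟩
  by_cases e : ∀ u, b (b u) = u
  · exact key hb hc e
  by_cases d : ∀ u, c (c u) = u
  · obtain ⟨g, a1, a2⟩ := key hc hb d
    exact ⟨g⁻¹, inv_mem a1, by rwa [N_inv]⟩
  obtain ⟨u, a1⟩ := not_forall.1 e
  obtain ⟨v, a2⟩ := not_forall.1 d
  have a3 : u ≠ b u := fun f => a1 (by rw [← f, ← f])
  have a4 : v ≠ c v := fun f => a2 (by rw [← f, ← f])
  haveI := alternatingGroup.isMultiplyPretransitive Ω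
  obtain ⟨g, c1, c2, c3⟩ := H16.exists_smul3 (isMultiplyPretransitive_of_le (G := alternatingGroup Ω) (n := Nat.card Ω - 2)
    (by simp; omega) (by simp)) a3 (Ne.symm a1) (b.injective.ne a3) a4 (Ne.symm a2) (c.injective.ne a4)
  exact ⟨g, g.2, one_lt_card.2 ⟨u, by simp_all [Subgroup.smul_def], b u, by simp_all [Subgroup.smul_def], a3⟩⟩

theorem main (h5 : 5 ≤ Fintype.card Ω) {b c : Perm Ω} (hb : b ≠ 1) (hc : c ≠ 1) {k : ℕ} :
    ¬ ∀ g ∈ alternatingGroup Ω, N b c g = k := fun h => by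
  wlog e : #b.supportᶜ ≤ #c.supportᶜ generalizing b c
  · exact this hc hb (fun g hg => by rw [← N_inv, h _ (inv_mem hg)]) (by omega)
  have a := avg (by omega) b c h
  have a1 := card_add_card_compl b.support
  have a2 := card_add_card_compl c.support
  obtain ⟨g, d1, d2⟩ := big1 h5 hb hc e
  rw [h g d1] at d2
  by_cases f : #b.supportᶜ = 0 ∧ #c.supportᶜ ≤ 1
  · obtain ⟨g, d1, d2⟩ := big2 h5 (b := b) (c := c) (by omega) (by omega)
    rw [h g d1] at d2
    rw [f.1] at a
    obtain ⟨m, hm⟩ := Nat.exists_eq_add_of_le' (show 1 ≤ Fintype.card Ω by omega)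
    rw [hm] at a a1 a2 h5
    have := Nat.mul_le_mul (show #b.support ≤ m + 1 by omega) (show #c.support ≤ m + 1 by omega)
    have := Nat.mul_le_mul_left ((m + 1) * m) d2
    simp at a
    nlinarith
  obtain ⟨m, hm⟩ := Nat.exists_eq_add_of_le' (show 2 ≤ Fintype.card Ω by omega)
  rw [hm] at a a1 a2 h5
  have b1 : #b.support * #c.support ≤ (m + 1) * (m + 1) := by
    by_cases i : #b.supportᶜ = 0
    · have := Nat.mul_le_mul (show #b.support ≤ m + 2 by omega) (show #c.support ≤ m by omega)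
      nlinarith
    · exact Nat.mul_le_mul (by omega) (by omega)
  have b2 := Nat.mul_le_mul_right (m + 1) (Nat.mul_le_mul_left #b.supportᶜ (show #c.supportᶜ ≤ m + 2 by omega))
  have b3 := Nat.mul_le_mul_left ((m + 2) * (m + 1)) d2
  simp at a
  nlinarith
end

/-- Let n ≥ 5 and let a, b be non-identity permutations in the symmetric group S_n. Then the number of fixed points is not constant on the set of products a′b′ with a′ conjugate to a and b′ conjugate to b under the alternating group: there are even permutations g₁, h₁, g₂, h₂ such that (g₁ a g₁⁻¹)(h₁ b h₁⁻¹) and (g₂ a g₂⁻¹)(h₂ b h₂⁻¹) have different numbers of fixed points. -/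
theorem result (n : ℕ) (hn : 5 ≤ n) (a b : Equiv.Perm (Fin n)) (ha : a ≠ 1) (hb : b ≠ 1) :
    ∃ g₁ h₁ g₂ h₂ : Equiv.Perm (Fin n), g₁ ∈ alternatingGroup (Fin n) ∧ h₁ ∈ alternatingGroup (Fin n) ∧ g₂ ∈ alternatingGroup (Fin n) ∧ h₂ ∈ alternatingGroup (Fin n) ∧
      Nat.card (Function.fixedPoints ⇑(g₁ * a * g₁⁻¹ * (h₁ * b * h₁⁻¹))) ≠
        Nat.card (Function.fixedPoints ⇑(g₂ * a * g₂⁻¹ * (h₂ * b * h₂⁻¹))) := by
  by_contra! h
  refine main (by simpa) hb (inv_ne_one.2 ha) (k := Nat.card (Function.fixedPoints ⇑(1 * a * 1⁻¹ * (1 * b * 1⁻¹)))) fun g hg => ?_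
  rw [h 1 1 1 g (one_mem _) (one_mem _) (one_mem _) hg, N, ← Fintype.card_subtype, ← Nat.card_eq_fintype_card]
  exact Nat.card_congr (g.subtypeEquiv fun y => by simp [Function.IsFixedPt, eq_symm_apply])

end Cfsg.Agent.S2271
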