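import Cfsg.Statements.S2272


set_option autoImplicit false
open Cfsg

open Matrix

namespace Cfsg.Agent.S2272

section
variable {F : Type*} [Field F] {n : Type*} [Fintype n] [DecidableEq n]

theorem tv (x φ : n → F) (h : φ ⬝ᵥ x = 0) (t : F) :
    ∃ g : SpecialLinearGroup n F, ∀ N B : Matrix n n F,
      trace (N * (g.1 * B * (g⁻¹).1)) = trace (N * B) + t * (φ ⬝ᵥ (B *ᵥ (N *ᵥ x)) - φ ⬝ᵥ (N *ᵥ (B *ᵥ x)))
        - t ^ 2 * ((φ ⬝ᵥ (B *ᵥ x)) * (φ ⬝ᵥ (N *ᵥ x))) := by
  have hd : ∀ t : F, det (1 + vecMulVec (t • x) φ) = 1 := by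
    intro t
    rw [vecMulVec_eq Unit, det_one_add_replicateCol_mul_replicateRow]
    simp [h]
  let g : SpecialLinearGroup n F := ⟨_, hd t⟩
  let g' : SpecialLinearGroup n F := ⟨_, hd (-t)⟩
  have hg : g⁻¹ = g' := by
    apply inv_eq_of_mul_eq_one_right
    apply Subtype.ext
    show (1 + vecMulVec (t • x) φ) * (1 + vecMulVec (-t • x) φ) = 1
    simp only [add_mul, mul_add, one_mul, mul_one, vecMulVec_mul_vecMulVec, dotProduct_smul, h]
    ext i j
    simp [vecMulVec_apply]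
  refine ⟨g, fun N B => ?_⟩
  rw [hg]
  simp only [g, g', add_mul, mul_add, one_mul, mul_one, trace_add, vecMulVec_mul, mul_vecMulVec,
    trace_vecMulVec, vecMulVec_mulVec, op_smul_eq_smul, mulVec_smul, smul_dotProduct,
    smul_eq_mul, ← mulVec_mulVec]
  rw [dotProduct_comm (N *ᵥ x) (φ ᵥ* B), ← dotProduct_mulVec, ← dotProduct_mulVec,
    dotProduct_comm (N *ᵥ x) φ, dotProduct_comm (N *ᵥ B *ᵥ x) φ]
  ring

theorem ex_fun (W : Submodule F (n → F)) (y : n → F) (hy : y ∉ W) :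
    ∃ φ : n → F, φ ⬝ᵥ y = 1 ∧ ∀ w ∈ W, φ ⬝ᵥ w = 0 := by
  obtain ⟨f, hf, hf'⟩ := Submodule.exists_dual_map_eq_bot_of_notMem hy inferInstance
  have e : ∀ v, (fun i => f (Pi.single i 1)) ⬝ᵥ v = f v := by
    intro v
    rw [LinearMap.pi_apply_eq_sum_univ f v, dotProduct]
    refine Finset.sum_congr rfl fun i _ => ?_
    rw [smul_eq_mul, mul_comm]
    congr 2
    ext j
    simp [Pi.single_apply, eq_comm]
  refine ⟨(f y)⁻¹ • fun i => f (Pi.single i 1), by rw [smul_dotProduct, e]; simp [hf], ?_⟩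
  intro w hw
  have : f w ∈ W.map f := Submodule.mem_map_of_mem hw
  rw [hf'] at this
  rw [smul_dotProduct, e, (Submodule.mem_bot F).1 this, smul_zero]

theorem ex_out (hn : 3 ≤ Fintype.card n) (x y : n → F) : ∃ z, z ∉ Submodule.span F {x, y} := by
  classical
  by_contra h
  push Not at h
  have h1 : Submodule.span F {x, y} = ⊤ := eq_top_iff.2 fun z _ => h z
  have h2 := finrank_span_finset_le_card (R := F) ({x, y} : Finset (n → F))
  have h3 : ({x, y} : Finset (n → F)).card ≤ 2 := Finset.card_le_two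
  rw [Set.finrank, Finset.coe_pair, h1, finrank_top, Module.finrank_fintype_fun_eq_card] at h2
  omega

theorem pairs {u u' x y : n → F} (h : LinearIndependent F ![u, u'])
    (h' : LinearIndependent F ![x, y]) :
    ∃ (g : SpecialLinearGroup n F) (s t : F), s ≠ 0 ∧ t ≠ 0 ∧ g.1 *ᵥ u = s • x ∧ g.1 *ᵥ u' = t • y := by
  have hu : u ≠ 0 := h.ne_zero 0
  have hu' : u' ≠ 0 := h.ne_zero 1
  have hx : x ≠ 0 := h'.ne_zero 0
  have hy : y ≠ 0 := h'.ne_zero 1
  have ne : ∀ {u u' : n → F} (h : LinearIndependent F ![u, u']) (hu : u ≠ 0) (hu' : u' ≠ 0),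
      Projectivization.mk F u hu ≠ Projectivization.mk F u' hu' := by
    intro u u' h hu hu' e
    obtain ⟨a, ha⟩ := (Projectivization.mk_eq_mk_iff' F _ _ hu hu').1 e
    have := (LinearIndependent.pair_iff.1 h 1 (-a) (by rw [← ha]; simp)).1
    exact one_ne_zero this
  obtain ⟨g, h1, h2⟩ := MulAction.is_two_pretransitive_iff.1
    (inferInstance : MulAction.IsMultiplyPretransitive (SpecialLinearGroup n F)
      (Projectivization F (n → F)) 2) (ne h hu hu') (ne h' hx hy)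
  rw [Projectivization.smul_mk, Projectivization.mk_eq_mk_iff] at h1 h2
  obtain ⟨s, hs⟩ := h1
  obtain ⟨t, ht⟩ := h2
  exact ⟨g, s, t, s.ne_zero, t.ne_zero, hs.symm, ht.symm⟩

theorem nz (hn : 3 ≤ Fintype.card n) (N B : Matrix n n F) (x u : n → F)
    (hx : LinearIndependent F ![x, N *ᵥ x]) (hu : LinearIndependent F ![u, B *ᵥ u]) :
    ∃ g : SpecialLinearGroup n F, trace (N * (g.1 * B * (g⁻¹).1)) ≠ 0 := by
  by_contra hc
  push Not at hc
  obtain ⟨y, hy⟩ := ex_out hn x (N *ᵥ x)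
  have hx' := LinearIndependent.pair_iff.1 hx
  have hxy : LinearIndependent F ![x, y] := by
    have hx0 : x ≠ 0 := hx.ne_zero 0
    rw [LinearIndependent.pair_iff' hx0]
    rintro a rfl
    exact hy (Submodule.smul_mem _ _ (Submodule.subset_span (by simp)))
  obtain ⟨g, s, t, hs, ht, h1, h2⟩ := pairs hu hxy
  set B' := g.1 * B * (g⁻¹).1 with hB'
  have hBx : B' *ᵥ x = (s⁻¹ * t) • y := by
    have : (g⁻¹).1 *ᵥ x = s⁻¹ • u := by
      have h3 : x = s⁻¹ • (g.1 *ᵥ u) := by rw [h1, smul_smul, inv_mul_cancel₀ hs, one_smul]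
      rw [h3, mulVec_smul, mulVec_mulVec, ← Matrix.SpecialLinearGroup.coe_mul, inv_mul_cancel]
      simp
    rw [hB', ← mulVec_mulVec, ← mulVec_mulVec, this, mulVec_smul, mulVec_smul, h2, smul_smul]
  have key : ∀ φ : n → F, φ ⬝ᵥ x = 0 →
      φ ⬝ᵥ (B' *ᵥ (N *ᵥ x)) - φ ⬝ᵥ (N *ᵥ (B' *ᵥ x)) = (s⁻¹ * t * φ ⬝ᵥ y) * (φ ⬝ᵥ (N *ᵥ x)) := by
    intro φ hφ
    obtain ⟨k, hk⟩ := tv x φ hφ 1
    have h3 := hk N B'
    have h4 := hc (k * g)
    have h5 : (k * g).1 * B * ((k * g)⁻¹).1 = k.1 * B' * (k⁻¹).1 := by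
      rw [_root_.mul_inv_rev, hB']
      simp only [Matrix.SpecialLinearGroup.coe_mul, mul_assoc]
    rw [h5, h3, hc g] at h4
    rw [hBx, dotProduct_smul, smul_eq_mul] at h4
    rw [hBx]
    linear_combination h4
  obtain ⟨φ, hφ, hφ'⟩ := ex_fun _ _ hy
  have hN : N *ᵥ x ∉ Submodule.span F {x, y} := by
    intro hm
    obtain ⟨a, b, hab⟩ := Submodule.mem_span_pair.1 hm
    by_cases hb : b = 0
    · have := (hx' a (-1) (by rw [← hab, hb]; simp)).2
      simp at this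
    · apply hy
      refine Submodule.mem_span_pair.2 ⟨-(b⁻¹ * a), b⁻¹, ?_⟩
      rw [← hab, smul_add, smul_smul, smul_smul, inv_mul_cancel₀ hb]
      module
  obtain ⟨ψ, hψ, hψ'⟩ := ex_fun _ _ hN
  have a1 : φ ⬝ᵥ x = 0 := hφ' x (Submodule.subset_span (by simp))
  have a2 : φ ⬝ᵥ (N *ᵥ x) = 0 := hφ' _ (Submodule.subset_span (by simp))
  have a3 : ψ ⬝ᵥ x = 0 := hψ' x (Submodule.subset_span (by simp))
  have a4 : ψ ⬝ᵥ y = 0 := hψ' y (Submodule.subset_span (by simp))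
  have k1 := key φ a1
  have k2 := key ψ a3
  have k3 := key (φ + ψ) (by rw [add_dotProduct, a1, a3, add_zero])
  simp only [add_dotProduct, a2, a4, hφ, hψ] at k1 k2 k3
  have : s⁻¹ * t = 0 := by linear_combination k1 + k2 - k3
  simp [hs, ht] at this

theorem both (hn : 3 ≤ Fintype.card n) (A B : Matrix n n F) (v u : n → F)
    (hv : LinearIndependent F ![v, A *ᵥ v]) (hu : LinearIndependent F ![u, B *ᵥ u]) (c : F) :
    ∃ g : SpecialLinearGroup n F, trace (A * (g.1 * B * (g⁻¹).1)) = c := by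
  obtain ⟨y, hy⟩ := ex_out hn v (A *ᵥ v)
  obtain ⟨φ, hφ, hφ'⟩ := ex_fun _ _ hy
  have a1 : φ ⬝ᵥ v = 0 := hφ' v (Submodule.subset_span (by simp))
  have a2 : φ ⬝ᵥ (A *ᵥ v) = 0 := hφ' _ (Submodule.subset_span (by simp))
  set N : Matrix n n F := A * vecMulVec v φ - vecMulVec v φ * A with hN
  have hNy : N *ᵥ y = A *ᵥ v - (φ ⬝ᵥ (A *ᵥ y)) • v := by
    rw [hN, sub_mulVec, ← mulVec_mulVec, ← mulVec_mulVec, vecMulVec_mulVec, vecMulVec_mulVec, hφ]
    simp
  have hyN : LinearIndependent F ![y, N *ᵥ y] := by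
    have hy0 : y ≠ 0 := by rintro rfl; exact hy (zero_mem _)
    rw [LinearIndependent.pair_iff' hy0, hNy]
    intro a ha
    have h1 := congrArg (φ ⬝ᵥ ·) ha
    simp only [dotProduct_smul, dotProduct_sub, hφ, a1, a2, smul_eq_mul] at h1
    have h2 : a = 0 := by linear_combination h1
    rw [h2, zero_smul] at ha
    have := (LinearIndependent.pair_iff.1 hv (-(φ ⬝ᵥ (A *ᵥ y))) 1 (by rw [ha]; module)).2
    exact one_ne_zero this
  obtain ⟨g, hg⟩ := nz hn N B y u hyN hu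
  set B' := g.1 * B * (g⁻¹).1 with hB'
  have e : trace (N * B') = φ ⬝ᵥ (B' *ᵥ (A *ᵥ v)) - φ ⬝ᵥ (A *ᵥ (B' *ᵥ v)) := by
    rw [hN, sub_mul, trace_sub, mul_vecMulVec, vecMulVec_mul, vecMulVec_mul, vecMulVec_mul,
      trace_vecMulVec, trace_vecMulVec, dotProduct_comm, ← dotProduct_mulVec, dotProduct_comm v,
      ← dotProduct_mulVec, ← dotProduct_mulVec]
  obtain ⟨k, hk⟩ := tv v φ a1 ((c - trace (A * B')) / trace (N * B'))
  refine ⟨k * g, ?_⟩
  have h5 : (k * g).1 * B * ((k * g)⁻¹).1 = k.1 * B' * (k⁻¹).1 := by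
    rw [_root_.mul_inv_rev, hB']
    simp only [Matrix.SpecialLinearGroup.coe_mul, mul_assoc]
  rw [h5, hk, ← e, a2]
  field_simp
  ring

theorem ex_ind (A : SpecialLinearGroup n F) (hA : A ∉ Subgroup.center (SpecialLinearGroup n F)) :
    ∃ v, LinearIndependent F ![v, A.1 *ᵥ v] := by
  by_contra h
  push Not at h
  obtain ⟨a, ha⟩ := (Matrix.toLin' A.1).exists_eq_smul_id_of_forall_notLinearIndependent
    (fun v => by simpa using h v)
  apply hA
  rw [Subgroup.mem_center_iff]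
  intro g
  have : A.1 = a • (1 : Matrix n n F) := by
    apply Matrix.toLin'.injective
    rw [ha, map_smul, Matrix.toLin'_one]; rfl
  apply Subtype.ext
  simp only [Matrix.SpecialLinearGroup.coe_mul, this, mul_smul_comm, smul_mul_assoc, mul_one, one_mul]
end

/-- Let F be a finite field and d ≥ 3, and let a, b be non-identity elements of PSL_d(F). Then the product of the conjugacy classes of a and b is not a single conjugacy class: there are conjugates a′ of a and b′ of b such that a′b′ is not conjugate to ab. -/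
theorem result {F : Type*} [Field F] [Fintype F] (d : ℕ) (hd : 3 ≤ d)
    (a b : Matrix.ProjectiveSpecialLinearGroup (Fin d) F) (ha : a ≠ 1) (hb : b ≠ 1) :
    ∃ g h : Matrix.ProjectiveSpecialLinearGroup (Fin d) F, ¬ IsConj (a * b) (g * a * g⁻¹ * (h * b * h⁻¹)) := by
  obtain ⟨A, rfl⟩ := QuotientGroup.mk_surjective a
  obtain ⟨B, rfl⟩ := QuotientGroup.mk_surjective b
  obtain ⟨v, hv⟩ := ex_ind A fun h => ha ((QuotientGroup.eq_one_iff _).2 h)
  obtain ⟨u, hu⟩ := ex_ind B fun h => hb ((QuotientGroup.eq_one_iff _).2 h)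
  obtain ⟨g, hg⟩ := both (by simpa using hd) A.1 B.1 v u hv hu 0
  obtain ⟨h, hh⟩ := both (by simpa using hd) A.1 B.1 v u hv hu 1
  by_contra hc
  push Not at hc
  have h1 := (hc 1 g).symm.trans (hc 1 h)
  rw [isConj_iff] at h1
  obtain ⟨c, h1⟩ := h1
  obtain ⟨C, rfl⟩ := QuotientGroup.mk_surjective c
  have h2 : ((C * (A * (g * B * g⁻¹)) * C⁻¹ : SpecialLinearGroup (Fin d) F) :
      ProjectiveSpecialLinearGroup (Fin d) F) = (A * (h * B * h⁻¹) : SpecialLinearGroup (Fin d) F) := by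
    simpa using h1
  rw [QuotientGroup.eq, Matrix.SpecialLinearGroup.mem_center_iff] at h2
  obtain ⟨r, -, hr⟩ := h2
  have h3 : (A * (h * B * h⁻¹)).1 = (C * (A * (g * B * g⁻¹)) * C⁻¹).1 * scalar (Fin d) r := by
    rw [hr, ← Matrix.SpecialLinearGroup.coe_mul, mul_inv_cancel_left]
  have h4 := congrArg trace h3
  simp only [Matrix.SpecialLinearGroup.coe_mul] at h4
  rw [hh, scalar_apply, ← smul_one_eq_diagonal, mul_smul_comm, mul_one, trace_smul, trace_mul_cycle,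
    ← Matrix.SpecialLinearGroup.coe_mul, inv_mul_cancel, Matrix.SpecialLinearGroup.coe_one, one_mul, hg] at h4
  simp at h4

end Cfsg.Agent.S2272
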