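import Cfsg.Statements.S2277
import Cfsg.Agent.H18.BG1
import Cfsg.Agent.H21.MinAct

set_option autoImplicit false
open Cfsg

namespace Cfsg.Agent.S2277
open H18 Subgroup
open H1 (Cop cop_of_pi cop_of_pi')
open scoped commutatorElement
def Fx {V : Type*} [Group V] (a : MulAut V) : Subgroup V := a.toMonoidHom.eqLocus (MonoidHom.id V)
theorem mem_Fx {V : Type*} [Group V] {a : MulAut V} {v : V} : v ∈ Fx a ↔ a v = v := Iff.rfl
theorem card_Fx {V : Type*} [Group V] (a y : MulAut V) : Nat.card (Fx (y * a * y⁻¹)) = Nat.card (Fx a) := by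
  have : Fx (y * a * y⁻¹) = (Fx a).map y.toMonoidHom := by
    ext v
    simp only [mem_Fx, mem_map, MulAut.mul_apply, MulEquiv.coe_toMonoidHom]
    constructor
    · intro h
      exact ⟨y⁻¹ v, by apply y.injective; simpa using h, by simp⟩
    · rintro ⟨w, hw, rfl⟩
      simp [hw]
  rw [this]; exact card_map_of_injective y.injective
theorem core {V : Type*} [Group V] [Finite V] (hV : Abel (⊤ : Subgroup V)) {p : ℕ} (hp : p.Prime) (hp3 : 3 ≤ p)
    {A : Subgroup (MulAut V)} (hA : PiGrp {p} A) (h1 : A ≠ ⊥)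
    (hirr : ∀ W : Subgroup V, (∀ a ∈ A, ∀ w ∈ W, a w ∈ W) → W = ⊥ ∨ W = ⊤) {E : Set (MulAut V)}
    (hE : closure E = A) (h : ∀ e ∈ E, Nat.card V ≤ Nat.card (Fx e) * Nat.card (Fx e)) : False := by
  have hEA : ∀ e ∈ E, e ∈ A := fun e he => hE ▸ subset_closure he
  have hZ : ∀ z ∈ C(A), z ≠ 1 → Fx z = ⊥ := fun z hz hz1 => by
    refine (hirr _ fun a ha w hw => ?_).resolve_right fun e => hz1 (MulEquiv.ext fun v => mem_Fx.1 (e ▸ mem_top v))
    rw [mem_Fx] at hw ⊢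
    rw [← MulAut.mul_apply, ← mem_C.1 hz a ha, MulAut.mul_apply, hw]
  have hV1 : 1 < Nat.card V := by
    obtain ⟨a, -, ha⟩ := exists_mem_ne_one' h1
    by_contra hc
    haveI : Subsingleton V := (Finite.card_le_one_iff_subsingleton).1 (not_lt.1 hc)
    exact ha (MulEquiv.ext fun v => Subsingleton.elim _ _)
  have hne : ∀ e ∈ E, Fx e ≠ ⊥ := fun e he e1 => by
    have := h e he
    rw [e1, card_bot] at this; omega
  have hna : ¬ A ≤ C(A) := fun ha => h1 (by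
    rw [← hE, eq_bot_iff, closure_le]
    intro e he
    by_contra e1
    exact hne e he (hZ e (ha (hEA e he)) e1))
  obtain ⟨Y, -, ⟨hY, hY1⟩, hmin⟩ := exists_minimal_sub (fun Y => Y ⊴ A ∧ ¬ Y ≤ C(A)) (A := A) ⟨Nml.rfl, hna⟩
  have hYA : ⁅Y, A⁆ ≤ C(A) := by
    by_contra hc
    exact (hA.nil.comm_lt hY.le le_rfl hY.norm (fun e => hY1 (e ▸ bot_le))).ne
      (hmin _ ⟨hY.comm Nml.rfl, hc⟩ (comm_le_left hY.norm))
  obtain ⟨y, hy, e, he, hye⟩ : ∃ y ∈ Y, ∃ e ∈ E, ⁅y, e⁆ ≠ 1 := by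
    by_contra hc
    push Not at hc
    refine hY1 (cent_symm ?_)
    rw [← hE, closure_le]
    exact fun e he => mem_C.2 fun y hy => commutatorElement_eq_one_iff_mul_comm.1 (hc y hy e he)
  have hz : ⁅y, e⁆ ∈ C(A) := hYA (commutator_mem_commutator hy (hEA e he))
  have hzA : ⁅y, e⁆ ∈ A := comm_le_of_le hY.le le_rfl (commutator_mem_commutator hy (hEA e he))
  have e1 : y * e * y⁻¹ = ⁅y, e⁆ * e := by simp only [commutatorElement_def]; group
  set z := ⁅y, e⁆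
  have hzy : y * z = z * y := mem_C.1 hz y (hY.le hy)
  have hze : e * z = z * e := mem_C.1 hz e (hEA e he)
  have e2 : y * (z * e) * y⁻¹ = z * (z * e) := by rw [← mul_assoc y, hzy, ← e1]; group
  have hzz : z * z ≠ 1 := fun e => by
    have h2 : orderOf z = 2 := orderOf_eq_prime (by rw [sq, e]) hye
    have := (hA.elt hzA).eq_of_dvd Nat.prime_two (h2 ▸ dvd_rfl)
    omega
  have F1 := hZ z hz hye
  have F2 := hZ (z * z) (mul_mem hz hz) hzz
  have c1 : Nat.card (Fx (z * e)) = Nat.card (Fx e) := by rw [← e1, card_Fx]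
  have c2 : Nat.card (Fx (z * (z * e))) = Nat.card (Fx e) := by rw [← e2, card_Fx, c1]
  have d1 : Fx e ⊓ Fx (z * e) = ⊥ := eq_bot_iff.2 fun v hv => F1 ▸ mem_Fx.2 (by
    have := mem_Fx.1 hv.2
    rwa [MulAut.mul_apply, mem_Fx.1 hv.1] at this)
  have hc : Fx e ≤ C(Fx (z * e)) := cent_mono hV le_top le_top
  have ht : Fx e ⊔ Fx (z * e) = ⊤ := eq_of_card_ge le_top (by
    rw [card_sup_of_cent hc d1, c1, card_top]; exact h e he)
  refine hne e he (eq_bot_of_card_eq _ (c2 ▸ card_eq_one.2 (eq_bot_iff.2 fun v hv => ?_)))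
  obtain ⟨a, ha, b, hb, rfl⟩ := (mem_sup_of_cent hc).1 (ht ▸ mem_top v)
  have ha' := mem_Fx.1 ha
  have hb' := mem_Fx.1 hb
  have hv' := mem_Fx.1 hv
  rw [map_mul, MulAut.mul_apply V z (z * e) b, hb', MulAut.mul_apply, MulAut.mul_apply, ha'] at hv'
  have m1 : a⁻¹ * z (z a) ∈ Fx e := mul_mem (inv_mem ha) (mem_Fx.2 (by
    rw [← MulAut.mul_apply, hze, MulAut.mul_apply, ← MulAut.mul_apply V e, hze, MulAut.mul_apply, ha']))
  have m2 : b * (z b)⁻¹ ∈ Fx (z * e) := mul_mem hb (inv_mem (mem_Fx.2 (by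
    rw [← MulAut.mul_apply, mul_assoc, hze, MulAut.mul_apply, hb'])))
  have m3 : a⁻¹ * z (z a) = b * (z b)⁻¹ := by
    rw [inv_mul_eq_iff_eq_mul, ← mul_assoc, ← hv']; group
  have m4 : b * (z b)⁻¹ ∈ Fx e ⊓ Fx (z * e) := ⟨m3 ▸ m1, m2⟩
  rw [d1, mem_bot] at m4
  have hb1 : b ∈ Fx z := mem_Fx.2 (mul_inv_eq_one.1 m4).symm
  have ha1 : a ∈ Fx (z * z) := mem_Fx.2 (inv_mul_eq_one.1 (m3.trans m4)).symm
  rw [F1, mem_bot] at hb1
  rw [F2, mem_bot] at ha1
  rw [ha1, hb1, mul_one]; exact one_mem _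

/-- Let p ≥ 3 be prime and G a finite group with a Sylow p-subgroup P and a normal p-complement N (N normal, of order prime to p, with NP = G). Suppose P is generated by a subset C and also by a subset D, and that ⟨x c x⁻¹, d⟩ is a p-group for all x ∈ N, c ∈ C, d ∈ D. Then P centralizes N, so that G = N × P. -/
theorem result {G : Type*} [Group G] [Finite G] (p : ℕ) [Fact p.Prime] (hp3 : 3 ≤ p) (P : Sylow p G)
    (N : Subgroup G) [N.Normal] (hN : (Nat.card N).Coprime p) (hNP : N ⊔ (P : Subgroup G) = ⊤)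
    (C D : Set G) (hC : Subgroup.closure C = (P : Subgroup G)) (hD : Subgroup.closure D = (P : Subgroup G))
    (h : ∀ x ∈ N, ∀ c ∈ C, ∀ d ∈ D, IsPGroup p ↥(Subgroup.closure ({x * c * x⁻¹, d} : Set G))) :
    ⁅(P : Subgroup G), N⁆ = ⊥ := by
  have hp : p.Prime := Fact.out
  have hP := (hall_sylow_top hp P).pi
  set S := (P : Subgroup G)
  have hN' : PiGrp {p}ᶜ N := (piNat_compl_iff_coprime hp).2 hN
  have hcop : Cop S N := cop_of_pi norm_of_normal hP hN' (Or.inl hP.solv)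
  by_contra hne
  obtain ⟨q, hq, Q, hQ, hSQ, hnc⟩ : ∃ q, q.Prime ∧ ∃ Q, Hall {q} Q N ∧ S ≤ N(Q) ∧ ¬ Q ≤ C(S) := by
    by_contra hc
    push Not at hc
    refine hne (comm_eq_bot_iff.2 (cent_symm (le_of_sylows fun q hq _ => ?_)))
    obtain ⟨Q, hQ, hSQ⟩ := hcop.exists_sylow hq
    exact ⟨Q, hQ, hc q hq Q hQ hSQ⟩
  have hqp : q ≠ p := by
    rintro rfl
    exact hnc ((hQ.eq_bot_of_compl hN').le.trans bot_le)
  obtain ⟨U, hU, hM⟩ := H21.exists_minAct hQ.pi hSQ le_rfl le_N (hP.p'_of_ne hqp.symm) hnc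
  have hUN : U ≤ N := hU.trans hQ.le
  have hCS : ∀ c ∈ C, c ∈ S := fun c hc => hC ▸ subset_closure hc
  have hDS : ∀ c ∈ D, c ∈ S := fun c hc => hD ▸ subset_closure hc
  have fac : ∀ c ∈ C, ∀ d ∈ D, ∀ x ∈ U, ∃ n ∈ U, ∃ m ∈ U, n ∈ C1(d) ∧ m ∈ C1(c) ∧ x = n * m := by
    intro c hc d hd x hx
    have hH : Hall {p} S (U ⊔ S) := hall_of_sup' hP (hN'.of_le hUN) (Or.inl hM.norm)
    obtain ⟨g, hg, hle⟩ := sylow_le_cj hp hH (piGrp_of_isPGroup hp (h x (hUN hx) c hc d hd)) ((closure_le _).2 (by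
      rintro y (rfl | rfl)
      · exact mul_mem (mul_mem (mem_sup_left hx) (mem_sup_right (hCS c hc))) (inv_mem (mem_sup_left hx))
      · exact mem_sup_right (hDS _ hd)))
    obtain ⟨s, hs, n, hn, rfl⟩ := (mem_sup_of_norm hM.norm).1 (sup_comm U S ▸ hg)
    rw [cj_mul, cj_le_iff, cj_eq_self_of_mem (inv_mem hs)] at hle
    have key : ∀ a ∈ S, ∀ m ∈ U, m * a * m⁻¹ ∈ S → m ∈ C1(a) := fun a ha m hm hma => by
      have : m * a * m⁻¹ * a⁻¹ ∈ S ⊓ N := ⟨S.mul_mem hma (inv_mem ha), by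
        have := N.mul_mem (hUN hm) (conj_mem_N (norm_of_normal (H := ⊤) (mem_top a)) (inv_mem (hUN hm)))
        simpa [mul_assoc] using this⟩
      rw [hcop.inf_eq_bot, mem_bot, mul_inv_eq_one, mul_inv_eq_iff_eq_mul] at this
      exact mem_C1.2 this
    have k1 := key d (hDS d hd) n hn (hle (conj_mem_cj (subset_closure (by simp))))
    have k2 := key c (hCS c hc) (n * x) (mul_mem hn hx) (by
      have := hle (conj_mem_cj (x := x * c * x⁻¹) (subset_closure (by simp)))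
      simpa [mul_assoc] using this)
    exact ⟨n⁻¹, inv_mem hn, n * x, mul_mem hn hx, inv_mem k1, k2, by group⟩
  have nU : U ≤ N(Φ(U)) := phi_nml.norm
  have nS : S ≤ N(Φ(U)) := norm_phi hM.norm
  have nV : S ⫽ Φ(U) ≤ N(U ⫽ Φ(U)) := mim_norm hM.norm
  have hab : Abel (U ⫽ Φ(U)) := (hM.pi.elem_quo_phi hq).abel
  set V := U ⫽ Φ(U)
  let f : G → MulAut V := fun a => mfun (actf V) (cs Φ(U) a)
  have hcl : ∀ E : Set G, closure E = S → closure (f '' E) = mim (actf V) (S ⫽ Φ(U)) := fun E hE => by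
    have h1 : E ⊆ S := hE ▸ subset_closure
    rw [← hE, mim_closure (h1.trans nS), mim_closure, Set.image_image]
    rintro _ ⟨a, ha, rfl⟩
    exact nV (mfun_mem_mim (h1 ha))
  have hco : ∀ E : Set G, closure E = S → ¬ ∀ e ∈ E, Nat.card V ≤ Nat.card (Fx (f e)) * Nat.card (Fx (f e)) := by
    intro E hE hh
    refine core (V := V) (fun x _ => mem_C.2 fun y _ => Subtype.ext (comm_of_cent hab y.2 x.2)) hp hp3
      (A := mim (actf V) (S ⫽ Φ(U))) hP.mim.mim ?_ ?_ (hcl E hE) ?_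
    · rw [Ne, mim_eq_bot_iff nV, mker_actf]
      intro hc
      exact hM.nt (cent_symm (H1.cent_of_comm_le_phi hM.norm hM.cop.cop ((comm_le_iff_quo nU nS).2 (cent_symm hc))))
    · intro W hW
      have h1 : S ⫽ Φ(U) ≤ N(W.map V.subtype) := norm_map_subtype_of_actf nV fun a ha => hW _ (mfun_mem_mim ha)
      rcases hM.irr (U := qpre Φ(U) (W.map V.subtype)) le_qpre (qpre_le_of_le phi_nml (map_subtype_le _))
        (norm_mpre nS h1) with e | e
      · left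
        have := congrArg (· ⫽ Φ(U)) e
        simp only [quo_qpre, quo_self] at this
        exact (map_eq_bot_iff_of_injective _ V.subtype_injective).1 this
      · right
        have := congrArg (· ⫽ Φ(U)) e
        simp only [quo_qpre] at this
        refine eq_top_iff.2 fun v _ => ?_
        obtain ⟨w, hw, e'⟩ := this.ge v.2
        have e'' : w = v := Subtype.ext e'
        exact e'' ▸ hw
    · rintro _ ⟨e, he, rfl⟩
      exact hh e he
  have hF : ∀ a ∈ S, ∀ m (hm : m ∈ U), m ∈ C1(a) → (⟨cs Φ(U) m, mfun_mem_mim hm⟩ : V) ∈ Fx (f a) := by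
    intro a ha m hm hc
    refine mem_Fx.2 (Subtype.ext ?_)
    rw [actf_apply (nV (mfun_mem_mim ha)), ← mfun_conj (nS ha) (nU hm), ← mem_C1.1 hc]
    simp
  have hb : ∀ c ∈ C, ∀ d ∈ D, Nat.card V ≤ Nat.card (Fx (f d)) * Nat.card (Fx (f c)) := by
    intro c hc d hd
    rw [← Nat.card_prod]
    refine Nat.card_le_card_of_surjective (fun x => (x.1 : V) * (x.2 : V)) fun v => ?_
    obtain ⟨x, hx, e⟩ := (mem_quo nU).1 v.2
    obtain ⟨n, hn, m, hm, h1, h2, rfl⟩ := fac c hc d hd x hx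
    refine ⟨(⟨_, hF d (hDS d hd) n hn h1⟩, ⟨_, hF c (hCS c hc) m hm h2⟩), Subtype.ext ?_⟩
    rw [← e, mfun_mul (nU hn) (nU hm)]; rfl
  have h1 := hco C hC
  have h2 := hco D hD
  push Not at h1 h2
  obtain ⟨c, hc, h1⟩ := h1
  obtain ⟨d, hd, h2⟩ := h2
  have h3 := hb c hc d hd
  nlinarith

end Cfsg.Agent.S2277
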