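import Cfsg.Statements.S2291
import Cfsg.Agent.H11.SUP3
import Cfsg.Agent.S2412

set_option autoImplicit false
open Cfsg

namespace Cfsg.Agent.S2291

/-- Let F be a field with q² elements and n ≥ 3 with (n, q) ≠ (3, 2). Then the simple group PSU_n(q) (for the standard Hermitian form) has a presentation with 2 generators and at most 80 relations. -/
theorem result {F : Type*} [Field F] [Fintype F] (q n : ℕ) (hF : Fintype.card F = q ^ 2) (hn : 3 ≤ n) (h32 : ¬ (n = 3 ∧ q = 2)) :
    ∃ rels : Finset (FreeGroup (Fin 2)), rels.card ≤ 80 ∧ Nonempty (PresentedGroup (↑rels : Set (FreeGroup (Fin 2))) ≃* Cfsg.PSU n F q) := by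
  have hq : IsPrimePow q := by
    have h := Fintype.isPrimePow_card_of_field (α := F)
    rw [hF] at h
    exact (isPrimePow_pow_iff two_ne_zero).1 h
  have := H11.isCyclic_center_SU hF (n := n) (by omega)
  have key : ∀ {κ : Type} {g : κ → Cfsg.SU n F q}, H11.PrG g 39 → Subgroup.closure (Set.range g) = ⊤ →
      ∃ rels : Finset (FreeGroup (Fin 2)), rels.card ≤ 80 ∧ Nonempty (PresentedGroup (↑rels : Set (FreeGroup (Fin 2))) ≃* Cfsg.PSU n F q) := fun h1 h2 => by
    obtain ⟨g, h3, h4⟩ := (h1.quot_center h2).two (H11.closure_range_comp h2 _ (QuotientGroup.mk'_surjective _))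
      (Cfsg.Agent.S2412.result hq hF n hn fun a b => h32 ⟨a, b⟩)
    exact (h3.mono (by omega)).iso' h4
  rcases hn.eq_or_lt with rfl | h
  · obtain ⟨g, h1, h2⟩ := H11.exists_pres_SU3 hF fun e => h32 ⟨rfl, e⟩
    exact key (h1.mono (by omega)) h2
  · obtain ⟨g, h1, h2⟩ := H11.exists_pres_SU hF h
    exact key (h1.mono (by split_ifs <;> omega)) h2

end Cfsg.Agent.S2291
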