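import Cfsg.Statements.S2343
import Cfsg.Agent.H24.LSsl
import Cfsg.Agent.H13.ReeAut
import Cfsg.Agent.H13.ReeInv

set_option autoImplicit false
open Cfsg

namespace Cfsg.Agent.S2343

open H24 H13.Ree Module

/-- For the Ree group ²G₂(q), q = 3^(2m+1) with m ≥ 1 (realised over the field with q elements), every irreducible complex representation of degree at least 2 has degree at least q² − q + 1. -/
theorem result {K : Type*} [Field K] [Fintype K] (m : ℕ) (hm : 1 ≤ m) (hK : Fintype.card K = 3 ^ (2 * m + 1)) :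
    (∀ (k : ℕ) (ρ : Representation ℂ (Cfsg.Lie.twistedG2 K (3 ^ m)) (Fin k → ℂ)), ρ.IsIrreducible → 2 ≤ k → (3 ^ (2 * m + 1)) ^ 2 - 3 ^ (2 * m + 1) + 1 ≤ k) := by
  intro k ρ hρ hk
  classical
  have : H13.Ree.IsRee K m := ⟨hK⟩
  rw [← hK]
  have hs := isSimpleGroup (K := K) hm
  have hinj : ∀ g : R K m, ρ g = 1 → g = 1 := fun g hg => by
    rcases hs.eq_bot_or_eq_top_of_normal (MonoidHom.ker ρ) (MonoidHom.normal_ker _) with h | h
    · exact (Subgroup.eq_bot_iff_forall _).1 h g hg
    · obtain ⟨x, hx⟩ := exists_ne_one_of_two_le ρ (by simpa using hk)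
      exact absurd ((Subgroup.eq_top_iff' _).1 h x) hx
  have hi : ∀ g : R K m, Function.Injective (ρ g) := fun g =>
    Function.LeftInverse.injective (g := ρ g⁻¹) fun v => by
      rw [← End.mul_apply, ← map_mul, inv_mul_cancel, map_one, End.one_apply]
  obtain ⟨ψ, hψ⟩ := exists_addChar_complex K
  let E : Pairing (K × K) (K × K) ℂ := Pairing.ofBilin ψ (fun a b => a.1 * b.1 + a.2 * b.2)
    (fun _ _ _ => by simp only [Prod.fst_add, Prod.snd_add]; ring)
    (fun _ _ _ => by simp only [Prod.fst_add, Prod.snd_add]; ring)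
    (fun a h => Prod.ext
      (eq_zero_of_forall_addChar_mul hψ fun c => by simpa [mul_comm] using h (c, 0))
      (eq_zero_of_forall_addChar_mul hψ fun c => by simpa [mul_comm] using h (0, c)))
    (fun a h => Prod.ext
      (eq_zero_of_forall_addChar_mul hψ fun c => by simpa using h (c, 0))
      (eq_zero_of_forall_addChar_mul hψ fun c => by simpa using h (0, c)))
  have hE : ∀ a b, E.e a b = ψ (a.1 * b.1 + a.2 * b.2) := fun _ _ => rfl
  let π : Act (K × K) ℂ (Fin k → ℂ) := Act.ofRep ρ (fun a => u m 0 a.1 a.2) fun a b => by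
    simp [u_mul_u]
  have hπ : ∀ a, π.π a = ρ (u m 0 a.1 a.2) := fun _ => rfl
  have hA : (Fintype.card (K × K) : ℂ) ≠ 0 := Nat.cast_ne_zero.2 Fintype.card_ne_zero
  obtain ⟨⟨y, z⟩, h1, h2⟩ := π.exists_W_ne_bot E hA (a := (0, 1)) fun h =>
    u_ne_one (Or.inr (Or.inr one_ne_zero)) (hinj _ h)
  have hz : z ≠ 0 := by
    rintro rfl
    simp [hE] at h1
  have h3 : ∀ b : K × K, b.2 ≠ 0 → 1 ≤ finrank ℂ (π.W E b) := fun ⟨y', z'⟩ hz' => by
    obtain ⟨s, hs⟩ := ph_mul_sq_surj (m := m) (z' / z)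
    have hs0 : s ≠ 0 := by
      rintro rfl
      simp [eq_comm, hz, show z' ≠ 0 from hz'] at hs
    have h4 : π.W E (ph m s * s * y, z') ≠ ⊥ :=
      Act.ne_bot_of_map (hi (h m (Units.mk0 s hs0))⁻¹) (fun v hv => π.map_W E
        (τ := fun a => (ph m s * s * a.1, ph m s * s ^ 2 * a.2)) (fun a => by
          rw [hπ, hπ, ← map_mul, ← map_mul]
          congr 1
          rw [mul_inv_eq_iff_eq_mul, mul_assoc, eq_inv_mul_iff_mul_eq, h_mul_u]
          simp) (fun a => by
          simp only [hE] at hs ⊢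
          rw [hs]
          congr 1
          field_simp) hv) h2
    exact one_le_finrank_of_ne_bot (Act.ne_bot_of_map (hi (u m ((ph m s * s * y - y') / z') 0 0))
      (fun v hv => π.map_W E (τ := fun a => (a.1, a.2 - a.1 * ((ph m s * s * y - y') / z'))) (fun a => by
          rw [hπ, hπ, ← map_mul, ← map_mul, u_mul_u, u_mul_u]
          simp) (fun a => by
          simp only [hE]
          congr 1
          have : z' ≠ 0 := hz'
          field_simp
          ring) hv) h4)
  have h4 := Finset.sum_filter_add_sum_filter_not Finset.univ (fun b : K × K => b.2 ≠ 0)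
    fun b => finrank ℂ (π.W E b)
  rw [π.sum_finrank_W E hA, finrank_fintype_fun_eq_card, Fintype.card_fin] at h4
  have h5 := Finset.card_nsmul_le_sum (Finset.univ.filter fun b : K × K => b.2 ≠ 0) _ 1
    fun b hb => h3 b (Finset.mem_filter.1 hb).2
  have h6 : (Finset.univ.filter fun b : K × K => b.2 ≠ 0) = Finset.univ ×ˢ Finset.univ.erase 0 := by
    ext b; simp
  rw [h6, Finset.card_product, Finset.card_erase_of_mem (Finset.mem_univ _), Finset.card_univ, ← h6,
    smul_eq_mul, mul_one, Nat.mul_sub_one, ← sq] at h5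
  by_contra hlt
  have h7 : ∑ b with ¬ b.2 ≠ 0, finrank ℂ (π.W E b) = 0 := by omega
  have h8 : k = Fintype.card K ^ 2 - Fintype.card K := by omega
  have hj : LinearMap.trace ℂ _ (ρ (j K m)) = 0 := by
    rw [π.trace_eq_sum_fixed E hA (fun b => (b.1, -b.2)) fun b v hv => π.map_W E
      (τ := fun a => (a.1, -a.2)) (fun a => by rw [hπ, hπ, ← map_mul, ← map_mul, j_mul_u]; simp)
      (fun a => by simp [hE]) hv]
    refine Finset.sum_eq_zero fun b hb => ?_
    have hb2 : b.2 = 0 := H13.Ree.eq_zero_of_neg_eq (m := m) (congrArg Prod.snd (Finset.mem_filter.1 hb).2)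
    have h9 := Submodule.finrank_eq_zero.1 (Finset.sum_eq_zero_iff.1 h7 b (by simp [hb2]))
    have : π.P E b = 0 := LinearMap.ext fun v => by
      have := π.P_mem E b v
      rwa [h9, Submodule.mem_bot] at this
    rw [this, mul_zero, map_zero]
  have hw : LinearMap.trace ℂ _ (ρ (w K m)) = 0 := by
    rw [← c3_j, map_mul, LinearMap.trace_mul_comm, ← map_mul, inv_mul_cancel_left, hj]
  have hjw : LinearMap.trace ℂ _ (ρ (j K m) * ρ (w K m)) = 0 := by
    rw [← map_mul, ← c3_w, map_mul, LinearMap.trace_mul_comm, ← map_mul, inv_mul_cancel_left, hw]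
  have e1 : ρ (j K m) * ρ (j K m) = 1 := by rw [← map_mul, j_mul_j, map_one]
  have e2 : ρ (w K m) * ρ (w K m) = 1 := by rw [← map_mul, w_mul_w, map_one]
  have e3 : ρ (w K m) * ρ (j K m) = ρ (j K m) * ρ (w K m) := by rw [← map_mul, ← j_mul_w, map_mul]
  have i1 : ∀ J : End ℂ (Fin k → ℂ), J * J = 1 → IsIdempotentElem ((2⁻¹ : ℂ) • (1 + J)) := fun J hJ => by
    simp only [IsIdempotentElem, smul_mul_smul_comm, mul_add, add_mul, hJ, mul_one, one_mul]
    module
  have i2 := ((i1 _ e1).mul_of_commute (b := (2⁻¹ : ℂ) • (1 + ρ (w K m))) (by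
    simp only [Commute, SemiconjBy, smul_mul_smul_comm, mul_add, add_mul, mul_one, one_mul, e3]
    module) (i1 _ e2))
  have h9 := (LinearMap.IsIdempotentElem.isProj_range _ i2).trace
  simp only [smul_mul_smul_comm, mul_add, add_mul, mul_one, one_mul, map_smul, map_add, hj, hw, hjw,
    LinearMap.trace_one, finrank_fintype_fun_eq_card, Fintype.card_fin, add_zero, smul_eq_mul] at h9
  obtain ⟨r, hr⟩ : ∃ r : ℕ, (k : ℂ) = 4 * r := ⟨_, by rw [← h9]; ring⟩
  have h10 : k = 4 * r := by exact_mod_cast hr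
  have h11 := card_mod_eight (K := K) (m := m)
  obtain ⟨c, hc⟩ : ∃ c, Fintype.card K = 8 * c + 3 := ⟨Fintype.card K / 8, by omega⟩
  have : (8 * c + 3) ^ 2 = 4 * (16 * c ^ 2 + 12 * c + 2) + 1 := by ring
  rw [hc] at h8
  omega

end Cfsg.Agent.S2343
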