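import Cfsg.Statements.S2405
import Cfsg.Agent.H23.G2x

set_option autoImplicit false
open Cfsg

namespace Cfsg.Agent.S2405

open Cfsg.Lie H12 H23.G2

theorem bG2 : ChkB (tab chevG2) 5 2 0 1 [(1, 0, 0), (6, 1, 1), (11, 6, 6), (10, 11, 11), (5, 10, 10), (8, 4, 4), (9, 8, 8), (7, 9, 9)] := by
  rw [tabG2_eq]; decide +kernel
theorem bB2 : ChkB (tab chevB2) 0 4 5 1 [(1, 5, 5), (2, 1, 1), (3, 7, 7), (0, 3, 3), (4, 0, 0)] := by
  rw [tabB2_eq]; decide +kernel
theorem bD4 : ChkB (tab chevD4) 2 14 13 1 [(15, 13, 13), (21, 15, 15), (10, 21, 21), (1, 18, 18), (9, 1, 1), (5, 9, 9), (22, 5, 5), (14, 22, 22), (3, 13, 1), (12, 3, 3), (16, 12, 12), (20, 16, 16), (11, 20, 20)] := by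
  rw [tabD4_eq]; decide +kernel
theorem bF4 : ChkB (tab chevF4) 21 33 24 1 [(25, 24, 24), (31, 25, 25), (43, 31, 31), (30, 43, 43), (42, 30, 30), (23, 42, 42), (22, 23, 23), (19, 11, 11), (9, 19, 19), (12, 9, 9), (20, 12, 12), (14, 20, 20), (36, 14, 14), (28, 36, 36), (38, 28, 28), (35, 38, 38), (27, 35, 35), (33, 27, 27)] := by
  rw [tabF4_eq]; decide +kernel
theorem bE6 : ChkB (tab chevE6) 7 37 42 1 [(56, 42, 42), (11, 56, 56), (23, 11, 11), (28, 23, 23), (8, 28, 28), (36, 8, 8), (37, 36, 36), (43, 42, 39), (63, 43, 43), (35, 63, 63), (34, 35, 35), (32, 34, 34), (19, 32, 32), (12, 19, 19), (24, 12, 12), (29, 24, 24), (15, 29, 29), (22, 42, 19), (27, 22, 22), (6, 27, 27), (20, 6, 6), (13, 20, 20), (25, 13, 13), (49, 25, 25), (44, 49, 49), (65, 44, 44), (51, 65, 65), (58, 51, 51), (46, 58, 58)] := by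
  rw [tabE6_eq]; decide +kernel
theorem bE7 : ChkB (tab chevE7) 10 66 78 1 [(43, 78, 78), (49, 43, 43), (18, 49, 49), (37, 18, 18), (12, 37, 37), (21, 12, 12), (41, 21, 21), (30, 41, 41), (47, 30, 30), (86, 69, 69), (97, 86, 86), (80, 97, 97), (74, 80, 80), (102, 74, 74), (62, 102, 102), (61, 62, 62), (59, 61, 61), (56, 59, 59), (39, 56, 56), (28, 39, 39), (45, 28, 28), (51, 45, 45), (23, 51, 51), (63, 23, 23), (64, 63, 63), (66, 64, 64), (79, 78, 69), (73, 79, 79), (93, 73, 73), (27, 93, 93), (44, 27, 27), (50, 44, 44), (20, 50, 50), (40, 20, 20), (29, 40, 40), (46, 29, 29), (52, 46, 46), (32, 52, 52)] := by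
  rw [tabE7_eq]; decide +kernel
theorem bE8 : ChkB (tab chevE8) 26 126 141 1 [(93, 141, 141), (100, 93, 93), (57, 100, 100), (82, 57, 57), (41, 82, 82), (27, 41, 41), (42, 27, 27), (28, 42, 42), (44, 28, 28), (31, 44, 44), (50, 31, 31), (64, 50, 50), (91, 64, 64), (75, 91, 91), (98, 75, 75), (151, 130, 130), (167, 151, 151), (144, 167, 167), (137, 144, 144), (177, 137, 137), (150, 177, 177), (166, 150, 150), (143, 166, 166), (136, 143, 143), (173, 136, 136), (119, 173, 173), (118, 119, 119), (116, 118, 118), (113, 116, 116), (109, 113, 113), (88, 109, 109), (72, 88, 88), (95, 72, 72), (102, 95, 95), (62, 102, 102), (89, 62, 62), (73, 89, 89), (96, 73, 73), (103, 96, 96), (66, 103, 103), (120, 66, 66), (121, 120, 120), (123, 121, 121), (126, 123, 123), (142, 141, 130), (135, 142, 142), (162, 135, 135), (71, 162, 162), (94, 71, 71), (101, 94, 94), (59, 101, 101), (85, 59, 59), (47, 85, 85), (60, 47, 47), (86, 60, 60), (49, 86, 86), (63, 49, 49),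 (90, 63, 63), (74, 90, 90), (97, 74, 74), (104, 97, 97), (77, 104, 104)] := by
  rw [tabE8_eq]; decide +kernel
theorem cD4 : ChkC (tab chevD4) 5 19 14 10 [(18, 14, 14), (1, 18, 18), (9, 1, 1), (5, 9, 9), (19, 14, 18)]
    [(8, 10, 10), (2, 8, 8), (13, 2, 2), (11, 14, 8), (7, 11, 11), (3, 7, 7), (12, 3, 3)] := by
  rw [tabD4_eq]; decide +kernel
theorem cF4 : ChkC (tab chevF4) 17 46 43 9 [(30, 43, 43), (42, 30, 30), (23, 42, 42), (22, 23, 23), (16, 22, 22), (4, 16, 16), (17, 4, 4), (46, 43, 30)]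
    [(5, 17, 17), (24, 5, 5), (25, 24, 24), (12, 9, 9), (20, 12, 12), (14, 20, 20), (36, 14, 14), (28, 36, 36), (38, 28, 28), (35, 38, 38), (27, 35, 35), (33, 27, 27)] := by
  rw [tabF4_eq]; decide +kernel
theorem cE6 : ChkC (tab chevE6) 3 63 28 28 [(8, 28, 28), (36, 8, 8), (37, 36, 36), (39, 37, 37), (3, 28, 8), (29, 28, 39), (15, 29, 29), (60, 15, 15), (48, 60, 60), (43, 48, 48), (63, 43, 43)]
    [(52, 39, 39), (59, 52, 52), (47, 59, 59), (42, 47, 47), (56, 42, 42), (35, 63, 63), (34, 35, 35), (32, 34, 34), (13, 28, 15), (25, 13, 13), (49, 25, 25), (44, 49, 49), (65, 44, 44), (51, 65, 65), (58, 51, 51), (46, 58, 58)] := by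
  rw [tabE6_eq]; decide +kernel
theorem cE7 : ChkC (tab chevE7) 0 104 12 12 [(21, 12, 12), (41, 21, 21), (30, 41, 41), (47, 30, 30), (82, 47, 47), (76, 82, 82), (107, 76, 76), (88, 107, 107), (113, 88, 88), (104, 113, 113), (0, 12, 21)]
    [(84, 104, 104), (95, 84, 84), (78, 95, 95), (52, 12, 107), (32, 52, 52), (98, 32, 32), (81, 98, 98), (75, 81, 81), (105, 75, 75), (85, 105, 105), (96, 85, 85), (79, 96, 96), (73, 79, 79), (93, 73, 73), (23, 12, 75), (63, 23, 23), (64, 63, 63), (66, 64, 64), (69, 66, 66), (86, 69, 69), (97, 86, 86), (80, 97, 97), (74, 80, 80), (102, 74, 74), (62, 102, 102), (61, 62, 62), (59, 61, 61), (56, 59, 59)] := by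
  rw [tabE7_eq]; decide +kernel
theorem cE8 : ChkC (tab chevE8) 3 220 60 11 [(86, 60, 60), (25, 60, 86), (19, 25, 25), (11, 19, 19), (32, 11, 11), (51, 32, 32), (65, 51, 51), (92, 65, 65), (76, 92, 92), (140, 76, 76), (183, 140, 140), (159, 183, 183), (201, 159, 159), (216, 201, 201), (222, 216, 216), (230, 222, 222), (214, 230, 230), (220, 214, 214), (3, 60, 19)]
    [(49, 86, 86), (63, 49, 49), (90, 63, 63), (74, 90, 90), (97, 74, 74), (104, 97, 97), (77, 104, 104), (168, 77, 77), (145, 168, 168), (138, 145, 145), (180, 138, 138), (154, 180, 180), (192, 154, 154), (179, 192, 192), (153, 179, 179), (190, 153, 153), (176, 190, 190), (149, 176, 176), (165, 149, 149), (142, 165, 165), (135, 142, 142), (162, 135, 135), (50, 60, 104), (64, 50, 50), (91, 64, 64), (75, 91, 91), (98, 75, 75), (146, 98, 98), (139, 146, 146), (182, 139, 139), (157, 182, 182), (198, 157, 157), (212, 198, 198), (197, 212, 212), (211, 197, 197), (195, 211, 211), (208, 195,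 195), (189, 208, 208), (175, 189, 189), (148, 175, 175), (164, 148, 148), (141, 164, 164), (120, 60, 180), (121, 120, 120), (123, 121, 121), (126, 123, 123), (130, 126, 126), (151, 130, 130), (167, 151, 151), (144, 167, 167), (137, 144, 144), (177, 137, 137), (150, 177, 177), (166, 150, 150), (143, 166, 166), (136, 143, 143), (173, 136, 136), (119, 173, 173), (118, 119, 119), (116, 118, 118), (113, 116, 116), (109, 113, 113)] := by
  rw [tabE8_eq]; decide +kernel

/-- Each Chevalley group of type G₂, B₂, D₄, F₄, E₆, E₇ or E₈ over a finite field is generated by two of its elements (types B₂ and G₂ over the field with two elements, where the group is not simple, excepted). -/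
theorem result {F : Type*} [Field F] [Finite F] (D : Cfsg.Lie.ChevalleyDatum) (hD : D ∈ [Cfsg.Lie.chevG2, Cfsg.Lie.chevB2, Cfsg.Lie.chevD4, Cfsg.Lie.chevF4, Cfsg.Lie.chevE6, Cfsg.Lie.chevE7, Cfsg.Lie.chevE8])
    (hF : D ∈ [Cfsg.Lie.chevB2, Cfsg.Lie.chevG2] → ∃ x : F, x ≠ 0 ∧ x ≠ 1) :
    ∃ a b : ↥(D.group F), Subgroup.closure ({a, b} : Set ↥(D.group F)) = ⊤ := by
  by_cases h : ∃ x : F, x ≠ 0 ∧ x ≠ 1
  · simp only [List.mem_cons, List.not_mem_nil, or_false] at hD
    rcases hD with rfl | rfl | rfl | rfl | rfl | rfl | rfl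
    exacts [genB r3_gr grS_T h bG2, genB r3_gr grS_T h bB2, genB r3_gr grS_T h bD4, genB r3_gr grS_T h bF4, genB r3_gr grS_T h bE6,
      genB r3_gr grS_T h bE7, genB r3_gr grS_T h bE8]
  · have h' : ∀ x : F, x = 0 ∨ x = 1 := fun x => by by_contra! c; exact h ⟨x, c⟩
    simp only [List.mem_cons, List.not_mem_nil, or_false] at hD hF
    rcases hD with rfl | rfl | rfl | rfl | rfl | rfl | rfl
    exacts [(h (hF (.inr rfl))).elim, (h (hF (.inl rfl))).elim, genC grS_T h' cD4, genC grS_T h' cF4, genC grS_T h' cE6,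
      genC grS_T h' cE7, genC grS_T h' cE8]

end Cfsg.Agent.S2405
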