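import Cfsg.Statements.S2458
import Cfsg.Agent.H13.ReeTh2
import Cfsg.Agent.S2343

set_option autoImplicit false
open Cfsg

namespace Cfsg.Agent.S2458

open H13 H13.Ree H5 Subgroup in
theorem main {K : Type*} [Field K] [Fintype K] {m : ℕ} [hK : H13.Ree.IsRee K m] (hm : 1 ≤ m) {x g : R K m}
    (h2 : 2 < orderOf x) (h3 : ¬ 3 ∣ orderOf x) (hg : g ≠ 1) : Cov x g := by
  have hx : Rs x := ⟨two_lt_orderOf.1 h2, h3⟩
  have h27 := le_card (K := K) hm
  have est : ∀ {g : R K m}, Nat.card (centralizer {g}) ≤ 3 * Fintype.card K → Cov x g := fun {g} hg => by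
    refine cov_of_est (d := Fintype.card K ^ 2 - Fintype.card K + 1) (fun χ hχ => ?_) ?_
    · obtain ⟨n, hn, e⟩ := χ.2.exists_apply_one
      have h1 : n ≠ 1 := by
        rintro rfl
        have := χ.2.commutator_le_charKer_iff.2 (by simpa using e)
        rw [commutator_eq_top hm, top_le_iff, χ.2.charKer_eq_top_iff] at this
        exact hχ this
      obtain ⟨k, ρ, hρ, e'⟩ := χ.2
      have hk : k = n := by
        rw [← e', Representation.char_one] at e
        simpa using e
      have := Cfsg.Agent.S2343.result m hm hK.card k ρ hρ (by omega)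
      rw [← hK.card, hk] at this
      rw [e, Complex.norm_natCast]
      exact_mod_cast this
    · refine (Nat.mul_le_mul (Nat.pow_le_pow_left (hx.card_le hm).1 2) hg).trans_lt ?_
      generalize Fintype.card K = q at *
      obtain ⟨n, rfl⟩ : ∃ n, q = n + 1 := ⟨q - 1, by omega⟩
      rw [show (n + 1) ^ 2 - (n + 1) = (n + 1) * n by rw [sq, mul_add_one, Nat.add_sub_cancel]]
      have : 12 * (n + 1) ≤ n * n := by nlinarith
      nlinarith [Nat.mul_le_mul_left ((n + 1) ^ 2) this]
  have hr : ¬ 3 ∣ orderOf g → Cov x g := fun h => by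
    by_cases e : g * g = 1
    · obtain ⟨k, rfl⟩ := exists_conj_j hg e
      exact (cov_j h2 h3).conj k
    · exact est ((Rs.card_le hm ⟨e, h⟩).1.trans (by omega))
  have hd := dvd_facts (K := K) (orderOf g)
  rcases order_cases g with h | ⟨k, _, ⟨a, ha, rfl⟩, rfl⟩ | h | h | h
  · obtain ⟨k, v, hv, rfl⟩ := exists_conj_U (k := 2) (orderOf_dvd_iff_pow_eq_one.1 h)
    obtain ⟨t, a, b, rfl⟩ := mem_U.1 hv
    refine Cov.conj ?_ k
    by_cases ht : t = 0
    · subst ht
      by_cases ha : a = 0
      · subst ha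
        exact cov_X hm hx (by rintro rfl; simp at hg)
      · exact cov_T hm hx ha b
    · exact est (card_cent_nine ht a b)
  · exact (est (card_cent_six ha)).conj k
  · exact hr (hd.1 h)
  · exact hr (hd.2.1 (h.trans half_dvd))
  · exact hr (hd.2.2.1 h).1

/-- A strong covering result in the direction of Thompson's conjecture (non-identity elements) for the small Ree groups: let q = 3^(2m+1) ≥ 27, K the field with q elements and ²G₂(q) the Ree group over K. For every element x of ²G₂(q) of order greater than 2 and not divisible by 3, every non-identity element of ²G₂(q) is a product of two conjugates of x. -/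
theorem result {K : Type*} [Field K] [Fintype K] (m : ℕ) (hm : 1 ≤ m) (hK : Fintype.card K = 3 ^ (2 * m + 1))
    (x : Cfsg.Lie.twistedG2 K (3 ^ m)) (hx2 : 2 < orderOf x) (hx3 : ¬ 3 ∣ orderOf x) : ∀ g : Cfsg.Lie.twistedG2 K (3 ^ m), g ≠ 1 → ∃ u v : Cfsg.Lie.twistedG2 K (3 ^ m), g = (u * x * u⁻¹) * (v * x * v⁻¹) := by
  haveI : H13.Ree.IsRee K m := ⟨hK⟩
  exact fun g hg => main hm hx2 hx3 hg

end Cfsg.Agent.S2458
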