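import Cfsg.Statements.S2469
import Cfsg.Agent.H11.Shp2

set_option autoImplicit false
open Cfsg

namespace Cfsg.Agent.S2469

/-- Adjacency of two odd primes in the prime graph of PSp(2n,q): let F be a finite field of characteristic p with q elements, n ≥ 2 with PSp(2n,F) simple, and let r ≠ s be odd primes different from p dividing the order of PSp(2n,F). Let k, l be the multiplicative orders of q modulo r and s, put η(m) = m for odd m and η(m) = m/2 for even m, and suppose η(k) ≤ η(l). Then PSp(2n,F) has NO element of order r·s if and only if η(k) + η(l) > n and l/k is not an odd integer. -/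
theorem result {F : Type*} [Field F] [Fintype F] (p : ℕ) [Fact p.Prime] [CharP F p] (n : ℕ) (hn : 2 ≤ n) (hsmall : n = 2 → 3 ≤ Fintype.card F)
    (r s : ℕ) (hr : r.Prime) (hs : s.Prime) (hr2 : r ≠ 2) (hs2 : s ≠ 2) (hrp : r ≠ p) (hsp : s ≠ p) (hrs : r ≠ s)
    (hrG : r ∣ Nat.card (Cfsg.PSp n F)) (hsG : s ∣ Nat.card (Cfsg.PSp n F))
    (k l ηk ηl : ℕ) (hk : k = orderOf ((Fintype.card F : ℕ) : ZMod r)) (hl : l = orderOf ((Fintype.card F : ℕ) : ZMod s))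
    (hηk : (Odd k ∧ ηk = k) ∨ (Even k ∧ 2 * ηk = k)) (hηl : (Odd l ∧ ηl = l) ∨ (Even l ∧ 2 * ηl = l)) (hkl : ηk ≤ ηl) :
    (r * s ∉ Set.range (orderOf : Cfsg.PSp n F → ℕ)) ↔ (n < ηk + ηl ∧ ¬ ∃ t : ℕ, Odd t ∧ l = k * t) := by
  have hp : p.Prime := Fact.out
  have pq : p ∣ Nat.card F := by exact_mod_cast H11.char_dvd_card p
  rw [← Nat.card_eq_fintype_card] at hk hl
  have k0 := hk ▸ H11.orderOf_card_ne_zero hr (H11.natCast_ne_zero_of_prime (F := F) p hr hrp)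
  have l0 := hl ▸ H11.orderOf_card_ne_zero hs (H11.natCast_ne_zero_of_prime (F := F) p hs hsp)
  obtain ⟨h1, h2, h3⟩ := H11.eta_spec hr hr2 Nat.card_pos hk k0 hηk
  obtain ⟨h4, h5, h6⟩ := H11.eta_spec hs hs2 Nat.card_pos hl l0 hηl
  have c := (Nat.coprime_primes hr hs).2 hrs
  rw [H11.psp_iff p (.inr ((hr.odd_of_ne_two hr2).mul (hs.odd_of_ne_two hs2))), not_iff_comm, not_and_or, not_lt, not_not]
  refine ⟨fun h => h.elim (fun h => ⟨{(ηk, decide (Odd k)), (ηl, decide (Odd l))}, 2 * (n - ηk - ηl), by simp [h1, h4], by simp [H11.sL]; omega,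
    fun m _ b _ => c.mul_dvd_of_dvd_of_dvd (h2.trans (b _ (by simp))) (h5.trans (b _ (by simp)))⟩) fun ⟨t, ht, e⟩ => ?_, fun h => ?_⟩
  · have := Fact.mk hs
    obtain ⟨L, c', a1, a2, -, a4⟩ := ((H11.psp_iff p (.inr (hs.odd_of_ne_two hs2))).1 (exists_prime_orderOf_dvd_card' s hsG)).exists_dvd
      Finite.one_lt_card pq
    obtain ⟨l', hl', b⟩ := a4 s hs hsp dvd_rfl
    have := H11.le_sL hl'
    have := Nat.le_of_dvd (a1 l' hl') (h6 l' b)
    refine ⟨{(ηl, decide (Odd l))}, 2 * (n - ηl), by simpa, by simp [H11.sL]; omega, fun m _ b _ => c.mul_dvd_of_dvd_of_dvd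
      (Dvd.dvd.trans ?_ (b _ (Multiset.mem_singleton_self _))) (h5.trans (b _ (by simp)))⟩
    rw [H11.dvd_tO_iff hr hr2 Nat.card_pos, ← hk]
    rcases hηl with ⟨o, rfl⟩ | ⟨o, e'⟩
    · rw [if_pos (by simpa)]; exact ⟨t, e⟩
    rw [if_neg (by simpa), e']
    refine ⟨⟨t, e⟩, ?_⟩
    rintro ⟨j, rfl⟩
    rw [e, mul_left_comm, mul_right_inj' k0] at e'; exact absurd ht (by simp [← e'])
  obtain ⟨L, c', a1, a2, -, a4⟩ := h.exists_dvd Finite.one_lt_card pq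
  obtain ⟨x, hx, b⟩ := a4 r hr hrp (dvd_mul_right _ _)
  obtain ⟨y, hy, b'⟩ := a4 s hs hsp (dvd_mul_left _ _)
  have := Nat.le_of_dvd (a1 x hx) (h3 x b)
  have := Nat.le_of_dvd (a1 y hy) (h6 y b')
  rcases eq_or_ne y x with rfl | ne
  swap; · have := H11.add_le_sL hx hy ne; omega
  refine or_iff_not_imp_left.2 fun g => ?_
  obtain ⟨j, e⟩ := h6 y b'
  have := H11.le_sL hy
  obtain rfl : j = 1 := by rcases j with _ | _ | j <;> nlinarith
  rw [H11.dvd_tO_iff hr hr2 Nat.card_pos, ← hk, e, mul_one] at b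
  rw [H11.dvd_tO_iff hs hs2 Nat.card_pos, ← hl, e, mul_one] at b'
  split_ifs at b b'
  · have := Nat.le_of_dvd h4 b'
    obtain ⟨o, rfl⟩ := hηl.resolve_right (by omega)
    obtain ⟨t, e⟩ := b
    exact ⟨t, (Nat.odd_mul.1 (e ▸ o)).2, e⟩
  obtain ⟨o, rfl⟩ := hηl.resolve_left (by rintro ⟨-, rfl⟩; exact b'.2 dvd_rfl)
  obtain ⟨t, e⟩ := b.1
  exact ⟨t, Nat.not_even_iff_odd.1 fun ⟨j, e'⟩ => b.2 ⟨j, by nlinarith⟩, e⟩

end Cfsg.Agent.S2469
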