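import Cfsg.Statements.S2470
import Cfsg.Agent.H11.Spec
import Cfsg.Agent.S2476

set_option autoImplicit false
open Cfsg

namespace Cfsg.Agent.S2470

/-- Adjacency of an odd prime and the characteristic in the prime graph of PSL(n,q): let F be a finite field of characteristic p with q elements, n ≥ 2 with PSL(n,F) simple, and let r ≠ p be an odd prime dividing the order of PSL(n,F), with k the multiplicative order of q modulo r. Then PSL(n,F) has NO element of order r·p if and only if either k > n − 2, or n = 3, r = 3 and 3 divides q − 1 exactly once. -/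
theorem result {F : Type*} [Field F] [Fintype F] (p : ℕ) [Fact p.Prime] [CharP F p] (n : ℕ) (hn : 2 ≤ n) (hsmall : n = 2 → 4 ≤ Fintype.card F)
    (r : ℕ) (hr : r.Prime) (hr2 : r ≠ 2) (hrp : r ≠ p) (hrG : r ∣ Nat.card (Matrix.ProjectiveSpecialLinearGroup (Fin n) F))
    (k : ℕ) (hk : k = orderOf ((Fintype.card F : ℕ) : ZMod r)) :
    (r * p ∉ Set.range (orderOf : Matrix.ProjectiveSpecialLinearGroup (Fin n) F → ℕ)) ↔
      (n - 2 < k ∨ (n = 3 ∧ r = 3 ∧ 3 ∣ Fintype.card F - 1 ∧ ¬ 9 ∣ Fintype.card F - 1)) := by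
  have h := H11.lu_psl (F := F) (ι := Fin n) p
  have hp : p.Prime := Fact.out
  obtain ⟨h1, h2⟩ := h.od_le hr hrp hrG
  have h3 := h.le_of_mul_char hr hrp
  have h4 := h.mul_char_mem (H11.char_dvd_card p) hr hrp h1
  simp only [Nat.card_eq_fintype_card, Int.cast_natCast, ← hk, Fintype.card_fin] at h1 h2 h3 h4
  by_cases h5 : n = 3 ∧ k = 1
  swap
  · refine ⟨fun h => .inl (by by_contra! h6; exact h (h4 (by omega) (by omega))), fun h h6 => ?_⟩
    have := h3 h6
    rcases h with h | ⟨rfl, rfl, h, -⟩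
    · omega
    · exact h5 ⟨rfl, by omega⟩
  obtain ⟨rfl, rfl⟩ := h5
  have h5 : r ∣ Fintype.card F - 1 := by
    simpa using (H11.od_dvd_iff (F := F) (N := r) (j := 1)).1 (by simp [H11.od, ← hk, -orderOf_dvd_iff_pow_eq_one])
  have h7 : p ∣ Fintype.card F := (CharP.cast_eq_zero_iff F p _).1 (by simp)
  have h6 : ∀ {m}, Nat.gcd 3 (Fintype.card F - 1) ∣ m → ¬ p ∣ m →
      ¬ r * p ∣ m / Nat.gcd 3 (Fintype.card F - 1) := fun h h' h1 =>
    h' ((dvd_mul_left _ _).trans (h1.trans (Nat.div_dvd_of_dvd h)))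
  obtain ⟨c, hc⟩ : ∃ c, Fintype.card F = c + 1 := ⟨_, (Nat.sub_add_cancel Fintype.card_pos).symm⟩
  rw [Cfsg.Agent.S2476.result p]
  simp only [hc, add_tsub_cancel_right, Set.mem_setOf_eq] at *
  have h8 : ∀ {m}, ¬ p ∣ m * (c + 1) - 1 ∨ m = 0 := fun {m} => or_iff_not_imp_right.2 fun h h' =>
    hp.not_dvd_one ((Nat.dvd_add_right h').1 (by
      rw [Nat.sub_add_cancel (Nat.mul_pos (Nat.pos_of_ne_zero h) c.succ_pos)]; exact h7.mul_left _))
  have a1 := h6 (m := (c + 1) ^ 2 + (c + 1) + 1) (by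
    rw [show (c + 1) ^ 2 + (c + 1) + 1 = 3 + c * (c + 3) by ring]
    exact (Nat.gcd_dvd_left _ _).add ((Nat.gcd_dvd_right _ _).mul_right _)) fun h =>
      hp.not_dvd_one ((Nat.dvd_add_right ((h7.pow two_ne_zero).add h7)).1 h)
  have a2 := h6 (m := (c + 1) ^ 2 - 1) (by
    rw [show (c + 1) ^ 2 = c * (c + 2) + 1 by ring]
    exact (Nat.gcd_dvd_right _ _).mul_right _) (by simpa [sq] using h8 (m := c + 1))
  have a3 : ¬ r * p ∣ c := mt (dvd_mul_left _ _).trans (by simpa using h8 (m := 1))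
  have a4 : ¬ (p = 2 ∧ r * p ∣ 4) := fun h => hr2 ((Nat.prime_dvd_prime_iff_eq hr Nat.prime_two).1
    (hr.dvd_of_dvd_pow (n := 2) ((dvd_mul_right _ _).trans h.2)))
  simp only [a1, a2, a3, a4, false_or, or_false, lt_irrefl, true_and, Nat.add_one_sub_one]
  rw [Nat.mul_div_assoc p (Nat.gcd_dvd_right _ _), mul_comm r, Nat.mul_dvd_mul_iff_left hp.pos,
    Nat.dvd_div_iff_mul_dvd (Nat.gcd_dvd_right _ _)]
  by_cases h : r = 3
  · subst h; simp [h5, Nat.gcd_eq_left h5]
  · simpa [h] using (((Nat.coprime_primes Nat.prime_three hr).2 (Ne.symm h)).coprime_dvd_left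
      (Nat.gcd_dvd_left _ _)).mul_dvd_of_dvd_of_dvd (Nat.gcd_dvd_right _ _) h5

end Cfsg.Agent.S2470
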