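import Cfsg.Statements.S2471
import Cfsg.Agent.S2475

set_option autoImplicit false
open Cfsg

namespace Cfsg.Agent.S2471

/-- In PSL(2,q) with q odd, the characteristic p is isolated from 2 in the prime graph: for F a finite field of odd characteristic p with at least 5 elements, PSL(2,F) has no element of order 2p. -/
theorem result {F : Type*} [Field F] [Fintype F] (p : ℕ) [Fact p.Prime] [CharP F p] (hp : p ≠ 2) (h5 : 5 ≤ Fintype.card F) (g : Matrix.ProjectiveSpecialLinearGroup (Fin 2) F) :
    orderOf g ≠ 2 * p := by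
  intro h
  have hp' : p.Prime := Fact.out
  obtain ⟨k, hk⟩ : p ∣ Fintype.card F := by exact_mod_cast (Nat.card_eq_fintype_card (α := F) ▸ H11.char_dvd_card p)
  have d := Nat.gcd_dvd_left 2 (Fintype.card F - 1)
  have d' := Nat.gcd_dvd_right 2 (Fintype.card F - 1)
  rcases (S2475.result p (by omega)).le ⟨g, h⟩ with e | e | e
  · have := Nat.le_of_dvd hp'.pos e; have := hp'.pos; omega
  · exact hp'.one_lt.ne' (Nat.dvd_one.1 ((Nat.dvd_add_right ((dvd_mul_left p 2).trans (e.trans (Nat.div_dvd_of_dvd d')))).1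
      (by rw [Nat.sub_add_cancel (by omega)]; exact ⟨k, hk⟩)))
  · exact hp'.one_lt.ne' (Nat.dvd_one.1 ((Nat.dvd_add_right ⟨k, hk⟩).1 ((dvd_mul_left p 2).trans (e.trans (Nat.div_dvd_of_dvd (by
      rw [show Fintype.card F + 1 = Fintype.card F - 1 + 2 by omega]; exact d'.add d))))))

end Cfsg.Agent.S2471
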