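import Cfsg.Statements.S2472
import Cfsg.Agent.H11.Shp2

set_option autoImplicit false
open Cfsg

namespace Cfsg.Agent.S2472

/-- Adjacency of a prime and the characteristic in the prime graph of PSp(2n,q): let F be a finite field of characteristic p with q elements, n ≥ 2 with PSp(2n,F) simple, and let r ≠ p be an odd prime dividing the order of PSp(2n,F), with k the multiplicative order of q modulo r and η(k) = k for odd k, k/2 for even k. Then PSp(2n,F) has NO element of order r·p if and only if η(k) > n − 1. -/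
theorem result {F : Type*} [Field F] [Fintype F] (p : ℕ) [Fact p.Prime] [CharP F p] (n : ℕ) (hn : 2 ≤ n) (hsmall : n = 2 → 3 ≤ Fintype.card F)
    (r : ℕ) (hr : r.Prime) (hr2 : r ≠ 2) (hrp : r ≠ p) (hrG : r ∣ Nat.card (Cfsg.PSp n F))
    (k ηk : ℕ) (hk : k = orderOf ((Fintype.card F : ℕ) : ZMod r)) (hηk : (Odd k ∧ ηk = k) ∨ (Even k ∧ 2 * ηk = k)) :
    (r * p ∉ Set.range (orderOf : Cfsg.PSp n F → ℕ)) ↔ n - 1 < ηk := by
  have hp : p.Prime := Fact.out
  rw [← Nat.card_eq_fintype_card] at hk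
  obtain ⟨h1, h2, h3⟩ := H11.eta_spec hr hr2 Nat.card_pos hk (hk ▸ H11.orderOf_card_ne_zero hr (H11.natCast_ne_zero_of_prime p hr hrp)) hηk
  rw [H11.psp_iff p ((eq_or_ne p 2).imp (fun h => by subst h; exact CharP.cast_eq_zero F 2) fun h => (hr.odd_of_ne_two hr2).mul (hp.odd_of_ne_two h)),
    not_iff_comm, not_lt]
  refine ⟨fun h => ⟨{(ηk, decide (Odd k))}, 2 * (n - ηk), by simpa, by simp [H11.sL]; omega, fun m a b c =>
    ((Nat.coprime_primes hr hp).2 hrp).mul_dvd_of_dvd_of_dvd (h2.trans (b _ (by simp))) ((H11.two_le_ordProj a).1 (by omega))⟩, fun h => ?_⟩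
  obtain ⟨L, c, a1, a2, a3, a4⟩ := h.exists_dvd Finite.one_lt_card (by exact_mod_cast H11.char_dvd_card p)
  obtain ⟨l, hl, b⟩ := a4 r hr hrp (dvd_mul_right _ _)
  have := a3 (dvd_mul_left _ _)
  have := H11.le_sL hl
  have := Nat.le_of_dvd (a1 l hl) (h3 l b); omega

end Cfsg.Agent.S2472
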