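import Cfsg.Statements.S3626
import Cfsg.Agent.H13.ReeTori2
import Cfsg.Agent.H13.PrimeGraph
import Cfsg.Agent.S1159

set_option autoImplicit false
open Cfsg

namespace Cfsg.Agent.S3626

open H13 H13.Ree Matrix H28
open scoped MatrixGroups Kronecker

section
variable {K : Type*} [Field K] [Fintype K] {m : ℕ} [hK : H13.Ree.IsRee K m]

variable (K) in
/-- the twisted tensor square -/
noncomputable def ρ0 : SL(2, K) →* Matrix (Fin 2 × Fin 2) (Fin 2 × Fin 2) K where
  toFun x := x.1 ⊗ₖ x.1.map (frobenius K 3)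
  map_one' := by simp
  map_mul' x y := by rw [sl2_mul_val, Matrix.map_mul, mul_kronecker_mul]

variable (K) in
/-- the twisted tensor square on `PSL₂` -/
noncomputable def ρ1 : PSL(2, K) →* Matrix (Fin 2 × Fin 2) (Fin 2 × Fin 2) K :=
  QuotientGroup.lift _ (ρ0 K) fun x hx => by
    rcases (H24.isScal_SL_iff x).1 ((H24.mem_center_SL_iff x).1 hx) with rfl | rfl
    · exact map_one _
    · ext ⟨i, j⟩ ⟨k, l⟩
      fin_cases i <;> fin_cases j <;> fin_cases k <;> fin_cases l <;> simp [ρ0]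

variable (K) in
/-- the representation with signs -/
noncomputable def ρ2 : ℤˣ × PSL(2, K) →* Matrix (Fin 2 × Fin 2) (Fin 2 × Fin 2) K where
  toFun g := ((g.1 : ℤ) : K) • ρ1 K g.2
  map_one' := by simp
  map_mul' x y := by simp [smul_smul, mul_comm]

theorem fix_cases {g : ℤˣ × PSL(2, K)} {v : Fin 2 × Fin 2 → K} (hv : v ≠ 0) (h : ρ2 K g *ᵥ v = v) :
    g ^ 2 = 1 ∨ g ^ 3 = 1 := by
  obtain ⟨ε, x⟩ := g
  obtain ⟨x, rfl⟩ := QuotientGroup.mk_surjective x
  have hd := sl2_det x
  have hd' := congrArg (frobenius K 3) hd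
  have h1 := congrFun h (0, 0)
  have h2 := congrFun h (0, 1)
  have h3 := congrFun h (1, 0)
  have h4 := congrFun h (1, 1)
  have key : x.1.trace = ((ε : ℤ) : K) * frobenius K 3 x.1.trace := by
    have he : ((ε : ℤ) : K) * (ε : ℤ) = 1 := by rcases Int.units_eq_one_or ε with rfl | rfl <;> simp
    simp only [ρ2, ρ1, ρ0, MonoidHom.coe_mk, OneHom.coe_mk, QuotientGroup.lift_mk, mulVec, dotProduct,
      Fintype.sum_prod_type, Fin.sum_univ_two, Matrix.smul_apply, kroneckerMap_apply, Matrix.map_apply, smul_eq_mul,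
      map_sub, map_mul, map_one] at h1 h2 h3 h4 hd'
    rw [trace_fin_two, map_add]
    generalize frobenius K 3 (x.1 0 0) = a' at *
    generalize frobenius K 3 (x.1 0 1) = b' at *
    generalize frobenius K 3 (x.1 1 0) = c' at *
    generalize frobenius K 3 (x.1 1 1) = d' at *
    by_contra hne
    apply hv
    ext ⟨i, j⟩
    fin_cases i <;> fin_cases j <;> simp <;> grind
  rw [frobenius_def] at key
  by_cases ht : x.1.trace = 0
  · left
    refine Prod.ext (Int.units_sq ε) (π'_injective (m := m) ?_)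
    simpa [π'_mk, sq] using sq_π_of_trace ht
  · right
    rcases Int.units_eq_one_or ε with rfl | rfl
    · refine Prod.ext (one_pow _) (π'_injective (m := m) ?_)
      change π K m (x ^ 3) = π' K m 1
      rw [map_one, π_eq_one]
      have h5 : (x ^ 3).1 = (-x.1.trace) • (1 : Matrix (Fin 2) (Fin 2) K) := by
        rw [pow_succ, sq, sl2_mul_val, sl2_mul_val, H24.cayley, x.2, add_mul, smul_mul_assoc, smul_mul_assoc,
          H24.cayley, x.2]
        have : x.1.trace * x.1.trace = 1 := by simp at key; grind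
        simp [smul_smul, this]
      rcases mul_self_eq_one_iff.1 (show x.1.trace * x.1.trace = 1 by simp at key; grind) with e | e
      · right; apply Subtype.ext; rw [h5, e]; simp
      · left; apply Subtype.ext; rw [h5, e]; simp
    · exact absurd (by simp at key; grind) (mul_self_ne_neg_one x.1.trace)

variable (K) in
/-- the auxiliary group -/
abbrev X (n : ℕ) : Type _ := (Fin (n + 1) → Multiplicative (Fin 2 × Fin 2 → K)) ⋊[piAut (matAut (ρ2 K)) _] (ℤˣ × PSL(2, K))

theorem cube_inl {n : ℕ} {y : X K n} (h : y.right = 1) : y ^ 3 = 1 := by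
  have h2 : y = SemidirectProduct.inl y.left := by
    ext <;> simp [h]
  rw [h2, ← map_pow, map_eq_one_iff _ SemidirectProduct.inl_injective]
  ext i : 1
  apply Multiplicative.toAdd.injective
  ext j
  simpa using Or.inl (CharP.cast_eq_zero K 3)

theorem order_X {n : ℕ} (y : X K n) : orderOf y ∣ 6 ∨ orderOf y ∣ 9 ∨ orderOf y = orderOf y.right := by
  have h0 : ∀ k : ℕ, (y ^ k).right = y.right ^ k := fun k => map_pow SemidirectProduct.rightHom y k
  by_cases h1 : y ^ orderOf y.right = 1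
  · exact Or.inr (Or.inr (Nat.dvd_antisymm (orderOf_dvd_of_pow_eq_one h1)
      (orderOf_map_dvd SemidirectProduct.rightHom y)))
  have h4 : (y ^ orderOf y.right).right = 1 := by rw [h0, pow_orderOf_eq_one]
  have h9 := congrArg SemidirectProduct.left (Commute.self_pow y (orderOf y.right)).eq
  simp only [SemidirectProduct.mul_left, h4, map_one, MulAut.one_apply] at h9
  rw [mul_comm, mul_left_inj] at h9
  obtain ⟨i, hi⟩ : ∃ i, (y ^ orderOf y.right).left i ≠ 1 := by
    by_contra hn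
    push Not at hn
    exact h1 (SemidirectProduct.ext (funext hn) h4)
  rcases fix_cases (m := m) (v := ((y ^ orderOf y.right).left i).toAdd) hi (congrFun h9 i) with h | h
  · exact Or.inl (orderOf_dvd_of_pow_eq_one (by rw [show 6 = 2 * 3 from rfl, pow_mul, cube_inl (m := m) ((h0 2).trans h)]))
  · exact Or.inr (Or.inl (orderOf_dvd_of_pow_eq_one
      (by rw [show 9 = 3 * 3 from rfl, pow_mul, cube_inl (m := m) ((h0 3).trans h)])))

include hK in
theorem exists_nine (n : ℕ) : ∃ y : X K n, orderOf y = 9 := by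
  let y : X K n := ⟨fun _ => Multiplicative.ofAdd (Pi.single (1, 1) 1), (1, (xU 1 : SL(2, K)))⟩
  have h0 : (y ^ 3).right = 1 := by
    refine (map_pow SemidirectProduct.rightHom y 3).trans (Prod.ext (one_pow _) (π'_injective (m := m) ?_))
    change π K m (xU 1 ^ 3) = π' K m 1
    rw [map_pow, π_xU, u_cube]; simp
  refine ⟨y, orderOf_eq_prime_pow (p := 3) (n := 1) (hp := ⟨Nat.prime_three⟩) (fun e => ?_) ?_⟩
  · rw [pow_one, pow_succ', sq] at e
    have := congrArg (fun z : X K n => (z.left 0).toAdd (0, 0)) e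
    have h1 : ∀ (v : Fin (n + 1) → Multiplicative (Fin 2 × Fin 2 → K)) i, ((piAut (matAut (ρ2 K)) _ y.right v) i).toAdd =
        ((xU (1 : K)).1 ⊗ₖ (xU (1 : K)).1.map (frobenius K 3)) *ᵥ (v i).toAdd := fun v i => by
      change ρ2 K y.right *ᵥ (v i).toAdd = _
      simp [ρ2, ρ1, ρ0, y]
    simp only [SemidirectProduct.mul_left, map_mul, Pi.mul_apply, toAdd_mul, h1, Pi.add_apply] at this
    simp [y, mulVec, dotProduct, Fintype.sum_prod_type] at this
    grind
  · rw [pow_succ, pow_mul, pow_one, cube_inl (m := m) h0]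

end


/-- Let R be the small Ree group over the field with q = 3^(2m+1) ≥ 27 elements. Then there are finite groups of arbitrarily large order with exactly the same set of element orders as R × R × R. -/
theorem result {K : Type*} [Field K] [Fintype K] {m : ℕ} (hm : 1 ≤ m) (hK : Fintype.card K = 3 ^ (2 * m + 1)) (N : ℕ) :
    ∃ (H : Type) (_ : Group H) (_ : Fintype H), N < Fintype.card H ∧
      Set.range (orderOf : H → ℕ) = Set.range (orderOf : ↥(Cfsg.Lie.twistedG2 K (3 ^ m)) × ↥(Cfsg.Lie.twistedG2 K (3 ^ m)) × ↥(Cfsg.Lie.twistedG2 K (3 ^ m)) → ℕ) := by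
  haveI : H13.Ree.IsRee K m := ⟨hK⟩
  obtain ⟨e⟩ := centralizer_j_equiv (K := K)
  let e' := e.trans ((mulEquivOfPrimeCardEq (p := 2) (G := Multiplicative (ZMod 2)) (G' := ℤˣ) (by simp)
    (by simp)).prodCongr (MulEquiv.refl _))
  have hω := Cfsg.Agent.S1159.result hm hK
  have h1 : ∀ y : X K N, ∃ g : R K m, orderOf g = orderOf y := fun y => by
    rcases order_X (m := m) y with h | h | h
    · exact (hω _).2 (Or.inl h)
    · exact (hω _).2 (Or.inr (Or.inl h))
    · exact ⟨e'.symm y.right, by rw [Subgroup.orderOf_coe, MulEquiv.orderOf_eq, h]⟩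
  have h2 : ∀ g ∈ Subgroup.centralizer {j K m}, ∀ d, d ∣ orderOf g → ∃ y : X K N, orderOf y = d := fun g hg d hd => by
    obtain ⟨a, ha, rfl⟩ := exists_orderOf_eq_of_dvd (Subgroup.zpowers g) (d := d) (by rwa [Nat.card_zpowers])
    exact ⟨SemidirectProduct.inr (e' ⟨a, Subgroup.zpowers_le.2 hg ha⟩), by
      rw [orderOf_injective _ SemidirectProduct.inr_injective, MulEquiv.orderOf_eq, Subgroup.orderOf_mk]⟩
  have : Finite (X K N) := Finite.of_equiv _ SemidirectProduct.equivProd.symm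
  have h3 : ∀ g : R K m, (∃ y : X K N, orderOf y = orderOf g) ∨ orderOf g ∣ 3 ^ (2 * m + 1) - 3 ^ (m + 1) + 1 ∨
      orderOf g ∣ 3 ^ (2 * m + 1) + 3 ^ (m + 1) + 1 := fun g => by
    rcases (hω _).1 ⟨g, rfl⟩ with h | h | h | h | h
    · exact Or.inl (h2 (u m 0 1 0 * j K m) (Subgroup.mem_centralizer_singleton_iff.2
        ((commute_u_j 1).mul_left (Commute.refl _))) _ (by rwa [orderOf_uj one_ne_zero]))
    · obtain ⟨y, hy⟩ := exists_nine (K := K) N
      obtain ⟨a, -, ha⟩ := exists_orderOf_eq_of_dvd (Subgroup.zpowers y) (d := orderOf g) (by rwa [Nat.card_zpowers, hy])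
      exact Or.inl ⟨a, ha⟩
    · obtain ⟨a, ha⟩ := exists_zpowers (H K m)
      obtain ⟨s, rfl⟩ := mem_H.1 (ha.ge (Subgroup.mem_zpowers a))
      exact Or.inl (h2 _ (Subgroup.mem_centralizer_singleton_iff.2 (j_mul_h s).symm) _
        (by rwa [← Nat.card_zpowers (Ree.h m s), ← ha, card_H, hK]))
    · obtain ⟨a, ha⟩ := exists_zpowers (T2 K m)
      exact Or.inl (h2 a (jL_le _ (T2_le_M (ha.ge (Subgroup.mem_zpowers a)))) _
        (by rwa [← Nat.card_zpowers a, ← ha, card_T2, hK]))
    · exact Or.inr h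
  have := Fintype.ofFinite (Shrink.{0} (R K m × R K m × X K N))
  refine ⟨Shrink.{0} (R K m × R K m × X K N), inferInstance, inferInstance, ?_, ?_⟩
  · rw [← Nat.card_eq_fintype_card, ← Nat.card_congr (equivShrink _), Nat.card_prod, Nat.card_prod,
      SemidirectProduct.card, Nat.card_pi]
    have h2 : 2 ≤ Nat.card (Multiplicative (Fin 2 × Fin 2 → K)) := Finite.one_lt_card
    have h3 : 0 < Nat.card (R K m) := Nat.card_pos
    have h3' : 0 < Nat.card (ℤˣ × PSL(2, K)) := Nat.card_pos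
    have h4 : N + 1 < 2 ^ (N + 1) := Nat.lt_two_pow_self
    have h5 := Nat.pow_le_pow_left h2 (N + 1)
    simp only [Finset.prod_const, Finset.card_univ, Fintype.card_fin]
    exact lt_of_lt_of_le (by omega) (h5.trans ((Nat.le_mul_of_pos_right _ h3').trans
      ((Nat.le_mul_of_pos_left _ h3).trans (Nat.le_mul_of_pos_left _ h3))))
  let E : Shrink.{0} (R K m × R K m × X K N) ≃* R K m × R K m × X K N := Shrink.mulEquiv
  ext d
  constructor
  · rintro ⟨y, rfl⟩
    obtain ⟨⟨a, b, c⟩, rfl⟩ := E.symm.surjective y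
    obtain ⟨g, hg⟩ := h1 c
    exact ⟨(a, b, g), by simp [MulEquiv.orderOf_eq, Prod.orderOf_mk, hg]⟩
  · rintro ⟨⟨a, b, c⟩, rfl⟩
    have key : ∀ (a b : R K m) (c : X K N), (orderOf a).lcm ((orderOf b).lcm (orderOf c)) ∈
        Set.range (orderOf : Shrink.{0} (R K m × R K m × X K N) → ℕ) := fun a b c =>
      ⟨E.symm (a, b, c), by simp [MulEquiv.orderOf_eq, Prod.orderOf_mk]⟩
    have key' : ∀ a b c : R K m, (∃ g : R K m, orderOf g = (orderOf b).lcm (orderOf c)) →
        (orderOf a).lcm ((orderOf b).lcm (orderOf c)) ∈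
        Set.range (orderOf : Shrink.{0} (R K m × R K m × X K N) → ℕ) := fun a b c ⟨g, hg⟩ => by
      simpa [hg] using key a g 1
    have l1 : ∀ a b c : ℕ, a.lcm (b.lcm c) = a.lcm (c.lcm b) := fun a b c => by rw [Nat.lcm_comm b]
    have l2 : ∀ a b c : ℕ, a.lcm (b.lcm c) = b.lcm (c.lcm a) := fun a b c => by
      rw [Nat.lcm_comm a, Nat.lcm_assoc]
    rw [Prod.orderOf_mk, Prod.orderOf_mk]
    have f1 : ∀ b c : R K m, orderOf b ∣ 3 ^ (2 * m + 1) - 3 ^ (m + 1) + 1 → orderOf c ∣ 3 ^ (2 * m + 1) - 3 ^ (m + 1) + 1 →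
        ∃ g : R K m, orderOf g = (orderOf b).lcm (orderOf c) := fun b c hb hc =>
      (hω _).2 (by have := Nat.lcm_dvd hb hc; tauto)
    have f2 : ∀ b c : R K m, orderOf b ∣ 3 ^ (2 * m + 1) + 3 ^ (m + 1) + 1 → orderOf c ∣ 3 ^ (2 * m + 1) + 3 ^ (m + 1) + 1 →
        ∃ g : R K m, orderOf g = (orderOf b).lcm (orderOf c) := fun b c hb hc =>
      (hω _).2 (by have := Nat.lcm_dvd hb hc; tauto)
    rcases h3 c with ⟨y, hy⟩ | hc
    · rw [← hy]; exact key _ _ _
    rcases h3 b with ⟨y, hy⟩ | hb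
    · rw [← hy, l1]; exact key _ _ _
    rcases h3 a with ⟨y, hy⟩ | ha
    · rw [← hy, l2]; exact key _ _ _
    rcases ha with ha | ha <;> rcases hb with hb | hb <;> rcases hc with hc | hc
    · exact key' _ _ _ (f1 _ _ hb hc)
    · rw [l2, l2]; exact key' _ _ _ (f1 _ _ ha hb)
    · rw [l2]; exact key' _ _ _ (f1 _ _ hc ha)
    · exact key' _ _ _ (f2 _ _ hb hc)
    · exact key' _ _ _ (f1 _ _ hb hc)
    · rw [l2]; exact key' _ _ _ (f2 _ _ hc ha)
    · rw [l2, l2]; exact key' _ _ _ (f2 _ _ ha hb)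
    · exact key' _ _ _ (f2 _ _ hb hc)

end Cfsg.Agent.S3626
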