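import Cfsg.Statements.S2515
import Cfsg.Agent.S3626
import Cfsg.Agent.H10.PSL2Max

set_option autoImplicit false
open Cfsg

namespace Cfsg.Agent.S2515

open S3626
open scoped MatrixGroups

/-- Let q = 3^α with α ≥ 3 odd. There is a finite group H having a non-trivial normal 3-subgroup and whose element orders maximal under divisibility are exactly 6, 9, q − 1 and (q + 1)/2. -/
theorem result (α : ℕ) (hα : 3 ≤ α) (hodd : Odd α) :
    ∃ (H : Type) (_ : Group H) (_ : Fintype H), (∃ P : Subgroup H, P.Normal ∧ P ≠ ⊥ ∧ IsPGroup 3 ↥P) ∧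
      {n : ℕ | n ∈ Set.range (orderOf : H → ℕ) ∧ ∀ m ∈ Set.range (orderOf : H → ℕ), n ∣ m → m = n} = ({6, 9, 3 ^ α - 1, (3 ^ α + 1) / 2} : Set ℕ) := by
  classical
  obtain ⟨m, rfl⟩ := hodd
  have : Fact (Nat.Prime 3) := ⟨Nat.prime_three⟩
  let K := GaloisField 3 (2 * m + 1)
  have := Fintype.ofFinite K
  have hK : Fintype.card K = 3 ^ (2 * m + 1) := by rw [← Nat.card_eq_fintype_card, GaloisField.card _ _ (by omega)]
  have : H13.Ree.IsRee K m := ⟨hK⟩
  have : Finite (X K 0) := Finite.of_equiv _ SemidirectProduct.equivProd.symm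
  have q8 : Fintype.card K % 8 = 3 := by rw [hK, pow_succ, pow_mul, Nat.mul_mod, Nat.pow_mod]; simp
  have q3 : 3 ∣ Fintype.card K := hK ▸ dvd_pow_self 3 (by omega)
  have q27 : 27 ≤ Fintype.card K := hK ▸ Nat.pow_le_pow_right (n := 3) (by norm_num) hα
  have g : Nat.gcd 2 (Fintype.card K - 1) = 2 := Nat.gcd_eq_left (by omega)
  refine ⟨X K 0, inferInstance, .ofFinite _, ⟨SemidirectProduct.rightHom.ker, inferInstance, fun e => ?_,
    fun y => ⟨1, Subtype.ext (cube_inl (m := m) y.2)⟩⟩, ?_⟩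
  · rw [← SemidirectProduct.range_inl_eq_ker_rightHom, ← Subgroup.card_eq_one,
      ← Nat.card_congr (MonoidHom.ofInjective SemidirectProduct.inl_injective).toEquiv] at e
    exact Finite.one_lt_card.ne' e
  rw [← hK]
  have up : ∀ y : X K 0, ∃ n ∈ ({6, 9, Fintype.card K - 1, (Fintype.card K + 1) / 2} : Set ℕ), orderOf y ∣ n := fun y => by
    have k : ∀ n, 2 ∣ n → orderOf (H10.ι K y.right.2) ∣ n → orderOf y.right ∣ n := fun n a b => by
      rw [orderOf_injective _ H10.ι_injective] at b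
      rw [Prod.orderOf]
      exact Nat.lcm_dvd ((orderOf_dvd_of_pow_eq_one (Int.units_sq _)).trans a) b
    rcases order_X (m := m) y with h | h | h
    · exact ⟨6, by simp, h⟩
    · exact ⟨9, by simp, h⟩
    rw [h]
    rcases H10.orderOf_PSL2_dvd 3 (H10.ι_mem y.right.2) with h | h | h <;> try rw [g] at h
    · exact ⟨6, by simp, k _ (by norm_num) (h.trans (by norm_num))⟩
    · exact ⟨_, by simp, k _ (by omega) h⟩
    · exact ⟨_, by simp, k _ (by omega) (h.trans (Nat.div_dvd_of_dvd (by omega)))⟩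
  have ex : ∀ n ∈ ({6, 9, Fintype.card K - 1, (Fintype.card K + 1) / 2} : Set ℕ),
      n ∈ Set.range (orderOf : X K 0 → ℕ) := by
    have k : ∀ (x : PSL(2, K)) (n : ℕ), Nat.lcm 2 (orderOf x) = n → n ∈ Set.range (orderOf : X K 0 → ℕ) :=
      fun x n h => ⟨.inr (-1, x), by
        rw [orderOf_injective _ SemidirectProduct.inr_injective, Prod.orderOf_mk, orderOf_eq_prime (p := 2) rfl (by decide), h]⟩
    rintro _ (rfl | rfl | rfl | rfl)
    · obtain ⟨x, hx⟩ := exists_prime_orderOf_dvd_card' (G := PSL(2, K)) 3 (by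
        have := H10.card_PSL2 (F := K)
        rw [g] at this
        exact (Nat.Coprime.dvd_mul_left (by norm_num)).1 (this ▸ (q3.mul_right _).mul_right _))
      exact k x 6 (by rw [hx]; rfl)
    · exact exists_nine (m := m) 0
    · obtain ⟨-, c, -, h, -⟩ := H10.exists_dihedral_split (F := K) (by omega)
      exact k c _ (by
        rw [h, g, Nat.Coprime.lcm_eq_mul (Nat.coprime_two_left.2 (Nat.odd_iff.2 (by omega)))]; omega)
    · obtain ⟨-, c, -, h, -⟩ := H10.exists_dihedral_nonsplit (F := K)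
      exact k c _ (by rw [h, g, Nat.lcm_eq_right (by omega)])
  ext n
  refine ⟨fun ⟨⟨y, hy⟩, h⟩ => ?_, fun h => ⟨ex n h, ?_⟩⟩
  · obtain ⟨k, h1, h2⟩ := up y
    exact h k (ex k h1) (hy ▸ h2) ▸ h1
  rintro _ ⟨y, rfl⟩ d
  obtain ⟨k, h1, h2⟩ := up y
  suffices k = n from Nat.dvd_antisymm (this ▸ h2) d
  have := d.trans h2
  have l := Nat.le_of_dvd (by rcases h1 with rfl | rfl | rfl | rfl <;> omega) this
  rcases h with rfl | rfl | rfl | rfl <;> rcases h1 with rfl | rfl | rfl | rfl <;> try omega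
  have := Nat.le_of_dvd two_pos ((Nat.dvd_add_right this).1 (show _ ∣ Fintype.card K - 1 + 2 from ⟨2, by omega⟩))
  omega

end Cfsg.Agent.S2515
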