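import Cfsg.Statements.S2530
import Cfsg.Agent.L.Cox


set_option autoImplicit false
open Cfsg

namespace Cfsg.Agent.S2530

/-- The Coxeter presentation of the symmetric group: for every n, the symmetric group on n+1 letters is the Coxeter group of type A_n with the adjacent transpositions (i, i+1) as simple reflections; that is, it is presented by generators r_1, …, r_n subject to r_i² = 1, (r_i r_j)² = 1 for |i − j| > 1 and (r_i r_{i+1})³ = 1, with r_i mapping to (i, i+1). -/
theorem result (n : ℕ) :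
    ∃ cs : CoxeterSystem (CoxeterMatrix.A n) (Equiv.Perm (Fin (n + 1))), ∀ i : Fin n, cs.simple i = Equiv.swap i.castSucc i.succ := by
  let cs := (CoxeterMatrix.A n).toCoxeterSystem
  have br : ∀ {Δ : Type} [Group Δ] {a b : Δ}, a * a = 1 → b * b = 1 → ((a * b) ^ 3 = 1 ↔ a * b * a = b * a * b) := by
    intro Δ _ a b ha hb
    have : (a * b) ^ 3 = (a * b * a) * (b * a * b)⁻¹ := by
      rw [mul_inv_rev, mul_inv_rev, inv_eq_of_mul_eq_one_right ha, inv_eq_of_mul_eq_one_right hb]
      simp [pow_succ, mul_assoc]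
    rw [this, mul_inv_eq_one]
  have cm : ∀ {Δ : Type} [Group Δ] {a b : Δ}, a * a = 1 → b * b = 1 → ((a * b) ^ 2 = 1 ↔ a * b = b * a) := by
    intro Δ _ a b ha hb
    have : (a * b) ^ 2 = (a * b) * (b * a)⁻¹ := by
      rw [mul_inv_rev, inv_eq_of_mul_eq_one_right ha, inv_eq_of_mul_eq_one_right hb, sq]
    rw [this, mul_inv_eq_one]
  obtain ⟨φ, hφ⟩ := L.cox_hom (y := fun i => if h : i < n then cs.simple ⟨i, h⟩ else 1) (r := n)
    ⟨fun i hi => by simp [hi], fun i hi => by
      have hi' : i < n := by omega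
      simp only [hi, hi', dif_pos]
      refine (br (by simp) (by simp)).1 ?_
      have := cs.simple_mul_simple_pow ⟨i, hi'⟩ ⟨i + 1, hi⟩
      simpa [CoxeterMatrix.A, Fin.ext_iff] using this, fun i j h hj => by
      have hi' : i < n := by omega
      simp only [hj, hi', dif_pos]
      refine (cm (by simp) (by simp)).1 ?_
      have := cs.simple_mul_simple_pow ⟨i, hi'⟩ ⟨j, hj⟩
      simpa [CoxeterMatrix.A, Fin.ext_iff, show i ≠ j by omega, show j + 1 ≠ i by omega,
        show i + 1 ≠ j by omega] using this⟩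
  have h := L.coxA_adjS n
  have hl : (CoxeterMatrix.A n).IsLiftable fun i : Fin n => L.adjS n i := fun i j => by
    have hi := i.2
    have hj := j.2
    by_cases h1 : i = j
    · simp [h1, h.sq j hj]
    have h1' : i.1 ≠ j.1 := fun e => h1 (Fin.ext e)
    by_cases h2 : j.1 + 1 = i.1
    · simp only [CoxeterMatrix.A, Matrix.of_apply, h1, h2, if_false, true_or, if_true]
      rw [br (h.sq i hi) (h.sq j hj), ← h2]; exact (h.br j (by omega)).symm
    by_cases h3 : i.1 + 1 = j.1
    · simp only [CoxeterMatrix.A, Matrix.of_apply, h1, h3, if_false, or_true, if_true]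
      rw [br (h.sq i hi) (h.sq j hj), ← h3]; exact h.br i (by omega)
    · simp only [CoxeterMatrix.A, Matrix.of_apply, h1, h2, h3, if_false, or_self]
      rw [cm (h.sq i hi) (h.sq j hj)]
      rcases lt_or_gt_of_ne h1' with h4 | h4
      · exact h.cm i j (by omega) hj
      · exact (h.cm j i (by omega) hi).symm
  have e1 : ∀ i : Fin n, φ (L.adjS n i) = cs.simple i := fun i => by rw [hφ i i.2, dif_pos i.2]
  refine ⟨⟨MonoidHom.toMulEquiv φ (cs.lift ⟨_, hl⟩) ?_ ?_⟩, fun i => ?_⟩
  · refine MonoidHom.eq_of_eqOn_dense (L.closure_adjS n) ?_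
    rintro _ ⟨i, hi, rfl⟩
    exact (congrArg _ (e1 ⟨i, hi⟩)).trans (cs.lift_apply_simple hl _)
  · exact cs.ext_simple fun i => (congrArg φ (cs.lift_apply_simple hl i)).trans (e1 i)
  · exact (cs.lift_apply_simple hl i).trans (by simp [L.adjS])

end Cfsg.Agent.S2530
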