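import Cfsg.Statements.S2553
import Cfsg.Agent.H6.A8
import Cfsg.Agent.S0256
import Cfsg.Agent.S0249
import Cfsg.Agent.H10.SL

set_option autoImplicit false
open Cfsg


namespace Cfsg.Agent.S2553

/-- Over the field with two elements, `GL` embeds in `PSL`. -/
theorem toPSL (n : ℕ) [NeZero n] : ∃ s : GL (Fin n) (ZMod 2) →* Matrix.ProjectiveSpecialLinearGroup (Fin n) (ZMod 2),
    Function.Bijective s := by
  have z2 : ∀ x : ZMod 2, x ≠ 0 → x = 1 := by decide
  let s : GL (Fin n) (ZMod 2) →* Matrix.SpecialLinearGroup (Fin n) (ZMod 2) :=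
    { toFun := fun g => ⟨g, z2 _ g.det_ne_zero⟩
      map_one' := rfl
      map_mul' := fun _ _ => rfl }
  refine ⟨(QuotientGroup.mk' (Subgroup.center _)).comp s, (injective_iff_map_eq_one _).2 fun g h => ?_,
    (QuotientGroup.mk'_surjective _).comp fun g => ⟨g, rfl⟩⟩
  obtain ⟨r, h1, h2⟩ := Matrix.SpecialLinearGroup.mem_center_iff.1 ((QuotientGroup.eq_one_iff _).1 h)
  rw [z2 r (by rintro rfl; simp [NeZero.ne n] at h1), map_one] at h2
  exact Units.ext h2.symm

/-- Let H be a nontrivial subgroup of GL(4,2) (a group isomorphic to the alternating group of degree 8) whose largest normal 2-subgroup and largest normal subgroup of odd order are both trivial. Then H is isomorphic to an alternating group of degree n for some 5 ≤ n ≤ 8, to the symmetric group of degree 5 or 6, or to GL(3,2). -/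
theorem result (H : Subgroup (GL (Fin 4) (ZMod 2))) (hH : H ≠ ⊥) (hO : Cfsg.pPrimeCore 2 ↥H = ⊥) (hO2 : Cfsg.pCore 2 ↥H = ⊥) :
    (∃ n : ℕ, 5 ≤ n ∧ n ≤ 8 ∧ Nonempty (↥H ≃* alternatingGroup (Fin n))) ∨
    Nonempty (↥H ≃* Equiv.Perm (Fin 5)) ∨ Nonempty (↥H ≃* Equiv.Perm (Fin 6)) ∨ Nonempty (↥H ≃* GL (Fin 3) (ZMod 2)) := by
  obtain ⟨s, hs⟩ := toPSL 4
  obtain ⟨e⟩ := Cfsg.Agent.S0256.result (F := ZMod 2) (ZMod.card 2)
  have : Nontrivial H := (Subgroup.nontrivial_iff_ne_bot H).2 hH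
  rcases H6.emb_class (e.toMonoidHom.comp (s.comp H.subtype))
    (e.injective.comp (hs.1.comp H.subtype_injective)) (fun N hN hs => by
      by_contra h
      obtain ⟨M, p, hM, h0, -, hp, -, -, hP, -⟩ := H1.exists_normal_elementary_le N h
      have := Fact.mk hp
      by_cases h2 : p = 2
      · subst h2
        exact h0 (eq_bot_iff.2 (hO2 ▸ le_sSup ⟨hM, hP⟩))
      · obtain ⟨k, hk⟩ := hP.exists_card_eq
        exact h0 (eq_bot_iff.2 (hO ▸ le_sSup ⟨hM, hk ▸
          ((Nat.coprime_primes hp Nat.prime_two).2 h2).pow_left k⟩))) with h | h | h | ⟨h1, h⟩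
  · exact Or.inl h
  · exact Or.inr (Or.inl h)
  · exact Or.inr (Or.inr (Or.inl h))
  · obtain ⟨t, ht⟩ := toPSL 3
    have := Cfsg.Agent.S0249.result (F := ZMod 2) 3 le_rfl
    have h3 := H10.card_PSL (F := ZMod 2) 3 (by norm_num)
    simp only [ZMod.card, Fin.prod_univ_three] at h3
    have := Fact.mk (by norm_num : Nat.Prime 7)
    obtain ⟨e1⟩ := Cfsg.Agent.S0495.result h (F := ZMod 7) (ZMod.card 7)
    obtain ⟨e2⟩ := Cfsg.Agent.S0495.result (G := Matrix.ProjectiveSpecialLinearGroup (Fin 3) (ZMod 2))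
      (by simpa using h3) (F := ZMod 7) (ZMod.card 7)
    exact Or.inr (Or.inr (Or.inr ⟨(e1.trans e2.symm).trans (MulEquiv.ofBijective t ht).symm⟩))

end Cfsg.Agent.S2553
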