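import Cfsg.Statements.S2604
import Cfsg.Agent.H25.OutO1
-- import your own Cfsg.Agent.* helpers here

set_option autoImplicit false
open Cfsg

namespace Cfsg.Agent.S2604

/-- Outer automorphism group of the simple orthogonal group Ω_(2m+1)(q), m ≥ 3, q = p^f odd: it is the direct product of a group of order 2 (diagonal automorphisms, from SO) and a cyclic group of order f (field automorphisms). -/
theorem result {F : Type*} [Field F] [Fintype F] {p f m : ℕ} [Fact p.Prime] (hf : 1 ≤ f) (hF : Fintype.card F = p ^ f) (hp : p ≠ 2) (hm : 3 ≤ m) : Nonempty (Cfsg.Out (Cfsg.POmega F (Cfsg.quadFormOdd m F)) ≃* Multiplicative (ZMod 2 × ZMod f)) := by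
  have h2 : (2 : F) ≠ 0 := mt (H25.two_eq_zero_iff hF).1 hp
  have h5 := H25.odd_h5 (show 2 ≤ m by omega)
  let C := H25.oCtx (Q := H11.qOdd m F) (H11.sOdd_nondeg m h2) h5
  obtain ⟨e⟩ := C.out_equiv_prod (H25.oCtx_hE _ h5) (by omega) (H25.odd_surj _ hm) fun τ _ =>
    ⟨H25.inrG (H25.sOdd_rat m τ), rfl, C.oG_inr_pow _ _, fun g =>
      C.commute_oG _ (C.od_cjS_odd _ h5 (H25.odd_odd m) _ g)⟩
  obtain ⟨e1⟩ := H25.equiv_two (C.card_od_odd (H25.oCtx_hE _ h5) h5 (H25.odd_odd m))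
  obtain ⟨e2⟩ := H25.ringAut_equiv_zmod hF
  exact ⟨e.trans ((e1.prodCongr e2).trans (MulEquiv.prodMultiplicative _ _).symm)⟩

end Cfsg.Agent.S2604
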