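import Cfsg.Statements.S2652
import Cfsg.Agent.L.JT


set_option autoImplicit false
set_option linter.unusedVariables false
open Cfsg

namespace Cfsg.Agent.S2652

/-- Let T be a Sylow 2-subgroup of the Fischer group Fi₂₃ (the finitely presented group `Spor.Fi23`; T has order 2¹⁸). Then every elementary abelian subgroup of Fi₂₃ contained in T and normal in T has order at most 2¹¹, and there is exactly one such subgroup of order 2¹¹. -/
theorem result
    (T : Sylow 2 Cfsg.Spor.Fi23) :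
    (∀ A : Subgroup Cfsg.Spor.Fi23, A ≤ T → (A.subgroupOf T).Normal → Cfsg.IsElementaryAbelian 2 A →
        Nat.card A ≤ 2 ^ 11) ∧
    ∃! A : Subgroup Cfsg.Spor.Fi23, A ≤ T ∧ (A.subgroupOf T).Normal ∧ Cfsg.IsElementaryAbelian 2 A ∧
        Nat.card A = 2 ^ 11 := by
  have := H15.Fi23.card
  have : Finite Cfsg.Spor.Fi23 := Nat.finite_of_card_ne_zero (by omega)
  obtain ⟨A, h⟩ := L.jt23M H15.Fi23.M H15.Fi23.card T
  refine ⟨fun B a _ b => h.card_le a b, A, ⟨h.1, (Subgroup.normal_subgroupOf_iff_le_normalizer h.1).2 ?_, h.2.1,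
    h.2.2.1⟩, fun B ⟨a, _, b, c⟩ => h.eq a b c⟩
  exact h.2.2.2.2 ▸ H4.le_normalizer_thompsonOf 2 _

end Cfsg.Agent.S2652
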