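import Cfsg.Statements.S2764
import Cfsg.Agent.H18.PA7

set_option autoImplicit false
open Cfsg

namespace Cfsg.Agent.S2764

/-- Pushing up for a rank-one quotient: let G be a finite group and p a prime with C_G(O_p(G)) ≤ O_p(G), suppose G/K ≅ PSL₂(p^n) for some normal subgroup K and some n ≥ 1, that a Sylow p-subgroup S of G lies in exactly one maximal subgroup of G, and that no nontrivial characteristic subgroup of S is normal in G. Then G/O_p(G) ≅ SL₂(p^n), and every noncentral chief factor U/W of G inside O_p(G) is a natural SL₂-module over the field with p^n elements for the action of G/W. -/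
theorem result {G : Type*} [Group G] [Finite G] {p : ℕ} [Fact p.Prime] (S : Sylow p G) (hE₁ : Subgroup.centralizer (Cfsg.pCore p G : Set G) ≤ Cfsg.pCore p G) (hE₂ : ∃! M : Subgroup G, IsCoatom M ∧ (S : Subgroup G) ≤ M) (K : Subgroup G) [K.Normal] (F : Type) [Field F] [Fintype F] (n : ℕ) (hn : 1 ≤ n) (hF : Fintype.card F = p ^ n) (hE₃ : Nonempty (G ⧸ K ≃* Matrix.ProjectiveSpecialLinearGroup (Fin 2) F)) (hd : ∀ T : Subgroup ↥(S : Subgroup G), T ≠ ⊥ → T.Characteristic → ¬ (T.map (S : Subgroup G).subtype).Normal) : Nonempty (G ⧸ Cfsg.pCore p G ≃* Matrix.SpecialLinearGroup (Fin 2) F) ∧ ∀ (U W : Subgroup G) [W.Normal], U ≤ Cfsg.pCore p G → Cfsg.IsChiefFactor U W → ¬ ⁅U, (⊤ : Subgroup G)⁆ ≤ W → Cfsg.IsNaturalSL2Module F (U.map (QuotientGroup.mk' W)) (⊤ : Subgroup (G ⧸ W)) := by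
  open H26 H118 Subgroup in
  have c : Nat.card F = p ^ n := Nat.card_eq_fintype_card.trans hF
  have : CharP F p := charP_of_card c
  have fr : Free ⊤ (S : Subgroup G) := free_of hd
  obtain ⟨h, e⟩ := rk_hyp (isSyl_top S) hE₁ hE₂ hE₃ fr.two
  obtain ⟨ρ, ψ, k⟩ := h.nmF e
  have last : ∀ (U W : Subgroup G) [W.Normal], IsChiefFactor U W → ¬ ⁅U, pResidualOf p ⊤⁆ ≤ W →
      U ≤ W ⊔ U ⊓ VV p ⊤ → IsNaturalSL2Module F (U.map (QuotientGroup.mk' W)) ⊤ := fun U W _ a b d =>
    (cover_nm a k d).resolve_left fun e => a.1.not_ge ((cover_triv a b (B := ⊥) (normalizer_bot'.ge)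
      (commutator_eq_bot_iff'.2 (le_top.trans (le_centralizer_iff.1 inf_le_right))).le e).trans
        (sup_le le_rfl (inf_le_right.trans bot_le)))
  conv => enter [2, U, W]; rw [← pCoreOf_top]
  obtain ⟨A, f⟩ | ⟨D, f⟩ := h.final fr
  · exact ⟨quot_of_nm h k f.cen, fun U W _ a b d => last U W b (chief_res b a d) (cover_triv b (chief_res b a d)
      h.nV f.QE (le_sup_of_le_right (le_inf le_rfl a)))⟩
  · obtain ⟨F', _, _, e', ρ', ψ', k'⟩ := f.nm
    obtain ⟨ρ', ψ', k'⟩ := NM_card (F' := F) (by rw [e', e, Nat.card_eq_fintype_card]) k'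
    exact ⟨quot_of_nm h k f.cen, fun U W _ a b d => (cover_nm b k' (le_sup_of_le_right (le_inf le_rfl a))).elim
      (fun x => last U W b (chief_res b a d) (cover_triv b (chief_res b a d) h.nV f.DE x)) id⟩

end Cfsg.Agent.S2764
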