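import Cfsg.Statements.S2765
import Cfsg.Agent.H18.PA7

set_option autoImplicit false
open Cfsg

namespace Cfsg.Agent.S2765

/-- In the same pushing-up situation (G finite, C_G(O_p(G)) ≤ O_p(G), G/K ≅ PSL₂(p^n) with n ≥ 1, a Sylow p-subgroup S in exactly one maximal subgroup, no nontrivial characteristic subgroup of S normal in G), one of the following holds: (I) S has nilpotency class 2, exponent 4 if p = 2 and exponent p otherwise, and G has exactly one noncentral chief factor inside O_p(G); or (II) p = 3, S has class 3 and exponent 9, and G has exactly two noncentral chief factors inside O_p(G). 'Exactly one' is phrased as: some noncentral chief factor U/W inside O_p(G) with G acting hypercentrally on W and on O_p(G)/U; 'exactly two' analogously with a chain. -/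
theorem result {G : Type*} [Group G] [Finite G] {p : ℕ} [Fact p.Prime] (S : Sylow p G) (hE₁ : Subgroup.centralizer (Cfsg.pCore p G : Set G) ≤ Cfsg.pCore p G) (hE₂ : ∃! M : Subgroup G, IsCoatom M ∧ (S : Subgroup G) ≤ M) (K : Subgroup G) [K.Normal] (F : Type) [Field F] [Fintype F] (n : ℕ) (hn : 1 ≤ n) (hF : Fintype.card F = p ^ n) (hE₃ : Nonempty (G ⧸ K ≃* Matrix.ProjectiveSpecialLinearGroup (Fin 2) F)) (hd : ∀ T : Subgroup ↥(S : Subgroup G), T ≠ ⊥ → T.Characteristic → ¬ (T.map (S : Subgroup G).subtype).Normal) : ((S : Subgroup G).lowerCentralSeries 2 = ⊥ ∧ (S : Subgroup G).lowerCentralSeries 1 ≠ ⊥ ∧ (p = 2 → Monoid.exponent ↥(S : Subgroup G) = 4) ∧ (p ≠ 2 → Monoid.exponent ↥(S : Subgroup G) = p) ∧ (∃ U W : Subgroup G, W ≤ U ∧ U ≤ (Cfsg.pCore p G) ∧ Cfsg.IsChiefFactor U W ∧ ¬ ⁅U, (⊤ : Subgroup G)⁆ ≤ W ∧ (∃ k : ℕ, Cfsg.iterCommutator W ⊤ k = ⊥) ∧ (∃ k : ℕ, Cfsg.iterCommutator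 (Cfsg.pCore p G) ⊤ k ≤ U))) ∨ (p = 3 ∧ (S : Subgroup G).lowerCentralSeries 3 = ⊥ ∧ (S : Subgroup G).lowerCentralSeries 2 ≠ ⊥ ∧ Monoid.exponent ↥(S : Subgroup G) = 9 ∧ (∃ U₁ W₁ U₂ W₂ : Subgroup G, W₁ ≤ U₁ ∧ U₁ ≤ W₂ ∧ W₂ ≤ U₂ ∧ U₂ ≤ (Cfsg.pCore p G) ∧ Cfsg.IsChiefFactor U₁ W₁ ∧ Cfsg.IsChiefFactor U₂ W₂ ∧ ¬ ⁅U₁, (⊤ : Subgroup G)⁆ ≤ W₁ ∧ ¬ ⁅U₂, (⊤ : Subgroup G)⁆ ≤ W₂ ∧ (∃ k : ℕ, Cfsg.iterCommutator W₁ ⊤ k = ⊥) ∧ (∃ k : ℕ, Cfsg.iterCommutator W₂ ⊤ k ≤ U₁) ∧ (∃ k : ℕ, Cfsg.iterCommutator (Cfsg.pCore p G) ⊤ k ≤ U₂))) := by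
  open H26 H118 Subgroup in
  have c : Nat.card F = p ^ n := Nat.card_eq_fintype_card.trans hF
  have : CharP F p := charP_of_card c
  have fr : Free ⊤ (S : Subgroup G) := free_of hd
  obtain ⟨h, e⟩ := rk_hyp (isSyl_top S) hE₁ hE₂ hE₃ fr.two
  obtain ⟨ρ, ψ, k⟩ := h.nmF e
  have z : ∃ k, iterCommutator (VV p ⊤ ⊓ 𝐂 (⊤ : Subgroup G)) ⊤ k = ⊥ :=
    ⟨1, commutator_eq_bot_iff'.2 (le_centralizer_iff.1 inf_le_right)⟩
  rw [← pCoreOf_top]
  obtain ⟨A, f⟩ | ⟨D, f⟩ := h.final fr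
  · refine .inl ⟨f.cl, h.nab, fun a => ?_, fun a => ?_, _, _, inf_le_left, h.VQ, (chief_of_nm k).1, (chief_of_nm k).2,
      z, exists_ic_le h.nV (h.QG.trans h.nV) _ le_rfl h.nQ h.VQ f.QE⟩
    · subst a
      refine exp_eq (p := 2) (n := 1) f.ex fun b => h.nab (commutator_eq_bot_iff'.2 fun x hx y hy => ?_)
      have i : ∀ s ∈ (S : Subgroup G), s⁻¹ = s := fun s hs => inv_eq_of_mul_eq_one_right ((pow_two s).symm.trans (b s hs))
      rw [← i _ (mul_mem hy hx), mul_inv_rev, i x hx, i y hy]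
    · refine (exp_eq (p := p) (n := 0) (by simpa [a] using f.ex) fun b => h.nVS fun x hx => ?_).trans (by simp)
      rw [show x = 1 by simpa using b x (h.VS hx)]; exact one_mem _
  · obtain ⟨F', _, _, e', ρ', ψ', k'⟩ := f.nm
    have : Fact (Nat.Prime 3) := ⟨Nat.prime_three⟩
    exact .inr ⟨f.three, f.cl, f.ncl, exp_eq (p := 3) (n := 1) f.ex f.nex, _, _, _, D, inf_le_left, f.VD, k'.le, le_rfl,
      (chief_of_nm k).1, (chief_of_nm k').1, (chief_of_nm k).2, (chief_of_nm k').2, z,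
      exists_ic_le h.nV (h.QG.trans h.nV) _ k'.le k'.nm₀ f.VD f.DE, 0, le_rfl⟩

end Cfsg.Agent.S2765
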