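import Cfsg.Statements.S2766
import Cfsg.Agent.H18.PA8

set_option autoImplicit false
open Cfsg

namespace Cfsg.Agent.S2766

/-- Let p ≥ 5 be prime and G a maximal p-local subgroup of a finite group H (G is the normalizer of a nontrivial p-subgroup and lies in no other such normalizer). Suppose C_G(O_p(G)) ≤ O_p(G), G/K ≅ PSL₂(p^n) for some normal K and n ≥ 1, a Sylow p-subgroup S of G lies in exactly one maximal subgroup of G, and N_H(S) is not contained in G. Then G = G₀ × E for subgroups G₀ ≅ Qd(p^n) (the natural semidirect product of the plane over the field with p^n elements by SL₂) and E an elementary abelian p-group. -/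
theorem result {H : Type*} [Group H] [Finite H] {p : ℕ} [Fact p.Prime] (hp : 5 ≤ p) (G : Subgroup H) (hloc : ∃ R : Subgroup H, IsPGroup p ↥R ∧ R ≠ ⊥ ∧ G = Subgroup.normalizer (R : Set H)) (hmax : ∀ R : Subgroup H, IsPGroup p ↥R → R ≠ ⊥ → G ≤ Subgroup.normalizer (R : Set H) → Subgroup.normalizer (R : Set H) = G) (S : Sylow p ↥G) (hE₁ : Subgroup.centralizer (Cfsg.pCore p ↥G : Set ↥G) ≤ Cfsg.pCore p ↥G) (hE₂ : ∃! M : Subgroup ↥G, IsCoatom M ∧ (S : Subgroup ↥G) ≤ M) (K : Subgroup ↥G) [K.Normal] (F : Type) [Field F] [Fintype F] (n : ℕ) (hn : 1 ≤ n) (hF : Fintype.card F = p ^ n) (hE₃ : Nonempty (↥G ⧸ K ≃* Matrix.ProjectiveSpecialLinearGroup (Fin 2) F)) (hN : ¬ Subgroup.normalizer (((S : Subgroup ↥G).map G.subtype : Subgroup H) : Set H) ≤ G) : ∃ G₀ E : Subgroup H, Cfsg.IsInternalDirectProduct G₀ E G ∧ Cfsg.IsElementaryAbelian p E ∧ Nonempty (↥G₀ ≃* ↥(Cfsg.qdOver F)) := by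
  open H26 H118 Subgroup in
  have c : Nat.card F = p ^ n := Nat.card_eq_fintype_card.trans hF
  have : CharP F p := charP_of_card c
  have hf := G.subtype_injective
  have hS := isSyl_map_subtype S
  have fr : ∀ U ≤ (S : Subgroup G).map G.subtype, G ≤ 𝐍 U → 𝐍 ((S : Subgroup G).map G.subtype) ≤ 𝐍 U → U = ⊥ :=
    fun U a b d => by_contra fun e => hN (d.trans (hmax U (hS.isP.to_le a) e b).le)
  obtain ⟨h, e⟩ := rk_hyp (isSyl_top S) hE₁ hE₂ hE₃ fun U a b d => (map_eq_bot_iff_of_injective _ hf).1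
    (fr _ (map_mono a) ((map_subtype_top G).ge.trans (map_le_normalizer_map _ d)) (by
      rcases b with rfl | rfl
      · rw [map_oc hf]; exact le_n_oc le_rfl
      · rw [H4.map_thompsonOf hf]; exact H4.normalizer_le_normalizer_thompsonOf _ _))
  rw [← RK_map hf, map_subtype_top] at h
  rw [← relIndex_map_map_of_injective _ _ hf, map_pCoreOf hf, map_subtype_top] at e
  obtain ⟨s, -, k⟩ | ⟨_, _, _, _, _, _, _, k⟩ := h.dich le_normalizer le_rfl fr
  swap
  · have := k.three; omega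
  have f := k.f1 le_rfl fr
  have ab : ⁅𝐎 p G, 𝐎 p G⁆ = ⊥ := by_contra fun a => k.cr (by
    have := hmax _ ((isPGroup_pCoreOf p G).to_le (commutator_le_of_le_normalizer le_normalizer)) a
      (le_normalizer_commutator h.nQ h.nQ)
    rw [cj_eq_of_mem (this.le (cj_eq_iff.1 (by rw [cj_commutator, cj_pCoreOf, k.symm.QQ, k.QQ, inf_comm])))]
    exact h.VQ)
  have p2 : p ≠ 2 := by omega
  obtain ⟨a, b⟩ := f.qd hp (le_oc (isElementaryAbelian_iff.2 ⟨commutator_eq_bot_iff'.1 ab, fun x hx => by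
    simpa [p2] using f.ex x (h.QS hx)⟩) le_rfl (commutator_eq_bot_iff'.1 ab)) e
  exact ⟨_, _, a, elemAb_mono h.Vea inf_le_left, b⟩

end Cfsg.Agent.S2766
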