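import Cfsg.Statements.S2773
import Cfsg.Agent.H27.P3B

set_option autoImplicit false
universe u
open Cfsg

namespace Cfsg.Agent.S2773

open H26 H27 Subgroup

/-- For every nontrivial finite 3-group S there is a nontrivial characteristic subgroup K of S such that, in every finite group G containing S as a Sylow 3-subgroup, S ∩ G' is the product of S ∩ (C_G(Z(S)))' and S ∩ (N_G(K))' (derived subgroups; product taken elementwise). -/
theorem result {S : Type u} [Group S] [Finite S] [Nontrivial S] (hS : IsPGroup 3 S) : ∃ K : Subgroup S, K ≠ ⊥ ∧ K.Characteristic ∧ ∀ (G : Type u) [Group G] [Finite G] (τ : S →* G), Function.Injective τ → (∃ P : Sylow 3 G, (P : Subgroup G) = τ.range) → ∀ g : G, g ∈ τ.range ⊓ commutator G ↔ ∃ a ∈ τ.range ⊓ ⁅Subgroup.centralizer ((τ.range ⊓ Subgroup.centralizer (τ.range : Set G) : Subgroup G) : Set G), Subgroup.centralizer ((τ.range ⊓ Subgroup.centralizer (τ.range : Set G) : Subgroup G) : Set G)⁆, ∃ b ∈ τ.range ⊓ ⁅Subgroup.normalizer ((K.map τ : Subgroup G) : Set G),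 Subgroup.normalizer ((K.map τ : Subgroup G) : Set G)⁆, g = a * b := by
  have : Fact (Nat.Prime 3) := ⟨Nat.prime_three⟩
  refine ⟨kFun 3 S, cpf_k.1 _ hS ‹_›, characteristic_iff_map_eq.2 (cpf_k.2 _ _ hS), fun G _ _ τ hτ ⟨P, hP⟩ g => ?_⟩
  have hT := isSyl_top P
  have e : (kFun 3 S).map τ = inducedFunctor (kFun 3) τ.range := by
    rw [inducedFunctor, ← cpf_k.2 _ _ hS (MonoidHom.ofInjective hτ), Subgroup.map_map]; rfl
  rw [hP] at hT
  rw [e]
  refine ⟨fun h => (mem_sup_of_le_normalizer' ?_).1 (inf_comm_le_ZK (by decide) hT h) |>.imp fun a h =>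
    h.imp_right fun h => h.imp fun b h => h.imp_right Eq.symm, ?_⟩
  · have c : τ.range ≤ centralizer (H118.ZZ τ.range : Set G) := le_centralizer_iff.1 inf_le_right
    exact inf_le_left.trans (le_normalizer_inf le_normalizer (c.trans (le_normalizer_commutator_left _ _)))
  · rintro ⟨a, ha, b, hb, rfl⟩
    exact mul_mem (inf_le_inf_left _ (commutator_mono le_top le_top) ha)
      (inf_le_inf_left _ (commutator_mono le_top le_top) hb)

end Cfsg.Agent.S2773
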