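import Cfsg.Statements.S2803
import Cfsg.Agent.H26.PRed

set_option autoImplicit false
open Cfsg

namespace Cfsg.Agent.S2803

open H26 Subgroup
open scoped Pointwise commutatorElement

/-- Let L be a finite group and p a prime with C_L(O_p(L)) ≤ O_p(L), T a Sylow p-subgroup, and Y the largest p-reduced normal subgroup of L. Put T_L = C_T(Y) and L_T = N_L(T_L). Then L = L_T · C_L(Y) (elementwise), T_L = O_p(L_T), and Y = Ω₁(Z(T_L)). -/
theorem result {L : Type*} [Group L] [Finite L] {p : ℕ} [Fact p.Prime] (hchar : Subgroup.centralizer (Cfsg.pCore p L : Set L) ≤ Cfsg.pCore p L) (T : Sylow p L) (Y : Subgroup L) (hY : (Cfsg.IsPReducedNormal p Y ∧ ∀ V : Subgroup L, Cfsg.IsPReducedNormal p V → V ≤ Y)) (TL : Subgroup L) (hTL : TL = (T : Subgroup L) ⊓ Subgroup.centralizer (Y : Set L)) : (∀ g : L, ∃ a ∈ Subgroup.normalizer (TL : Set L), ∃ c ∈ Subgroup.centralizer (Y : Set L), g = a * c) ∧ (Cfsg.pCore p ↥(Subgroup.normalizer (TL : Set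 L))).map (Subgroup.normalizer (TL : Set L)).subtype = TL ∧ Y = Cfsg.omegaOne p (TL ⊓ Subgroup.centralizer (TL : Set L)) := by
  have hY1 := pRed_top_iff.2 hY.1
  have hY2 : YY p ⊤ = Y := YY_eq_of hY1 fun W hW => hY.2 W (pRed_top_iff.1 hW)
  subst hTL
  refine ⟨fun g => ?_, ?_, ?_⟩
  · have h1 := inf_normalizer_sup_centralizer (isSyl_top T) hY1.norm
    rw [top_inf_eq, top_sup_eq] at h1
    have hg : g ∈ 𝐍 ((T : Subgroup L) ⊓ 𝐂 Y) ⊔ 𝐂 Y := h1 ▸ mem_top g
    obtain ⟨a, ha, c, hc, h⟩ := (mem_sup_of_le_normalizer (le_normalizer_centralizer (le_top.trans hY1.norm))).1 hg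
    exact ⟨a, ha, c, hc, h.symm⟩
  · have := hY1.pCoreOf_normalizer (isSyl_top T)
    rwa [top_inf_eq] at this
  · have := (charPOf_top.2 hchar).YY_eq (isSyl_top T)
    rwa [hY2] at this

end Cfsg.Agent.S2803
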