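import Cfsg.Statements.S2806
import Cfsg.Agent.H26.Kieler

set_option autoImplicit false
open Cfsg

namespace Cfsg.Agent.S2806

open H26 Subgroup
open scoped Pointwise commutatorElement

/-- Let H be a finite group of local characteristic p, T a Sylow p-subgroup, and L₁, L₂ subnormal subgroups of H generating the subgroup L. Then the point stabilizer of L with respect to T ∩ L is generated by the point stabilizers of L₁ and L₂ with respect to T ∩ L₁ and T ∩ L₂ (point stabilizer of X w.r.t. R: the subgroup generated by the p-elements of X centralizing Ω₁(Z(R))). -/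
theorem result {H : Type*} [Group H] [Finite H] {p : ℕ} [Fact p.Prime] (hH : Cfsg.IsOfLocalCharacteristic p H) (T : Sylow p H) (L₁ L₂ : Subgroup H) (h₁ : L₁.IsSubnormal) (h₂ : L₂.IsSubnormal) : Cfsg.pointStabilizer p (L₁ ⊔ L₂) ((T : Subgroup H) ⊓ (L₁ ⊔ L₂)) = Cfsg.pointStabilizer p L₁ ((T : Subgroup H) ⊓ L₁) ⊔ Cfsg.pointStabilizer p L₂ ((T : Subgroup H) ⊓ L₂) := by
  have hl := locCharOf_of_isOfLocal hH
  have hT := isSyl_top T
  have s1 := subnIn_top_of_isSubnormal h₁
  have s2 := subnIn_top_of_isSubnormal h₂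
  rw [pointStabilizer_eq_of_subnIn hl hT s1, pointStabilizer_eq_of_subnIn hl hT s2,
    pointStabilizer_eq_of_subnIn hl hT (s1.sup s2)]
  set D := 𝐂 (Cfsg.omegaOne p ((T : Subgroup H) ⊓ 𝐂 (T : Subgroup H)))
  have hTD : (T : Subgroup H) ≤ D := le_centralizer_omegaOne_center _
  refine le_antisymm ?_ (sup_le (pElementClosure_mono (inf_le_inf_right _ le_sup_left))
    (pElementClosure_mono (inf_le_inf_right _ le_sup_right)))
  have e : ∀ L ≤ L₁ ⊔ L₂, H2.SubnIn L ⊤ → H2.SubnIn (Cfsg.pElementClosure p (L ⊓ D)) ((L₁ ⊔ L₂) ⊓ D) := fun L h1 h2 =>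
    (H2.SubnIn.of_normal (pElementClosure_le p _) (le_normalizer_pElementClosure p _)).trans ((h2.of_le h1 le_top).inf_right D)
  refine ((hT.inf_of_subnIn (s1.sup s2)).mono (le_inf inf_le_right (inf_le_left.trans hTD)) inf_le_left).pElementClosure_le_of_subnIn
    ((e L₁ le_sup_left s1).sup (e L₂ le_sup_right s2)) ?_
  rw [hT.inf_sup_of_subnIn s1 s2]
  exact sup_le_sup (le_pElementClosure hT.isP.to_inf_left (le_inf inf_le_right (inf_le_left.trans hTD)))
    (le_pElementClosure hT.isP.to_inf_left (le_inf inf_le_right (inf_le_left.trans hTD)))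

end Cfsg.Agent.S2806
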