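import Cfsg.Statements.S2809
import Cfsg.Agent.H26.Min

set_option autoImplicit false
open Cfsg

namespace Cfsg.Agent.S2809

open H26 Subgroup
open scoped Pointwise commutatorElement

/-- Let H be a finite group, p a prime, R a p-subgroup of H with C_H(R) ≤ R, and L a subgroup of N_H(R) acting nilpotently on R (some iterated commutator [R, L, …, L] is trivial). Then L is a p-group. -/
theorem result {H : Type*} [Group H] [Finite H] {p : ℕ} [Fact p.Prime] (R : Subgroup H) (hR : IsPGroup p ↥R) (hC : Subgroup.centralizer (R : Set H) ≤ R) (L : Subgroup H) (hL : L ≤ Subgroup.normalizer (R : Set H)) (hnil : ∃ n : ℕ, Cfsg.iterCommutator R L n = ⊥) : IsPGroup p ↥L := by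
  have hA : pResidualOf p L ≤ L := pResidualOf_le p L
  have key : ∀ n, ⁅R, pResidualOf p L⁆ ≤ Cfsg.iterCommutator R L n := by
    intro n
    induction n with
    | zero => exact commutator_le_of_le_normalizer (hA.trans hL)
    | succ n ih =>
      rw [← commutator_commutator_pResidualOf hR hL]
      exact commutator_mono ih hA
  obtain ⟨n, hn⟩ := hnil
  have h1 := key n
  rw [hn, le_bot_iff, commutator_eq_bot_iff'] at h1
  exact isPGroup_of_pResidualOf_le hR (h1.trans hC)

end Cfsg.Agent.S2809
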