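import Cfsg.Statements.S2810
import Cfsg.Agent.H26.Min

set_option autoImplicit false
open Cfsg

namespace Cfsg.Agent.S2810

open H26 Subgroup
open scoped Pointwise commutatorElement

/-- Let H be a finite group of characteristic p and L a subgroup of H centralizing every factor of some H-invariant chain 1 = A₀ ≤ A₁ ≤ … ≤ Aₙ = O_p(H) of normal subgroups (that is, [A_{i+1}, L] ≤ Aᵢ for each i). Then L ≤ O_p(H). -/
theorem result {H : Type*} [Group H] [Finite H] {p : ℕ} [Fact p.Prime] (hchar : Subgroup.centralizer (Cfsg.pCore p H : Set H) ≤ Cfsg.pCore p H) (L : Subgroup H) (n : ℕ) (A : Fin (n + 1) → Subgroup H) (h0 : A 0 = ⊥) (hn : A (Fin.last n) = Cfsg.pCore p H) (hmono : Monotone A) (hnorm : ∀ i, (A i).Normal) (hcent : ∀ i : Fin n, ⁅A i.succ, L⁆ ≤ A i.castSucc) : L ≤ Cfsg.pCore p H := by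
  have hQ := isPGroup_pCore p H
  have hA : pResidualOf p (ncl L ⊤) ≤ ncl L ⊤ := pResidualOf_le _ _
  have hc : ∀ i : Fin n, ⁅A i.succ, ncl L ⊤⁆ ≤ A i.castSucc := by
    intro i
    have := hnorm i.succ
    have := hnorm i.castSucc
    rw [commutator_comm]
    exact commutator_ncl_le (by rw [commutator_comm]; exact hcent i) le_normalizer_of_normal le_normalizer_of_normal
      le_normalizer_of_normal
  have key : ∀ i, ⁅pCore p H, pResidualOf p (ncl L ⊤)⁆ ≤ A i := by
    intro i
    induction i using Fin.reverseInduction with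
    | last => rw [hn]; exact commutator_le_left _ _
    | cast i ih =>
      rw [← commutator_commutator_pResidualOf hQ le_normalizer_of_normal]
      exact (commutator_mono ih hA).trans (hc i)
  have h1 := key 0
  rw [h0, le_bot_iff, commutator_eq_bot_iff'] at h1
  exact (le_ncl L ⊤).trans (le_pCore (isPGroup_of_pResidualOf_le hQ (h1.trans hchar)))

end Cfsg.Agent.S2810
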