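import Cfsg.Statements.S2813
import Cfsg.Agent.H26.Min

set_option autoImplicit false
open Cfsg

namespace Cfsg.Agent.S2813

open H26 Subgroup
open scoped Pointwise commutatorElement

/-- Let K be a subgroup of the finite group H with O_p(K) = 1 and Y a p-subgroup of N_H(K) with [K, Y, Y] = 1. Then [K, Y] = 1. -/
theorem result {H : Type*} [Group H] [Finite H] {p : ℕ} [Fact p.Prime] (K : Subgroup H) (hO : Cfsg.pCore p ↥K = ⊥) (Y : Subgroup H) (hY : IsPGroup p ↥Y) (hYK : Y ≤ Subgroup.normalizer (K : Set H)) (hq : ⁅⁅K, Y⁆, Y⁆ = ⊥) : ⁅K, Y⁆ = ⊥ := by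
  rw [pCore_eq_bot_iff] at hO
  have h1 : H2.SubnIn Y (K ⊔ Y) := by
    refine .step (le_ncl Y K) ?_ (.of_normal (ncl_le_of_le le_sup_right le_sup_left)
      (sup_le (le_normalizer_ncl Y K) ((le_ncl Y K).trans le_normalizer)))
    rw [ncl_eq_sup_commutator, commutator_comm]
    exact sup_le le_normalizer (le_normalizer_of_le_centralizer (commutator_eq_bot_iff_le_centralizer.1 hq))
  have h2 := le_pCoreOf_of_subnIn h1 hY
  rw [eq_bot_iff, ← hO]
  refine le_trans (le_inf (commutator_le_of_le_normalizer hYK) ?_) (inf_pCoreOf_le' (H := K ⊔ Y) le_sup_left)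
  exact (commutator_mono le_rfl h2).trans
    (commutator_le_of_le_normalizer' (le_sup_left.trans (le_normalizer_pCoreOf p _)))

end Cfsg.Agent.S2813
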