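import Cfsg.Statements.S2814
import Cfsg.Agent.H26.Min

set_option autoImplicit false
open Cfsg

namespace Cfsg.Agent.S2814

open H26 Subgroup
open scoped Pointwise commutatorElement

/-- Let A be a subgroup of the finite group H and K the subnormal closure of A (intersection of the subnormal subgroups containing A). Then K is the normal closure of A inside K and N_H(A) ≤ N_H(K); K = A·O^p(K), O^p(K) being generated by the elements of K of order prime to p; and if A is a p-group, O^p(K) = [O^p(K), A]. -/
theorem result {H : Type*} [Group H] [Finite H] {p : ℕ} [Fact p.Prime] (A : Subgroup H) (K : Subgroup H) (hK : K = Cfsg.subnormalClosure A) : (Subgroup.normalClosure ((A.subgroupOf K : Subgroup ↥K) : Set ↥K)).map K.subtype = K ∧ Subgroup.normalizer (A : Set H) ≤ Subgroup.normalizer (K : Set H) ∧ A ⊔ (Cfsg.pResidual p ↥K).map K.subtype = K ∧ (IsPGroup p ↥A → ⁅(Cfsg.pResidual p ↥K).map K.subtype, A⁆ = (Cfsg.pResidual p ↥K).map K.subtype) := by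
  obtain ⟨h1, h2, h3⟩ := subnormalClosure_spec A
  rw [← hK] at h1 h2 h3
  have hs := subnIn_top_of_isSubnormal h2
  have key : ∀ L, A ≤ L → H2.SubnIn L K → L = K := fun L h4 h5 =>
    le_antisymm h5.le (h3 L h4 (H2.subnIn_top_iff.1 (h5.trans hs)))
  have e1 : ncl A K = K := key _ (le_ncl A K) (.of_normal (ncl_le_self h1) (le_normalizer_ncl A K))
  have e2 : A ⊔ pResidualOf p K = K :=
    key _ le_sup_left (subnIn_of_pResidualOf_le le_sup_right (sup_le h1 (pResidualOf_le p K)))
  refine ⟨by rw [map_normalClosure_subgroupOf h1, e1], fun g hg => ?_, e2, fun hA => ?_⟩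
  · refine inv_mem_iff.1 (mem_normalizer_of_cj_le (le_cj_iff.1 (h3 _ ?_ ?_)))
    · rw [← cj_eq_iff.2 hg]; exact cj_mono g h1
    · exact H2.subnIn_top_iff.1 (subnIn_cj_of_mem_normalizer hs (le_normalizer (mem_top g)))
  · change ⁅pResidualOf p K, A⁆ = pResidualOf p K
    refine le_antisymm (commutator_le_of_le_normalizer (h1.trans (le_normalizer_pResidualOf p K))) ?_
    have e3 : ncl A (pResidualOf p K) = K := by
      rw [← ncl_sup_of_le_normalizer le_normalizer (h1.trans (le_normalizer_pResidualOf p K)), sup_comm, e2, e1]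
    have := pResidualOf_ncl_le (H := pResidualOf p K) hA
    rwa [e3, commutator_comm] at this

end Cfsg.Agent.S2814
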