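import Cfsg.Statements.S2815
import Cfsg.Agent.H17.FStar

set_option autoImplicit false
open Cfsg

namespace Cfsg.Agent.S2815

/-- Let H be a finite group and p a prime dividing its order with O_p(H) = 1, and suppose K = O^p(H) (generated by the elements of order prime to p) is quasisimple. Then K = F*(H); for every nontrivial p-subgroup Y of H, K = [K, Y] and K lies in the subgroup generated by the K-conjugates of Y; every normal subgroup of H not containing K has order prime to p; and H is p-irreducible. -/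
theorem result {H : Type*} [Group H] [Finite H] {p : ℕ} [Fact p.Prime] (hp : p ∣ Nat.card H) (hO : Cfsg.pCore p H = ⊥) (hq : Cfsg.IsQuasisimple ↥(Cfsg.pResidual p H)) : Cfsg.pResidual p H = Cfsg.generalizedFittingSubgroup H ∧ (∀ Y : Subgroup H, IsPGroup p ↥Y → Y ≠ ⊥ → ⁅Cfsg.pResidual p H, Y⁆ = Cfsg.pResidual p H ∧ Cfsg.pResidual p H ≤ ⨆ k : ↥(Cfsg.pResidual p H), Y.map (MulAut.conj (k : H)).toMonoidHom) ∧ (∀ C : Subgroup H, C.Normal → ¬ Cfsg.pResidual p H ≤ C → (Nat.card ↥C).Coprime p) ∧ Cfsg.IsPIrreducible p H := by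
  have hO' : H17.oP p (⊤ : Subgroup H) = ⊥ := by rw [H17.oP_top, hO]
  rw [← H17.oUp_top] at hq ⊢
  set K := H17.oUp p (⊤ : Subgroup H) with hK
  have hKn : (⊤ : Subgroup H) ≤ Subgroup.normalizer (K : Set H) := H17.le_normalizer_oUp p ⊤
  have hc : H17.IsComp K ⊤ := ⟨H17.subn_oUp p ⊤, hq⟩
  have h1 : K = H17.gfit ⊤ := by
    refine le_antisymm (hc.le_lay.trans (H17.lay_le_gfit ⊤)) ?_
    rw [H17.gfit_eq]
    exact sup_le ((H17.oUp_eq_self_of_perfect (H17.lay_perfect ⊤)).ge.trans (H17.oUp_mono p le_top))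
      (H17.le_oUp le_top (H17.not_dvd_fit hO'))
  have h2 : ∀ C : Subgroup H, C.Normal → ¬ K ≤ C → ¬ p ∣ Nat.card C := fun C hC hn => by
    have h3 := (hc.le_or_commutator le_top (H17.le_normalizer_of_normal' K C)).resolve_left hn
    refine H17.not_dvd_card_of_le ((le_inf le_top ?_).trans (H17.centralizer_gfit_le_fit ⊤)) (H17.not_dvd_fit hO')
    rw [← h1]; exact H17.le_centralizer_of_commutator_eq_bot h3
  refine ⟨h1.trans H17.gfit_top, fun Y hY hY1 => ?_, fun C hC hn => H17.coprime_iff_not_dvd.mpr (h2 C hC hn),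
    fun h => ?_, fun N hN hn => ?_⟩
  · have h3 : ⁅K, Y⁆ = K := (H17.qs_commutator_eq_or hq (le_top.trans hKn)).resolve_right fun e =>
      hY1 (H17.eq_bot_of_centralizes_gfit hO' hY le_top (h1 ▸ e))
    refine ⟨h3, h3.ge.trans (Subgroup.commutator_le.mpr fun k hk y hy => ?_)⟩
    exact mul_mem (Subgroup.mem_iSup_of_mem (⟨k, hk⟩ : K) (H17.conj_mem_cj hy))
      (Subgroup.mem_iSup_of_mem (⟨1, one_mem _⟩ : K) (by simpa using H17.conj_mem_cj (g := 1) (inv_mem hy)))
  · obtain ⟨S⟩ : Nonempty (Sylow p H) := inferInstance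
    have := h S
    refine (H17.isSyl_sylow S).eq_bot_iff.mp (eq_bot_iff.mpr (hO' ▸ H17.le_oP le_top
      (H17.le_normalizer_of_normal' _ _) S.isPGroup')) (by rwa [Subgroup.card_top])
  · rw [← H17.oUp_top]
    by_contra h
    refine hn fun P => ?_
    rw [H17.eq_bot_of_pgroup_of_not_dvd P.isPGroup' fun hd => h2 N hN h (hd.trans (Subgroup.card_subgroup_dvd_card _))]
    infer_instance

end Cfsg.Agent.S2815
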