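import Cfsg.Statements.S2816
import Cfsg.Agent.H17.FStar

set_option autoImplicit false
open Cfsg

namespace Cfsg.Agent.S2816

/-- Let H be a finite group and p a prime with O_p(H) = 1, and Y a p-subgroup of H. Then for every subnormal subgroup K of H containing Y, [F*(H), Y] = [F*(K), Y] = [F*(K), Y, Y]; and if Y₀ ≤ Y with [F*(H), Y, Y₀] = 1 then Y₀ = 1 (in particular [F*(H), Y] = 1 forces Y = 1). -/
theorem result {H : Type*} [Group H] [Finite H] {p : ℕ} [Fact p.Prime] (hO : Cfsg.pCore p H = ⊥) (Y : Subgroup H) (hY : IsPGroup p ↥Y) : (∀ K : Subgroup H, K.IsSubnormal → Y ≤ K → ⁅Cfsg.generalizedFittingSubgroup H, Y⁆ = ⁅(Cfsg.generalizedFittingSubgroup ↥K).map K.subtype, Y⁆ ∧ ⁅(Cfsg.generalizedFittingSubgroup ↥K).map K.subtype, Y⁆ = ⁅⁅(Cfsg.generalizedFittingSubgroup ↥K).map K.subtype, Y⁆, Y⁆) ∧ (∀ Y₀ : Subgroup H, Y₀ ≤ Y → ⁅⁅Cfsg.generalizedFittingSubgroup H, Y⁆, Y₀⁆ = ⊥ → Y₀ = ⊥) := by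
  have hO' : H17.oP p (⊤ : Subgroup H) = ⊥ := by rw [H17.oP_top, hO]
  have key : ∀ Y : Subgroup H, IsPGroup p Y → ⁅⁅H17.gfit ⊤, Y⁆, Y⁆ = ⁅H17.gfit ⊤, Y⁆ := fun Y hY =>
    (H17.subn_gfit ⊤).commutator_commutator le_rfl hO' hY (le_top.trans (H17.le_normalizer_gfit ⊤))
  rw [← H17.gfit_top]
  refine ⟨fun K hK hYK => ?_, fun Y₀ h0 h => ?_⟩
  · have hK' := H17.subn_top_iff.mpr hK
    have h1 : ⁅H17.gfit (⊤ : Subgroup H), Y⁆ ≤ H17.gfit K := by
      rw [hK'.gfit_eq]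
      exact le_inf (H17.commutator_le_left_of_le_normalizer (le_top.trans (H17.le_normalizer_gfit (⊤ : Subgroup H))))
        (hK'.le_of_le_commutator le_top hYK (key Y hY).ge)
    exact ⟨le_antisymm ((key Y hY).ge.trans (Subgroup.commutator_mono h1 le_rfl))
      (Subgroup.commutator_mono hK'.gfit_le_gfit le_rfl), ((H17.subn_gfit K).commutator_commutator le_rfl
        (hK'.oP_eq_bot hO') hY (hYK.trans (H17.le_normalizer_gfit K))).symm⟩
  · refine H17.eq_bot_of_centralizes_gfit hO' (hY.to_le h0) le_top ?_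
    rw [← key Y₀ (hY.to_le h0)]
    exact H17.commutator_eq_bot_mono h (Subgroup.commutator_mono le_rfl h0) le_rfl

end Cfsg.Agent.S2816
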