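import Cfsg.Statements.S2817
import Cfsg.Agent.H17.FStar

set_option autoImplicit false
open Cfsg

namespace Cfsg.Agent.S2817

/-- Let H be a finite group and p a prime with O_p(H) = 1, Q a p-subgroup of H, L = [F*(H), Q], and F the largest normal subgroup of F*(H) centralized by Q (a normal subgroup of F*(H) centralized by Q and containing every such). Then F = C_{F*(H)}(LQ); L = [L, Q]; L ∩ F ≤ Φ(L); every p-subgroup B of N_H(Q) with [L, B] ≤ F satisfies [L, B] = 1; and C_H(FL) has order prime to p. -/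
theorem result {H : Type*} [Group H] [Finite H] {p : ℕ} [Fact p.Prime] (hO : Cfsg.pCore p H = ⊥) (Q : Subgroup H) (hQ : IsPGroup p ↥Q) (L : Subgroup H) (hL : L = ⁅Cfsg.generalizedFittingSubgroup H, Q⁆) (F : Subgroup H) (hF : F ≤ Cfsg.generalizedFittingSubgroup H ∧ Cfsg.generalizedFittingSubgroup H ≤ Subgroup.normalizer (F : Set H) ∧ Q ≤ Subgroup.centralizer (F : Set H) ∧ ∀ N : Subgroup H, N ≤ Cfsg.generalizedFittingSubgroup H → Cfsg.generalizedFittingSubgroup H ≤ Subgroup.normalizer (N : Set H) → Q ≤ Subgroup.centralizer (N : Set H) → N ≤ F) : F = Cfsg.generalizedFittingSubgroup H ⊓ Subgroup.centralizer ((L ⊔ Q : Subgroup H) : Set H) ∧ ⁅L, Q⁆ = L ∧ L ⊓ F ≤ (frattini ↥L).map L.subtype ∧ (∀ B : Subgroup H, IsPGroup p ↥B → B ≤ Subgroup.normalizer (Q : Set H) → ⁅L, B⁆ ≤ F → ⁅L, B⁆ = ⊥) ∧ (Nat.card ↥(Subgroup.centralizer ((F ⊔ L : Subgroup H) : Set H))).Coprime p := by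
  have hO' : H17.oP p (⊤ : Subgroup H) = ⊥ := by rw [H17.oP_top, hO]
  rw [← H17.gfit_top] at hL hF ⊢
  obtain ⟨hF1, hF2, hF3, hF4⟩ := hF
  set E := H17.gfit (⊤ : Subgroup H) with hE
  have hEn : (⊤ : Subgroup H) ≤ Subgroup.normalizer (E : Set H) := H17.le_normalizer_gfit ⊤
  have hLs : H17.Subn ⊤ L := hL ▸ H17.subn_commutator_gfit (H17.le_normalizer_of_normal' _ _)
  have hLE : L ≤ E := hL ▸ H17.commutator_le_left_of_le_normalizer (le_top.trans hEn)
  have hEL : E ≤ Subgroup.normalizer (L : Set H) := hL ▸ Subgroup.normalizer_commutator_ge_left _ _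
  have hQL : Q ≤ Subgroup.normalizer (L : Set H) := hL ▸ Subgroup.normalizer_commutator_ge_right _ _
  have h1 : F = E ⊓ Subgroup.centralizer ((L ⊔ Q : Subgroup H) : Set H) := by
    refine le_antisymm (le_inf hF1 ?_) (hF4 _ inf_le_left (H17.le_normalizer_inf Subgroup.le_normalizer
      (H17.le_normalizer_centralizer (H17.le_normalizer_of_commutator_le ?_))) ?_)
    · rw [H17.centralizer_sup]
      refine le_inf (H17.le_centralizer_of_commutator_eq_bot' ?_) (Subgroup.le_centralizer_iff.mp hF3)
      rw [hL]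
      refine Subgroup.commutator_commutator_eq_bot_of_rotate ?_ ?_
      · rw [H17.commutator_eq_bot_of_le_centralizer hF3, Subgroup.commutator_bot_left]
      · exact H17.commutator_eq_bot_mono (H17.commutator_eq_bot_of_le_centralizer' hF3)
          (H17.commutator_le_left_of_le_normalizer hF2) le_rfl
    · exact H4.commutator_sup_le' ((H17.commutator_le_right_of_le_normalizer hEL).trans le_sup_left)
        (hL.ge.trans le_sup_left) (le_sup_left.trans Subgroup.le_normalizer) (le_sup_right.trans Subgroup.le_normalizer)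
    · exact Subgroup.le_centralizer_iff.mp (inf_le_right.trans (H17.centralizer_anti le_sup_right))
  have h2 : ⁅L, Q⁆ = L := by
    rw [hL]; exact (H17.subn_gfit ⊤).commutator_commutator le_rfl hO' hQ (le_top.trans hEn)
  have h3 : L ⊓ F ≤ H17.phi L := by
    refine le_trans (le_inf (inf_le_right.trans (h1.le.trans (inf_le_right.trans
      (H17.centralizer_anti le_sup_left)))) ?_) (H17.center_inf_commutator_le_phi L)
    have hLn : L ≤ Subgroup.normalizer ((⁅L, L⁆ : Subgroup H) : Set H) := Subgroup.normalizer_commutator_ge_left _ _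
    have hQn : Q ≤ Subgroup.normalizer ((⁅L, L⁆ : Subgroup H) : Set H) := H17.le_normalizer_commutator hQL hQL
    have h4 : H18.mim (H18.coset ⁅L, L⁆) L ≤ H18.mim (H18.coset ⁅L, L⁆) (H17.fit L) := by
      rw [H18.quo_le_quo_iff hLn ((H17.fit_le L).trans hLn)]
      conv_lhs => rw [← hLs.gfit_eq_self hLE, H17.gfit_eq, sup_comm]
      exact sup_le_sup_left ((H17.lay_perfect L).ge.trans (Subgroup.commutator_mono (H17.lay_le L) (H17.lay_le L))) _
    have h5 := (H17.Cop.of_pgroup (H17.isPGroup_mim (f := H18.coset ⁅L, L⁆) hQ) (H17.not_dvd_card_of_le h4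
      (H17.not_dvd_card_mim (H17.not_dvd_fit (hLs.oP_eq_bot hO')))) (H18.mim_norm hQL)).centralizer_inf_commutator
      (H17.commutator_eq_bot_of_le_centralizer ((H18.abel_quo_iff hLn).mpr le_rfl))
    rw [← H18.mim_comm hLn hQn, h2] at h5
    rw [← H18.quo_eq_bot_iff (inf_le_left.trans hLn), eq_bot_iff, ← h5]
    exact le_inf (H18.mim_cent (inf_le_right.trans (Subgroup.le_centralizer_iff.mp hF3))) (H18.mim_mono inf_le_left)
  refine ⟨h1, h2, h3, fun B hB hBQ hBF => ?_, H17.coprime_iff_not_dvd.mpr fun hd => ?_⟩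
  · have hBL : B ≤ Subgroup.normalizer (L : Set H) := hL ▸ H17.le_normalizer_commutator (le_top.trans hEn) hBQ
    have h4 := H17.eq_of_le_sup_phi (K := L ⊓ Subgroup.centralizer (B : Set H)) inf_le_left
      ((hLs.eq_centralizer_sup_commutator hLE hO' hB hBL).ge.trans (sup_le_sup_left
        ((le_inf (H17.commutator_le_left_of_le_normalizer hBL) hBF).trans h3) _))
    exact H17.commutator_eq_bot_of_le_centralizer (h4.ge.trans inf_le_right)
  · obtain ⟨P, hP⟩ := H17.exists_isSyl p (Subgroup.centralizer ((F ⊔ L : Subgroup H) : Set H))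
    refine hP.eq_bot_iff.mp (H17.eq_bot_of_centralizes_gfit hO' hP.pgroup le_top ?_) hd
    have hD : H17.Subn ⊤ (E ⊓ Subgroup.centralizer (L : Set H)) := (H17.subn_gfit ⊤).trans (.of_normal inf_le_left
      (H17.le_normalizer_inf Subgroup.le_normalizer (H17.le_normalizer_centralizer hEL)))
    have h4 : E ⊓ Subgroup.centralizer (L : Set H) ≤ F ⊔ L := by
      refine (hD.eq_centralizer_sup_commutator inf_le_left hO' hQ (H17.le_normalizer_inf (le_top.trans hEn)
        (H17.le_normalizer_centralizer hQL))).ge.trans (sup_le_sup ?_ ?_)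
      · rw [h1, H17.centralizer_sup, inf_assoc]
      · rw [hL]; exact Subgroup.commutator_mono inf_le_left le_rfl
    have h5 : ⁅E, P⁆ ≤ F ⊔ L := by
      refine le_trans (le_inf (H17.commutator_le_left_of_le_normalizer (le_top.trans hEn)) ?_) h4
      exact ((Subgroup.commutator_mono le_rfl hP.le).trans (H17.commutator_le_right_of_le_normalizer
        (H17.le_normalizer_centralizer (H17.le_normalizer_sup hF2 hEL)))).trans (H17.centralizer_anti le_sup_right)
    rw [← (H17.subn_gfit ⊤).commutator_commutator le_rfl hO' hP.pgroup (le_top.trans hEn)]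
    exact H17.commutator_eq_bot_of_le_centralizer' (hP.le.trans (H17.centralizer_anti h5))

end Cfsg.Agent.S2817
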