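import Cfsg.Statements.S2818
import Cfsg.Agent.H26.Min

set_option autoImplicit false
open Cfsg

namespace Cfsg.Agent.S2818

open H26 Subgroup
open scoped Pointwise commutatorElement

/-- Let P be a finite p-subgroup of a group G and H a subgroup of N_G(P) with [P, H] ≤ Ω₁(Z(P)) (the elements of order dividing p in the centre of P). Then H centralizes the Frattini subgroup of P. -/
theorem result {G : Type*} [Group G] [Finite G] {p : ℕ} [Fact p.Prime] (P : Subgroup G) (hP : IsPGroup p ↥P) (H : Subgroup G) (hH : H ≤ Subgroup.normalizer (P : Set G)) (h : ⁅P, H⁆ ≤ Cfsg.omegaOne p (P ⊓ Subgroup.centralizer (P : Set G))) : ⁅(frattini ↥P).map P.subtype, H⁆ = ⊥ := by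
  rw [← H4.phi_eq_frattini hP, commutator_eq_bot_iff_le_centralizer, H4.phi_le_iff]
  have h1 : ⁅P, H⁆ ≤ 𝐂 P := h.trans ((omegaOne_le _ _).trans inf_le_right)
  refine ⟨three_subgroups_centralizer h1 (by rwa [commutator_comm]), fun x hx y hy => ?_⟩
  have h2 := commutator_mem_commutator hx hy
  have h3 : Commute x ⁅x, y⁆ := h1 h2 x hx
  rw [eq_comm, ← commutatorElement_eq_one_iff_mul_comm, H4.commutatorElement_pow_left' h3]
  exact (elemAb_omegaOne_center P).2 _ (h h2)

end Cfsg.Agent.S2818
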