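import Cfsg.Statements.S2819
import Cfsg.Agent.H26.Min

set_option autoImplicit false
open Cfsg

namespace Cfsg.Agent.S2819

open H26 Subgroup
open scoped Pointwise commutatorElement

theorem mul_pow_mem {G : Type*} [Group G] {P : Subgroup G} {x z : G} (hx : x ∈ P) (hz : z ∈ P) (n : ℕ) :
    x ^ n * z ^ n * ((x * z) ^ n)⁻¹ ∈ ⁅P, P⁆ := by
  rw [← map_subtype_commutator]
  refine ⟨⟨x, hx⟩ ^ n * ⟨z, hz⟩ ^ n * ((⟨x, hx⟩ * ⟨z, hz⟩) ^ n)⁻¹, ?_, rfl⟩
  rw [← Abelianization.ker_of]
  change Abelianization.of _ = 1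
  rw [map_mul, map_mul, map_inv, map_pow, map_pow, map_pow, map_mul, mul_pow, mul_inv_cancel]

/-- Let P be a finite p-subgroup of a group G, H a subgroup of N_G(P), and Y a subgroup of H centralizing the derived subgroup P' such that [P, Y] is elementary abelian. Then O^p(⟨Y^H⟩), the subgroup of the normal closure of Y in H generated by its elements of order prime to p, centralizes the Frattini subgroup of P. -/
theorem result {G : Type*} [Group G] [Finite G] {p : ℕ} [Fact p.Prime] (P : Subgroup G) (hP : IsPGroup p ↥P) (H : Subgroup G) (hH : H ≤ Subgroup.normalizer (P : Set G)) (Y : Subgroup G) (hYH : Y ≤ H) (hYc : Y ≤ Subgroup.centralizer ((⁅P, P⁆ : Subgroup G) : Set G)) (hel : Cfsg.IsElementaryAbelian p ⁅P, Y⁆) (NY : Subgroup G) (hNY : NY = (Subgroup.normalClosure ((Y.subgroupOf H : Subgroup ↥H) : Set ↥H)).map H.subtype) : (Cfsg.pResidual p ↥NY).map NY.subtype ≤ Subgroup.centralizer (((frattini ↥P).map P.subtype : Subgroup G) : Set G) := by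
  rw [map_normalClosure_subgroupOf hYH] at hNY
  subst hNY
  rw [← H4.phi_eq_frattini hP]
  have hn : H ≤ 𝐍 (⁅P, P⁆) := le_normalizer_commutator hH hH
  have hPn : P ≤ 𝐍 (⁅P, P⁆) := le_normalizer_commutator_left P P
  refine pResidualOf_le_centralizer_of_stab (N := ⁅P, P⁆) (hP.to_le (commutator_le_self P)) ?_
    (ncl_le_centralizer hYc hn)
  rw [commutator_comm]
  refine commutator_ncl_le ?_ (hH.trans (H4.normalizer_le_normalizer_phi p P)) hn (hYH.trans hn)
  rw [commutator_comm]
  refine H4.commutator_sup_le (commutator_le_of_le_normalizer (hYH.trans hn)) (H4.commutator_closure_le ?_ ?_)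
    le_normalizer (((closure_le _).2 ?_).trans hPn)
  · rintro _ ⟨x, hx, rfl⟩ y hy
    have h1 := mul_pow_mem hx (conj_mem_of_mem_normalizer (hH (hYH hy)) (inv_mem hx)) p
    have h2 := hel.2 _ (commutator_mem_commutator hx hy)
    have e : x * (y * x⁻¹ * y⁻¹) = ⁅x, y⁆ := by simp [commutatorElement_def, mul_assoc]
    rw [e, h2, conj_pow] at h1
    simpa [commutatorElement_def, mul_assoc] using h1
  · rintro _ ⟨x, hx, rfl⟩
    exact hPn (pow_mem hx p)
  · rintro _ ⟨x, hx, rfl⟩
    exact pow_mem hx p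

end Cfsg.Agent.S2819
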