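import Cfsg.Statements.S2823
import Cfsg.Agent.H26.PRed

set_option autoImplicit false
open Cfsg

namespace Cfsg.Agent.S2823

open H26 Subgroup
open scoped Pointwise commutatorElement

/-- Let H be a finite group, p a prime, T a Sylow p-subgroup and L a subgroup of characteristic p containing T; let Z_L be the subgroup generated by the Ω₁(Z(S)) over the Sylow p-subgroups S of L and O^p(L) the subgroup generated by the elements of L of order prime to p. Then Z_L = Ω₁(Z(L))·[Z_L, O^p(L)] and [Z_L, L] = [Z_L, O^p(L)]. -/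
theorem result {H : Type*} [Group H] [Finite H] {p : ℕ} [Fact p.Prime] (T : Sylow p H) (L : Subgroup H) (hTL : (T : Subgroup H) ≤ L) (hL : Subgroup.centralizer (Cfsg.pCore p ↥L : Set ↥L) ≤ Cfsg.pCore p ↥L) : Cfsg.sylowCenterClosure p L = (Cfsg.omegaOne p (L ⊓ Subgroup.centralizer ((L : Subgroup H) : Set H))) ⊔ ⁅Cfsg.sylowCenterClosure p L, (Cfsg.pResidual p ↥L).map L.subtype⁆ ∧ ⁅Cfsg.sylowCenterClosure p L, L⁆ = ⁅Cfsg.sylowCenterClosure p L, (Cfsg.pResidual p ↥L).map L.subtype⁆ := by
  have hc := charPOf_iff.2 hL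
  have hT : IsSyl p (T : Subgroup H) L := (isSyl_top T).mono hTL le_top
  have hV := hc.pRed_sylowCenterClosure
  change _ = _ ⊔ ⁅_, pResidualOf p L⁆ ∧ _ = ⁅_, pResidualOf p L⁆
  set V := sylowCenterClosure p L
  have hW : ⁅V, pResidualOf p L⁆ ≤ V := commutator_le_of_le_normalizer ((pResidualOf_le p L).trans hV.norm)
  have hWn : L ≤ 𝐍 (⁅V, pResidualOf p L⁆) := le_normalizer_commutator hV.norm (le_normalizer_pResidualOf p L)
  have h1 : V ≤ ⁅V, pResidualOf p L⁆ ⊔ (V ⊓ 𝐂 L) := by
    refine hT.sylowCenterClosure_le ?_ (le_normalizer_sup hWn (le_normalizer_inf hV.norm (le_normalizer_centralizer le_normalizer)))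
    exact (le_inf (omegaOne_center_le_sylowCenterClosure hT) ((omegaOne_le _ _).trans inf_le_right)).trans
      (gaschutz (elemAb_le_centralizer hV.elemAb) hV.isP hV.norm hT)
  refine ⟨le_antisymm (h1.trans (sup_le le_sup_right (le_sup_of_le_left ?_))) (sup_le ?_ hW), le_antisymm ?_ ?_⟩
  · exact le_omegaOne (fun a ha => (isElementaryAbelian_iff.1 hV.elemAb).2 a ha.1) (inf_le_inf_right _ hV.le)
  · refine le_trans ?_ (omegaOne_center_le_sylowCenterClosure hT)
    have h2 := elemAb_omegaOne_center (p := p) L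
    refine le_omegaOne (isElementaryAbelian_iff.1 h2).2 (le_inf ?_ (((omegaOne_le _ _).trans inf_le_right).trans (centralizer_anti hTL)))
    exact hT.le_of_le_normalizer (elemAb_isPGroup h2) ((omegaOne_le _ _).trans inf_le_left)
      (hTL.trans (le_normalizer_of_le_centralizer (le_centralizer_omegaOne_center L)))
  · exact commutator_le_of_le_sup_centralizer' h1 inf_le_right ((inf_le_left.trans hV.le).trans hWn) hWn
  · exact commutator_mono le_rfl (pResidualOf_le p L)

end Cfsg.Agent.S2823
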