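import Cfsg.Statements.S2824
import Cfsg.Agent.H26.PRed

set_option autoImplicit false
open Cfsg

namespace Cfsg.Agent.S2824

open H26 Subgroup
open scoped Pointwise commutatorElement

/-- Let H be a finite group, p a prime, T a Sylow p-subgroup, L and M subgroups of characteristic p containing T, Y_L the largest p-reduced normal subgroup of L and T₀ = C_T(Y_L). If M·C_H(Y_L) = L·C_H(Y_L), then L* := N_M(T₀) has Y_{L*} = Y_L and L·C_H(Y_L) = L*·C_H(Y_L). -/
theorem result {H : Type*} [Group H] [Finite H] {p : ℕ} [Fact p.Prime] (T : Sylow p H) (L M : Subgroup H) (hTL : (T : Subgroup H) ≤ L) (hTM : (T : Subgroup H) ≤ M) (hL : Subgroup.centralizer (Cfsg.pCore p ↥L : Set ↥L) ≤ Cfsg.pCore p ↥L) (hM : Subgroup.centralizer (Cfsg.pCore p ↥M : Set ↥M) ≤ Cfsg.pCore p ↥M) (T₀ : Subgroup H) (hT₀ : T₀ = (T : Subgroup H) ⊓ Subgroup.centralizer (((Cfsg.largestPReducedOf p L) : Subgroup H) : Set H)) (hfac : M ⊔ Subgroup.centralizer (((Cfsg.largestPReducedOf p L) : Subgroup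 H) : Set H) = L ⊔ Subgroup.centralizer (((Cfsg.largestPReducedOf p L) : Subgroup H) : Set H)) (Ls : Subgroup H) (hLs : Ls = M ⊓ Subgroup.normalizer ((T₀ : Subgroup H) : Set H)) : (Cfsg.largestPReducedOf p Ls) = (Cfsg.largestPReducedOf p L) ∧ L ⊔ Subgroup.centralizer (((Cfsg.largestPReducedOf p L) : Subgroup H) : Set H) = Ls ⊔ Subgroup.centralizer (((Cfsg.largestPReducedOf p L) : Subgroup H) : Set H) := by
  have hc := charPOf_iff.2 hL
  have hT : IsSyl p (T : Subgroup H) L := (isSyl_top T).mono hTL le_top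
  have hT' : IsSyl p (T : Subgroup H) M := (isSyl_top T).mono hTM le_top
  have hY := pRed_YY (p := p) L
  have hYT : YY p L ≤ T := hY.le_pCoreOf.trans hT.pCoreOf_le
  have hYM := hY.of_sup_eq (hYT.trans hTM) hfac
  subst hT₀ hLs
  refine ⟨le_antisymm ?_ (hYM.of_normalizer hT').le_YY, by rw [inf_normalizer_sup_centralizer hT' hYM.norm, hfac]⟩
  have h1 := hYM.pCoreOf_normalizer hT'
  refine hc.le_YY hT (isElementaryAbelian_iff.1 (elemAb_YY _)).2 ((YY_le_pCoreOf _).trans (h1.le.trans inf_le_left)) ?_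
  exact (pRed_YY _).le_centralizer_pCoreOf.trans (centralizer_anti h1.ge)

end Cfsg.Agent.S2824
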