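import Cfsg.Statements.S2826
import Cfsg.Agent.H26.PRed

set_option autoImplicit false
open Cfsg

namespace Cfsg.Agent.S2826

open H26 Subgroup
open scoped Pointwise commutatorElement

/-- Let H be a finite group of characteristic p, T a Sylow p-subgroup, and V a normal elementary abelian p-subgroup of H containing Ω₁(Z(T)). Then C_H(Ω₁(Z(T))) = C_H([V, O^p(H)] ∩ Ω₁(Z(T))), O^p(H) being generated by the elements of order prime to p. -/
theorem result {H : Type*} [Group H] [Finite H] {p : ℕ} [Fact p.Prime] (hH : Subgroup.centralizer (Cfsg.pCore p H : Set H) ≤ Cfsg.pCore p H) (T : Sylow p H) (V : Subgroup H) [V.Normal] (hV : Cfsg.IsElementaryAbelian p V) (hZV : (Cfsg.omegaOne p ((T : Subgroup H) ⊓ Subgroup.centralizer (((T : Subgroup H) : Subgroup H) : Set H))) ≤ V) : Subgroup.centralizer ((Cfsg.omegaOne p ((T : Subgroup H) ⊓ Subgroup.centralizer (((T : Subgroup H) : Subgroup H) : Set H))) : Set H) = Subgroup.centralizer (((⁅V, Cfsg.pResidual p H⁆ ⊓ (Cfsg.omegaOne p ((T : Subgroup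 H) ⊓ Subgroup.centralizer (((T : Subgroup H) : Subgroup H) : Set H)))) : Subgroup H) : Set H) := by
  have hT := isSyl_top T
  have hn : (⊤ : Subgroup H) ≤ 𝐍 V := by rw [normalizer_eq_top]
  have hVT : V ≤ T := hT.le_of_le_normalizer (elemAb_isPGroup hV) le_top (le_top.trans hn)
  have h1 : omegaOne p ((T : Subgroup H) ⊓ 𝐂 (T : Subgroup H)) = V ⊓ 𝐂 (T : Subgroup H) :=
    le_antisymm (le_inf hZV ((omegaOne_le _ _).trans inf_le_right))
      (le_omegaOne (fun a ha => (isElementaryAbelian_iff.1 hV).2 a ha.1) (inf_le_inf_right _ hVT))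
  have h2 := gaschutz_eq (elemAb_le_centralizer hV) (elemAb_isPGroup hV) hn hT
  have hW : ⁅V, pResidualOf p ⊤⁆ ≤ V := commutator_le_of_le_normalizer (le_top.trans hn)
  rw [h1, ← pResidualOf_top, ← inf_assoc, inf_eq_left.2 hW]
  refine le_antisymm (centralizer_anti (inf_le_inf_right _ hW)) ?_
  change 𝐂 (_ : Subgroup H) ≤ 𝐂 (_ : Subgroup H)
  rw [h2]
  exact le_centralizer_sup le_rfl (le_top.trans (le_centralizer_iff.1 inf_le_right))

end Cfsg.Agent.S2826
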