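import Cfsg.Statements.S2827
import Cfsg.Agent.H26.Min

set_option autoImplicit false
open Cfsg

namespace Cfsg.Agent.S2827

open H26 Subgroup
open scoped Pointwise commutatorElement

/-- Let H be a finite p-irreducible group (not p-closed, and O^p(H) lies in every normal subgroup that is not p-closed) and T a Sylow p-subgroup. Then H is generated by the conjugates of T and H = H'·T; O^p(H) ≤ H'; and for every normal subgroup Y of T not contained in O_p(H), O^p(H) = [O^p(H), Y] and O^p(H) is contained in the normal closure of Y in H. -/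
theorem result {H : Type*} [Group H] [Finite H] {p : ℕ} [Fact p.Prime] (hH : Cfsg.IsPIrreducible p H) (T : Sylow p H) : Subgroup.normalClosure ((T : Subgroup H) : Set H) = ⊤ ∧ commutator H ⊔ (T : Subgroup H) = ⊤ ∧ Cfsg.pResidual p H ≤ commutator H ∧ ∀ Y : Subgroup H, Y ≤ (T : Subgroup H) → (T : Subgroup H) ≤ Subgroup.normalizer (Y : Set H) → ¬ Y ≤ Cfsg.pCore p H → ⁅Cfsg.pResidual p H, Y⁆ = Cfsg.pResidual p H ∧ Cfsg.pResidual p H ≤ Subgroup.normalClosure (Y : Set H) := by
  rw [← pIrrOf_top] at hH
  have hT := isSyl_top T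
  have h1 := hH.ncl_eq hT
  have h2 : commutator H ⊔ (T : Subgroup H) = ⊤ := by
    have : (commutator H ⊔ (T : Subgroup H)).Normal := Normal.of_commutator_le _ le_sup_left
    rw [eq_top_iff, ← h1]
    exact ncl_le le_sup_right le_normalizer_of_normal
  refine ⟨by rw [← ncl_top, h1], h2, ?_, fun Y h3 h4 h5 => ?_⟩
  · rw [← pResidualOf_top, ← h2, sup_comm]
    exact pResidualOf_sup_le hT.isP le_normalizer_of_normal
  · rw [← pResidualOf_top, ← ncl_top]
    rw [← pCoreOf_top] at h5
    exact ⟨hH.commutator_eq hT h3 h4 h5, hH.le_ncl (hT.isP.to_le h3) le_top h5⟩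

end Cfsg.Agent.S2827
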