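import Cfsg.Statements.S2830
import Cfsg.Agent.H26.Min

set_option autoImplicit false
open Cfsg

namespace Cfsg.Agent.S2830

open H26 Subgroup
open scoped Pointwise commutatorElement

/-- Let H act by conjugation on the elementary abelian p-subgroup V of a finite group G (H ≤ N(V)), with H p-irreducible and O^p(H) not centralizing V. Then C_H(V) is p-closed and C_T(V) ≤ O_p(H) for every p-subgroup T of H. If in addition O_p(H) centralizes V, then C_T(V) = T ∩ O_p(H) for every p-subgroup T of H, and V is p-reduced for H: O_p(H/C_H(V)) = 1. -/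
theorem result {G : Type*} [Group G] [Finite G] {p : ℕ} [Fact p.Prime] (V H : Subgroup G) (hV : Cfsg.IsElementaryAbelian p V) (hHV : H ≤ Subgroup.normalizer (V : Set G)) (hH : Cfsg.IsPIrreducible p ↥H) (hnc : ¬ (Cfsg.pResidual p ↥H).map H.subtype ≤ Subgroup.centralizer (V : Set G)) [hn : ((Subgroup.centralizer (V : Set G)).subgroupOf H).Normal] : Cfsg.IsPClosed p ↥(H ⊓ Subgroup.centralizer (V : Set G)) ∧ (∀ T : Subgroup G, T ≤ H → IsPGroup p ↥T → T ⊓ Subgroup.centralizer (V : Set G) ≤ Cfsg.pCoreOf p H) ∧ (Cfsg.pCoreOf p H ≤ Subgroup.centralizer (V : Set G) → (∀ T : Subgroup G, T ≤ H → IsPGroup p ↥T → T ⊓ Subgroup.centralizer (V : Set G) = T ⊓ Cfsg.pCoreOf p H) ∧ Cfsg.pCore p (↥H ⧸ (Subgroup.centralizer (V : Set G)).subgroupOf H) = ⊥) := by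
  rw [← pIrrOf_iff] at hH
  have hCn : H ≤ 𝐍 (H ⊓ 𝐂 V) := le_normalizer_inf le_normalizer (le_normalizer_centralizer hHV)
  have h1 : PClosedOf p (H ⊓ 𝐂 V) := hH.pClosedOf_of_not_le inf_le_left hCn fun h => hnc (h.trans inf_le_right)
  have h2 : ∀ T : Subgroup G, T ≤ H → IsPGroup p T → T ⊓ 𝐂 V ≤ pCoreOf p H := fun T h3 h4 =>
    (h1 _ h4.to_inf_left (inf_le_inf_right _ h3)).trans (pCoreOf_le_pCoreOf_of_normal inf_le_left hCn)
  refine ⟨isPClosed_iff.2 h1, h2, fun h3 => ⟨fun T h4 h5 => le_antisymm (le_inf inf_le_left (h2 T h4 h5))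
    (inf_le_inf_left _ h3), ?_⟩⟩
  rw [pCore_quotient_subgroupOf_eq_bot_iff]
  intro K h4 h5 h6
  have h7 : PClosedOf p K := hH.pClosedOf_of_not_le h4 h5 fun h => hnc (by
    have := pResidualOf_mono (p := p) h
    rw [pResidualOf_pResidualOf] at this
    exact this.trans h6)
  exact h7.isSyl.le_of_pResidualOf_le h6 ((pCoreOf_le_pCoreOf_of_normal h4 h5).trans h3)

end Cfsg.Agent.S2830
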