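import Cfsg.Statements.S2833
import Cfsg.Agent.H26.Min

set_option autoImplicit false
open Cfsg

namespace Cfsg.Agent.S2833

open H26 Subgroup
open scoped Pointwise commutatorElement

/-- Let V be a subgroup of a finite group G normalized by the subgroup L, let X ≤ L and g ∈ L with [V, X, X] = 1 and L generated by X and gXg⁻¹. Put W = [V, L]. Then W = [V, X]·[V, gXg⁻¹], C_W(X) = [V, X], and C_W(L) = [V, X] ∩ [V, gXg⁻¹]. -/
theorem result {G : Type*} [Group G] [Finite G] (V L : Subgroup G) (hLV : L ≤ Subgroup.normalizer (V : Set G)) (X : Subgroup G) (hX : X ≤ L) (g : G) (hg : g ∈ L) (hq : ⁅⁅V, X⁆, X⁆ = ⊥) (hgen : X ⊔ X.map (MulAut.conj g).toMonoidHom = L) (W : Subgroup G) (hW : W = ⁅V, L⁆) : ⁅V, X⁆ ⊔ ⁅V, X.map (MulAut.conj g).toMonoidHom⁆ = W ∧ W ⊓ Subgroup.centralizer (X : Set G) = ⁅V, X⁆ ∧ W ⊓ Subgroup.centralizer (L : Set G) = ⁅V, X⁆ ⊓ ⁅V, X.map (MulAut.conj g).toMonoidHom⁆ := by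
  have hX' : cj g X ≤ L := cj_le_of_mem hX hg
  have hB : cj g ⁅V, X⁆ = ⁅V, cj g X⁆ := by rw [cj_commutator, cj_eq_iff.2 (hLV hg)]
  have hAc : ⁅V, X⁆ ≤ 𝐂 X := commutator_eq_bot_iff_le_centralizer.1 hq
  have hBc : ⁅V, cj g X⁆ ≤ 𝐂 (cj g X) := by rw [← hB, ← cj_centralizer]; exact cj_mono g hAc
  have hAV : ⁅V, X⁆ ≤ V := commutator_le_of_le_normalizer (hX.trans hLV)
  have hBV : ⁅V, cj g X⁆ ≤ V := commutator_le_of_le_normalizer (hX'.trans hLV)
  have e1 : ⁅V, X⁆ ⊔ ⁅V, cj g X⁆ = W := by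
    rw [hW]
    refine le_antisymm (sup_le (commutator_mono le_rfl hX) (commutator_mono le_rfl hX')) ?_
    conv_lhs => rw [← hgen]
    exact H4.commutator_sup_le' le_sup_left le_sup_right
      (le_normalizer_of_commutator_le' le_sup_left (sup_le hAV hBV))
      (le_normalizer_of_commutator_le' le_sup_right (sup_le hAV hBV))
  have hL : 𝐂 L = 𝐂 X ⊓ 𝐂 (cj g X) := by rw [← centralizer_sup', hgen]
  have e2 : W ⊓ 𝐂 X = ⁅V, X⁆ := by
    rw [← e1, dedekind_left hAc (hAV.trans (le_normalizer_commutator_left _ _)), sup_eq_left]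
    intro x hx
    have h1 : x ∈ 𝐂 L := by rw [hL]; exact ⟨hx.2, hBc hx.1⟩
    have h2 := hx.1
    rw [← hB] at h2
    have h3 : g⁻¹ * x * g = x := by rw [mul_assoc, ← h1 g hg, inv_mul_cancel_left]
    have := mem_cj.1 h2
    rwa [h3] at this
  have e3 : W ⊓ 𝐂 (cj g X) = ⁅V, cj g X⁆ := by
    have hWn : g ∈ 𝐍 W := by rw [hW]; exact le_normalizer_commutator_right V L hg
    rw [← hB, ← e2, cj_inf, cj_centralizer, cj_eq_iff.2 hWn]
  refine ⟨e1, e2, ?_⟩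
  rw [← e2, ← e3, hL, inf_inf_distrib_left]

end Cfsg.Agent.S2833
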