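import Cfsg.Statements.S2835
import Cfsg.Agent.H26.Min

set_option autoImplicit false
open Cfsg

namespace Cfsg.Agent.S2835

open H26 Subgroup
open scoped Pointwise commutatorElement

/-- Let L be a finite group, L₀ a maximal subgroup, T a Sylow p-subgroup of L₀ and Y ≤ T, and suppose L is Y-minimal (generated by the conjugates of Y, with Y in exactly one maximal subgroup, necessarily L₀). Then N_L(T) ≤ L₀, O_p(L) ≤ L₀ and T is a Sylow p-subgroup of L; N_L(L₀) = L₀; L = ⟨Y, gYg⁻¹⟩ for each g ∈ L outside L₀; and if Y is abelian then Y ∩ gYg⁻¹ = C_Y(L) for each such g. -/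
theorem result {L : Type*} [Group L] [Finite L] {p : ℕ} [Fact p.Prime] (L₀ : Subgroup L) (hL₀ : IsCoatom L₀) (T : Sylow p ↥L₀) (Y : Subgroup L) (hYT : Y ≤ (T : Subgroup ↥L₀).map L₀.subtype) (hmin : Cfsg.IsMinimalOver Y) : Subgroup.normalizer (((T : Subgroup ↥L₀).map L₀.subtype : Subgroup L) : Set L) ≤ L₀ ∧ Cfsg.pCore p L ≤ L₀ ∧ (∃ P : Sylow p L, (P : Subgroup L) = (T : Subgroup ↥L₀).map L₀.subtype) ∧ Subgroup.normalizer (L₀ : Set L) = L₀ ∧ (∀ g : L, g ∉ L₀ → Y ⊔ Y.map (MulAut.conj g).toMonoidHom = ⊤) ∧ (IsMulCommutative ↥Y → ∀ g : L, g ∉ L₀ → Y ⊓ Y.map (MulAut.conj g).toMonoidHom = Y ⊓ Subgroup.center L) := by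
  have hT := isSyl_map_subtype T
  have hM := umax_of_existsUnique hmin.2 hL₀ (hYT.trans hT.le)
  have hn := (minOver_top_iff.2 hmin).1
  have hS := hM.isSyl hn hT hYT
  refine ⟨by simpa using hM.inf_normalizer_le hn hYT (hT.le.trans_lt hM.lt),
    pCoreOf_top p L ▸ hS.pCoreOf_le.trans hT.le, ⟨hS.toSylow, rfl⟩,
    le_antisymm (by simpa using hM.inf_normalizer_le hn hM.le hM.lt) le_normalizer,
    fun g hg => hM.sup_cj_eq hn (mem_top g) hg, fun hY g hg => ?_⟩
  rw [isMulCommutative_iff'] at hY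
  apply le_antisymm
  · refine le_inf inf_le_left ?_
    rw [← centralizer_top', ← hM.sup_cj_eq hn (mem_top g) hg]
    refine le_centralizer_sup (inf_le_left.trans hY) (inf_le_right.trans ?_)
    rw [← cj_centralizer]; exact cj_mono g hY
  · refine le_inf inf_le_left fun x hx => mem_cj.2 ?_
    rw [mul_assoc, ← mem_center_iff.1 hx.2 g, inv_mul_cancel_left]
    exact hx.1

end Cfsg.Agent.S2835
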