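import Cfsg.Statements.S2836
import Cfsg.Agent.H26.Min
import Cfsg.Agent.H2.Frattini

set_option autoImplicit false
open Cfsg

namespace Cfsg.Agent.S2836

open H26 Subgroup
open scoped Pointwise commutatorElement

/-- Let L be a finite group, L₀ a maximal subgroup, T a Sylow p-subgroup of L₀, Y ≤ T, and suppose L is Y-minimal. Let D be the intersection of the conjugates of L₀ (the core of L₀). Then D contains O_p(L) and D/O_p(L) is the Frattini subgroup of L/O_p(L), so D is p-closed; and every normal subgroup N of L contained in L₀ is p-closed with N/O_p(N) a nilpotent group of order prime to p. -/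
theorem result {L : Type*} [Group L] [Finite L] {p : ℕ} [Fact p.Prime] (L₀ : Subgroup L) (hL₀ : IsCoatom L₀) (T : Sylow p ↥L₀) (Y : Subgroup L) (hYT : Y ≤ (T : Subgroup ↥L₀).map L₀.subtype) (hmin : Cfsg.IsMinimalOver Y) : (Cfsg.pCore p L ≤ L₀.normalCore ∧ (L₀.normalCore).map (QuotientGroup.mk' (Cfsg.pCore p L)) = frattini (L ⧸ Cfsg.pCore p L) ∧ Cfsg.IsPClosed p ↥(L₀.normalCore)) ∧ ∀ (N : Subgroup L) [N.Normal], N ≤ L₀ → Cfsg.IsPClosed p ↥N ∧ Group.IsNilpotent (↥N ⧸ Cfsg.pCore p ↥N) ∧ (Nat.card (↥N ⧸ Cfsg.pCore p ↥N)).Coprime p := by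
  have hT := isSyl_map_subtype T
  have hM := umax_of_existsUnique hmin.2 hL₀ (hYT.trans hT.le)
  have hn := (minOver_top_iff.2 hmin).1
  have hS := hM.isSyl hn hT hYT
  have hM' := hM.mono hYT hT.le
  have hO : pCore p L ≤ L₀ := pCoreOf_top p L ▸ hS.pCoreOf_le.trans hT.le
  have hcl : ∀ (N : Subgroup L) [N.Normal], N ≤ L₀ → PClosedOf p N := fun N _ h =>
    hM'.pClosedOf hS h le_normalizer_of_normal
  have hfr : ∀ (N : Subgroup L) [N.Normal], N ≤ L₀ →
      N.map (QuotientGroup.mk' (pCore p L)) ≤ frattini (L ⧸ pCore p L) := by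
    intro N _ h
    rw [H2.le_frattini_iff]
    intro M hMc
    by_contra hnle
    have h1 := isCoatom_comap_of_surjective (QuotientGroup.mk'_surjective (pCore p L)) hMc
    set K := M.comap (QuotientGroup.mk' (pCore p L))
    have h2 : ¬ N ≤ K := fun h3 => hnle (map_le_iff_le_comap.2 h3)
    have h3 : K ⊔ N = ⊤ := by rw [sup_comm]; exact H2.sup_eq_top_of_not_le h1 h2
    have hOK : pCore p L ≤ K := by
      rw [← QuotientGroup.ker_mk' (pCore p L)]; exact ker_le_comap _ _
    obtain ⟨S, hSK, hle⟩ := exists_isSyl_ge (isPGroup_pCore p L) hOK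
    have h4 : pCoreOf p N ≤ S := (pCoreOf_le_pCoreOf_of_normal le_top le_normalizer_of_normal).trans
      (pCoreOf_top p L ▸ hle)
    have h5 := hSK.sup (hcl N h).isSyl le_normalizer_of_normal (by rw [sup_eq_left.2 h4]; exact hSK.isP)
    rw [h3, sup_eq_left.2 h4] at h5
    obtain ⟨g, -, hg⟩ := hS.exists_cj_eq h5
    have h6 := (hM'.cj_of_mem (le_normalizer (mem_top g))).all K (hg ▸ hSK.le) h1.lt_top
    have h7 : N ≤ cj g L₀ := by rw [← cj_eq_of_normal g N]; exact cj_mono g h
    have h8 : cj g L₀ < ⊤ := (hM'.cj_of_mem (le_normalizer (mem_top g))).lt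
    exact h8.not_ge (h3 ▸ sup_le h6 h7)
  refine ⟨⟨normal_le_normalCore.2 hO, le_antisymm (hfr _ L₀.normalCore_le) ?_,
    isPClosed_iff.2 (hcl _ L₀.normalCore_le)⟩, fun N _ h => ⟨isPClosed_iff.2 (hcl N h), ?_, ?_⟩⟩
  · rw [← map_comap_eq_self_of_surjective (QuotientGroup.mk'_surjective (pCore p L)) (frattini _)]
    refine map_mono (normal_le_normalCore.2 ?_)
    have h1 := (hM.map (QuotientGroup.mk' (pCore p L)) (by rwa [top_inf_eq, QuotientGroup.ker_mk']))
    rw [map_mk'_top] at h1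
    refine (comap_mono (frattini_le_coatom h1.isCoatom)).trans ?_
    rw [comap_map_eq, QuotientGroup.ker_mk', sup_eq_left.2 hO]
  · have e : pCore p N = (pCore p L).subgroupOf N := by
      rw [pCore_eq_subgroupOf, pCoreOf_eq_inf_of_normal (le_top : N ≤ ⊤) le_normalizer_of_normal, pCoreOf_top,
        inf_subgroupOf_left]
    have : Group.IsNilpotent (frattini (L ⧸ pCore p L)) := frattini_nilpotent
    have : Group.IsNilpotent (N.map (QuotientGroup.mk' (pCore p L))) :=
      Group.nilpotent_of_mulEquiv (subgroupOfEquivOfLe (hfr N h))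
    exact Group.nilpotent_of_mulEquiv
      ((QuotientGroup.quotientMulEquivOfEq e).trans (H2.quotEquivMapMk (pCore p L) N)).symm
  · have := (hcl N h).isSyl.not_dvd_relIndex
    rw [relIndex, ← pCore_eq_subgroupOf] at this
    exact ((Nat.Prime.coprime_iff_not_dvd Fact.out).2 this).symm

end Cfsg.Agent.S2836
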