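import Cfsg.Statements.S2837
import Cfsg.Agent.H26.Large2

set_option autoImplicit false
open Cfsg

namespace Cfsg.Agent.S2837

open H26 Subgroup
open scoped Pointwise commutatorElement

/-- Let L be a finite group of characteristic p, L₀ a maximal subgroup, Y an elementary abelian p-subgroup of L₀ with L Y-minimal and O_p(L) ≤ N_L(Y). Put A = the normal closure of O_p(L) ∩ Y in L. Then for every g ∈ L outside L₀: Φ(A) = A' = [A ∩ Y, A] = [A ∩ Y, A ∩ gYg⁻¹] ≤ C_Y(L), and Y ∩ gYg⁻¹ = (A ∩ Y) ∩ (A ∩ gYg⁻¹) = C_Y(L) = C_A(L). -/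
theorem result {L : Type*} [Group L] [Finite L] {p : ℕ} [Fact p.Prime] (hchar : Subgroup.centralizer (Cfsg.pCore p L : Set L) ≤ Cfsg.pCore p L) (L₀ : Subgroup L) (hL₀ : IsCoatom L₀) (Y : Subgroup L) (hYL₀ : Y ≤ L₀) (hYel : Cfsg.IsElementaryAbelian p Y) (hmin : Cfsg.IsMinimalOver Y) (hOY : Cfsg.pCore p L ≤ Subgroup.normalizer (Y : Set L)) (A : Subgroup L) (hA : A = Subgroup.normalClosure (((Cfsg.pCore p L ⊓ Y : Subgroup L)) : Set L)) (g : L) (hg : g ∉ L₀) : (frattini ↥A).map A.subtype = ⁅A, A⁆ ∧ ⁅A, A⁆ = ⁅A ⊓ Y, A⁆ ∧ ⁅A ⊓ Y, A⁆ = ⁅A ⊓ Y, A ⊓ Y.map (MulAut.conj g).toMonoidHom⁆ ∧ ⁅A ⊓ Y, A⁆ ≤ Y ⊓ Subgroup.center L ∧ Y ⊓ Y.map (MulAut.conj g).toMonoidHom = Y ⊓ Subgroup.center L ∧ (A ⊓ Y) ⊓ (A ⊓ Y.map (MulAut.conj g).toMonoidHom) = Y ⊓ Subgroup.center L ∧ A ⊓ Subgroup.center L = Y ⊓ Subgroup.center L := by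
  obtain ⟨hn, M', hU⟩ := minOver_top_iff.2 hmin
  have hMM : M' = L₀ := (hL₀.le_iff.1 (hU.all L₀ hYL₀ hL₀.lt_top)).resolve_left hU.lt.ne
  subst hMM
  have hgen := hU.sup_cj_eq hn (mem_top g) hg
  set Q := Cfsg.pCore p L
  have hQn : ∀ X : Subgroup L, X ≤ 𝐍 Q := fun X => by rw [normalizer_eq_top]; exact le_top
  have hYc := elemAb_le_centralizer hYel
  have hYc' := elemAb_le_centralizer (elemAb_cj hYel g)
  have hOY' : Q ≤ 𝐍 (cj g Y) := by rw [← cj_normalizer, ← cj_eq_of_normal g Q]; exact cj_mono g hOY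
  have h1 := pair_le_normalizer hOY hOY' (hQn _) (hQn _)
  rw [hgen] at h1
  have hA' : A = (Q ⊓ Y) ⊔ (Q ⊓ cj g Y) := by
    rw [hA, ← ncl_top]
    refine le_antisymm (ncl_le le_sup_left h1) (sup_le (le_ncl _ _) ?_)
    rw [← cj_eq_of_normal g Q, ← cj_inf, cj_eq_of_normal g Q]; exact cj_le_ncl (mem_top g)
  have hAQ : A ≤ Q := hA' ▸ sup_le inf_le_left inf_le_left
  have e1 : A ⊓ Y = Q ⊓ Y := le_antisymm (inf_le_inf_right _ hAQ) (le_inf (hA' ▸ le_sup_left) inf_le_right)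
  have e2 : A ⊓ cj g Y = Q ⊓ cj g Y := le_antisymm (inf_le_inf_right _ hAQ) (le_inf (hA' ▸ le_sup_right) inf_le_right)
  have hZ : Y ⊓ cj g Y = Y ⊓ center L := by
    refine le_antisymm (le_inf inf_le_left ?_) (le_inf inf_le_left ?_)
    · rw [← centralizer_top', ← hgen, centralizer_sup']; exact inf_le_inf hYc hYc'
    · rintro x ⟨h2, h3⟩
      replace h3 := mem_center_iff.1 h3
      refine mem_cj.2 ?_
      rwa [mul_assoc, ← h3 g, inv_mul_cancel_left]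
  have hZn : ∀ X ≤ center L, ∀ W : Subgroup L, W ≤ 𝐍 X := fun X hX W =>
    le_normalizer_of_le_centralizer (le_centralizer_iff.1 (hX.trans (centralizer_top'.ge.trans (centralizer_anti le_top))))
  have hZQ : Y ⊓ center L ≤ Q := by
    have : (Y ⊓ center L).Normal := normal_of_top_le_normalizer (hZn _ inf_le_right ⊤)
    exact le_pCore (elemAb_isPGroup hYel).to_inf_left
  have h2 : ⁅Q ⊓ Y, Q ⊓ cj g Y⁆ ≤ Y ⊓ center L := by
    rw [← hZ]
    exact le_inf ((commutator_mono inf_le_right inf_le_left).trans (commutator_le_of_le_normalizer hOY))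
      ((commutator_mono inf_le_left inf_le_right).trans (commutator_le_of_le_normalizer' hOY'))
  have hn2 := hZn _ (h2.trans inf_le_right)
  have b1 : ⁅Q ⊓ Y, Q ⊓ Y⁆ ≤ ⁅Q ⊓ Y, Q ⊓ cj g Y⁆ :=
    (commutator_eq_bot_iff_le_centralizer.2 (inf_le_right.trans (hYc.trans (centralizer_anti inf_le_right)))).le.trans bot_le
  have b2 : ⁅Q ⊓ cj g Y, Q ⊓ cj g Y⁆ ≤ ⁅Q ⊓ Y, Q ⊓ cj g Y⁆ :=
    (commutator_eq_bot_iff_le_centralizer.2 (inf_le_right.trans (hYc'.trans (centralizer_anti inf_le_right)))).le.trans bot_le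
  have h3 : ⁅A, A⁆ ≤ ⁅Q ⊓ Y, Q ⊓ cj g Y⁆ := by
    rw [hA']
    exact H4.commutator_sup_le (H4.commutator_sup_le' b1 le_rfl (hn2 _) (hn2 _))
      (H4.commutator_sup_le' (commutator_comm _ _).le b2 (hn2 _) (hn2 _)) (hn2 _) (hn2 _)
  have h4 : ⁅Q ⊓ Y, Q ⊓ cj g Y⁆ ≤ ⁅Q ⊓ Y, A⁆ := commutator_mono le_rfl (e2 ▸ inf_le_left)
  have h5 : ⁅Q ⊓ Y, A⁆ ≤ ⁅A, A⁆ := commutator_mono (e1 ▸ inf_le_left) le_rfl
  rw [e1, e2]
  refine ⟨?_, le_antisymm (h3.trans h4) h5, le_antisymm (h5.trans h3) h4, h5.trans (h3.trans h2), hZ, ?_, ?_⟩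
  · rw [← H4.phi_eq_frattini ((isPGroup_pCore p L).to_le hAQ)]
    refine le_antisymm (H4.phi_le_iff.2 ⟨le_rfl, fun x hx => ?_⟩) (H4.commutator_le_phi p A)
    obtain ⟨a, ha, b, hb, rfl⟩ := (mem_sup_of_le_normalizer' (inf_le_left.trans (le_normalizer_inf le_normalizer hOY))).1 (hA' ▸ hx)
    have h6 : ⁅b, a⁆ ∈ ⁅A, A⁆ := commutator_mem_commutator (hA' ▸ mem_sup_right hb) (hA' ▸ mem_sup_left ha)
    have h7 := mem_center_iff.1 (h2 (h3 h6)).2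
    rw [H4.mul_pow_class_two (h7 a) (h7 b), (isElementaryAbelian_iff.1 hYel).2 a ha.2,
      (isElementaryAbelian_iff.1 (elemAb_cj hYel g)).2 b hb.2, one_mul, one_mul]
    exact pow_mem h6 _
  · rw [← inf_inf_distrib_left, hZ, inf_eq_right.2 hZQ]
  · refine le_antisymm (le_inf ?_ inf_le_right) (inf_le_inf_right _ ?_ |>.trans' (le_inf (le_inf hZQ inf_le_left) inf_le_right))
    · refine le_trans ?_ ((pair_inf_centralizer_le hYc hOY (hQn _) (hgen ▸ mem_top g)).trans inf_le_right)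
      exact inf_le_inf hA'.le (centralizer_top'.ge.trans (centralizer_anti le_top))
    · exact hA' ▸ le_sup_left

end Cfsg.Agent.S2837
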