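import Cfsg.Statements.S2838
import Cfsg.Agent.H26.Min

set_option autoImplicit false
open Cfsg

namespace Cfsg.Agent.S2838

open H26 Subgroup
open scoped Pointwise commutatorElement

/-- For a nontrivial p-subgroup Q of a finite group H the following are equivalent: Q is a weakly closed subgroup (it is the only H-conjugate of itself inside some Sylow p-subgroup containing it); Q = P for every conjugate P of Q with [Q, P] ≤ Q ∩ P; Q is normal in N_H(R) for every p-subgroup R of H containing Q. -/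
theorem result {H : Type*} [Group H] [Finite H] {p : ℕ} [Fact p.Prime] (Q : Subgroup H) (hQp : IsPGroup p ↥Q) (hQ1 : Q ≠ ⊥) : (Cfsg.IsWeaklyClosedSubgroup p Q ↔ ∀ g : H, ⁅Q, ((Q : Subgroup H).map (MulAut.conj (g : H)).toMonoidHom)⁆ ≤ Q ⊓ ((Q : Subgroup H).map (MulAut.conj (g : H)).toMonoidHom) → ((Q : Subgroup H).map (MulAut.conj (g : H)).toMonoidHom) = Q) ∧ (Cfsg.IsWeaklyClosedSubgroup p Q ↔ ∀ R : Subgroup H, IsPGroup p ↥R → Q ≤ R → Subgroup.normalizer ((R : Subgroup H) : Set H) ≤ Subgroup.normalizer ((Q : Subgroup H) : Set H)) := by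
  rw [wcl_iff]
  refine ⟨⟨fun h g hg => h.eq_of_le_normalizer (le_normalizer_of_commutator_le (hg.trans inf_le_left)), fun h => ?_⟩,
    ⟨fun h R h1 h2 => h.normalizer_le h1 h2, fun h => ⟨hQp, fun g P hP h1 h2 => ?_⟩⟩⟩
  · have key : ∀ P : Subgroup H, IsPGroup p P → ∀ g k : H, cj g Q ≤ P → cj k Q ≤ P → cj g Q = cj k Q := by
      intro P
      refine subgroup_card_induction (Q := fun P => IsPGroup p P → ∀ g k : H, cj g Q ≤ P → cj k Q ≤ P →
        cj g Q = cj k Q) P fun P _ ih hP g k hg hk => ?_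
      have hn : ∀ g : H, cj g Q ≤ P → P ≤ 𝐍 (cj g Q) := by
        intro g hg
        rcases hg.eq_or_lt with he | hlt
        · rw [he]; exact le_normalizer
        · obtain ⟨M, h1, h2, h3⟩ := exists_normal_lt_of_isPGroup hP hlt
          intro x hx
          rw [← cj_eq_iff, ← cj_mul]
          exact ih M h2 (hP.to_le h2.le) _ _ (by rw [cj_mul]; exact cj_le_of_mem_normalizer h1 (h3 hx)) h1
      have h1 := cj_mono k⁻¹ (commutator_le_inf_of_le_normalizer (hk.trans (hn g hg)) (hg.trans (hn k hk)))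
      rw [cj_commutator, cj_inf, cj_inv_cj, ← cj_mul] at h1
      have := h _ h1
      rwa [cj_mul, cj_eq_iff_eq_cj, inv_inv] at this
    exact ⟨hQp, fun g P hP h1 h2 => by simpa only [cj_one] using key P hP g 1 h2 (by rwa [cj_one])⟩
  · obtain ⟨T, hT, hle⟩ := exists_isSyl_ge hP (le_top : P ≤ ⊤)
    have hT' := hT.cj_of_mem (mem_top g⁻¹)
    have h3 := h T hT.isP (h1.trans hle)
    have h4 := h _ hT'.isP (cj_le_iff.1 (h2.trans hle))
    obtain ⟨n, hn, he⟩ := (hT.mono (le_normalizer.trans h3) le_top).exists_cj_eq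
      (hT'.mono (le_normalizer.trans h4) le_top)
    have h5 : g * n ∈ 𝐍 Q := h3 (cj_eq_iff.1 (by rw [cj_mul, he, cj_cj_inv]))
    exact cj_eq_iff.2 (by simpa using mul_mem h5 (inv_mem hn))

end Cfsg.Agent.S2838
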