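import Cfsg.Statements.S2839
import Cfsg.Agent.H26.Min

set_option autoImplicit false
open Cfsg

namespace Cfsg.Agent.S2839

open H26 Subgroup
open scoped Pointwise commutatorElement

/-- Let Q be a nontrivial p-subgroup of the finite group H that is a weakly closed subgroup, K a subgroup containing Q and N a normal subgroup of H. Then Q is a weakly closed subgroup of K; every H-conjugate of Q contained in K is a K-conjugate of Q; N_K(Q) contains a Sylow p-subgroup of K; N = N_N(Q)·O^p(N); and QN/N is a weakly closed subgroup of H/N. -/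
theorem result {H : Type*} [Group H] [Finite H] {p : ℕ} [Fact p.Prime] (Q : Subgroup H) (hQp : IsPGroup p ↥Q) (hQ1 : Q ≠ ⊥) (hwc : Cfsg.IsWeaklyClosedSubgroup p Q) (K : Subgroup H) (hQK : Q ≤ K) (N' : Subgroup H) [N'.Normal] : Cfsg.IsWeaklyClosedSubgroup p (Q.subgroupOf K) ∧ (∀ g : H, ((Q : Subgroup H).map (MulAut.conj (g : H)).toMonoidHom) ≤ K → ∃ k ∈ K, ((Q : Subgroup H).map (MulAut.conj (g : H)).toMonoidHom) = ((Q : Subgroup H).map (MulAut.conj (k : H)).toMonoidHom)) ∧ Cfsg.IsParabolic p ((Subgroup.normalizer ((Q : Subgroup H) : Set H)).subgroupOf K) ∧ (N' ⊓ Subgroup.normalizer ((Q : Subgroup H) : Set H)) ⊔ (Cfsg.pResidual p ↥N').map N'.subtype = N' ∧ Cfsg.IsWeaklyClosedSubgroup p (Q.map (QuotientGroup.mk' N')) := by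
  rw [wcl_iff] at hwc
  refine ⟨wcl_iff.2 ⟨hQp.comap_subtype, fun g P hP h1 h2 => ?_⟩, fun g hg => hwc.exists_conj hQK hg, ?_, ?_,
    wcl_iff.2 ⟨hQp.map _, fun g P hP h1 h2 => ?_⟩⟩
  · apply map_injective K.subtype_injective
    have h3 := map_mono (f := K.subtype) h1
    have h4 := map_mono (f := K.subtype) h2
    rw [map_cj] at h4 ⊢
    rw [map_subgroupOf_eq_of_le hQK] at h3 h4 ⊢
    exact hwc.2 _ _ (hP.map _) h3 h4
  · obtain ⟨T, hT, hle⟩ := exists_isSyl_ge hQp hQK
    exact ⟨hT.sylow, comap_mono (hwc.le_normalizer hT.isP hle)⟩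
  · obtain ⟨T, hT, hle⟩ := exists_isSyl_ge hQp (le_top : Q ≤ ⊤)
    refine le_antisymm (sup_le inf_le_left (pResidualOf_le p N')) ?_
    exact (hT.inf_of_normal le_normalizer_of_normal le_top).le_of_pResidualOf_le le_sup_right
      ((le_inf inf_le_right (inf_le_left.trans (hwc.le_normalizer hT.isP hle))).trans le_sup_left)
  · obtain ⟨g, rfl⟩ := QuotientGroup.mk'_surjective N' g
    rw [← map_cj] at h2
    rw [map_le_iff_le_comap] at h1 h2
    obtain ⟨k, hk, he⟩ := hwc.exists_conj h1 h2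
    obtain ⟨T, hT, hle⟩ := exists_isSyl_ge hQp h1
    have h3 := hT.map (QuotientGroup.mk' N')
    rw [map_comap_eq_self_of_surjective (QuotientGroup.mk'_surjective N')] at h3
    have h4 := map_le_normalizer_map (QuotientGroup.mk' N') (hwc.le_normalizer hT.isP hle)
    rw [h3.eq_of_isPGroup hP] at h4
    rw [← map_cj, he, map_cj]
    exact cj_eq_iff.2 (h4 hk)

end Cfsg.Agent.S2839
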