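import Cfsg.Statements.S2840
import Cfsg.Agent.H26.Min

set_option autoImplicit false
open Cfsg

namespace Cfsg.Agent.S2840

open H26 Subgroup
open scoped Pointwise commutatorElement

/-- Let Q be a nontrivial p-subgroup of the finite group H that is a weakly closed subgroup and K a subgroup containing Q; let K° be the weak closure of Q in K (generated by the H-conjugates of Q inside K). Then K° is generated by the K-conjugates of Q, and K° is the subnormal closure of Q in K. -/
theorem result {H : Type*} [Group H] [Finite H] {p : ℕ} [Fact p.Prime] (Q : Subgroup H) (hQp : IsPGroup p ↥Q) (hQ1 : Q ≠ ⊥) (hwc : Cfsg.IsWeaklyClosedSubgroup p Q) (K : Subgroup H) (hQK : Q ≤ K) (Kc : Subgroup H) (hKc : Kc = Cfsg.weakClosure Q K) : Kc = ⨆ k : ↥K, ((Q : Subgroup H).map (MulAut.conj ((k : H) : H)).toMonoidHom) ∧ Kc = (Cfsg.subnormalClosure (Q.subgroupOf K)).map K.subtype := by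
  rw [wcl_iff] at hwc
  have e := hwc.weakClosure_eq hQK
  refine ⟨hKc.trans e, ?_⟩
  obtain ⟨h1, h2, h3⟩ := subnormalClosure_spec (Q.subgroupOf K)
  apply le_antisymm
  · have key : ∀ S K : Subgroup H, H2.SubnIn S K → Q ≤ S → weakClosure Q K ≤ S := by
      intro S K h
      induction h with
      | refl => exact fun _ => weakClosure_le _ _
      | step h4 h5 h6 ih =>
        intro h7
        rw [← weakClosure_eq_of_le (ih (h7.trans h4)) h6.le, hwc.weakClosure_eq (h7.trans h4)]
        exact ncl_le h7 h5
    have h4 := (subnIn_top_of_isSubnormal h2).map K.subtype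
    rw [map_subtype_top] at h4
    rw [hKc]
    refine key _ _ h4 ?_
    exact (map_subgroupOf_eq_of_le hQK).ge.trans (map_mono h1)
  · rw [hKc, e, ← map_normalClosure_subgroupOf hQK]
    exact map_mono (h3 _ le_normalClosure (Normal.isSubnormal inferInstance))

end Cfsg.Agent.S2840
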