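import Cfsg.Statements.S2841
import Cfsg.Agent.H26.Min

set_option autoImplicit false
open Cfsg

namespace Cfsg.Agent.S2841

open H26 Subgroup
open scoped Pointwise commutatorElement

/-- Let Q be a nontrivial p-subgroup of the finite group H that is a weakly closed subgroup and N a normal subgroup of H. Then N = N_N(Q)·[N, Q] and [N, Q] = (Q ∩ [N, Q])·[N, Q, Q]. -/
theorem result {H : Type*} [Group H] [Finite H] {p : ℕ} [Fact p.Prime] (Q : Subgroup H) (hQp : IsPGroup p ↥Q) (hQ1 : Q ≠ ⊥) (hwc : Cfsg.IsWeaklyClosedSubgroup p Q) (N' : Subgroup H) [N'.Normal] : (∀ n : H, n ∈ N' → ∃ a ∈ N' ⊓ Subgroup.normalizer ((Q : Subgroup H) : Set H), ∃ b ∈ ⁅N', Q⁆, n = a * b) ∧ (∀ c : H, c ∈ ⁅N', Q⁆ → ∃ a ∈ Q ⊓ ⁅N', Q⁆, ∃ b ∈ ⁅⁅N', Q⁆, Q⁆, c = a * b) := by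
  rw [wcl_iff] at hwc
  have hM : ⁅N', Q⁆ ≤ N' := commutator_le_left _ _
  have hQM : Q ≤ 𝐍 (⁅N', Q⁆) := le_normalizer_commutator_right _ _
  have e : ncl Q N' = ⁅N', Q⁆ ⊔ Q := by rw [ncl_eq_sup_commutator, commutator_comm, sup_comm]
  constructor
  · intro n hn
    obtain ⟨k, hk, he⟩ := hwc.exists_conj (le_ncl Q N') (cj_le_ncl (inv_mem hn))
    rw [e] at hk
    obtain ⟨b, hb, q, hq, rfl⟩ := (mem_sup_of_le_normalizer' hQM).1 hk
    refine ⟨n * b, ⟨mul_mem hn (hM hb), cj_eq_iff.1 ?_⟩, b⁻¹, inv_mem hb, by simp⟩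
    rw [cj_mul, cj_eq_of_mem hq] at he
    rw [cj_mul, ← he, cj_cj_inv]
  · intro c hc
    have h1 := hwc.ncl_ncl (le_sup_right : Q ≤ N' ⊔ Q)
    rw [ncl_sup_of_le_normalizer le_normalizer le_normalizer_of_normal, e,
      ncl_sup_of_le_normalizer le_normalizer hQM, ncl_eq_sup_commutator, commutator_comm Q] at h1
    obtain ⟨a, ha, b, hb, rfl⟩ := (mem_sup_of_le_normalizer (le_normalizer_commutator_right _ _)).1
      (h1.ge (mem_sup_left hc))
    refine ⟨a, ⟨ha, ?_⟩, b, hb, rfl⟩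
    simpa using mul_mem hc (inv_mem (commutator_le_of_le_normalizer hQM hb))

end Cfsg.Agent.S2841
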