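import Cfsg.Statements.S2843
import Cfsg.Agent.H26.Large

set_option autoImplicit false
open Cfsg

namespace Cfsg.Agent.S2843

open H26 Subgroup
open scoped Pointwise commutatorElement

/-- Let Q be a nontrivial large p-subgroup of the finite group H, Q ≤ L ≤ H, and Y a nontrivial p-subgroup of H normalized by L. Let L° be the weak closure of Q in L (generated by the conjugates of Q inside L). Then L° equals the weak closure of Q in L·C_H(Y), and [L°, C_H(Y)] ≤ O_p(L°); in particular C_H(Y) normalizes L°. -/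
theorem result {H : Type*} [Group H] [Finite H] {p : ℕ} [Fact p.Prime] (Q : Subgroup H) (hQp : IsPGroup p ↥Q) (hQ1 : Q ≠ ⊥) (hL : Cfsg.IsLarge Q) (L : Subgroup H) (hQL : Q ≤ L) (Y : Subgroup H) (hYp : IsPGroup p ↥Y) (hY1 : Y ≠ ⊥) (hLY : L ≤ Subgroup.normalizer ((Y : Subgroup H) : Set H)) : Cfsg.weakClosure Q L = Cfsg.weakClosure Q (L ⊔ Subgroup.centralizer ((Y : Subgroup H) : Set H)) ∧ ⁅Cfsg.weakClosure Q L, Subgroup.centralizer ((Y : Subgroup H) : Set H)⁆ ≤ (Cfsg.pCoreOf p (Cfsg.weakClosure Q L)) ∧ Subgroup.centralizer ((Y : Subgroup H) : Set H) ≤ Subgroup.normalizer (((Cfsg.weakClosure Q L) : Subgroup H) : Set H) := by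
  have hw := large_wcl hL hQp hQ1
  rw [hw.weakClosure_eq hQL, hw.weakClosure_eq (le_sup_of_le_left hQL)]
  exact ⟨(large_ncl_sup_centralizer hL hQp hYp hY1 hQL hLY).symm, large_commutator_ncl_le hL hQp hYp hY1 hQL hLY,
    large_centralizer_le_normalizer_ncl hL hQp hYp hY1 hQL hLY⟩

end Cfsg.Agent.S2843
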