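import Cfsg.Statements.S2846
import Cfsg.Agent.H26.Large

set_option autoImplicit false
open Cfsg

namespace Cfsg.Agent.S2846

open H26 Subgroup
open scoped Pointwise commutatorElement

/-- Let Q be a nontrivial large p-subgroup of the finite group H, S a Sylow p-subgroup containing Q, and L a subgroup containing S with O_p(L) ≠ 1 and C_H(O_p(L)) ≤ O_p(L). Then there are a subgroup M containing S having the basic property (M ∈ 𝔐_H, writing Y_X for the largest p-reduced normal subgroup of X and 𝓛_H for the set of subgroups X with O_p(X) ≠ 1 and C_H(O_p(X)) ≤ O_p(X): M ∈ 𝓛_H, M·C_H(Y_M) is the only maximal member of 𝓛_H containing M and its largest p-reduced normal subgroup is again Y_M, C_M(Y_M) is p-closed, and the image of C_M(Y_M) in M/O_p(M) lies in the Frattini subgroup of M/O_p(M)) and a subgroup L* with S ≤ L* ≤ M, O_p(L*) ≠ 1, C_H(O_p(L*)) ≤ O_p(L*), such that L·C_H(Y_L) = L*·C_H(Y_L), the weak closures of Q in L and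 in L* agree and lie in that of M, and Y_L = Y_{L*} ≤ Y_M. If moreover Q is not normal in L, then Q is normal in neither L* nor M. -/
theorem result {H : Type*} [Group H] [Finite H] {p : ℕ} [Fact p.Prime] (Q : Subgroup H) (hQp : IsPGroup p ↥Q) (hQ1 : Q ≠ ⊥) (hLg : Cfsg.IsLarge Q) (S : Sylow p H) (hQS : Q ≤ (S : Subgroup H)) (L : Subgroup H) (hSL : (S : Subgroup H) ≤ L) (hL : L ∈ Cfsg.charPSubgroups p H) : ∃ M Ls : Subgroup H, (S : Subgroup H) ≤ M ∧ Cfsg.IsInFrakM p M ∧ (S : Subgroup H) ≤ Ls ∧ Ls ≤ M ∧ Ls ∈ Cfsg.charPSubgroups p H ∧ L ⊔ Subgroup.centralizer (((Cfsg.largestPReducedOf p L) : Subgroup H) : Set H) = Ls ⊔ Subgroup.centralizer (((Cfsg.largestPReducedOf p L) : Subgroup H) : Set H) ∧ Cfsg.weakClosure Q L = Cfsg.weakClosure Q Ls ∧ Cfsg.weakClosure Q Ls ≤ Cfsg.weakClosure Q M ∧ (Cfsg.largestPReducedOf p L) = (Cfsg.largestPReducedOf p Ls) ∧ (Cfsg.largestPReducedOf p Ls) ≤ (Cfsg.largestPReducedOf p M) ∧ (¬ L ≤ Subgroup.normalizer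 ((Q : Subgroup H) : Set H) → ¬ Ls ≤ Subgroup.normalizer ((Q : Subgroup H) : Set H) ∧ ¬ M ≤ Subgroup.normalizer ((Q : Subgroup H) : Set H)) := by
  have hw := large_wcl hLg hQp hQ1
  have hL' := inL_iff.2 hL
  obtain ⟨M, Ls, h1, h2, h3, h4, h5, h6, h7, h8⟩ := exists_frakM (large_parabolic hLg hQp hQ1) (isSyl_top S) hSL hL'
  have hY : YY p L ≠ ⊥ := hL'.charP.YY_ne_bot fun h => hL'.1 (le_bot_iff.1 (h ▸ pCoreOf_le p L))
  have h9 : ncl Q L = ncl Q Ls := by
    rw [← large_ncl_sup_centralizer hLg hQp (isPGroup_YY L) hY (hQS.trans hSL) (le_normalizer_YY L), h8,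
      large_ncl_sup_centralizer hLg hQp (isPGroup_YY L) hY (hQS.trans h3) (h6 ▸ le_normalizer_YY Ls)]
  refine ⟨M, Ls, h1, h2, h3, h4, inL_iff.1 h5, h8, ?_, weakClosure_mono Q h4, h6, h6 ▸ h7, fun h => ?_⟩
  · rw [hw.weakClosure_eq (hQS.trans hSL), hw.weakClosure_eq (hQS.trans h3), h9]
  · have : ¬ Ls ≤ 𝐍 Q := fun h10 => h (by rw [← ncl_eq_self h10, ← h9]; exact le_normalizer_ncl Q L)
    exact ⟨this, fun h10 => this (h4.trans h10)⟩

end Cfsg.Agent.S2846
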