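import Cfsg.Statements.S2850
import Cfsg.Agent.H26.Large

set_option autoImplicit false
open Cfsg

namespace Cfsg.Agent.S2850

open H26 Subgroup
open scoped Pointwise commutatorElement

/-- Standing hypotheses: G a finite group, S a Sylow p-subgroup, Q a nontrivial large p-subgroup of G contained in S (C_G(Q) ≤ Q and N_G(U) ≤ N_G(Q) for all nontrivial U ≤ C_G(Q)), and M a subgroup containing S with the basic property (M ∈ 𝔐_G(S)); Y_M denotes the largest p-reduced normal subgroup of M and M† = M·C_G(Y_M). Suppose Y_M is asymmetric in G. Then N_G(L) ≤ N_G(O_p(M)) ≤ M† for every p-subgroup L containing O_p(M); O_p(M) is a weakly closed subgroup of G; for every subgroup L containing O_p(M), L ∩ M† contains a Sylow p-subgroup of L; and two elements of Y_M conjugate in G are conjugate in M. -/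
theorem result {G : Type*} [Group G] [Finite G] {p : ℕ} [Fact p.Prime] (S : Sylow p G) (Q : Subgroup G) (hQp : IsPGroup p ↥Q) (hQ1 : Q ≠ ⊥) (hQS : Q ≤ (S : Subgroup G)) (hQ : Cfsg.IsLarge Q) (M : Subgroup G) (hSM : (S : Subgroup G) ≤ M) (hM : Cfsg.IsInFrakM p M) (hasym : ¬ Cfsg.IsSymmetricIn (Cfsg.largestPReducedOf p M)) : (∀ L : Subgroup G, IsPGroup p ↥L → (Cfsg.pCoreOf p M) ≤ L → Subgroup.normalizer ((L : Subgroup G) : Set G) ≤ Subgroup.normalizer (((Cfsg.pCoreOf p M) : Subgroup G) : Set G) ∧ Subgroup.normalizer (((Cfsg.pCoreOf p M) : Subgroup G) : Set G) ≤ (M ⊔ Subgroup.centralizer (((Cfsg.largestPReducedOf p M) : Subgroup G) : Set G))) ∧ Cfsg.IsWeaklyClosedSubgroup p (Cfsg.pCoreOf p M) ∧ (∀ L : Subgroup G, (Cfsg.pCoreOf p M) ≤ L → Cfsg.IsParabolic p ((L ⊓ (M ⊔ Subgroup.centralizer (((Cfsg.largestPReducedOf p M) : Subgroup G) : Set G))).subgroupOf L)) ∧ (∀ x ∈ (Cfsg.largestPReducedOf p M), ∀ g : G, g * x * g⁻¹ ∈ (Cfsg.largestPReducedOf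 p M) → ∃ m ∈ M, m * x * m⁻¹ = g * x * g⁻¹) := by
  have h := frakM_of M hM
  have hw := h.wcl (large_parabolic hQ hQp hQ1) (isSyl_top S) hSM (asym_of hasym)
  refine ⟨fun L h1 h2 => ⟨hw.normalizer_le h1 h2, h.normalizer_pCoreOf_le⟩, wcl_iff.2 hw, fun L hL => ?_, fun x hx g hg => ?_⟩
  · obtain ⟨P, hP, -, h2⟩ := h.exists_isSyl_inf hw hL
    exact ⟨hP.sylow, comap_mono (le_inf hP.le h2)⟩
  · have h1 : ∀ y ∈ YY p M, Cfsg.pCoreOf p M ≤ centralizer {y} := fun y hy a ha =>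
      mem_centralizer_singleton_iff.2 (pCoreOf_le_centralizer_YY M ha y hy).symm
    have h2 : cj g⁻¹ (Cfsg.pCoreOf p M) ≤ centralizer {x} := by
      rw [cj_le_iff, inv_inv, cj_centralizer_singleton]; exact h1 _ hg
    obtain ⟨k, hk, h3⟩ := hw.exists_conj (h1 x hx) h2
    rw [cj_eq_iff_eq_cj, inv_inv, ← cj_mul, eq_comm, cj_eq_iff] at h3
    obtain ⟨m, hm, c, hc, h4⟩ := (mem_sup_of_le_normalizer (le_normalizer_centralizer (le_normalizer_YY M))).1
      (h.normalizer_pCoreOf_le h3)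
    refine ⟨m, hm, ?_⟩
    have h5 : c * x * c⁻¹ = x := mem_centralizer_iff'.1 hc x hx
    have h6 : k * x * k⁻¹ = x := mul_inv_eq_iff_eq_mul.2 (mem_centralizer_singleton_iff.1 hk)
    calc m * x * m⁻¹ = m * (c * x * c⁻¹) * m⁻¹ := by rw [h5]
      _ = (m * c) * x * (m * c)⁻¹ := by group
      _ = g * (k * x * k⁻¹) * g⁻¹ := by rw [h4]; group
      _ = _ := by rw [h6]

end Cfsg.Agent.S2850
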