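import Cfsg.Statements.S2851
import Cfsg.Agent.H26.Large
import Cfsg.Agent.H26.QS

set_option autoImplicit false
open Cfsg

namespace Cfsg.Agent.S2851

open H26 Subgroup
open scoped Pointwise commutatorElement

/-- Standing hypotheses: G a finite group, S a Sylow p-subgroup, Q a nontrivial large p-subgroup of G contained in S, M a subgroup containing S with the basic property (M ∈ 𝔐_G(S)); Y_M the largest p-reduced normal subgroup of M and M† = M·C_G(Y_M). Let F be the preimage in M† of the generalized Fitting subgroup of M†/C_{M†}(Y_M). If Y_M is asymmetric in G and H is a subgroup of characteristic p containing F, then Y_M ≤ Y_H. -/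
theorem result {G : Type*} [Group G] [Finite G] {p : ℕ} [Fact p.Prime] (S : Sylow p G) (Q : Subgroup G) (hQp : IsPGroup p ↥Q) (hQ1 : Q ≠ ⊥) (hQS : Q ≤ (S : Subgroup G)) (hQ : Cfsg.IsLarge Q) (M : Subgroup G) (hSM : (S : Subgroup G) ≤ M) (hM : Cfsg.IsInFrakM p M) (hasym : ¬ Cfsg.IsSymmetricIn (Cfsg.largestPReducedOf p M)) [hn : ((Subgroup.centralizer (((Cfsg.largestPReducedOf p M) : Subgroup G) : Set G)).subgroupOf (M ⊔ Subgroup.centralizer (((Cfsg.largestPReducedOf p M) : Subgroup G) : Set G))).Normal] (F : Subgroup G) (hF : F = ((Cfsg.generalizedFittingSubgroup (↥(M ⊔ Subgroup.centralizer (((Cfsg.largestPReducedOf p M) : Subgroup G) : Set G)) ⧸ (Subgroup.centralizer (((Cfsg.largestPReducedOf p M) : Subgroup G) : Set G)).subgroupOf (M ⊔ Subgroup.centralizer (((Cfsg.largestPReducedOf p M) : Subgroup G) : Set G)))).comap (QuotientGroup.mk' ((Subgroup.centralizer (((Cfsg.largestPReducedOf p M) : Subgroup G) : Set G)).subgroupOf (M ⊔ Subgroup.centralizer (((Cfsg.largestPReducedOf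 p M) : Subgroup G) : Set G))))).map ((M ⊔ Subgroup.centralizer (((Cfsg.largestPReducedOf p M) : Subgroup G) : Set G))).subtype) (H : Subgroup G) (hFH : F ≤ H) (hH : Subgroup.centralizer (Cfsg.pCore p ↥H : Set ↥H) ≤ Cfsg.pCore p ↥H) : (Cfsg.largestPReducedOf p M) ≤ Cfsg.largestPReducedOf p H := by
  have h := frakM_of M hM
  have hw := h.wcl (large_parabolic hQ hQp hQ1) (isSyl_top S) hSM (asym_of hasym)
  have hY := pRed_YY (p := p) M
  set Y := YY p M
  set D := M ⊔ 𝐂 Y
  have hD : D ≤ 𝐍 Y := sup_le hY.norm (centralizer_le_normalizer _)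
  have hred : Red p D Y := hY.red.of_sup_eq hD hY.norm (by rw [sup_assoc, sup_idem])
  let f := QuotientGroup.mk' ((𝐂 Y).subgroupOf D)
  have hCF : 𝐂 Y ≤ F := by
    rw [hF]
    exact (map_subgroupOf_eq_of_le (le_sup_right : 𝐂 Y ≤ D)).ge.trans
      (map_mono ((QuotientGroup.ker_mk' _).ge.trans (ker_le_comap _ _)))
  have hTH : Cfsg.pCoreOf p M ≤ H := (pCoreOf_le_centralizer_YY M).trans (hCF.trans hFH)
  obtain ⟨P, hP, h1, h2⟩ := h.exists_isSyl_inf hw hTH
  refine PRed.le_YY_of_parabolic (R := H ⊓ D) ⟨hY.le_pCoreOf.trans (le_inf hTH ((pCoreOf_le p M).trans le_sup_left)),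
    inf_le_right.trans hD, hY.elemAb, fun K h3 h4 h5 => ?_⟩ (charPOf_iff.2 hH) hP (le_inf hP.le h2) inf_le_left
  have h6 : Cfsg.pCoreOf p (((H ⊓ D).subgroupOf D).map f) = ⊥ := by
    refine pCoreOf_eq_bot_of_gfit_le (H := ⊤) ?_ ?_ le_top
    · rw [pCoreOf_top]; exact pCore_quotient_subgroupOf_eq_bot_iff.2 hred
    · rw [H17.gfit_top, ← map_comap_eq_self_of_surjective (QuotientGroup.mk'_surjective _) (Cfsg.generalizedFittingSubgroup _)]
      refine map_mono (map_le_iff_le_comap.1 (le_inf (hF ▸ hFH) (map_subtype_le _)))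
  have hKD : K ≤ D := h3.trans inf_le_right
  have h7 : (K.subgroupOf D).map f ≤ ⊥ := by
    rw [← h6]
    refine le_pCoreOf ?_ (map_mono (comap_mono h3)) (map_le_normalizer_map f ?_)
    · rw [isPGroup_map_iff_pResidualOf_le, pResidualOf_subgroupOf hKD, QuotientGroup.ker_mk']
      exact comap_mono h5
    · rw [← map_le_normalizer_map_iff D.subtype_injective, map_subgroupOf_eq_of_le hKD, map_subgroupOf_eq_of_le inf_le_right]
      exact h4
  have h8 := map_mono (f := D.subtype) (map_mk'_eq_bot.1 (le_bot_iff.1 h7))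
  rwa [map_subgroupOf_eq_of_le hKD, map_subgroupOf_eq_of_le le_sup_right] at h8

end Cfsg.Agent.S2851
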