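import Cfsg.Statements.S2852
import Cfsg.Agent.H26.Large

set_option autoImplicit false
open Cfsg

namespace Cfsg.Agent.S2852

open H26 Subgroup
open scoped Pointwise commutatorElement

/-- Standing hypotheses: G a finite group, S a Sylow p-subgroup, Q a nontrivial large p-subgroup of G contained in S, M a subgroup containing S with the basic property (M ∈ 𝔐_G(S)); Y_M the largest p-reduced normal subgroup of M. If Y_M is char-p-tall and asymmetric in G, then some subgroup H of G lies in ℌ_G(O_p(M)): H has characteristic p, O_p(M) ≤ H, Y_M ≰ O_p(H), and Y_M ≤ O_p(P) for every proper subgroup P of H containing O_p(M). -/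
theorem result {G : Type*} [Group G] [Finite G] {p : ℕ} [Fact p.Prime] (S : Sylow p G) (Q : Subgroup G) (hQp : IsPGroup p ↥Q) (hQ1 : Q ≠ ⊥) (hQS : Q ≤ (S : Subgroup G)) (hQ : Cfsg.IsLarge Q) (M : Subgroup G) (hSM : (S : Subgroup G) ≤ M) (hM : Cfsg.IsInFrakM p M) (htall : Cfsg.IsCharPTall p (Cfsg.largestPReducedOf p M)) (hasym : ¬ Cfsg.IsSymmetricIn (Cfsg.largestPReducedOf p M)) : ∃ H : Subgroup G, Cfsg.IsInFrakH p M H := by
  have h := frakM_of M hM
  have hw := h.wcl (large_parabolic hQ hQp hQ1) (isSyl_top S) hSM (asym_of hasym)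
  obtain ⟨T, L, h1, h2, h3⟩ := htall
  obtain ⟨c, hc, h4⟩ := (isSyl_map_subtype T).exists_cj_eq (h.isSyl_centralizer (isSyl_top S) hSM)
  have h5 : CharPOf p (cj c L) := (charPOf_iff.2 h2).cj c
  have h6 : Cfsg.pCoreOf p M ≤ cj c L := h4 ▸ cj_mono c h1
  have h7 : ¬ YY p M ≤ Cfsg.pCoreOf p (cj c L) := by
    rw [← cj_pCoreOf, ← cj_eq_of_mem_centralizer hc, cj_le_cj_iff]; exact h3
  obtain ⟨H, h8, ⟨h9, h10⟩, h11⟩ := exists_minimal_le (Q := fun H => Cfsg.pCoreOf p M ≤ H ∧ ¬ YY p M ≤ Cfsg.pCoreOf p H)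
    (cj c L) ⟨h6, h7⟩
  exact ⟨H, frakH_iff.1 ⟨hw.charPOf h5 h9 h8 (inf_le_right.trans h.inL.2), h9, h10,
    fun P h12 h13 => by_contra fun h14 => h13.ne (h11 P h13.le ⟨h12, h14⟩)⟩⟩

end Cfsg.Agent.S2852
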