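import Cfsg.Statements.S2855
import Cfsg.Agent.H26.Large2

set_option autoImplicit false
open Cfsg

namespace Cfsg.Agent.S2855

open H26 Subgroup
open scoped Pointwise commutatorElement

variable {G : Type*} [Group G] [Finite G] {p : ℕ} [Fact p.Prime]

theorem pResidualOf_le_of_forall {R X : Subgroup G} {S : Set (Subgroup G)} (h1 : R ≤ sSup S) (h2 : ∀ E ∈ S, E ≤ R)
    (h3 : ∀ E ∈ S, R ≤ 𝐍 E) (h4 : R ≤ 𝐍 X) (h5 : ∀ E ∈ S, Cfsg.pResidualOf p E ≤ X) : Cfsg.pResidualOf p R ≤ X := by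
  obtain ⟨M, -, h6, ⟨h7, h8⟩, h9⟩ := exists_maximal_ge (Q := fun M => R ≤ 𝐍 M ∧ Cfsg.pResidualOf p M ≤ X) (bot_le (a := R))
    ⟨by rw [normalizer_bot']; exact le_top, (pResidualOf_le p _).trans bot_le⟩
  refine (pResidualOf_mono (h1.trans (sSup_le fun E hE => ?_))).trans h8
  exact le_sup_right.trans (h9 (M ⊔ E) le_sup_left (sup_le h6 (h2 E hE)) ⟨le_normalizer_sup h7 (h3 E hE),
    pResidualOf_sup_le_of (h6.trans (h3 E hE)) ((h2 E hE).trans h4) h8 (h5 E hE)⟩).le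

theorem isSyl_inf_of_sup {E Q T : Subgroup G} (hQ : IsPGroup p Q) (hn : E ≤ 𝐍 Q) (hT : IsSyl p T (E ⊔ Q)) :
    IsSyl p (T ⊓ E) E ∧ T = (T ⊓ E) ⊔ Q := by
  have hQT : Q ≤ T := hT.le_of_le_normalizer hQ le_sup_right (hT.le.trans (sup_le hn le_normalizer))
  have e : T = (T ⊓ E) ⊔ Q := by
    rw [sup_comm, inf_comm, ← dedekind_left' hQT hn, sup_comm, inf_eq_right.2 hT.le]
  refine ⟨⟨inf_le_right, hT.isP.to_inf_left, fun P hP h1 h2 => le_inf ?_ h2⟩, e⟩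
  exact le_sup_left.trans (hT.max (P ⊔ Q) (isPGroup_sup hP hQ (h2.trans hn)) (e.le.trans (sup_le_sup_right h1 Q))
    (sup_le_sup_right h2 Q))

theorem minOver_sup {E Q T : Subgroup G} (hQ : IsPGroup p Q) (hn : E ≤ 𝐍 Q) (hT : IsSyl p T (E ⊔ Q))
    (h : MinOver (T ⊓ E) E) : MinOver T (E ⊔ Q) := by
  obtain ⟨h1, h2⟩ := isSyl_inf_of_sup hQ hn hT
  obtain ⟨h3, M, h4⟩ := h
  have hQT : Q ≤ T := h2 ▸ le_sup_right
  refine ⟨le_antisymm (ncl_le_self hT.le) (sup_le (h3.ge.trans (ncl_mono inf_le_left le_sup_left)) (hQT.trans (le_ncl _ _))),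
    M ⊔ Q, h2.le.trans (sup_le_sup_right h4.le Q), (sup_le_sup_right h4.lt.le Q).lt_of_ne fun h5 => h4.lt.not_ge ?_,
    fun X h5 h6 => ?_⟩
  · have h6 : E ≤ (M ⊔ Q) ⊓ E := le_inf (le_sup_left.trans h5.ge) le_rfl
    rw [dedekind_left h4.lt.le (h4.lt.le.trans hn)] at h6
    exact h6.trans (sup_le le_rfl ((inf_le_inf_right E hQT).trans h4.le))
  · have h7 : X = (X ⊓ E) ⊔ Q := by
      rw [sup_comm, inf_comm, ← dedekind_left' (hQT.trans h5) hn, sup_comm, inf_eq_right.2 h6.le]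
    rw [h7]
    refine sup_le_sup_right (h4.all _ (inf_le_inf_right E h5) (inf_lt_right.2 fun h8 => h6.not_ge ?_)) Q
    exact sup_le h8 (hQT.trans h5)

theorem spIrrOf_sup {E Q : Subgroup G} [Q.Normal] (hQ : IsPGroup p Q) (h : SPIrrOf p E) : SPIrrOf p (E ⊔ Q) := by
  have h1 : ∀ X : Subgroup G, IsPGroup p ↥(X ⊓ (QuotientGroup.mk' Q).ker) := fun X => by
    rw [QuotientGroup.ker_mk']; exact hQ.to_inf_right
  rw [← spIrrOf_map_iff _ (h1 _), Subgroup.map_sup, map_mk'_eq_bot.2 le_rfl, sup_bot_eq, spIrrOf_map_iff _ (h1 _)]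
  exact h


/-- Let H be a finite group, p a prime, and 𝒦 a nonempty set of subgroups of H permuted transitively by conjugation, with R the subgroup generated by the members of 𝒦. Suppose O^p(H) ≤ R, each E ∈ 𝒦 has E·O_p(H) normal in R·O_p(H), and each E ∈ 𝒦 is p-minimal (generated by the conjugates of a Sylow p-subgroup T_E of E, with T_E in exactly one maximal subgroup of E). Then H is p-minimal in the same sense. If instead each E ∈ 𝒦 is strongly p-irreducible, then H is p-irreducible and, for E, K ∈ 𝒦, either O^p(E·O_p(H)) = O^p(K·O_p(H)) or [E, K] ≤ O_p(H). -/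
theorem result {H : Type*} [Group H] [Finite H] {p : ℕ} [Fact p.Prime] (𝒦 : Set (Subgroup H)) (hne : 𝒦.Nonempty) (hinv : ∀ h : H, ∀ E ∈ 𝒦, E.map (MulAut.conj h).toMonoidHom ∈ 𝒦) (htr : ∀ E ∈ 𝒦, ∀ K ∈ 𝒦, ∃ h : H, K = E.map (MulAut.conj h).toMonoidHom) (hres : Cfsg.pResidual p H ≤ sSup 𝒦) (hnorm : ∀ E ∈ 𝒦, sSup 𝒦 ⊔ Cfsg.pCore p H ≤ Subgroup.normalizer ((E ⊔ Cfsg.pCore p H : Subgroup H) : Set H)) : ((∀ E ∈ 𝒦, ∀ T : Sylow p ↥E, Cfsg.IsMinimalOver (T : Subgroup ↥E)) → ∀ T : Sylow p H, Cfsg.IsMinimalOver (T : Subgroup H)) ∧ ((∀ E ∈ 𝒦, Cfsg.IsStronglyPIrreducible p ↥E) → Cfsg.IsPIrreducible p H ∧ ∀ E ∈ 𝒦, ∀ K ∈ 𝒦, (Cfsg.pResidual p ↥(E ⊔ Cfsg.pCore p H)).map (E ⊔ Cfsg.pCore p H).subtype = (Cfsg.pResidual p ↥(K ⊔ Cfsg.pCore p H)).map (K ⊔ Cfsg.pCore p H).subtype ∨ ⁅E, K⁆ ≤ Cfsg.pCore p H) := by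
  set Q := Cfsg.pCore p H with hQe
  have hQ : IsPGroup p Q := isPGroup_pCore p H
  have hQn : ∀ X : Subgroup H, X ≤ 𝐍 Q := fun X => by rw [normalizer_eq_top]; exact le_top
  set R := sSup 𝒦 ⊔ Q
  have hRn : ∀ X : Subgroup H, X ≤ 𝐍 R := fun X => by
    refine le_normalizer_sup (le_normalizer_iff_cj.2 fun h _ => ?_) (hQn X)
    rw [cj_le_iff]
    exact sSup_le fun E hE => cj_le_iff.1 (le_sSup (hinv h E hE))
  have hER : ∀ E ∈ 𝒦, E ⊔ Q ≤ R := fun E hE => sup_le_sup_right (le_sSup hE) Q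
  have hsub : ∀ E ∈ 𝒦, H2.SubnIn (E ⊔ Q) ⊤ := fun E hE =>
    (H2.SubnIn.of_normal (hER E hE) (hnorm E hE)).trans (H2.SubnIn.of_normal le_top (hRn ⊤))
  have hD : Cfsg.pResidualOf p ⊤ ≤ R := by rw [pResidualOf_top]; exact le_sup_of_le_left hres
  have hcj : ∀ g E, cj g (E ⊔ Q) = cj g E ⊔ Q := fun g E => by rw [cj_sup, cj_eq_of_normal g Q]
  have htr' : ∀ T, IsSyl p T ⊤ → ∀ E ∈ 𝒦, ∀ K ∈ 𝒦, ∃ t ∈ T, K ⊔ Q = cj t (E ⊔ Q) := fun T hT E hE K hK => by
    obtain ⟨g, rfl⟩ := htr E hE K hK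
    obtain ⟨t, ht, r, hr, rfl⟩ := (mem_sup_of_le_normalizer (hRn T)).1 (hT.le_of_pResidualOf_le (le_sup_of_le_right hD)
      le_sup_left (mem_top g))
    exact ⟨t, ht, by rw [← hcj, cj_mul, cj_eq_iff.2 (hnorm E hE hr)]⟩
  have hRle : R ≤ sSup ((· ⊔ Q) '' 𝒦) := by
    obtain ⟨E, hE⟩ := hne
    exact sup_le (sSup_le fun K hK => le_sup_left.trans (le_sSup ⟨K, hK, rfl⟩)) (le_sup_right.trans (le_sSup ⟨E, hE, rfl⟩))
  refine ⟨fun h T => ?_, fun h => ?_⟩
  · have hT := isSyl_top T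
    have hQT : Q ≤ T := hT.le_of_le_normalizer hQ le_top (hQn _)
    have hm : ∀ E ∈ 𝒦, MinOver ((T : Subgroup H) ⊓ (E ⊔ Q)) (E ⊔ Q) := fun E hE => by
      have h1 := hT.inf_of_subnIn (hsub E hE)
      refine minOver_sup hQ (hQn E) h1 ?_
      have h2 := (isSyl_inf_of_sup hQ (hQn E) h1).1
      have := minOver_map_subtype_iff.2 (h E hE h2.sylow)
      rwa [h2.map_sylow] at this
    let m : Subgroup H → Subgroup H := fun Y => sSup {X | (T : Subgroup H) ⊓ Y ≤ X ∧ X < Y}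
    have hm' : ∀ E ∈ 𝒦, UMax ((T : Subgroup H) ⊓ (E ⊔ Q)) (m (E ⊔ Q)) (E ⊔ Q) := fun E hE => by
      obtain ⟨M, hM⟩ := (hm E hE).2
      have : m (E ⊔ Q) = M := le_antisymm (sSup_le fun X hX => hM.all X hX.1 hX.2) (le_sSup ⟨hM.le, hM.lt⟩)
      rwa [this]
    let M : Subgroup H :=
      { carrier := {g | ∀ E ∈ 𝒦, cj g (m (E ⊔ Q)) = m (cj g E ⊔ Q)}
        mul_mem' := fun {a b} ha hb E hE => by rw [cj_mul, hb E hE, ha _ (hinv b E hE), cj_mul]
        one_mem' := fun E _ => by rw [cj_one, cj_one]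
        inv_mem' := fun {a} ha E hE => by
          rw [cj_eq_iff_eq_cj, inv_inv, ha _ (hinv a⁻¹ E hE), cj_cj_inv] }
    have hTM : (T : Subgroup H) ≤ M := fun t ht E hE => by
      have h1 := (hm' E hE).cj t
      rw [cj_inf, cj_eq_of_mem ht, hcj] at h1
      exact h1.unique (hm' _ (hinv t E hE))
    have hRM : ∀ x ∈ R, x ∈ M ↔ ∀ E ∈ 𝒦, x ∈ 𝐍 (m (E ⊔ Q)) := fun x hx => by
      refine forall₂_congr fun E hE => ?_
      rw [← hcj, cj_eq_iff.2 (hnorm E hE hx), cj_eq_iff]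
    have hall : ∀ X, (T : Subgroup H) ≤ X → (∃ E ∈ 𝒦, E ⊔ Q ≤ X) → X = ⊤ := fun X h1 ⟨E, hE, h2⟩ => by
      refine top_le_iff.1 (hT.le_of_pResidualOf_le (hD.trans (hRle.trans (sSup_le ?_))) h1)
      rintro _ ⟨K, hK, rfl⟩
      obtain ⟨t, ht, h3⟩ := htr' _ hT E hE K hK
      exact h3.le.trans (cj_le_of_mem h2 (h1 ht))
    obtain ⟨E, hE⟩ := hne
    refine minOver_top_iff.1 ⟨hall _ (le_ncl _ _) ⟨E, hE, (hm E hE).1.ge.trans (ncl_mono inf_le_left le_top)⟩, M, hTM,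
      lt_top_iff_ne_top.2 fun h1 => ?_, fun X h1 h2 => ?_⟩
    · refine (hm' E hE).lt.not_ge ((hm E hE).1.ge.trans (ncl_le (hm' E hE).le fun x hx => ?_))
      exact (hRM x (hER E hE hx)).1 (h1 ▸ mem_top x) E hE
    · have h3 : X ≤ (T : Subgroup H) ⊔ (R ⊓ X) := by
        rw [← dedekind_left h1 (hRn _)]
        exact le_inf (le_top.trans (hT.le_of_pResidualOf_le (le_sup_of_le_right hD) le_sup_left)) le_rfl
      refine h3.trans (sup_le hTM fun x hx => (hRM x hx.1).2 fun K hK => ?_)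
      have h4 : X ⊓ (K ⊔ Q) ≤ m (K ⊔ Q) := (hm' K hK).all _ (inf_le_inf_right _ h1)
        (inf_lt_right.2 fun h5 => h2.ne (hall X h1 ⟨K, hK, h5⟩))
      have h5 := (hT.inf_of_subnIn (hsub K hK)).mono (inf_le_inf_right _ h1) inf_le_right
      obtain ⟨y, hy, h6⟩ := h5.frattini_mem (g := x)
        ((le_normalizer_inf (inf_le_right.trans le_normalizer) (inf_le_left.trans (hnorm K hK)) : R ⊓ X ≤ _) hx)
      have h7 := (hm' K hK).normalizer_le_normalizer ⟨mul_mem (le_normalizer hy.2) (hnorm K hK hx.1), h6⟩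
      have := mul_mem (inv_mem (le_normalizer (h4 hy))) h7
      simpa using this
  · have hS : ∀ E ∈ 𝒦, SPIrrOf p (E ⊔ Q) := fun E hE => spIrrOf_sup hQ (spIrrOf_iff.2 (h E hE))
    have hO : ∀ E ∈ 𝒦, Cfsg.pCoreOf p (E ⊔ Q) = Q := fun E hE => pCoreOf_eq_of hQ le_sup_right (hQn _)
      ((pCoreOf_le_pCoreOf_of_subnIn (hsub E hE)).trans (pCoreOf_top p H).le)
    obtain ⟨T, hT⟩ := exists_isSyl p (⊤ : Subgroup H)
    have hQT : Q ≤ T := hT.le_of_le_normalizer hQ le_top (hQn _)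
    have hDE : ∀ E ∈ 𝒦, Cfsg.pResidualOf p (E ⊔ Q) ≤ ⁅E ⊔ Q, E ⊔ Q⁆ := fun E hE => by
      have h1 := hT.inf_of_subnIn (hsub E hE)
      rw [← (hS E hE).pIrrOf.commutator_eq h1 le_rfl le_normalizer fun h2 => (hS E hE).1 (pClosedOf_iff_isSyl.2
        (h1.eq_of_le (isPGroup_pCoreOf p _) h2 (pCoreOf_le p _) ▸ h1))]
      exact commutator_mono (pResidualOf_le p _) inf_le_right
    have key : ∀ E ∈ 𝒦, ∀ N ≤ R, R ≤ 𝐍 N → Q ≤ N → ¬ Cfsg.pResidualOf p (E ⊔ Q) ≤ N → ⁅N, E ⊔ Q⁆ ≤ Q := by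
      intro E hE N h1 h2 hQN h3
      have h4 : ⁅N ⊓ (E ⊔ Q), E ⊔ Q⁆ ≤ Q := by
        rw [← hO E hE]
        by_contra h4
        rw [hO E hE] at h4
        exact h3 (((hS E hE).2 _ inf_le_right (le_normalizer_inf ((hER E hE).trans h2) le_normalizer)
          (by rwa [hO E hE])).trans inf_le_left)
      have h5 : ⁅N, E ⊔ Q⁆ ≤ N ⊓ (E ⊔ Q) := commutator_le_inf_of_le_normalizer (h1.trans (hnorm E hE)) ((hER E hE).trans h2)
      have h6 : ⁅N, Cfsg.pResidualOf p (E ⊔ Q)⁆ ≤ Q := by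
        rw [commutator_comm]
        refine (commutator_mono (hDE E hE) le_rfl).trans (H4.three_subgroups (hQn _) (hQn _) (hQn _) ?_ ?_)
        · rw [commutator_comm (E ⊔ Q)]; exact (commutator_mono h5 le_rfl).trans h4
        · exact (commutator_mono h5 le_rfl).trans h4
      have hS1 := hT.inf_of_subnIn (hsub E hE)
      set S := T ⊓ (E ⊔ Q)
      set Z := N ⊓ (E ⊔ Q)
      have hQS : Q ≤ S := le_inf hQT le_sup_right
      have h7 : Z ≤ 𝐍 S := le_normalizer_of_commutator_le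
        (by rw [commutator_comm]; exact ((commutator_mono le_rfl inf_le_right).trans h4).trans hQS)
      have h8 : N ≤ 𝐍 (S ⊔ Z) := le_normalizer_of_commutator_le' (by
        rw [commutator_comm]; exact h5.trans le_sup_right) (sup_le inf_le_right inf_le_right)
      have h9 : N ≤ 𝐍 S := by
        have := le_normalizer_pCoreOf_of_le (p := p) h8
        rwa [(hS1.mono le_sup_left (sup_le inf_le_right inf_le_right)).pCoreOf_eq (sup_le le_normalizer h7)] at this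
      have h10 : S ⊓ Z ≤ Q := by
        rw [← hO E hE]
        exact le_pCoreOf hS1.isP.to_inf_left (inf_le_left.trans inf_le_right) (le_normalizer_of_commutator_le'
          (h4.trans (le_inf hQS (le_inf hQN le_sup_right))) inf_le_right)
      conv_lhs => rw [← hS1.pResidualOf_sup]
      exact H4.commutator_sup_le' h6 ((le_inf (commutator_le_of_le_normalizer' h9)
        ((commutator_mono le_rfl inf_le_right).trans h5)).trans h10) (hQn _) (hQn _)
    have hres' : ∀ X, R ≤ 𝐍 X → (∀ E ∈ 𝒦, Cfsg.pResidualOf p (E ⊔ Q) ≤ X) → Cfsg.pResidualOf p ⊤ ≤ X := fun X h1 h2 => by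
      rw [← pResidualOf_eq_of_le hD le_top]
      exact pResidualOf_le_of_forall hRle (by rintro _ ⟨E, hE, rfl⟩; exact hER E hE) (by rintro _ ⟨E, hE, rfl⟩; exact hnorm E hE)
        h1 (by rintro _ ⟨E, hE, rfl⟩; exact h2 E hE)
    refine ⟨pIrrOf_top.1 ⟨fun h1 => ?_, fun N _ h1 h2 => ?_⟩, fun E hE K hK => ?_⟩
    · obtain ⟨E, hE⟩ := hne
      exact (hS E hE).1 (h1.mono le_top)
    · have hN : ∀ X : Subgroup H, X ≤ 𝐍 N := fun X => le_top.trans h1
      by_cases h3 : ∃ E ∈ 𝒦, Cfsg.pResidualOf p (E ⊔ Q) ≤ (N ⊔ Q) ⊓ R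
      · obtain ⟨E, hE, h3⟩ := h3
        have h4 := hres' (N ⊔ Q) (le_normalizer_sup (hN _) (hQn _)) fun K hK => by
          obtain ⟨t, -, h4⟩ := htr' _ hT E hE K hK
          rw [h4, ← cj_pResidualOf]
          exact cj_le_of_mem_normalizer (h3.trans inf_le_left) (le_normalizer_sup (hN _) (hQn _) (mem_top t))
        rw [← pResidualOf_pResidualOf]
        exact (pResidualOf_mono h4).trans (pResidualOf_sup_le' hQ (hN _))
      push Not at h3
      have h4 : ⁅(N ⊔ Q) ⊓ R, R⁆ ≤ Q := by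
        rw [commutator_comm]
        refine (commutator_mono hRle le_rfl).trans (H4.commutator_sSup_le ?_ fun _ _ => hQn _)
        rintro _ ⟨E, hE, rfl⟩
        rw [commutator_comm]
        exact key E hE _ inf_le_right (le_normalizer_inf (le_normalizer_sup (hN _) (hQn _)) le_normalizer)
          (le_inf le_sup_right le_sup_right) (h3 E hE)
      have h5 : ⁅N, R⁆ ≤ (N ⊔ Q) ⊓ R := (commutator_le_inf_of_le_normalizer (hRn _) (hN _)).trans (inf_le_inf_right _ le_sup_left)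
      have h6 : ⁅⁅R, R⁆, N⁆ ≤ Q := H4.three_subgroups (hQn _) (hQn _) (hQn _)
        (by rw [commutator_comm R]; exact (commutator_mono h5 le_rfl).trans h4) ((commutator_mono h5 le_rfl).trans h4)
      have h7 : Cfsg.pResidualOf p ⊤ ≤ ⁅R, R⁆ := hres' _ (le_normalizer_commutator_left _ _) fun E hE =>
        (hDE E hE).trans (commutator_mono (hER E hE) (hER E hE))
      have h8 := hT.inf_of_normal h1 le_top
      refine absurd (h8.pClosedOf (le_top.trans (hT.le_of_pResidualOf_le (le_normalizer_of_commutator_le (le_inf ?_ ?_))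
        (le_normalizer_inf le_normalizer (hN _))))) h2
      · rw [commutator_comm]; exact ((commutator_mono h7 inf_le_right).trans h6).trans hQT
      · exact (commutator_mono inf_le_right le_rfl).trans (commutator_le_of_le_normalizer (hN _))
    · by_cases h1 : Cfsg.pResidualOf p (K ⊔ Q) ≤ E ⊔ Q
      · left
        have h2 : Cfsg.pResidualOf p (K ⊔ Q) ≤ Cfsg.pResidualOf p (E ⊔ Q) := by
          rw [← pResidualOf_pResidualOf]; exact pResidualOf_mono h1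
        obtain ⟨t, -, h3⟩ := htr' _ hT E hE K hK
        exact (eq_of_le_of_card_ge h2 (by rw [h3, ← cj_pResidualOf, card_cj])).symm
      · exact Or.inr ((commutator_mono le_sup_left le_sup_left).trans (key K hK _ (hER E hE) (hnorm E hE) le_sup_right h1))

end Cfsg.Agent.S2855
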