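import Cfsg.Statements.S2859
import Cfsg.Agent.H26.Large
import Cfsg.Agent.H26.Kieler

set_option autoImplicit false
open Cfsg

namespace Cfsg.Agent.S2859

open H26 Subgroup
open scoped Pointwise commutatorElement

variable {G : Type*} [Group G] [Finite G] {p : ℕ} [Fact p.Prime]

theorem aux {Q Hc H₁ H₂ : Subgroup G} (hw : WCl p Q) (hHc : ncl Q Hc = Hc) (h1 : H₁ ≤ Hc) (n1 : Hc ≤ 𝐍 H₁) (h2 : H₂ ≤ Hc)
    (n2 : Hc ≤ 𝐍 H₂) (hprod : H₁ ⊔ H₂ = Hc) (hcomm : ⁅H₁, H₂⁆ ≤ 𝐍 Q) {K : Subgroup G}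
    (hK : K = Cfsg.pResidualOf p (Cfsg.weakClosure Q (H₁ ⊔ Q))) :
    (⁅K, Q⁆ = K ∧ ⁅K, H₁⁆ = K ∧ K ≤ ⁅H₁, H₁⁆ ∧ Hc ≤ 𝐍 K) ∧ ⁅K, H₂⁆ ≤ Cfsg.pCoreOf p Hc ∧ ⁅Q, H₁⁆ ≤ K ⊔ Q ∧
      K ≤ Cfsg.pResidualOf p Hc := by
  have hQ : Q ≤ Hc := hHc ▸ le_ncl Q Hc
  rw [hw.weakClosure_eq le_sup_right] at hK
  have hKQ : ⁅K, Q⁆ = K := hK ▸ hw.commutator_pResidualOf_ncl le_sup_right
  have hKK : Cfsg.pResidualOf p K = K := hK ▸ pResidualOf_pResidualOf p _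
  have hE : K ⊔ Q = ncl Q (H₁ ⊔ Q) := hK ▸ hw.ncl_eq_sup le_sup_right
  have hn : H₁ ⊔ Q ≤ 𝐍 K := hK ▸ le_normalizer_pResidualOf_of_le (le_normalizer_ncl _ _)
  have hK1 : K ≤ H₁ := hK ▸ (pResidualOf_mono (ncl_le_self le_sup_right)).trans (pResidualOf_sup_le' hw.1 (hQ.trans n1))
  set R := ⁅H₁, H₂⁆
  have hRn : Hc ≤ 𝐍 R := le_normalizer_commutator n1 n2
  have hR1 : R ≤ H₁ := commutator_le_of_le_normalizer (h2.trans n1)
  set O := Cfsg.pCoreOf p R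
  have hOn : Hc ≤ 𝐍 O := le_normalizer_pCoreOf_of_le hRn
  have hO1 : O ≤ H₁ := (pCoreOf_le p R).trans hR1
  have hRO : ⁅Hc, R⁆ ≤ O := by
    conv_lhs => rw [← hHc]
    refine commutator_ncl_le ?_ hRn hOn (hQ.trans hOn)
    exact (commutator_le_inf_of_le_normalizer (hQ.trans hRn) hcomm).trans
      (le_pCoreOf hw.1.to_inf_left inf_le_right (le_normalizer_inf hcomm le_normalizer))
  have red : ∀ X : Subgroup G, O ≤ 𝐍 X → K ≤ X ⊔ O → K ≤ X := fun X h3 h4 =>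
    hKK ▸ (pResidualOf_mono h4).trans (pResidualOf_sup_le' (isPGroup_pCoreOf p R) h3)
  have hn11 : Hc ≤ 𝐍 ⁅H₁, H₁⁆ := le_normalizer_commutator n1 n1
  have h3 : K ≤ ⁅H₁, H₁⁆ ⊔ R := by
    rw [← hKQ, ← commutator_sup_eq_of_le_normalizer le_normalizer (h2.trans n1), hprod]
    exact commutator_mono hK1 hQ
  have h4 : K ≤ ⁅H₁, H₁⁆ := by
    refine red _ ((hO1.trans h1).trans hn11) (hKQ.ge.trans ((commutator_mono h3 le_rfl).trans ?_))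
    have h5 : Hc ≤ 𝐍 (⁅H₁, H₁⁆ ⊔ O) := le_normalizer_sup hn11 hOn
    refine H4.commutator_sup_le (le_sup_of_le_left (commutator_le_of_le_normalizer (hQ.trans hn11))) (le_sup_of_le_right ?_)
      (le_sup_left.trans le_normalizer) ((hR1.trans h1).trans h5)
    rw [commutator_comm]; exact (commutator_mono hQ le_rfl).trans hRO
  have h5 : ⁅K, H₂⁆ ≤ O := by
    refine (commutator_mono h4 le_rfl).trans (H4.three_subgroups (h1.trans hOn) (h1.trans hOn) (h2.trans hOn) ?_ ?_)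
    · rw [commutator_comm]; exact (commutator_mono h1 le_rfl).trans hRO
    · rw [commutator_comm H₂, commutator_comm]; exact (commutator_mono h1 le_rfl).trans hRO
  have hOK : O ≤ 𝐍 K := hO1.trans (le_sup_left.trans hn)
  have h6 : Hc ≤ 𝐍 K := by
    have h7 : Hc ≤ 𝐍 (K ⊔ O) := by
      rw [← hprod]
      refine sup_le (le_normalizer_sup (le_sup_left.trans hn) (h1.trans hOn)) (le_normalizer_of_commutator_le ?_)
      exact H4.commutator_sup_le (le_sup_of_le_right h5) (le_sup_of_le_right (commutator_le_of_le_normalizer (h2.trans hOn)))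
        (le_sup_left.trans le_normalizer) (le_sup_right.trans le_normalizer)
    have := le_normalizer_pResidualOf_of_le (p := p) h7
    rwa [sup_comm, pResidualOf_sup_eq (isPGroup_pCoreOf p R) hOK, hKK] at this
  refine ⟨⟨hKQ, le_antisymm (commutator_le_of_le_normalizer (h1.trans h6)) ?_, h4, h6⟩,
    h5.trans (pCoreOf_le_pCoreOf_of_normal (hR1.trans h1) hRn), hE ▸ (commutator_mono le_rfl le_sup_left).trans (commutator_le_ncl _ _),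
    hKK ▸ pResidualOf_mono (hK1.trans h1)⟩
  refine red _ (hO1.trans (le_normalizer_commutator_right K H₁)) ?_
  conv_lhs => rw [← hKQ]
  refine (commutator_mono le_rfl (hQ.trans hprod.ge)).trans ?_
  rw [commutator_sup_eq_of_le_normalizer (h1.trans h6) (h2.trans h6)]
  exact sup_le_sup_left h5 _


/-- Let Q be a nontrivial p-subgroup of the finite group H that is a weakly closed subgroup, H° the weak closure of Q in H (generated by the conjugates of Q) and H_∘ = O^p(H°). Suppose H₁, H₂ are normal subgroups of H° with H° = H₁H₂ and [H₁, H₂] ≤ N_H(Q), and put Kᵢ = O^p of the weak closure of Q in HᵢQ. Then for i = 1, 2: Kᵢ = [Kᵢ, Q] = [Kᵢ, Hᵢ] ≤ Hᵢ′ and Kᵢ is normal in H°; H_∘ = K₁K₂; and [K₁, K₂] ≤ O_p(H°). -/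
theorem result {G : Type*} [Group G] [Finite G] {p : ℕ} [Fact p.Prime] (Q : Subgroup G) (hQp : IsPGroup p ↥Q) (hQ1 : Q ≠ ⊥) (hwc : Cfsg.IsWeaklyClosedSubgroup p Q) (Hc : Subgroup G) (hHc : Hc = Cfsg.weakClosure Q ⊤) (H₁ H₂ : Subgroup G) (hn₁ : H₁ ≤ Hc ∧ Hc ≤ Subgroup.normalizer ((H₁ : Subgroup G) : Set G)) (hn₂ : H₂ ≤ Hc ∧ Hc ≤ Subgroup.normalizer ((H₂ : Subgroup G) : Set G)) (hprod : H₁ ⊔ H₂ = Hc) (hcomm : ⁅H₁, H₂⁆ ≤ Subgroup.normalizer ((Q : Subgroup G) : Set G)) (K₁ K₂ : Subgroup G) (hK₁ : K₁ = ((Cfsg.pResidual p ↥(Cfsg.weakClosure Q (H₁ ⊔ Q))).map ((Cfsg.weakClosure Q (H₁ ⊔ Q))).subtype)) (hK₂ : K₂ = ((Cfsg.pResidual p ↥(Cfsg.weakClosure Q (H₂ ⊔ Q))).map ((Cfsg.weakClosure Q (H₂ ⊔ Q))).subtype)) : (⁅K₁, Q⁆ = K₁ ∧ ⁅K₁, H₁⁆ = K₁ ∧ K₁ ≤ ⁅H₁, H₁⁆ ∧ Hc ≤ Subgroup.normalizer ((K₁ : Subgroup G) : Set G)) ∧ (⁅K₂, Q⁆ = K₂ ∧ ⁅K₂, H₂⁆ = K₂ ∧ K₂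 ≤ ⁅H₂, H₂⁆ ∧ Hc ≤ Subgroup.normalizer ((K₂ : Subgroup G) : Set G)) ∧ K₁ ⊔ K₂ = ((Cfsg.pResidual p ↥Hc).map (Hc).subtype) ∧ ⁅K₁, K₂⁆ ≤ (Cfsg.pCoreOf p Hc) := by
  have hw := wcl_iff.1 hwc
  rw [hw.weakClosure_eq le_top] at hHc
  have h0 : ncl Q Hc = Hc := hHc ▸ hw.ncl_ncl le_top
  have hQ : Q ≤ Hc := h0 ▸ le_ncl Q Hc
  obtain ⟨a1, a2, a3, a4⟩ := aux hw h0 hn₁.1 hn₁.2 hn₂.1 hn₂.2 hprod hcomm hK₁
  obtain ⟨b1, b2, b3, b4⟩ := aux hw h0 hn₂.1 hn₂.2 hn₁.1 hn₁.2 (sup_comm H₁ H₂ ▸ hprod) (commutator_comm H₁ H₂ ▸ hcomm) hK₂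
  refine ⟨a1, b1, le_antisymm (sup_le a4 b4) ?_, (commutator_mono le_rfl (b1.2.1.ge.trans (commutator_le_of_le_normalizer' ?_))).trans a2⟩
  · have hn : Hc ≤ 𝐍 (K₁ ⊔ K₂) := le_normalizer_sup a1.2.2.2 b1.2.2.2
    have e : ∀ X ≤ Hc, ⁅Q, X⁆ ≤ (K₁ ⊔ K₂) ⊔ Q → X ≤ 𝐍 ((K₁ ⊔ K₂) ⊔ Q) := fun X h1 h2 => le_normalizer_of_commutator_le
      (H4.commutator_sup_le (le_sup_of_le_left (commutator_le_of_le_normalizer (h1.trans hn))) h2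
        (le_sup_left.trans le_normalizer) (le_sup_right.trans le_normalizer))
    have h1 : Hc ≤ (K₁ ⊔ K₂) ⊔ Q := by
      rw [← h0]
      refine ncl_le le_sup_right (hprod.ge.trans (sup_le (e _ hn₁.1 (a3.trans ?_)) (e _ hn₂.1 (b3.trans ?_))))
      · exact sup_le_sup_right le_sup_left _
      · exact sup_le_sup_right le_sup_right _
    exact (pResidualOf_mono h1).trans (pResidualOf_sup_le' hQp (hQ.trans hn))
  · exact (b4.trans (pResidualOf_le p _)).trans hn₂.2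

end Cfsg.Agent.S2859
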