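import Cfsg.Statements.S2860
import Cfsg.Agent.H26.Large
import Cfsg.Agent.H26.QS

set_option autoImplicit false
open Cfsg

namespace Cfsg.Agent.S2860

open H26 Subgroup
open scoped Pointwise commutatorElement

/-- Let Q be a nontrivial large p-subgroup of the finite group H, U a nontrivial elementary abelian p-subgroup of H, and Q ≤ E ≤ N_H(U) with Q not normal in E. Suppose O_p(E/C_E(U)) = 1 and O^p(E)·C_E(U)/C_E(U) is quasisimple. Let E° be the weak closure of Q in E (generated by the conjugates of Q inside E) and E_∘ = O^p(E°). Then O^p(E)·C_E(U) = E_∘·C_E(U); E_∘ is perfect and equals O^p(E_∘); E_∘/C_{E_∘}(U) and E_∘/O_p(E_∘) are quasisimple; and E_∘ = [E_∘, Y] for every p-subgroup Y of E not centralizing U. -/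
theorem result {G : Type*} [Group G] [Finite G] {p : ℕ} [Fact p.Prime] (Q : Subgroup G) (hQp : IsPGroup p ↥Q) (hQ1 : Q ≠ ⊥) (hQ : Cfsg.IsLarge Q) (U : Subgroup G) (hU : Cfsg.IsElementaryAbelian p U) (hU1 : U ≠ ⊥) (E : Subgroup G) (hQE : Q ≤ E) (hEU : E ≤ Subgroup.normalizer ((U : Subgroup G) : Set G)) (hQn : ¬ E ≤ Subgroup.normalizer ((Q : Subgroup G) : Set G)) [hn : ((Subgroup.centralizer ((U : Subgroup G) : Set G)).subgroupOf E).Normal] (hred : Cfsg.pCore p (↥E ⧸ (Subgroup.centralizer ((U : Subgroup G) : Set G)).subgroupOf E) = ⊥) (hqs : Cfsg.IsQuasisimple ↥(((Cfsg.pResidual p ↥E) ⊔ (Subgroup.centralizer ((U : Subgroup G) : Set G)).subgroupOf E).map (QuotientGroup.mk' ((Subgroup.centralizer ((U : Subgroup G) : Set G)).subgroupOf E)))) (Er : Subgroup G) (hEr : Er = ((Cfsg.pResidual p ↥(Cfsg.weakClosure Q E)).map ((Cfsg.weakClosure Q E)).subtype)) [hn2 : ((Subgroup.centralizer ((U : Subgroup G) : Set G)).subgroupOf Er).Normal]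 : ((Cfsg.pResidual p ↥E).map (E).subtype) ⊔ (E ⊓ Subgroup.centralizer ((U : Subgroup G) : Set G)) = Er ⊔ (E ⊓ Subgroup.centralizer ((U : Subgroup G) : Set G)) ∧ ⁅Er, Er⁆ = Er ∧ ((Cfsg.pResidual p ↥Er).map (Er).subtype) = Er ∧ Cfsg.IsQuasisimple (↥Er ⧸ (Subgroup.centralizer ((U : Subgroup G) : Set G)).subgroupOf Er) ∧ Cfsg.IsQuasisimple (↥Er ⧸ Cfsg.pCore p ↥Er) ∧ ∀ Y : Subgroup G, Y ≤ E → IsPGroup p ↥Y → ¬ Y ≤ Subgroup.centralizer ((U : Subgroup G) : Set G) → ⁅Er, Y⁆ = Er := by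
  have hw := large_wcl hQ hQp hQ1
  have hUp := elemAb_isPGroup hU
  rw [hw.weakClosure_eq hQE] at hEr
  change Er = Cfsg.pResidualOf p _ at hEr
  have hr : Red p E U := pCore_quotient_subgroupOf_eq_bot_iff.1 hred
  have hEC : E ≤ 𝐍 (𝐂 U) := le_normalizer_centralizer hEU
  set K := Cfsg.pResidualOf p E with hKe
  have hKE : K ≤ E := pResidualOf_le p E
  have hK : QSMod K (𝐂 U) := by
    rw [qsMod_iff_of_le hKE]
    rwa [Subgroup.map_sup, map_mk'_eq_bot.2 le_rfl, sup_bot_eq, pResidual_eq_subgroupOf] at hqs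
  have hEn : E ≤ 𝐍 K := le_normalizer_pResidualOf p E
  have hY : ∀ Y ≤ E, IsPGroup p Y → ¬ Y ≤ 𝐂 U → K ≤ ⁅K, Y⁆ ⊔ (K ⊓ 𝐂 U) := fun Y h1 h2 h3 =>
    (hK.commutator_or (hKE.trans hEC) (h1.trans hEC) (h1.trans hEn)).resolve_right
      fun h4 => h3 (hr.le_of_commutator_le hEU h2 h1 (by rwa [commutator_comm]))
  have hQU : ¬ Q ≤ 𝐂 U := fun h => hQn (hEU.trans (hQ.2 U (le_centralizer_iff.1 h) hU1))
  have hnE : ncl Q E ≤ E := ncl_le_self hQE
  have hErK : Er ≤ K := hEr ▸ pResidualOf_mono hnE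
  have hErn : E ≤ 𝐍 Er := hEr ▸ le_normalizer_pResidualOf_of_le (le_normalizer_ncl Q E)
  have hErp : Cfsg.pResidualOf p Er = Er := hEr ▸ pResidualOf_pResidualOf p _
  have h1 : K ≤ Er ⊔ (K ⊓ 𝐂 U) := by
    have h2 : K ≤ ncl Q E ⊔ (K ⊓ 𝐂 U) := (hY Q hQE hQp hQU).trans (sup_le_sup_right (by
      rw [commutator_comm]; exact (commutator_mono le_rfl hKE).trans (commutator_le_ncl Q E)) _)
    have h3 := pResidualOf_mono (p := p) h2
    rw [pResidualOf_sup (hnE.trans (le_normalizer_inf hEn hEC)) ((inf_le_left.trans hKE).trans (le_normalizer_ncl Q E)),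
      hKe, pResidualOf_pResidualOf, ← hEr] at h3
    exact h3.trans (sup_le_sup_left (pResidualOf_le p _) _)
  have hE : QSMod Er (𝐂 U) := hK.of_le_sup (hKE.trans hEC) hErK h1
  have hErE : Er ≤ E := hErK.trans hKE
  set O := Cfsg.pCoreOf p Er
  have hOn : Er ≤ 𝐍 O := le_normalizer_pCoreOf p Er
  have hO : ⁅Er ⊓ 𝐂 U, Er⁆ ≤ O := by
    have h2 := large_commutator_ncl_le hQ hQp hUp hU1 hQE hEU
    have h3 : Er ≤ ncl Q E := hEr ▸ pResidualOf_le p _
    refine le_trans (le_inf (commutator_le_of_le_normalizer' (inf_le_left.trans le_normalizer)) ?_) (inf_pCoreOf_le' h3)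
    rw [commutator_comm]; exact (commutator_mono h3 inf_le_right).trans h2
  have red : ∀ N ≤ Er, Er ≤ 𝐍 N → Er ≤ N ⊔ O → Er ≤ N := fun N h2 h3 h4 =>
    hErp ▸ (pResidualOf_mono h4).trans (pResidualOf_sup_le' (isPGroup_pCoreOf p Er) ((pCoreOf_le p Er).trans h3))
  have hc : ⁅Er, Er⁆ ≤ Er := commutator_le_of_le_normalizer le_normalizer
  have hcn : Er ≤ 𝐍 ⁅Er, Er⁆ := le_normalizer_commutator_left _ _
  have hQEr : Q ≤ 𝐍 Er := hQE.trans hErn
  have hperf : ⁅Er, Er⁆ = Er := by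
    refine le_antisymm hc (red _ hc hcn ?_)
    have h2 : ⁅Er, Q⁆ = Er := hEr ▸ hw.commutator_pResidualOf_ncl hQE
    have h3 : Er ≤ 𝐍 (⁅Er, Er⁆ ⊔ O) := le_normalizer_sup hcn hOn
    refine h2.ge.trans ((commutator_mono hE.perf le_rfl).trans (H4.commutator_sup_le (le_sup_of_le_left
      (commutator_le_of_le_normalizer (le_normalizer_commutator hQEr hQEr))) (le_sup_of_le_right ?_) (hc.trans h3) (inf_le_left.trans h3)))
    have h4 := large_commutator_ncl_le hQ hQp hUp hU1 hQE hEU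
    refine le_trans (le_inf ((commutator_mono inf_le_left le_rfl).trans h2.le) ?_) (inf_pCoreOf_le' (hEr ▸ pResidualOf_le p _))
    rw [commutator_comm]; exact (commutator_mono (le_ncl Q E) inf_le_right).trans h4
  refine ⟨le_antisymm (sup_le (h1.trans (sup_le_sup_left (inf_le_inf_right _ hKE) _)) le_sup_right) (sup_le_sup_right hErK _),
    hperf, hErp, qsMod_iff.1 hE, qsMod_iff'.1 (hE.of_central hperf hO ?_ hOn), fun Y h2 h3 h4 => ?_⟩
  · exact inf_le_right.trans ((pCoreOf_le_pCoreOf_of_normal hErE hErn).trans hr.pCoreOf_le)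
  · have h5 : ⁅Er, Y⁆ ≤ Er := commutator_le_of_le_normalizer (h2.trans hErn)
    have h6 : Er ≤ 𝐍 ⁅Er, Y⁆ := le_normalizer_commutator_left _ _
    refine le_antisymm h5 (red _ h5 h6 (le_sup_of_perfect hperf ?_ h6 hOn h5 inf_le_left hO))
    refine (hE.commutator_or (hErE.trans hEC) (h2.trans hEC) (h2.trans hErn)).resolve_right fun h7 => h4 ?_
    refine hr.le_of_commutator_le hEU h3 h2 ?_
    rw [commutator_comm]
    exact (commutator_mono h1 le_rfl).trans (H4.commutator_sup_le h7 ((commutator_mono inf_le_right le_rfl).trans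
      (commutator_le_of_le_normalizer (h2.trans hEC))) (hErE.trans hEC) (inf_le_right.trans le_normalizer))

end Cfsg.Agent.S2860
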