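import Cfsg.Statements.S2861
import Cfsg.Agent.H18.FL2
import Cfsg.Agent.H26.PRed

set_option autoImplicit false
open Cfsg

namespace Cfsg.Agent.S2861

/-- Standing hypotheses: G a finite group, S a Sylow p-subgroup, Q a nontrivial large p-subgroup of G contained in S, M a subgroup containing S with the basic property (M ∈ 𝔐_G(S)); Y_M the largest p-reduced normal subgroup of M and M† = M·C_G(Y_M). Let L ∈ 𝔏_G(Y_M) (L ∈ 𝔏_G(Y_M): Y_M ≤ L; O_p(L) is the normal closure in L of Y_M ∩ O_p(L) and normalizes Y_M; L is Y_M-minimal of characteristic p with N_L(Y_M) its unique maximal subgroup over Y_M; and L/O_p(L) ≅ SL₂(q) with q = |Y_M : Y_M ∩ O_p(L)|, or p = 2 and L/O_p(L) is a Suzuki group Sz(q) or dihedral of order 2r, r an odd prime) and A = O_p(L). Then Y_M·A/A is the unique nontrivial elementary abelian normal p-subgroup of N_L(Y_M)/A. -/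
theorem result {G : Type*} [Group G] [Finite G] {p : ℕ} [Fact p.Prime] (S : Sylow p G) (Q : Subgroup G) (hQp : IsPGroup p ↥Q) (hQ1 : Q ≠ ⊥) (hQS : Q ≤ (S : Subgroup G)) (hQ : Cfsg.IsLarge Q) (M : Subgroup G) (hSM : (S : Subgroup G) ≤ M) (hM : Cfsg.IsInFrakM p M) (L : Subgroup G) (hL : Cfsg.IsInFrakL p M L) (NL : Subgroup G) (hNL : NL = L ⊓ Subgroup.normalizer (((Cfsg.largestPReducedOf p M) : Subgroup G) : Set G)) [hn : (((Cfsg.pCoreOf p L)).subgroupOf NL).Normal] : let Ybar : Subgroup (↥NL ⧸ ((Cfsg.pCoreOf p L)).subgroupOf NL) := (((Cfsg.largestPReducedOf p M)).subgroupOf NL).map (QuotientGroup.mk' (((Cfsg.pCoreOf p L)).subgroupOf NL)); Ybar ≠ ⊥ ∧ Ybar.Normal ∧ Cfsg.IsElementaryAbelian p Ybar ∧ ∀ (V : Subgroup (↥NL ⧸ ((Cfsg.pCoreOf p L)).subgroupOf NL)), V.Normal → Cfsg.IsElementaryAbelian p V → V ≠ ⊥ → V = Ybar := by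
  obtain ⟨hY, -, h3, h4, -, h6, h7⟩ := hL
  have hE := H26.elemAb_YY (p := p) M
  have h5 : H26.ncl (Cfsg.largestPReducedOf p M) L = L := by
    rw [← H26.map_normalClosure_subgroupOf hY, h4.1, ← MonoidHom.range_eq_map, Subgroup.range_subtype]
  have um : H26.UMax (Cfsg.largestPReducedOf p M) _ L := ⟨le_inf hY Subgroup.le_normalizer, h6.1, h6.2⟩
  rcases h7 with ⟨F, _, _, h1, ⟨e⟩⟩ | ⟨rfl, F, _, _, m, h0, h1, ⟨e⟩⟩ | ⟨rfl, n, hn, n2, ⟨e⟩⟩
  · exact H118.FL2.main hE hY h3 h5 um hNL e fun X x1 _ x3 _ _ =>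
      H118.FL2.pp_sl (H26.elemAb_isPGroup x1) (x3.trans (h1.symm.trans Nat.card_eq_fintype_card.symm))
  · rcases Nat.eq_zero_or_pos m with rfl | hm
    · have : Finite (Lie.Sz F (2 ^ (0 + 1))) := Finite.of_equiv _ e.toEquiv
      exact H118.FL2.main hE hY h3 h5 um hNL e fun X _ _ x3 x4 ⟨_, x5⟩ =>
        H118.FL2.pp_two x4 (by rw [x3, ← h1, h0]; rfl) x5
    · have : H13.Sz.IsSz F m := ⟨hm, h0⟩
      exact H118.FL2.main hE hY h3 h5 um hNL (e.trans (H13.Sz.lieEquiv F m).symm) fun X x1 _ x3 _ _ =>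
        H118.FL2.pp_sz x1 (x3.trans (h1.symm.trans Nat.card_eq_fintype_card.symm))
  · have : Finite (DihedralGroup n) := Finite.of_equiv _ e.toEquiv
    refine H118.FL2.main hE hY h3 h5 um hNL e fun X x1 x2 _ x4 ⟨_, x5⟩ => H118.FL2.pp_two x4 ?_ x5
    obtain ⟨k, hk⟩ := (H26.elemAb_isPGroup x1).exists_card_eq
    have := Subgroup.card_subgroup_dvd_card X
    rw [hk, DihedralGroup.nat_card] at this
    exact ((Nat.dvd_prime Nat.prime_two).1 (hk ▸ (Nat.Coprime.pow_left k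
      ((Nat.coprime_primes Nat.prime_two hn).2 n2.symm)).dvd_of_dvd_mul_right this)).resolve_left
        fun e => x2 (Subgroup.card_eq_one.1 e)

end Cfsg.Agent.S2861
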