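import Cfsg.Statements.S2863
import Cfsg.Agent.H3.YMin
import Cfsg.Agent.H26.PRed
import Cfsg.Agent.H2.Syl

set_option autoImplicit false
open Cfsg

namespace Cfsg.Agent.S2863

/-- Standing hypotheses: G a finite group, S a Sylow p-subgroup, Q a nontrivial large p-subgroup of G contained in S, M a subgroup containing S with the basic property (M ∈ 𝔐_G(S)); Y_M the largest p-reduced normal subgroup of M and M† = M·C_G(Y_M). Let L ∈ 𝔏_G(Y_M) (L ∈ 𝔏_G(Y_M): Y_M ≤ L; O_p(L) is the normal closure in L of Y_M ∩ O_p(L) and normalizes Y_M; L is Y_M-minimal of characteristic p with N_L(Y_M) its unique maximal subgroup over Y_M; and L/O_p(L) ≅ SL₂(q) with q = |Y_M : Y_M ∩ O_p(L)|, or p = 2 and L/O_p(L) is a Suzuki group Sz(q) or dihedral of order 2r, r an odd prime), A = O_p(L), and C = C_{Y_M}(L). Then every element h of L whose order is not a power of p acts without nontrivial fixed points on A/C: for a ∈ A, hah⁻¹a⁻¹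 ∈ C implies a ∈ C. -/
theorem result {G : Type*} [Group G] [Finite G] {p : ℕ} [Fact p.Prime] (S : Sylow p G) (Q : Subgroup G) (hQp : IsPGroup p ↥Q) (hQ1 : Q ≠ ⊥) (hQS : Q ≤ (S : Subgroup G)) (hQ : Cfsg.IsLarge Q) (M : Subgroup G) (hSM : (S : Subgroup G) ≤ M) (hM : Cfsg.IsInFrakM p M) (L : Subgroup G) (hL : Cfsg.IsInFrakL p M L) (h : G) (hh : h ∈ L) (hnp : ¬ ∃ k : ℕ, orderOf h = p ^ k) : ∀ a ∈ (Cfsg.pCoreOf p L), h * a * h⁻¹ * a⁻¹ ∈ (Cfsg.largestPReducedOf p M) ⊓ Subgroup.centralizer ((L : Subgroup G) : Set G) → a ∈ (Cfsg.largestPReducedOf p M) ⊓ Subgroup.centralizer ((L : Subgroup G) : Set G) := by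
  obtain ⟨hY, h2, h3, h4, h5, h6, h7⟩ := hL
  have hE := H26.elemAb_YY (p := p) M
  generalize Cfsg.largestPReducedOf p M = Y at *
  have mA : ∀ x : L, x ∈ pCore p L ↔ (x : G) ∈ pCoreOf p L := fun x =>
    ⟨fun h => ⟨x, h, rfl⟩, fun ⟨y, hy, e⟩ => Subtype.ext e ▸ hy⟩
  have eA : pCore p L = (pCoreOf p L).subgroupOf L := Subgroup.ext mA
  have eN := Subgroup.subgroupOf_normalizer_eq hY
  have : (Y.subgroupOf L ⊓ Subgroup.center L).Normal := ⟨fun x hx g => by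
    rwa [Subgroup.mem_center_iff.1 hx.2 g, mul_inv_cancel_right]⟩
  have yl : H3.YL p (Y.subgroupOf L) (pCore p L) (QuotientGroup.mk' (Y.subgroupOf L ⊓ Subgroup.center L)) := by
    refine ⟨inferInstance, H26.isPGroup_pCore _ _, fun N h1 h2 => le_sSup ⟨h1, h2⟩, h5, fun x hx =>
      Subgroup.mem_centralizer_iff.2 fun y hy => Subtype.ext (congrArg Y.subtype (hE.1.is_comm.comm ⟨y, hy⟩ ⟨x, hx⟩)),
      fun y hy => Subtype.ext (hE.2 y hy), fun x hx => eN ▸ h3 ((mA x).1 hx), fun N hN e => ?_,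
      by rw [H26.ncl_top, h4.1], ⟨Subgroup.le_normalizer, ?_, fun X h1 h2 x hx => ?_⟩,
      fun x => QuotientGroup.eq_one_iff x⟩
    · rw [Subgroup.map_injective L.subtype_injective h2]
      exact Subgroup.normalClosure_le_normal fun x hx => e ⟨(mA x).2 hx.2, hx.1⟩
    · rw [← eN, lt_top_iff_ne_top, Ne, Subgroup.subgroupOf_eq_top]
      exact fun e => h6.1.ne (inf_eq_left.2 e)
    · rw [← eN]
      refine (h6.2 (X.map L.subtype) (fun y hy => ⟨⟨y, hY hy⟩, h1 hy, rfl⟩) ?_ ⟨x, hx, rfl⟩).2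
      refine lt_of_le_of_ne (Subgroup.map_subtype_le X) fun e => h2.ne (Subgroup.map_injective L.subtype_injective ?_)
      rw [e, ← MonoidHom.range_eq_map, Subgroup.range_subtype]
  intro a ha hc
  obtain ⟨a, ha, rfl⟩ := ha
  have mD : ∀ x : L, (x : G) ∈ Y ⊓ Subgroup.centralizer (L : Set G) ↔
      QuotientGroup.mk' (Y.subgroupOf L ⊓ Subgroup.center L) x = 1 := fun x => by
    rw [yl.ker]
    exact and_congr_right fun _ => ⟨fun h => Subgroup.mem_center_iff.2 fun g => Subtype.ext (h g g.2),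
      fun h g hg => congrArg Subtype.val (Subgroup.mem_center_iff.1 h ⟨g, hg⟩)⟩
  obtain ⟨r, hr, hd, hrp⟩ : ∃ r, r.Prime ∧ r ∣ orderOf h ∧ r ≠ p := by
    by_contra e
    push Not at e
    exact hnp ⟨_, Nat.eq_prime_pow_of_unique_prime_dvd (orderOf_pos h).ne' fun h1 h2 => e _ h1 h2⟩
  have c := (H3.YL.comm_iff.2 ((mD (⟨h, hh⟩ * a * ⟨h, hh⟩⁻¹ * a⁻¹)).1 hc)).pow_left (orderOf h / r)
  rw [← map_pow] at c
  have ho : orderOf ((⟨h, hh⟩ : L) ^ (orderOf h / r)) = r := by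
    rw [← Subgroup.orderOf_coe, Subgroup.coe_pow, orderOf_pow_orderOf_div (orderOf_pos h).ne' hd]
  generalize (⟨h, hh⟩ : L) ^ (orderOf h / r) = u at c ho
  refine (mD a).2 ?_
  have key : ∀ {B : Type} [Group B] (e : L ⧸ pCore p L ≃* B), ∃ f : L →* B, Function.Surjective f ∧
      (∀ x, f x = 1 ↔ x ∈ pCore p L) ∧ Nat.card ((Y.subgroupOf L).map f) = (Y ⊓ pCoreOf p L).relIndex Y ∧
      f u ^ p ≠ 1 ∧ f u ≠ 1 ∧ (p = 2 → Odd (orderOf (f u))) := fun {B} _ e => by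
    have hk : ∀ x, e (QuotientGroup.mk' _ x) = 1 ↔ x ∈ pCore p L := fun x => by simp
    have h1 : e (QuotientGroup.mk' _ u) ^ p ≠ 1 := fun e1 => by
      rw [← map_pow, ← map_pow, hk] at e1
      obtain ⟨k, hk⟩ := yl.pA ⟨_, e1⟩
      have : (u ^ p) ^ p ^ k = 1 := congrArg Subtype.val hk
      rw [← pow_mul, ← pow_succ', ← orderOf_dvd_iff_pow_eq_one, ho] at this
      exact hrp ((Nat.prime_dvd_prime_iff_eq hr Fact.out).1 (hr.dvd_of_dvd_pow this))
    refine ⟨e.toMonoidHom.comp (QuotientGroup.mk' _), e.surjective.comp (QuotientGroup.mk'_surjective _), hk, ?_, h1,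
      fun e1 => h1 (by rw [show e (QuotientGroup.mk' _ u) = 1 from e1, one_pow]), fun p2 => ?_⟩
    · rw [← Subgroup.map_map, Subgroup.card_map_of_injective e.injective, H2.card_map_mk', eA,
        Subgroup.relIndex_subgroupOf hY, Subgroup.inf_relIndex_left]
    · exact (hr.odd_of_ne_two (p2 ▸ hrp)).of_dvd_nat (ho ▸ orderOf_map_dvd _ u)
  rcases h7 with ⟨F, _, _, h1, ⟨e⟩⟩ | ⟨p2, F, _, _, m, h0, h1, ⟨e⟩⟩ | ⟨p2, n, hn, n2, ⟨e⟩⟩
  · obtain ⟨f, hf, hk, hc, u1, -, -⟩ := key e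
    exact yl.fpf_sl hf hk (hc.trans h1.symm) u1 ha c
  · obtain ⟨f, hf, hk, hc, -, u1, uo⟩ := key e
    rcases Nat.eq_zero_or_pos m with rfl | hm
    · exact yl.fpf_of_two hf hk p2 (by rw [hc, ← h1, h0]; rfl) (uo p2) u1 ha c
    · exact yl.fpf_sz hf hk p2 ⟨F, _, _, m, hm, h0, ⟨MulEquiv.refl _⟩⟩ (uo p2) u1 ha c
  · obtain ⟨f, hf, hk, -, -, u1, uo⟩ := key e
    refine yl.fpf_of_two hf hk p2 ?_ (uo p2) u1 ha c
    have : Finite (DihedralGroup n) := Finite.of_surjective f hf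
    obtain ⟨k, hk⟩ := (IsPGroup.map (p := p) (fun y => ⟨1, Subtype.ext (by simpa using yl.exp y y.2)⟩) f :
      IsPGroup p ((Y.subgroupOf L).map f)).exists_card_eq
    have := Subgroup.card_subgroup_dvd_card ((Y.subgroupOf L).map f)
    rw [hk, p2] at this ⊢
    rw [DihedralGroup.nat_card] at this
    exact (Nat.Coprime.pow_left k ((Nat.coprime_primes Nat.prime_two hn).2 n2.symm)).dvd_of_dvd_mul_right this

end Cfsg.Agent.S2863
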