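import Cfsg.Statements.S2864
import Cfsg.Agent.H26.Large
import Cfsg.Agent.H26.QS

set_option autoImplicit false
open Cfsg

namespace Cfsg.Agent.S2864

open H26 Subgroup
open scoped Pointwise commutatorElement

/-- Standing hypotheses: G a finite group, S a Sylow p-subgroup, Q a nontrivial large p-subgroup of G contained in S, M a subgroup containing S with the basic property (M ∈ 𝔐_G(S)); Y_M the largest p-reduced normal subgroup of M and M† = M·C_G(Y_M). Let I be a nontrivial normal p-subgroup of M and Y ≤ O_p(M†); let L be a subgroup of G containing Y and A a normal p-subgroup of L with I ≤ A ≤ M. If [Y, A] ≤ [I, A], then Y ≤ O_p(L). -/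
theorem result {G : Type*} [Group G] [Finite G] {p : ℕ} [Fact p.Prime] (S : Sylow p G) (Q : Subgroup G) (hQp : IsPGroup p ↥Q) (hQ1 : Q ≠ ⊥) (hQS : Q ≤ (S : Subgroup G)) (hQ : Cfsg.IsLarge Q) (M : Subgroup G) (hSM : (S : Subgroup G) ≤ M) (hM : Cfsg.IsInFrakM p M) (I : Subgroup G) (hI1 : I ≠ ⊥) (hIp : IsPGroup p ↥I) (hIM : I ≤ M ∧ M ≤ Subgroup.normalizer ((I : Subgroup G) : Set G)) (Y : Subgroup G) (hY : Y ≤ (Cfsg.pCoreOf p (M ⊔ Subgroup.centralizer (((Cfsg.largestPReducedOf p M) : Subgroup G) : Set G)))) (L : Subgroup G) (hYL : Y ≤ L) (A : Subgroup G) (hAp : IsPGroup p ↥A) (hAL : A ≤ L ∧ L ≤ Subgroup.normalizer ((A : Subgroup G) : Set G)) (hIA : I ≤ A) (hAM : A ≤ M) (hc : ⁅Y, A⁆ ≤ ⁅I, A⁆) : Y ≤ (Cfsg.pCoreOf p L) := by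
  have h := frakM_of M hM
  have hG := large_parabolic hQ hQp hQ1
  have hn : L ≤ 𝐍 ⁅A, A⁆ := le_normalizer_commutator hAL.2 hAL.2
  have h1 : ⁅ncl Y L, A⁆ ≤ ⁅A, A⁆ := commutator_ncl_le (hc.trans (commutator_mono hIA le_rfl)) hAL.2 hn (hYL.trans hn)
  have hE : ncl Y L ≤ L := ncl_le_self hYL
  set R := Cfsg.pResidualOf p (ncl Y L)
  have h2 : R ≤ 𝐂 A := pResidualOf_le_centralizer_of_phi hAp (hE.trans hAL.2)
    (by rw [commutator_comm]; exact h1.trans (H4.commutator_le_phi p A))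
  have h3 : R ≤ M ⊔ 𝐂 (YY p M) :=
    (h2.trans ((centralizer_anti hIA).trans (centralizer_le_normalizer _))).trans (h.normalizer_le hG (isSyl_top S) hSM hIp hI1 hIM.2)
  have hRn : L ≤ 𝐍 R := le_normalizer_pResidualOf_of_le (le_normalizer_ncl Y L)
  have h4 : ⁅Y, R⁆ ≤ Cfsg.pCoreOf p R := by
    refine le_trans (le_inf (commutator_le_of_le_normalizer' (hYL.trans hRn)) ?_) (inf_pCoreOf_le' h3)
    exact (commutator_mono hY le_rfl).trans (commutator_le_of_le_normalizer (h3.trans (le_normalizer_pCoreOf p _)))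
  have h5 : ⁅ncl Y L, R⁆ ≤ Cfsg.pCoreOf p R := commutator_ncl_le h4 hRn (le_normalizer_pCoreOf_of_le hRn)
    (le_normalizer_pCoreOf_of_le (hYL.trans hRn))
  obtain ⟨P, hP, hYP⟩ := exists_isSyl_ge ((isPGroup_pCoreOf p _).to_le hY) (le_ncl Y L)
  have h6 : ncl Y L ≤ 𝐍 P := hP.le_of_pResidualOf_le (le_normalizer_of_commutator_le ((commutator_mono hP.le le_rfl).trans
    (h5.trans ((pCoreOf_le_pCoreOf_of_normal (pResidualOf_le p _) (hE.trans hRn)).trans hP.pCoreOf_le)))) le_normalizer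
  exact (hYP.trans (hP.pCoreOf_eq h6).ge).trans (pCoreOf_le_pCoreOf_of_normal hE (le_normalizer_ncl Y L))

end Cfsg.Agent.S2864
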