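import Cfsg.Statements.S2872
import Cfsg.Agent.H26.Transfer
import Cfsg.Agent.H3.Tate

set_option autoImplicit false
open Cfsg

namespace Cfsg.Agent.S2872

open H26 Subgroup
open scoped Pointwise commutatorElement

/-- Let S be a Sylow 2-subgroup of the finite group G. Then G has a proper normal subgroup of 2-power index (O²(G) ≠ G), or Ω₁(Z(S)) is contained in the Frattini subgroup of S, or N_G(S) acts nontrivially on Ω₁(Z(S)) by conjugation. -/
theorem result {G : Type*} [Group G] [Finite G] (S : Sylow 2 G) : Cfsg.pResidual 2 G ≠ ⊤ ∨ Cfsg.omegaOne 2 ((S : Subgroup G) ⊓ Subgroup.centralizer ((S : Subgroup G) : Set G)) ≤ (frattini ↥(S : Subgroup G)).map (S : Subgroup G).subtype ∨ ∃ g ∈ Subgroup.normalizer ((S : Subgroup G) : Set G), ∃ z ∈ Cfsg.omegaOne 2 ((S : Subgroup G) ⊓ Subgroup.centralizer ((S : Subgroup G) : Set G)), g * z * g⁻¹ ≠ z := by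
  by_contra hcon
  push Not at hcon
  obtain ⟨h1, h2, h3⟩ := hcon
  obtain ⟨z, hz, hz'⟩ := SetLike.not_le_iff_exists.1 h2
  obtain ⟨hz1, hz2⟩ := (mem_omegaOne_iff (center_le_centralizer_center _)).1 hz
  have : ∃ M : Subgroup (S : Subgroup G), IsCoatom M ∧ ⟨z, hz1.1⟩ ∉ M := by
    by_contra h
    push Not at h
    exact hz' ⟨⟨z, hz1.1⟩, by simpa [frattini, Order.radical, mem_iInf] using h, rfl⟩
  obtain ⟨M, hM, hzM⟩ := this
  have hi : (M.map (S : Subgroup G).subtype).relIndex S = 2 := by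
    rw [relIndex, ← comap_subtype, comap_map_eq_self_of_injective (subtype_injective _)]
    exact (H3.index_eq_prime_of_isCoatom S.isPGroup' hM).2
  obtain ⟨t, ht, hle⟩ := thompson_two S.not_dvd_index hi hz2 (by rw [pResidualOf_top, h1]; trivial) S.isPGroup' hz1.1 hz1.2
  rw [h3 t (mem_normalizer_of_cj_le hle) z hz] at ht
  obtain ⟨y, hy, he⟩ := ht
  exact hzM (by rwa [← (Subtype.ext he : y = ⟨z, hz1.1⟩)])

end Cfsg.Agent.S2872
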