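import Cfsg.Statements.S2873
import Cfsg.Agent.H26.Loc
import Cfsg.Agent.H9.Dihedral

set_option autoImplicit false
open Cfsg

namespace Cfsg.Agent.S2873

open H26 Subgroup
open scoped Pointwise commutatorElement

theorem exists_conj_of_fpf {G : Type*} [Group G] {Q : Subgroup G} [Finite Q] [hQ : Q.Normal] {x : G}
    (h : Q ⊓ centralizer {x} = ⊥) {y : G} (hy : y * x⁻¹ ∈ Q) : ∃ u ∈ Q, u * x * u⁻¹ = y := by
  let f : Q → Q := fun u => ⟨u * (x * (u : G)⁻¹ * x⁻¹), Q.mul_mem u.2 (hQ.conj_mem _ (Q.inv_mem u.2) x)⟩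
  have hf : Function.Injective f := by
    intro a b hab
    have h1 : (a : G) * (x * (a : G)⁻¹ * x⁻¹) = b * (x * (b : G)⁻¹ * x⁻¹) := congrArg Subtype.val hab
    have h2 : (b : G)⁻¹ * a = 1 := h.le ⟨Q.mul_mem (Q.inv_mem b.2) a.2, mem_centralizer_singleton_iff.2 (by
      calc (b : G)⁻¹ * a * x = (b : G)⁻¹ * (a * (x * (a : G)⁻¹ * x⁻¹)) * x * a := by group
        _ = _ := by rw [h1]; group)⟩
    exact Subtype.ext (inv_mul_eq_one.1 h2).symm
  obtain ⟨u, hu⟩ := Finite.injective_iff_surjective.1 hf ⟨_, hy⟩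
  have h1 : (u : G) * (x * (u : G)⁻¹ * x⁻¹) = y * x⁻¹ := congrArg Subtype.val hu
  exact ⟨u, u.2, by rw [← mul_left_inj x⁻¹, ← h1]; group⟩


/-- Let G be a finite group and r an odd prime such that G ⧸ O₂(G) is dihedral of order 2r, and let R be a Sylow r-subgroup of G with C_{O₂(G)}(R) = 1. Then N_G(R) is dihedral of order 2r; for any involution a of N_G(R), every involution of G outside O₂(G) is conjugate to a; and |C_{O₂(G)}(a)|² = |O₂(G)|. -/
theorem result {G : Type*} [Group G] [Finite G] {r : ℕ} [Fact r.Prime] (hr : r ≠ 2) [hN : (Cfsg.pCore 2 G).Normal] (hquot : Nonempty (G ⧸ Cfsg.pCore 2 G ≃* DihedralGroup r)) (R : Sylow r G) (hC : Cfsg.pCore 2 G ⊓ Subgroup.centralizer ((R : Subgroup G) : Set G) = ⊥) : Nonempty (↥(Subgroup.normalizer ((R : Subgroup G) : Set G)) ≃* DihedralGroup r) ∧ ∀ a : G, a ∈ Subgroup.normalizer ((R : Subgroup G) : Set G) → orderOf a = 2 → (∀ b : G, orderOf b = 2 → b ∉ Cfsg.pCore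 2 G → ∃ g : G, g * a * g⁻¹ = b) ∧ Nat.card ↥(Cfsg.pCore 2 G ⊓ Subgroup.centralizer ({a} : Set G)) ^ 2 = Nat.card ↥(Cfsg.pCore 2 G) := by
  open DihedralGroup in
  obtain ⟨e⟩ := hquot
  set Q := Cfsg.pCore 2 G
  let φ : G →* DihedralGroup r := e.toMonoidHom.comp (QuotientGroup.mk' Q)
  have hφ : Function.Surjective φ := e.surjective.comp (QuotientGroup.mk'_surjective Q)
  have hker : ∀ g, φ g = 1 ↔ g ∈ Q := fun g => by simp [φ]
  have hker' : ∀ {g h}, φ g = φ h → g * h⁻¹ ∈ Q := fun {g h} he => by rw [← hker, map_mul, map_inv, he, mul_inv_cancel]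
  have hp : r.Prime := Fact.out
  have hodd : Odd r := hp.odd_of_ne_two hr
  have hR := isSyl_top R
  have hQ2 : IsPGroup 2 Q := isPGroup_pCore 2 G
  have hd : (R : Subgroup G) ⊓ Q = ⊥ := inf_eq_bot_of_coprime hR.isP
    (H1.IsPGroup.coprime_card hQ2 (Nat.coprime_two_right.2 hodd))
  have hinj : ∀ {g h}, g ∈ (R : Subgroup G) → h ∈ (R : Subgroup G) → φ g = φ h → g = h := fun {g h} h1 h2 h3 =>
    mul_inv_eq_one.1 (hd.le ⟨(R : Subgroup G).mul_mem h1 ((R : Subgroup G).inv_mem h2), hker' h3⟩)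
  obtain ⟨x, hx, hφx⟩ : DihedralGroup.r 1 ∈ (R : Subgroup G).map φ := by
    have h1 := hR.map φ
    rw [map_top_of_surjective φ hφ] at h1
    refine h1.le_of_le_normalizer (isPGroup_zpowers_of_orderOf DihedralGroup.orderOf_r_one) le_top (fun g _ =>
      mem_normalizer_of_cj_le ?_) (mem_zpowers _)
    rw [cj_zpowers, zpowers_le]
    rcases g with i | i
    · simp
    · simpa using inv_mem (mem_zpowers (DihedralGroup.r (1 : ZMod r)))
  have hφk : ∀ i : ZMod r, φ (x ^ i.val) = DihedralGroup.r i := fun i => by simp [hφx]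
  have hRx : (R : Subgroup G) = zpowers x := by
    refine le_antisymm (fun y hy => ?_) (zpowers_le.2 hx)
    rcases h : φ y with i | i
    · rw [hinj hy (pow_mem hx _) (h.trans (hφk i).symm)]; exact npow_mem_zpowers _ _
    · obtain ⟨k, hk⟩ := isPGroup_iff_mem.1 hR.isP y hy
      have := orderOf_dvd_of_pow_eq_one (show φ y ^ r ^ k = 1 by rw [← map_pow, hk, map_one])
      rw [h, DihedralGroup.orderOf_sr] at this
      exact absurd (even_iff_two_dvd.2 this) (Nat.not_even_iff_odd.2 hodd.pow)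
  rw [hRx] at hC hd hinj
  rw [centralizer_zpowers] at hC
  have hN1 : Q ⊓ 𝐍 (zpowers x) = ⊥ := eq_bot_iff.2 (hC ▸ le_inf inf_le_left (centralizer_zpowers x ▸
    H1.inf_normalizer_le_centralizer (by rw [normalizer_eq_top]; exact le_top) hd))
  change Nonempty (𝐍 (R : Subgroup G) ≃* _) ∧ ∀ a, a ∈ 𝐍 (R : Subgroup G) → _
  rw [hRx]
  have hinv2 : ∀ b : G, orderOf b = 2 → b ∉ Q → ∃ i, φ b = DihedralGroup.sr i := by
    intro b h1 h2
    rcases h : φ b with i | i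
    · refine absurd ((hker b).1 (eq_one_of_pow_coprime (Nat.coprime_two_left.2 hodd) ?_ ?_)) h2
      · rw [← map_pow, ← h1, pow_orderOf_eq_one, map_one]
      · simp [h]
    · exact ⟨i, rfl⟩
  refine ⟨⟨MulEquiv.ofBijective (φ.comp (𝐍 (zpowers x)).subtype) ⟨(injective_iff_map_eq_one _).2 fun a ha =>
    Subtype.ext (hN1.le ⟨(hker _).1 ha, a.2⟩), fun d => ?_⟩⟩, fun a ha ha2 => ?_⟩
  · obtain ⟨g, rfl⟩ := hφ d
    obtain ⟨u, hu, he⟩ : ∃ u ∈ Q, u * x * u⁻¹ = g * x * g⁻¹ ∨ u * x * u⁻¹ = (g * x * g⁻¹)⁻¹ := by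
      rcases h : φ g with i | i
      · obtain ⟨u, hu, he⟩ := exists_conj_of_fpf hC (y := g * x * g⁻¹) (hker' (by simp [h, hφx]))
        exact ⟨u, hu, Or.inl he⟩
      · obtain ⟨u, hu, he⟩ := exists_conj_of_fpf hC (y := (g * x * g⁻¹)⁻¹) (hker' (by simp [h, hφx]))
        exact ⟨u, hu, Or.inr he⟩
    refine ⟨⟨u⁻¹ * g, cj_eq_iff.1 ?_⟩, by simp [(hker u).2 hu]⟩
    rw [cj_mul, cj_eq_iff_eq_cj, inv_inv, cj_zpowers, cj_zpowers]
    rcases he with he | he
    · rw [he]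
    · rw [he, zpowers_inv]
  have haQ : a ∉ Q := fun h => H9.ne_one_of_orderOf ha2 (hN1.le ⟨h, ha⟩)
  obtain ⟨i, hi⟩ := hinv2 a ha2 haQ
  have haa := H9.mul_self_of_orderOf ha2
  have hax : a * x * a⁻¹ = x⁻¹ := hinj (conj_mem_of_mem_normalizer ha (mem_zpowers x)) (inv_mem (mem_zpowers x))
    (by simp [hi, hφx])
  have ha' : a * x * (a * x) = 1 := by
    calc a * x * (a * x) = (a * x * a⁻¹) * (a * a) * x := by group
      _ = 1 := by rw [hax, haa]; group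
  have key : ∀ b, b * b = 1 → φ b = φ a → ∃ u ∈ Q, u * a * u⁻¹ = b ∧ u * (a * x) * u⁻¹ = a * x := by
    intro b hb h
    obtain ⟨u, hu, he⟩ := exists_conj_of_fpf hC (y := b * (a * x)) (hker' (by
      rw [map_mul, h, ← map_mul, ← mul_assoc, haa, one_mul]))
    have h1 := H9.left_inverts hb ha'
    rw [← he] at h1
    have h2 : u⁻¹ * b * u * a⁻¹ = 1 := hC.le ⟨hker' (by simp [(hker u).2 hu, h]), mem_centralizer_singleton_iff.2 (by
      have h3 : a⁻¹ * x * a = x⁻¹ := by rw [H9.inv_eq_of_mul_self haa] at hax ⊢; exact hax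
      calc u⁻¹ * b * u * a⁻¹ * x = u⁻¹ * b * u * (a⁻¹ * x * a) * a⁻¹ := by group
        _ = u⁻¹ * (b * (u * x * u⁻¹) * b⁻¹)⁻¹ * b * u * a⁻¹ := by rw [h3]; group
        _ = _ := by rw [h1]; group)⟩
    have h3 : u * a * u⁻¹ = b := by rw [← mul_inv_eq_one.1 h2]; group
    refine ⟨u, hu, h3, mul_left_cancel (a := b) ?_⟩
    rw [← he]
    nth_rw 1 [← h3]
    rw [conj_mul, ← mul_assoc a a, haa, one_mul]
  have h1 : ∀ b : G, orderOf b = 2 → b ∉ Q → ∃ g : G, g * a * g⁻¹ = b := by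
    intro b hb hbQ
    obtain ⟨j, hj⟩ := hinv2 b hb hbQ
    have h2 : (2 : ZMod r) ≠ 0 := fun h => hr ((Nat.prime_dvd_prime_iff_eq hp Nat.prime_two).1
      ((ZMod.natCast_eq_zero_iff 2 r).1 (by exact_mod_cast h)))
    obtain ⟨u, -, h, -⟩ := key (x ^ ((j - i) / 2).val * b * (x ^ ((j - i) / 2).val)⁻¹)
      (by rw [conj_mul, H9.mul_self_of_orderOf hb]; simp) (by
        rw [map_mul, map_mul, map_inv, hφk, hj, hi]; simp only [DihedralGroup.r_mul_sr, DihedralGroup.inv_r,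
          DihedralGroup.sr_mul_r]; congr 1; field_simp; ring)
    exact ⟨(x ^ ((j - i) / 2).val)⁻¹ * u, by rw [mul_inv_rev, inv_inv, ← mul_assoc, mul_assoc _ u, mul_assoc _ (u * a), h]; group⟩
  refine ⟨h1, ?_⟩
  have hsr : φ (a * x) ≠ 1 := by rw [map_mul, hi, hφx, DihedralGroup.sr_mul_r, DihedralGroup.one_def]; nofun
  obtain ⟨g, hg⟩ := h1 (a * x) (H9.orderOf_eq_two.2 ⟨ha', fun h => hsr ((congrArg φ h).trans φ.map_one)⟩)
    fun h => hsr ((hker _).2 h)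
  have h2 : Nat.card ↥(Q ⊓ centralizer {a * x}) = Nat.card ↥(Q ⊓ centralizer {a}) := by
    rw [← hg, ← cj_centralizer_singleton, ← card_cj g (Q ⊓ centralizer {a}), cj_inf, cj_eq_of_normal g Q]
  rw [sq]
  nth_rw 1 [← h2]
  rw [← Nat.card_prod]
  refine Nat.card_eq_of_bijective (fun z => ⟨z.1 * z.2, Q.mul_mem z.1.2.1 z.2.2.1⟩) ⟨?_, fun q => ?_⟩
  · rintro ⟨u, c⟩ ⟨u', c'⟩ h
    have h3 : (u : G) * c = u' * c' := congrArg Subtype.val h
    have h4 : (u' : G)⁻¹ * u = c' * (c : G)⁻¹ := by rw [← mul_inv_cancel_right (u : G) c, h3]; group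
    have h5 := mul_mem (inv_mem u'.2) u.2
    have h6 := mul_mem c'.2 (inv_mem c.2)
    have h7 : (u' : G)⁻¹ * u = 1 := hC.le ⟨h5.1, mem_centralizer_singleton_iff.2 (by
      have e1 : Commute ((u' : G)⁻¹ * u) (a * x) := mem_centralizer_singleton_iff.1 h5.2
      have e2 : Commute ((u' : G)⁻¹ * u) a := h4 ▸ mem_centralizer_singleton_iff.1 h6.2
      simpa using (e2.inv_right.mul_right e1).eq)⟩
    rw [h7] at h4
    exact Prod.ext (Subtype.ext (inv_mul_eq_one.1 h7).symm) (Subtype.ext (mul_inv_eq_one.1 h4.symm).symm)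
  · obtain ⟨u, hu, h3, h4⟩ := key (q * a * (q : G)⁻¹) (by rw [conj_mul, haa]; simp) (by simp [(hker q).2 q.2])
    refine ⟨⟨⟨u, hu, mem_centralizer_singleton_iff.2 (mul_inv_eq_iff_eq_mul.1 h4)⟩,
      ⟨u⁻¹ * q, Q.mul_mem (Q.inv_mem hu) q.2, mem_centralizer_singleton_iff.2 ?_⟩⟩, Subtype.ext (by simp)⟩
    calc u⁻¹ * q * a = u⁻¹ * (q * a * (q : G)⁻¹) * q := by group
      _ = _ := by rw [← h3]; group

end Cfsg.Agent.S2873
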