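import Cfsg.Statements.S2874
import Mathlib

set_option autoImplicit false
open Cfsg

namespace Cfsg.Agent.S2874

open Matrix Equiv

section
variable {R : Type*} [CommRing R] (h1 : ∀ x : R, ∃ y, x = 2 * y ∨ x = 1 + 2 * y) (h2 : ∀ y : R, IsUnit (1 + 2 * y))
include h1 h2

theorem cube {d : R} (h : d ^ 3 = 1) : d = 1 := by
  have : IsUnit (d ^ 2 + d + 1) := by
    obtain ⟨y, rfl | rfl⟩ := h1 d
    · convert h2 (2 * y * y + y) using 1; ring
    · convert h2 (2 * y * y + 3 * y + 1) using 1; ring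
  exact sub_eq_zero.1 ((this.mul_left_eq_zero (a := d - 1)).1 (by linear_combination h))

theorem three {p q r s : R} (h : !![p, q; r, s] * !![p, q; r, s] * !![p, q; r, s] = 1) (h' : !![p, q; r, s] ≠ 1) :
    p * s - q * r = 1 ∧ p + s = -1 ∧ IsUnit r := by
  have hd : p * s - q * r = 1 := cube h1 h2 (by
    have := congrArg det h
    rwa [det_mul, det_mul, det_one, det_fin_two_of, ← pow_three'] at this)
  rw [mul_fin_two, mul_fin_two, one_fin_two] at h
  have e1 := congrFun (congrFun h 0) 0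
  have e2 := congrFun (congrFun h 0) 1
  have e3 := congrFun (congrFun h 1) 0
  have e4 := congrFun (congrFun h 1) 1
  simp only [of_apply, cons_val', cons_val_zero, cons_val_one, cons_val_fin_one] at e1 e2 e3 e4
  obtain ⟨y, e | e⟩ := h1 (p + s)
  · have u : IsUnit ((p + s) ^ 2 - 1) := by convert (h2 (-2 * y * y)).neg using 1; rw [e]; ring
    obtain rfl : q = 0 := u.mul_right_eq_zero.1 (by linear_combination e2 + q * hd)
    obtain rfl : r = 0 := u.mul_right_eq_zero.1 (by linear_combination e3 + r * hd)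
    obtain rfl : p = 1 := cube h1 h2 (by linear_combination e1)
    obtain rfl : s = 1 := cube h1 h2 (by linear_combination e4)
    exact absurd one_fin_two.symm h'
  · have u : IsUnit (q * r) := by
      obtain ⟨z, e' | e'⟩ := h1 p
      · convert (h2 (-z * s)).neg using 1; linear_combination s * e' - hd
      · convert (h2 (-p * (y - z))).neg using 1; linear_combination p * e - p * e' - hd
    have u' := isUnit_of_mul_isUnit_right u
    have : (p + s) ^ 2 - 1 = 0 := u'.mul_left_eq_zero.1 (by linear_combination e3 + r * hd)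
    exact ⟨hd, by linear_combination -e1 + p * this - (2 * p + s) * hd, u'⟩

theorem pair {e : R} (h3 : ∀ y : R, 2 * y = 0 → y = 0 ∨ y = e) (h4 : 2 * e = 0) {T A t a : GL (Fin 2) R}
    (hT : T.1 = !![0, -1; 1, -1]) (hA : A.1 = !![1, e; e, 1]) (t3 : t * t * t = 1) (t1 : t ≠ 1) (a2 : a * a = 1)
    (a1 : a ≠ 1) (b3 : a * t * (a * t) * (a * t) = 1) (b1 : a * t ≠ 1) : ∃ g, g * t * g⁻¹ = T ∧ g * a * g⁻¹ = A := by
  have three' : ∀ u : GL (Fin 2) R, u * u * u = 1 → u ≠ 1 →
      u 0 0 * u 1 1 - u 0 1 * u 1 0 = 1 ∧ u 0 0 + u 1 1 = -1 ∧ IsUnit (u 1 0) := fun u h h' =>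
    three h1 h2 (by rw [← eta_fin_two]; exact congrArg Units.val h) (by rw [← eta_fin_two]; exact fun e => h' (Units.ext e))
  obtain ⟨g, hg⟩ : ∃ g, g * t * g⁻¹ = T := by
    obtain ⟨c1, c2, c3⟩ := three' t t3 t1
    obtain ⟨P, hP⟩ : IsUnit !![1, t 0 0; 0, t 1 0] := (isUnit_iff_isUnit_det _).2 (by simpa using c3)
    refine ⟨P⁻¹, ?_⟩
    rw [inv_inv, mul_assoc, inv_mul_eq_iff_eq_mul]
    refine Units.ext ?_
    rw [Units.val_mul, Units.val_mul, hP, hT, eta_fin_two t.1, mul_fin_two, mul_fin_two]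
    simp only [of_apply, cons_val', cons_val_zero, cons_val_one, cons_val_fin_one]
    congrm !![?_, ?_; ?_, ?_]
    · ring
    · linear_combination t 0 0 * c2 - c1
    · ring
    · linear_combination t 1 0 * c2
  suffices ∃ u, u * T = T * u ∧ u * (g * a * g⁻¹) = A * u by
    obtain ⟨u, c1, c2⟩ := this
    exact ⟨u * g, by rw [← mul_inv_eq_iff_eq_mul.2 c1, ← hg]; group, by rw [← mul_inv_eq_iff_eq_mul.2 c2]; group⟩
  have c1 : g * a * g⁻¹ * (g * a * g⁻¹) = 1 := by rw [conj_mul, a2]; group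
  have c2 : g * a * g⁻¹ ≠ 1 := by rwa [Ne, conj_eq_one_iff]
  obtain ⟨c3, c4, -⟩ := three' (g * a * g⁻¹ * T) (by rw [← hg, conj_mul, conj_mul, conj_mul, b3]; group)
    (by rwa [← hg, conj_mul, Ne, conj_eq_one_iff])
  generalize g * a * g⁻¹ = c at *
  rw [Ne, Units.ext_iff] at c2
  rw [Units.ext_iff] at c1
  have key : ∀ u : GL (Fin 2) R, u.1 * c.1 = !![1, e; e, 1] * u.1 → u * T = T * u → ∃ u, u * T = T * u ∧ u * c = A * u :=
    fun u h h' => ⟨u, h', Units.ext (by rw [Units.val_mul, Units.val_mul, hA, h])⟩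
  simp only [Units.val_mul, hT, Units.val_one] at c1 c2 c3 c4
  obtain ⟨x, y, z, w, hc⟩ : ∃ x y z w, c.1 = !![x, y; z, w] := ⟨_, _, _, _, eta_fin_two _⟩
  rw [hc] at c1 c2 c3 c4 key
  rw [mul_fin_two, one_fin_two] at c1
  have e1 := congrFun (congrFun c1 0) 0
  have e2 := congrFun (congrFun c1 0) 1
  have e3 := congrFun (congrFun c1 1) 0
  have e4 := congrFun (congrFun c1 1) 1
  simp only [mul_fin_two, of_apply, cons_val', cons_val_zero, cons_val_one, cons_val_fin_one] at e1 e2 e3 e4 c3 c4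
  obtain rfl : w = x := by linear_combination -w * e1 + y * e3 + x * c3
  have hy : 2 * y = 0 := by linear_combination w * e2 - y * e4 - y * c3
  have hz : 2 * z = 0 := by linear_combination w * e3 - z * e1 - z * c3
  obtain rfl : w = 1 + y - z := by linear_combination -c4
  rcases h3 y hy with rfl | rfl <;> rcases h3 z hz with rfl | rfl
  · exact absurd (by simp [one_fin_two]) c2
  · refine key T ?_ rfl
    rw [hT, mul_fin_two, mul_fin_two]
    congrm !![?_, ?_; ?_, ?_] <;> first | ring1 | linear_combination h4 | linear_combination -h4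
  · refine key (T * T) ?_ (mul_assoc _ _ _)
    rw [Units.val_mul, hT, mul_fin_two, mul_fin_two, mul_fin_two]
    congrm !![?_, ?_; ?_, ?_] <;> first | ring1 | linear_combination h4 | linear_combination -h4
  · exact key 1 (by simp) (by simp)
end

def t0 : alternatingGroup (Fin 4) := ⟨swap 0 1 * swap 1 2, Perm.mem_alternatingGroup.2 (by decide)⟩
def a0 : alternatingGroup (Fin 4) := ⟨swap 0 1 * swap 2 3, Perm.mem_alternatingGroup.2 (by decide)⟩

theorem gen : Subgroup.closure {t0, a0} = ⊤ := (Subgroup.eq_top_iff' _).2 fun x => by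
  obtain ⟨i, j, l, m, rfl⟩ : ∃ (i : Fin 3) (j : Fin 2) (l : Fin 3) (m : Fin 2), x = t0 ^ i.1 * a0 ^ j.1 * t0 ^ l.1 * a0 ^ m.1 := by
    revert x; decide +kernel
  have h1 : t0 ∈ Subgroup.closure {t0, a0} := Subgroup.subset_closure (by simp)
  have h2 : a0 ∈ Subgroup.closure {t0, a0} := Subgroup.subset_closure (by simp)
  exact mul_mem (mul_mem (mul_mem (pow_mem h1 _) (pow_mem h2 _)) (pow_mem h1 _)) (pow_mem h2 _)

/-- For k ≥ 2, any two subgroups of GL₂(ℤ/2ᵏℤ) (the automorphism group of the homocyclic group ℤ/2ᵏ × ℤ/2ᵏ) that are isomorphic to the alternating group of degree 4 are conjugate. -/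
theorem result (k : ℕ) (hk : 2 ≤ k) (H₁ H₂ : Subgroup (GL (Fin 2) (ZMod (2 ^ k)))) (h₁ : Nonempty (↥H₁ ≃* ↥(alternatingGroup (Fin 4)))) (h₂ : Nonempty (↥H₂ ≃* ↥(alternatingGroup (Fin 4)))) : ∃ g : GL (Fin 2) (ZMod (2 ^ k)), H₂ = H₁.map (MulAut.conj g).toMonoidHom := by
  obtain ⟨k, rfl⟩ : ∃ j, k = j + 2 := ⟨k - 2, by omega⟩
  have h0 : (2 : ZMod (2 ^ (k + 2))) ^ (k + 2) = 0 := by exact_mod_cast ZMod.natCast_self (2 ^ (k + 2))
  have h1 : ∀ x : ZMod (2 ^ (k + 2)), ∃ y, x = 2 * y ∨ x = 1 + 2 * y := fun x => by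
    obtain ⟨n, rfl⟩ := ZMod.natCast_zmod_surjective x
    obtain ⟨m, rfl | rfl⟩ := n.even_or_odd' <;> exact ⟨m, by simp [add_comm]⟩
  have h2 : ∀ y : ZMod (2 ^ (k + 2)), IsUnit (1 + 2 * y) := fun y =>
    IsNilpotent.isUnit_one_add ⟨k + 2, by rw [mul_pow, h0, zero_mul]⟩
  have h3 : ∀ y : ZMod (2 ^ (k + 2)), 2 * y = 0 → y = 0 ∨ y = 2 ^ (k + 1) := fun y hy => by
    obtain ⟨n, rfl⟩ := ZMod.natCast_zmod_surjective y
    obtain ⟨c, rfl⟩ : 2 ^ (k + 1) ∣ n := Nat.dvd_of_mul_dvd_mul_left two_pos (by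
      rw [← pow_succ', ← ZMod.natCast_eq_zero_iff]; exact_mod_cast hy)
    obtain ⟨m, rfl | rfl⟩ := c.even_or_odd'
    · left; push_cast; linear_combination m * h0
    · right; push_cast; linear_combination m * h0
  obtain ⟨T, hT⟩ : IsUnit (!![0, -1; 1, -1] : Matrix _ _ (ZMod (2 ^ (k + 2)))) := (isUnit_iff_isUnit_det _).2 (by simp)
  obtain ⟨A, hA⟩ : IsUnit (!![1, 2 ^ (k + 1); 2 ^ (k + 1), 1] : Matrix _ _ (ZMod (2 ^ (k + 2)))) :=
    (isUnit_iff_isUnit_det _).2 (by convert isUnit_one; rw [det_fin_two_of]; linear_combination -2 ^ k * h0)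
  have key : ∀ H : Subgroup (GL (Fin 2) (ZMod (2 ^ (k + 2)))), Nonempty (H ≃* alternatingGroup (Fin 4)) →
      ∃ g, H.map (MulAut.conj g).toMonoidHom = Subgroup.closure {T, A} := fun H ⟨e⟩ => by
    let f := H.subtype.comp e.symm.toMonoidHom
    have hf : Function.Injective f := H.subtype_injective.comp e.symm.injective
    obtain ⟨g, c1, c2⟩ := pair h1 h2 h3 (by linear_combination h0) hT hA (t := f t0) (a := f a0)
      (by rw [← map_mul, ← map_mul, show t0 * t0 * t0 = 1 by decide, map_one]) ((map_ne_one_iff f hf).2 (by decide))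
      (by rw [← map_mul, show a0 * a0 = 1 by decide, map_one]) ((map_ne_one_iff f hf).2 (by decide))
      (by rw [← map_mul, ← map_mul, ← map_mul, show a0 * t0 * (a0 * t0) * (a0 * t0) = 1 by decide, map_one])
      (by rw [← map_mul]; exact (map_ne_one_iff f hf).2 (by decide))
    refine ⟨g, ?_⟩
    have : H = f.range := by
      rw [MonoidHom.range_comp, MonoidHom.range_eq_top.2 e.symm.surjective, ← MonoidHom.range_eq_map,
        Subgroup.range_subtype]
    rw [this, MonoidHom.range_eq_map, ← gen, MonoidHom.map_closure, MonoidHom.map_closure, Set.image_pair,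
      Set.image_pair, ← c1, ← c2]
    rfl
  obtain ⟨g₁, e₁⟩ := key H₁ h₁
  obtain ⟨g₂, e₂⟩ := key H₂ h₂
  refine ⟨g₂⁻¹ * g₁, Subgroup.map_injective (f := (MulAut.conj g₂).toMonoidHom) (MulAut.conj g₂).injective ?_⟩
  rw [e₂, ← e₁, Subgroup.map_map]
  congr 1
  ext x : 1
  simp [mul_assoc]

end Cfsg.Agent.S2874
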