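import Cfsg.Statements.S2880
import Cfsg.Agent.H21.ExtraClass

set_option autoImplicit false
open Cfsg

namespace Cfsg.Agent.S2880

/-- Let E be an extraspecial 2-group of order 2^(2m+1) of plus type, that is, containing an elementary abelian subgroup of order 2^(m+1) (equivalently, a central product of m dihedral groups of order 8). Then E has exactly 2^(2m) − 2^m elements of order 4. -/
theorem result {E : Type*} [Group E] [Finite E] (m : ℕ) (hm : 1 ≤ m) (hE : Cfsg.IsExtraspecial 2 E) (hcard : Nat.card E = 2 ^ (2 * m + 1)) (hplus : ∃ A : Subgroup E, Cfsg.IsElementaryAbelian 2 A ∧ Nat.card A = 2 ^ (m + 1)) : Nat.card {x : E // orderOf x = 4} = 2 ^ (2 * m) - 2 ^ m := by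
  have hp := Nat.prime_two
  obtain ⟨h1, h2⟩ := (H21.isExtraspecial_iff_top hp).1 hE
  obtain ⟨A, hA, hA'⟩ := hplus
  have e := h1.ssum_of_pelem (Subgroup.card_top.trans hcard) ⟨le_top, H18.elem_iff.2 hA, hA'⟩
  have e1 : ∀ x : E, orderOf x = 4 ↔ ¬ x ^ 2 = 1 := fun x => by
    refine ⟨fun h h' => absurd (h ▸ orderOf_dvd_of_pow_eq_one h') (by norm_num), fun h => ?_⟩
    exact orderOf_eq_prime_pow (p := 2) (n := 1) (by simpa using h)
      (by rw [sq, pow_mul]; exact h1.pow_Z (h1.pow_mem (Subgroup.mem_top x)))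
  classical
  have := Fintype.ofFinite E
  simp only [e1]
  rw [H21.ssum_top, hcard, pow_succ, pow_succ] at e
  rw [Nat.card_eq_fintype_card, Fintype.card_subtype_compl, ← Nat.card_eq_fintype_card, ← Nat.card_eq_fintype_card,
    hcard, pow_succ]
  have := Nat.pow_le_pow_right two_pos (show m ≤ 2 * m by omega)
  push_cast at e
  have e2 : Nat.card {x : E // x ^ 2 = 1} = 2 ^ (2 * m) + 2 ^ m := by zify; omega
  omega

end Cfsg.Agent.S2880
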