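import Cfsg.Statements.S2881
import Cfsg.Agent.H21.ExtraClass
import Cfsg.Agent.S2880

set_option autoImplicit false
open Cfsg

namespace Cfsg.Agent.S2881

/-- Let E be an extraspecial 2-group of order 2^(2m+1) of plus type (containing an elementary abelian subgroup of order 2^(m+1)), and let ω be an automorphism of E of order 5 whose fixed points are exactly the centre of E. Then m is divisible by 4. -/
theorem result {E : Type*} [Group E] [Finite E] (m : ℕ) (hm : 1 ≤ m) (hE : Cfsg.IsExtraspecial 2 E) (hcard : Nat.card E = 2 ^ (2 * m + 1)) (hplus : ∃ A : Subgroup E, Cfsg.IsElementaryAbelian 2 A ∧ Nat.card A = 2 ^ (m + 1)) (ω : E ≃* E) (hω : orderOf ω = 5) (hfix : ∀ x : E, ω x = x ↔ x ∈ Subgroup.center E) : 4 ∣ m := by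
  have e3 : orderOf (2 : ZMod 5) = 2 ^ 2 := orderOf_eq_prime_pow (by decide) (by decide)
  classical
  have hp := Nat.prime_two
  obtain ⟨h1, h2⟩ := (H21.isExtraspecial_iff_top hp).1 hE
  have := Fintype.ofFinite E
  let f : Function.End {x : E // orderOf x = 4} := fun x => ⟨ω x, by rw [MulEquiv.orderOf_eq, x.2]⟩
  have hf : ∀ (n : ℕ) x, ((f ^ n) x).1 = (ω ^ n : MulAut E) x := fun n => by
    induction n with
    | zero => exact fun x => rfl
    | succ n ih => exact fun x => by rw [pow_succ, pow_succ]; exact ih (f x)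
  have : Fact (Nat.Prime 5) := ⟨Nat.prime_five⟩
  have e := Equiv.Perm.card_fixedPoints_modEq (f := f) (p := 5) (n := 1) (funext fun x => Subtype.ext (by
    rw [hf, pow_one, ← hω, pow_orderOf_eq_one]; rfl))
  have : IsEmpty f.fixedPoints := ⟨fun x => by
    have h3 := h1.pow_Z (H21.Z_top (G := E) ▸ (hfix _).1 (congrArg Subtype.val x.2))
    exact absurd (x.1.2 ▸ orderOf_dvd_of_pow_eq_one h3) (by norm_num)⟩
  rw [Fintype.card_eq_zero (α := f.fixedPoints), ← Nat.card_eq_fintype_card, S2880.result m hm hE hcard hplus,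
    Nat.modEq_zero_iff_dvd, two_mul, pow_add, ← Nat.mul_sub_one] at e
  have e1 := (Nat.Coprime.pow_right m (by norm_num : Nat.Coprime 5 2)).dvd_of_dvd_mul_left e
  have e2 : (2 : ZMod 5) ^ m = 1 := by
    have := (ZMod.natCast_eq_natCast_iff _ _ _).2 ((Nat.modEq_iff_dvd' Nat.one_le_two_pow).2 e1)
    simpa using this.symm
  exact (show 4 = orderOf (2 : ZMod 5) from e3.symm) ▸ orderOf_dvd_of_pow_eq_one e2

end Cfsg.Agent.S2881
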