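import Cfsg.Statements.S2911
import Cfsg.Agent.H26.Transfer
import Cfsg.Agent.H22.QW

set_option autoImplicit false
open Cfsg

namespace Cfsg.Agent.S2911

/-- A finite group whose Sylow 2-subgroups are isomorphic to the direct product of a group of order 2 and a dihedral group of order 8 has a subgroup of index two. -/
theorem result {G : Type*} [Group G] [Finite G] (S : Sylow 2 G) (hS : Nonempty (↥(S : Subgroup G) ≃* Multiplicative (ZMod 2) × DihedralGroup 4)) : ∃ H : Subgroup G, H.index = 2 := by
  open Subgroup in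
  by_contra! h
  obtain ⟨e⟩ := hS
  let φ := (S : Subgroup G).subtype.comp e.symm.toMonoidHom
  have inj : Function.Injective φ := (S : Subgroup G).subtype_injective.comp e.symm.injective
  have rg : ∀ s ∈ S, ∃ m, φ m = s := fun s hs => ⟨e ⟨s, hs⟩, congrArg Subtype.val (e.symm_apply_apply _)⟩
  have rg' : ∀ m, φ m ∈ S := fun m => (e.symm m).2
  have c : ∀ b : Multiplicative (ZMod 2) × DihedralGroup 4,
    b * (Multiplicative.ofAdd 1, 1) = (Multiplicative.ofAdd 1, 1) * b ∧ b * b ≠ (Multiplicative.ofAdd 1, 1) := by decide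
  obtain ⟨t, ⟨m, h1, h2⟩, h3⟩ := H26.thompson_two (M := (MonoidHom.fst _ _).ker.map φ) S.not_dvd_index (by
      rw [show (S : Subgroup G) = map φ ⊤ from le_antisymm (fun s hs => let ⟨m, e⟩ := rg s hs; ⟨m, trivial, e⟩)
        (by rintro _ ⟨m, -, rfl⟩; exact rg' m), relIndex_map_map_of_injective _ _ inj, relIndex_top_right,
        index_ker, MonoidHom.range_eq_top.2 Prod.fst_surjective]; simp)
    (x := φ (Multiplicative.ofAdd 1, 1)) (by rw [← map_pow]; exact (congrArg φ (by decide)).trans φ.map_one)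
    (by rw [H26.pResidualOf_top, H22.res_eq_top h]; trivial)
    S.isPGroup' (rg' _) fun s hs => by
      obtain ⟨m, rfl⟩ := rg s hs
      rw [← map_mul, ← map_mul, (c m).1]
  have n : ∀ s ∈ S, t⁻¹ * s * t ∈ S := fun s hs => by
    have := eq_of_le_of_card_ge h3 (card_map_of_injective (MulAut.conj t).injective).ge
    exact H26.mem_cj.1 (this.ge hs)
  have d : ∀ m : Multiplicative (ZMod 2) × DihedralGroup 4, m.1 = 1 → (∀ a, a * m = m * a) → ∃ a, a * a = m := by decide
  obtain ⟨a, rfl⟩ := d m h1 fun a => inj (by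
    obtain ⟨b, hb⟩ := rg _ (n _ (rg' a))
    have := congrArg φ (c b).1
    rw [map_mul, map_mul, hb] at this
    simpa [h2, mul_assoc] using congrArg (fun x => t * x * t⁻¹) this)
  obtain ⟨b, hb⟩ := rg _ (n _ (rg' a))
  exact (c b).2 (inj (by rw [map_mul] at h2; simpa [hb, mul_assoc] using congrArg (fun x => t⁻¹ * x * t) h2))

end Cfsg.Agent.S2911
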