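import Cfsg.Statements.S2932
import Cfsg.Agent.H3.NatOver
import Cfsg.Agent.H4.NatSL
import Cfsg.Agent.H10.SL

set_option autoImplicit false
open Cfsg

namespace Cfsg.Agent.S2932

/-- Let p be a prime. Inside a finite ambient group let V be an elementary abelian p-subgroup and G a subgroup normalizing V and acting faithfully on it (G ∩ C(V) = 1), and let L ≤ G act on V as SL₂(F) on its natural module, F a finite field of characteristic p, with L ≅ SL₂(F). If every Sylow p-subgroup of N_G(L) is a Sylow p-subgroup of G, then either L is normal in G, or F has 4 elements and G is isomorphic to the alternating group of degree 7. -/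
theorem result {X : Type*} [Group X] [Finite X] {p : ℕ} [Fact p.Prime] (F : Type) [Field F] [Fintype F] [CharP F p] (V G L : Subgroup X) (hV : Cfsg.IsElementaryAbelian p V) (hGV : G ≤ Subgroup.normalizer (V : Set X)) (hfaith : G ⊓ Subgroup.centralizer (V : Set X) = ⊥) (hLG : L ≤ G) (hnat : Cfsg.IsNaturalSL2Module F V L) (hLiso : Nonempty (↥L ≃* Matrix.SpecialLinearGroup (Fin 2) F)) (hSyl : ∀ S : Sylow p ↥(G ⊓ Subgroup.normalizer (L : Set X)), ∀ P : Sylow p ↥G, Nat.card S = Nat.card P) : (L.subgroupOf G).Normal ∨ (Fintype.card F = 4 ∧ Nonempty (↥G ≃* ↥(alternatingGroup (Fin 7)))) := by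
  classical
  obtain ⟨-, ρ, ψ, hρ, -, hψ⟩ := hnat
  let c : G → V → V := fun g v => ⟨g * v * (g : X)⁻¹, (Subgroup.mem_normalizer_iff.1 (hGV g.2) v).1 v.2⟩
  let act : DistribMulAction G (Fin 2 → F) :=
    { smul g v := ψ (Additive.ofMul (c g (ψ.symm v).toMul))
      one_smul v := by
        show ψ _ = v
        simp [c]
      mul_smul g h v := by
        show ψ _ = ψ (Additive.ofMul (c g (ψ.symm (ψ _)).toMul))
        simp [c, mul_assoc]
      smul_zero g := by
        show ψ _ = 0
        simp [c]
      smul_add g v w := by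
        show ψ _ = ψ _ + ψ _
        rw [← map_add, ← ofMul_mul, map_add, toMul_add]
        congr 2
        exact Subtype.ext (by simp [c, mul_assoc]) }
  have hs : ∀ (g : G) (v : V), g • ψ (Additive.ofMul v) = ψ (Additive.ofMul (c g v)) := fun g v => by
    show ψ _ = _
    simp
  have hl : ∀ (l : G) (h : (l : X) ∈ L) (v : Fin 2 → F), l • v = ρ ⟨l, h⟩ • v := fun l h v => by
    obtain ⟨v, rfl⟩ := ψ.surjective v
    obtain ⟨w, h1, h2⟩ := hψ ⟨l, h⟩ v.toMul
    have := hs l v.toMul
    rw [show c l v.toMul = w from Subtype.ext h1.symm, h2] at this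
    exact this
  have ex : ∀ m, ∃ l : G, ∃ h : (l : X) ∈ L, ρ ⟨l, h⟩ = m := fun m => by
    obtain ⟨l, e⟩ := hρ m
    exact ⟨⟨l, hLG l.2⟩, l.2, e⟩
  have faith : ∀ g : G, (∀ v : Fin 2 → F, g • v = v) → g = 1 := fun g hg => by
    have : (g : X) ∈ G ⊓ Subgroup.centralizer (V : Set X) := ⟨g.2, Subgroup.mem_centralizer_iff.2 fun v hv => by
      have := hg (ψ (Additive.ofMul ⟨v, hv⟩))
      rw [hs] at this
      have e : (g : X) * v * (g : X)⁻¹ = v := congrArg Subtype.val (Additive.ofMul.injective (ψ.injective this))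
      exact (mul_inv_eq_iff_eq_mul.1 e).symm⟩
    rw [hfaith] at this
    exact Subtype.ext this
  have uq : ∀ (g l : G) (h : (l : X) ∈ L), (∀ v : Fin 2 → F, g • v = ρ ⟨l, h⟩ • v) → g = l := fun g l h e =>
    (inv_mul_eq_one.1 (faith _ fun v => by rw [mul_smul, e, ← hl, inv_smul_smul])).symm
  choose τ τL hτ using fun a : F => ex (H4.tvU a)
  have ns : H3.NS (L.subgroupOf G) (![1, 0] : Fin 2 → F) ![0, 1] (LinearMap.proj 1) τ := by
    refine ⟨faith, by simp, fun e => by simpa using congrFun e 0, by simp, by simp, fun v hv => ⟨v 0, ?_⟩,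
      fun l h c v => by rw [hl l h, hl l h, smul_comm], τL, fun a v => ?_, fun v hv => ?_, fun H hH => ?_⟩
    · ext i; fin_cases i
      · simp
      · simpa using hv
    · rw [hl _ (τL a), hτ, H4.tvU_smul]; ext i; fin_cases i <;> simp
    · obtain ⟨m, hm⟩ := H4.exists_smul_eq hv
      obtain ⟨l, h, rfl⟩ := ex m
      exact ⟨l, h, by rw [hl l h, hm]⟩
    · suffices h : ∀ m, ∀ (l : G) (h : (l : X) ∈ L), ρ ⟨l, h⟩ = m → l ∈ H from fun l h' => h _ l h' rfl
      intro m
      induction m using Matrix.SL2.transvection_induction with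
      | htransvec i j hij a =>
        intro l h e
        fin_cases i <;> fin_cases j
        · exact absurd rfl hij
        · have := hH 1 (one_mem _) a
          rwa [one_mul, inv_one, mul_one, uq (τ a) l h fun v => by
            rw [hl _ (τL a), hτ, e]] at this
        · obtain ⟨w, hw, ew⟩ := ex (H4.slOf !![0, -1; 1, 0] (by simp [Matrix.det_fin_two]))
          have := hH w hw (-a)
          rwa [uq (w * τ (-a) * w⁻¹) l h fun v => by
            obtain ⟨v, rfl⟩ : ∃ u, w • u = v := MulAction.surjective w v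
            have sw : ∀ u : Fin 2 → F, w • u = ![-u 1, u 0] := fun u => by
              rw [hl w hw, ew, H4.sl_smul]; ext i; fin_cases i <;> simp [Matrix.mulVec, dotProduct]
            rw [mul_smul, mul_smul, inv_smul_smul, hl _ (τL _), hτ, sw, sw, e, H4.tvU_smul]
            exact ((H4.tvL_smul a _).trans (by ext i; fin_cases i <;> simp)).symm] at this
        · exact absurd rfl hij
      | hmul A B hA hB =>
        intro l h e
        obtain ⟨a, ha, rfl⟩ := ex A
        obtain ⟨b, hb, rfl⟩ := ex B
        rw [← uq (a * b) l h fun v => by rw [e, mul_smul, mul_smul, hl a ha, hl b hb]]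
        exact mul_mem (hA a ha rfl) (hB b hb rfl)
  refine ns.main (p := p) (fun S hS => H2.sylIn_of_card le_top ?_) fun h4 => ?_
  · obtain ⟨P⟩ : Nonempty (Sylow p G) := inferInstance
    obtain ⟨Q⟩ : Nonempty (Sylow p ↥(G ⊓ Subgroup.normalizer (L : Set X))) := inferInstance
    rw [hS.card, Subgroup.card_top, ← P.card_eq_multiplicity, ← hSyl Q P, Q.card_eq_multiplicity,
      ← Subgroup.subgroupOf_normalizer_eq hLG, H2.card_subgroupOf', inf_comm]
  · obtain ⟨e⟩ := hLiso
    rw [H2.card_subgroupOf hLG, Nat.card_congr e.toEquiv, H10.card_SL2, h4]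

end Cfsg.Agent.S2932
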