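import Cfsg.Statements.S2933
import Cfsg.Agent.H17.InvC

set_option autoImplicit false
open Cfsg

namespace Cfsg.Agent.S2933

open Subgroup H3

theorem k4 {P : Type*} [Group P] {ξ : MulAut P} {C : Subgroup P} (hC : IsKleinFour C) (iC : XInv ξ C) (r3 : ∀ x, ξ (ξ (ξ x)) = x)
    (h : ∃ c ∈ C, ξ c ≠ c) (x y : P) (hx : x ∈ C) (hy : y ∈ C) (x1 : x ≠ 1) (y1 : y ≠ 1) : ∃ k : ℕ, (ξ ^ k) x = y := by
  have k : ∀ x ∈ C, ∀ y ∈ C, ∀ z ∈ C, x ≠ 1 → y ≠ 1 → x ≠ y → z ≠ 1 → z ≠ x → z ≠ y → z = x * y := fun x hx y hy z hz a b c d e f =>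
    congrArg Subtype.val (IsKleinFour.eq_mul_of_ne_all (x := (⟨x, hx⟩ : C)) (y := ⟨y, hy⟩) (z := ⟨z, hz⟩) (by simpa) (by simpa)
      (by simpa) (by simpa) (by simpa) (by simpa))
  have f : ξ x ≠ x := fun e => by
    obtain ⟨c, hc, e'⟩ := h
    have c1 : c ≠ 1 := by rintro rfl; simp at e'
    have cx : x ≠ c := by rintro rfl; exact e' e
    have e1 := k x hx c hc _ (iC c hc) x1 c1 cx (by simpa) (fun e2 => cx (ξ.injective (e.trans e2.symm))) e'
    have e2 : ξ (ξ c) = c := by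
      rw [e1, map_mul, e, e1, ← mul_assoc, show x * x = 1 from congrArg Subtype.val (IsKleinFour.mul_self (⟨x, hx⟩ : C)), one_mul]
    exact e' ((congrArg ξ e2).symm.trans (r3 c))
  by_cases e : y = x
  · exact ⟨0, e.symm⟩
  by_cases e' : y = ξ x
  · exact ⟨1, e'.symm⟩
  exact ⟨2, (k x hx _ (iC x hx) _ (iC _ (iC x hx)) x1 (by simpa) f.symm (by simpa) (fun e => f ((congrArg ξ e).symm.trans (r3 x)))
    fun e => f (ξ.injective e)).trans (k x hx _ (iC x hx) y hy x1 (by simpa) f.symm y1 e e').symm⟩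

/-- Let T be a 2-subgroup of a finite group G, V ≤ Z(T) a four-group, and t, ρ ∈ N_G(V) ∩ N_G(T) elements of order 2 and 3 with t commuting with ρ and with V. If [V, ρ] = V and C_T(t) = V, then T is elementary abelian of order 16, or homocyclic of rank 2 (ℤ/2ⁿ × ℤ/2ⁿ for some n ≥ 1), or isomorphic to a Sylow 2-subgroup of PSL₃(4) or of PSU₃(4). -/
theorem result {G : Type*} [Group G] [Finite G] (T V : Subgroup G) (hT : IsPGroup 2 ↥T) (hVT : V ≤ T ⊓ Subgroup.centralizer (T : Set G)) (hV : Nat.card ↥V = 4 ∧ ∀ v ∈ V, v ^ 2 = 1) (t ρ : G) (ht : orderOf t = 2) (hρ : orderOf ρ = 3) (htn : t ∈ Subgroup.normalizer (V : Set G) ⊓ Subgroup.normalizer (T : Set G)) (hρn : ρ ∈ Subgroup.normalizer (V : Set G) ⊓ Subgroup.normalizer (T : Set G)) (htρ : t * ρ = ρ * t) (htV : t ∈ Subgroup.centralizer (V : Set G)) (hVρ : ⁅V, Subgroup.zpowers ρ⁆ = V) (hCt : T ⊓ Subgroup.centralizer ({t} : Set G) = V) : (Nat.card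 ↥T = 16 ∧ ∀ x ∈ T, x ^ 2 = 1) ∨ (∃ n : ℕ, 1 ≤ n ∧ Nonempty (↥T ≃* Multiplicative (ZMod (2 ^ n)) × Multiplicative (ZMod (2 ^ n)))) ∨ (∃ (F : Type) (_ : Field F) (_ : Fintype F), Fintype.card F = 4 ∧ ∀ P : Sylow 2 (Matrix.ProjectiveSpecialLinearGroup (Fin 3) F), Nonempty (↥T ≃* ↥(P : Subgroup (Matrix.ProjectiveSpecialLinearGroup (Fin 3) F)))) ∨ (∃ (F : Type) (_ : Field F) (_ : Fintype F), Fintype.card F = 16 ∧ ∀ P : Sylow 2 (Cfsg.PSU 3 F 4), Nonempty (↥T ≃* ↥(P : Subgroup (Cfsg.PSU 3 F 4)))) := by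
  let α := T.normalizerMonoidHom ⟨t, htn.2⟩
  let ξ := T.normalizerMonoidHom ⟨ρ, hρn.2⟩
  have t2 : t * t = 1 := by rw [← pow_two, ← ht, pow_orderOf_eq_one]
  have r3 : ρ ^ 3 = 1 := hρ ▸ pow_orderOf_eq_one ρ
  have : Fact (Nat.Prime 3) := ⟨Nat.prime_three⟩
  have fix : ∀ x : T, x ∈ V.subgroupOf T ↔ α x = x := fun x => by
    rw [mem_subgroupOf, ← hCt, mem_inf, mem_centralizer_singleton_iff, Subtype.ext_iff]
    exact ⟨fun h => mul_inv_eq_of_eq_mul h.2.symm, fun h => ⟨x.2, (eq_mul_of_mul_inv_eq h).symm⟩⟩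
  have cV : Nat.card (V.subgroupOf T) = 2 ^ 2 := (Nat.card_congr (subgroupOfEquivOfLe (hVT.trans inf_le_left)).toEquiv).trans hV.1
  have c2 : ∀ x ∈ V.subgroupOf T, x * x = 1 := fun x hx => Subtype.ext ((pow_two _).symm.trans (hV.2 x hx))
  have nf : ∃ c ∈ V.subgroupOf T, ξ c ≠ c := by
    by_contra! h
    have := (commutator_eq_bot_iff_le_centralizer.2 (le_centralizer_iff.1 (zpowers_le.2 fun v hv =>
      (mul_inv_eq_iff_eq_mul.1 (congrArg Subtype.val (h ⟨v, (hVT hv).1⟩ hv))).symm))).symm.trans hVρ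
    simp [← this] at hV
  have x3 : ξ ^ 3 = 1 := by rw [← map_pow, show (⟨ρ, hρn.2⟩ : normalizer (T : Set G)) ^ 3 = 1 from Subtype.ext r3, map_one]
  have r3 : ∀ x, ξ (ξ (ξ x)) = x := fun x => by simpa [pow_succ] using MulEquiv.congr_fun x3 x
  have : Nontrivial (V.subgroupOf T) := Finite.one_lt_card_iff_nontrivial.1 (by simp [cV])
  rcases H17.IC.classify (n := 2) (α := α) (ξ := ξ) le_rfl hT (fun x => Subtype.ext (show t * (t * x * t⁻¹) * t⁻¹ = x by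
      rw [inv_eq_of_mul_eq_one_right t2, ← mul_assoc, ← mul_assoc, t2, one_mul, mul_assoc, t2, mul_one]))
    (fun x => Subtype.ext (show t * (ρ * x * ρ⁻¹) * t⁻¹ = ρ * (t * x * t⁻¹) * ρ⁻¹ by
      simp only [← mul_assoc, htρ]; rw [mul_assoc, ← mul_inv_rev, htρ, mul_inv_rev, ← mul_assoc])) fix c2 cV
    (orderOf_eq_prime x3 fun e => by simp [e] at nf) (k4 ⟨cV, Monoid.exponent_eq_prime_iff Nat.prime_two |>.2 fun g g1 =>
      orderOf_eq_prime (Subtype.ext ((pow_two _).trans (c2 _ g.2))) g1⟩ (fun x hx => (mem_normalizer_iff.1 hρn.1 _).1 hx) r3 nf)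
    with ⟨m, h1, h2, h3, h4, u, h5⟩ | ⟨h1, h2⟩ | h | h
  · let ψ : T → Multiplicative (ZMod (2 ^ (m + 1))) →* T := fun a => .mk' (fun i => a ^ i.toAdd.val) fun i j => H9.pow_val_add (h2 a) _ _
    have o : ∀ a, ψ a (.ofAdd 1) = a := fun a => by
      have : Fact (1 < 2 ^ (m + 1)) := ⟨Nat.one_lt_two_pow m.succ_ne_zero⟩
      simp [ψ, ZMod.val_one]
    let φ := (ψ u).noncommCoprod (ψ (ξ u)) fun _ _ => h3 _ _
    have pr : u * ξ u * ξ (ξ u) = 1 := by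
      simpa [List.range_succ, mul_assoc] using MonoidHom.FixedPointFree.prod_pow_eq_one (φ := ξ) h4 (n := 3) (funext r3) u
    have e := h5 (closure {u, ξ u}) (xinv_closure (by
      rintro _ (rfl | rfl)
      · exact subset_closure (.inr rfl)
      · rw [eq_inv_of_mul_eq_one_right pr]
        exact inv_mem (mul_mem (subset_closure (.inl rfl)) (subset_closure (.inr rfl))))) (subset_closure (.inl rfl))
    refine .inr (.inl ⟨m + 1, by omega, ⟨(MulEquiv.ofBijective φ ((Nat.bijective_iff_surjective_and_card _).2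
      ⟨φ.range_eq_top.1 (top_unique (e.ge.trans ((closure_le _).2 ?_))), ?_⟩)).symm⟩⟩)
    · rintro _ (rfl | rfl)
      exacts [⟨(.ofAdd 1, 1), show ψ _ _ * ψ _ 1 = _ by rw [o, map_one, mul_one]⟩,
        ⟨(1, .ofAdd 1), show ψ _ 1 * ψ _ _ = _ by rw [o, map_one, one_mul]⟩]
    · simp [h1, ← mul_pow]
  · exact .inl ⟨h1, fun x hx => (pow_two x).trans (congrArg Subtype.val (h2 ⟨x, hx⟩))⟩
  · exact .inr (.inr (.inr h))
  · exact .inr (.inr (.inl h))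

end Cfsg.Agent.S2933
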