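import Cfsg.Statements.S2934
import Cfsg.Agent.H18.TQ

set_option autoImplicit false
open Cfsg

namespace Cfsg.Agent.S2934

/-- Let p be an odd prime, W a finite 2-group and E a non-cyclic abelian p-subgroup of Aut(W) such that, for every nontrivial e ∈ E, the fixed points of e in W contain at most one involution. Then E has order 9, W is extraspecial of order 2⁵, 2⁷ or 2⁹, and the common fixed points of E in W form exactly the centre Z(W). -/
theorem result {W : Type*} [Group W] [Finite W] (hW : IsPGroup 2 W) {p : ℕ} [Fact p.Prime] (hp : p ≠ 2) (E : Subgroup (MulAut W)) (hE : IsPGroup p ↥E) (hab : IsMulCommutative ↥E) (hnc : ¬ IsCyclic ↥E) (hfix : ∀ e ∈ E, e ≠ 1 → ∀ x y : W, orderOf x = 2 → orderOf y = 2 → e x = x → e y = y → x = y) : Nat.card ↥E = 9 ∧ Cfsg.IsExtraspecial 2 W ∧ (Nat.card W = 2 ^ 5 ∨ Nat.card W = 2 ^ 7 ∨ Nat.card W = 2 ^ 9) ∧ {x : W | ∀ e ∈ E, e x = x} = (Subgroup.center W : Set W) := by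
  have ml : ∀ x : H4.Hol W, x ∈ (⊤ : Subgroup W).map (H4.holL W) ↔ ∃ w, H4.holL W w = x := fun x => by simp
  have eq : ↥E ≃* E.map (H4.holR W) := E.equivMapOfInjective _ H4.holR_injective
  have ew : W ≃* (⊤ : Subgroup W).map (H4.holL W) :=
    Subgroup.topEquiv.symm.trans (Subgroup.equivMapOfInjective _ _ H4.holL_injective)
  have h : H118.TQ.HH p ((⊤ : Subgroup W).map (H4.holL W)) (E.map (H4.holR W)) := by
    refine ⟨(hW.to_subgroup ⊤).map _, hE.map _, hp, ?_, ?_, fun k => hnc (eq.isCyclic.2 k), eq_bot_iff.2 ?_, ?_⟩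
    · rintro _ ⟨a, -, rfl⟩; exact H4.holR_mem_normalizer a
    · rintro _ ⟨a, ha, rfl⟩ _ ⟨b, hb, rfl⟩
      rw [← map_mul, ← map_mul]
      exact congrArg _ (congrArg Subtype.val (hab.is_comm.comm ⟨b, hb⟩ ⟨a, ha⟩))
    · rintro _ ⟨⟨a, -, rfl⟩, k⟩
      rw [show a = 1 from MulEquiv.ext fun x => H4.holR_mem_centralizer_iff.1 k x trivial, map_one]
      exact one_mem _
    · rintro _ ⟨a, ha, rfl⟩ a1 _ ⟨⟨x, -, rfl⟩, hx⟩ _ ⟨⟨y, -, rfl⟩, hy⟩ x2 y2
      rw [orderOf_injective _ H4.holL_injective] at x2 y2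
      exact congrArg _ (hfix a ha (fun e => a1 (by rw [e, map_one])) x y x2 y2
        ((H4.hol_comm_iff a x).1 (Subgroup.mem_centralizer_singleton_iff.1 hx))
        ((H4.hol_comm_iff a y).1 (Subgroup.mem_centralizer_singleton_iff.1 hy)))
  refine ⟨(Nat.card_congr eq.toEquiv).trans h.c9, H21.isExtraspecial_of_equiv Nat.prime_two ew.symm h.main.1,
    Nat.card_congr ew.toEquiv ▸ h.main.2, Set.ext fun x => ⟨fun hx => ?_, fun hx => ?_⟩⟩
  · have : H4.holL W x ∈ _ := h.cen.ge ⟨⟨x, trivial, rfl⟩, by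
      rintro _ ⟨a, ha, rfl⟩; exact ((H4.hol_comm_iff a x).2 (hx a ha)).symm⟩
    exact Subgroup.mem_center_iff.2 fun g => H4.holL_injective (by
      rw [map_mul, map_mul]; exact this.2 _ ⟨g, trivial, rfl⟩)
  · have : H4.holL W x ∈ _ := h.cen.le ⟨⟨x, trivial, rfl⟩, by
      rintro _ ⟨g, -, rfl⟩; rw [← map_mul, ← map_mul, Subgroup.mem_center_iff.1 hx g]⟩
    exact fun a ha => (H4.hol_comm_iff a x).1 (this.2 _ ⟨a, ha, rfl⟩).symm

end Cfsg.Agent.S2934
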