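import Cfsg.Statements.S2968
import Cfsg.Agent.H9.IsoP

set_option autoImplicit false
open Cfsg

namespace Cfsg.Agent.S2968

/-- Let G be a finite group, p a prime, P a Sylow p-subgroup of G and x ∈ P an element of p-power order which is isolated in G (the only conjugate of x commuting with x is x itself). Then x lies in the centre of P, and the subgroup generated by x is both strongly closed and weakly closed in P with respect to G. -/
theorem result {G : Type*} [Group G] [Finite G] {p : ℕ} [Fact p.Prime] (P : Sylow p G) (x : G) (hxP : x ∈ (P : Subgroup G)) (hx : ∃ k : ℕ, orderOf x = p ^ k) (hiso : Cfsg.IsIsolated x) : x ∈ (P : Subgroup G) ⊓ Subgroup.centralizer ((P : Subgroup G) : Set G) ∧ Cfsg.IsStronglyClosed (Subgroup.zpowers x) (P : Subgroup G) ∧ Cfsg.IsWeaklyClosed (Subgroup.zpowers x) (P : Subgroup G) := by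
  obtain ⟨k, hk⟩ := hx
  have hk' : x ^ p ^ k = 1 := by rw [← hk, pow_orderOf_eq_one]
  refine ⟨⟨hxP, fun s hs => (H9.iso_commute_of_mem hiso P.isPGroup' hxP hs).eq⟩,
    ⟨Subgroup.zpowers_le.2 hxP, fun a ha g hg => ?_⟩, ?_⟩
  · rw [H9.iso_eq_of_mem (H9.iso_pow hiso hk' ha) P.isPGroup' (Subgroup.zpowers_le.2 hxP ha)
      (isConj_iff.2 ⟨g, rfl⟩) hg]
    exact ha
  · refine H3.isWeaklyClosed_iff.2 ⟨Subgroup.zpowers_le.2 hxP, fun g hg => ?_⟩
    refine H9.mem_normalizer_of_conj_mem fun a ha => ?_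
    rw [H9.iso_eq_of_mem (H9.iso_pow hiso hk' ha) P.isPGroup' (Subgroup.zpowers_le.2 hxP ha)
      (isConj_iff.2 ⟨g, rfl⟩) (hg a ha)]
    exact ha

end Cfsg.Agent.S2968
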