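import Cfsg.Statements.S2969
import Cfsg.Agent.H9.IsoP

set_option autoImplicit false
open Cfsg

namespace Cfsg.Agent.S2969

/-- Let G be a finite group, p a prime and x ∈ G an element of p-power order which is isolated in G. If R is a p-subgroup of G containing x, then N_G(R) ≤ C_G(x); in particular x lies in the centre of R. Moreover, if x lies in a normal subgroup N of a subgroup H of G, then H = N·C_H(x). -/
theorem result {G : Type*} [Group G] [Finite G] {p : ℕ} [Fact p.Prime] (x : G) (hx : ∃ k : ℕ, orderOf x = p ^ k) (hiso : Cfsg.IsIsolated x) : (∀ R : Subgroup G, IsPGroup p ↥R → x ∈ R → Subgroup.normalizer (R : Set G) ≤ Subgroup.centralizer ({x} : Set G)) ∧ (∀ H N : Subgroup G, N ≤ H → H ≤ Subgroup.normalizer (N : Set G) → x ∈ N → N ⊔ (H ⊓ Subgroup.centralizer ({x} : Set G)) = H) := by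
  obtain ⟨k, hk⟩ := hx
  have hk' : x ^ p ^ k = 1 := by rw [← hk, pow_orderOf_eq_one]
  refine ⟨fun R hR hxR g hg => H9.mem_centralizer_singleton_iff_commute.2
    (H9.iso_commute hiso hR hxR hg), fun H N hNH hH hxN => ?_⟩
  refine le_antisymm (sup_le hNH inf_le_left) fun h hh => ?_
  obtain ⟨n, hn, hc⟩ := H9.iso_frattini hiso hk' hxN (hH hh)
  have := Subgroup.mul_mem_sup hn (Subgroup.mem_inf.2 ⟨H.mul_mem (H.inv_mem (hNH hn)) hh,
    H9.mem_centralizer_singleton_iff_commute.2 hc⟩)
  simpa using this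

end Cfsg.Agent.S2969
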