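import Cfsg.Statements.S2970
import Cfsg.Agent.H9.Hv2

set_option autoImplicit false
open Cfsg

namespace Cfsg.Agent.S2970

open H18 H9 Subgroup

/-- Let G be a finite group, p a prime and x ∈ G an element of p-power order which is isolated in G. Then the image of x in any quotient G ⧸ N is isolated in G ⧸ N; and if x ≠ 1 and the Sylow p-subgroups of G are cyclic, then G has a normal p-complement. -/
theorem result {G : Type*} [Group G] [Finite G] {p : ℕ} [Fact p.Prime] (x : G) (hx : ∃ k : ℕ, orderOf x = p ^ k) (hiso : Cfsg.IsIsolated x) : (∀ (N : Subgroup G) [N.Normal], Cfsg.IsIsolated (QuotientGroup.mk x : G ⧸ N)) ∧ (x ≠ 1 → (∀ P : Sylow p G, IsCyclic ↥(P : Subgroup G)) → Cfsg.HasNormalPComplement p G) := by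
  have hp : p.Prime := Fact.out
  obtain ⟨k, hk⟩ := hx
  have hk' : x ^ p ^ k = 1 := hk ▸ pow_orderOf_eq_one x
  refine ⟨fun N _ => iso_quotient hiso hk' N, fun x1 hc => ?_⟩
  obtain ⟨P, hP⟩ := (isPGroup_zpowers hk').exists_le_sylow
  have hS := hall_sylow_top hp P
  have := (Cyc.abel (hc P)).comm
  refine ⟨P, _, inferInstance, MonoidHom.ker_transferSylow_isComplement' P (cent_symm (comm_eq_bot_iff.1 ?_))⟩
  by_contra e
  refine Cyc.inf_ne_bot (hc P) hS.pi (comm_le_left le_rfl) hP e (zpowers_ne_bot.2 x1) (le_bot_iff.1 ?_)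
  rw [← H3.fitting_inf_eq_bot le_rfl (H3.coprime_card_relIndex_centralizer P.card_coprime_index le_N)]
  exact inf_le_inf_left _ (zpowers_le.2 (mem_C.2 fun g hg => iso_commute hiso P.isPGroup' (hP (mem_zpowers x)) hg))

end Cfsg.Agent.S2970
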