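import Cfsg.Statements.S2971
import Cfsg.Agent.H18.BG1
import Cfsg.Agent.H3.BG4a
import Cfsg.Agent.S2970

set_option autoImplicit false
open Cfsg

namespace Cfsg.Agent.S2971
open H18 Subgroup
open scoped commutatorElement

/-- Let G be a finite group and p an odd prime such that G has p-rank at most 1 (no elementary abelian subgroup of order p²). If x ∈ G is an isolated element of order p, then x is central modulo the largest normal subgroup of G of order prime to p. -/
theorem result {G : Type*} [Group G] [Finite G] {p : ℕ} [Fact p.Prime] (hp : p ≠ 2) (hrk : Cfsg.PRankLE p 1 G) (x : G) (hx : orderOf x = p) (hiso : Cfsg.IsIsolated x) : Cfsg.InZStar p x := by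
  have hpp : p.Prime := Fact.out
  have hc : ∀ P : Sylow p G, Cyc (P : Subgroup G) := fun P => by
    have hP := hall_sylow_top hpp P
    refine H3.odd_pgroup_rank1_cyclic hpp hP.pi ?_ ?_
    · obtain ⟨k, hk⟩ := hP.pi.card_eq_pow
      rw [hk]; exact (hpp.odd_of_ne_two hp).pow
    · rw [prank_sylow hpp hP]; exact (prank_top_le_iff hpp).2 hrk
  have hx1 : x ≠ 1 := by
    rintro rfl
    exact hpp.one_lt.ne (by simpa using hx)
  have h := (hasNormalPComplement_top_iff' hpp).1 ((Cfsg.Agent.S2970.result (p := p) x ⟨1, by simpa using hx⟩ hiso).2 hx1 hc)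
  obtain ⟨P⟩ : Nonempty (Sylow p G) := inferInstance
  have hsd := sd_of_hall' h pcore_nml.norm (hall_sylow_top hpp P)
  intro g
  rw [pPrimeCore_eq hpp]
  exact hsd.abel_iff.1 (hc P).abel (commutator_mem_commutator (mem_top g) (mem_top x))

end Cfsg.Agent.S2971
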