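import Cfsg.Statements.S2972
import Cfsg.Agent.H18.BG1
import Cfsg.Agent.H5.ZsP

set_option autoImplicit false
open Cfsg

namespace Cfsg.Agent.S2972
open H5
open H18 Subgroup H5.ZsP
open scoped commutatorElement

/-- Let G be a finite group, p a prime and x ∈ G an isolated element of order p (the only conjugate of x commuting with x is x) which is not central modulo the largest normal subgroup of order prime to p, while x is central modulo the largest normal subgroup of order prime to p in every proper subgroup containing x, and the image of x is so in every quotient of G by a nontrivial normal subgroup (a minimal counterexample to the Z*_p statement). Then the derived subgroup G' is a non-abelian simple group and G = G'⟨x⟩. -/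
theorem result {G : Type*} [Group G] [Finite G] {p : ℕ} [Fact p.Prime] (x : G) (hx : orderOf x = p) (hiso : Cfsg.IsIsolated x) (hnz : ¬ Cfsg.InZStar p x) (hmin : ∀ (H : Subgroup G) (hxH : x ∈ H), H ≠ ⊤ → Cfsg.InZStar p (⟨x, hxH⟩ : ↥H)) (hquot : ∀ (N : Subgroup G) [N.Normal], N ≠ ⊥ → Cfsg.InZStar p (QuotientGroup.mk x : G ⧸ N)) : IsSimpleGroup ↥(commutator G) ∧ ¬ IsMulCommutative ↥(commutator G) ∧ commutator G ⊔ Subgroup.zpowers x = ⊤ := by
  have hp : p.Prime := Fact.out
  have hO := core_eq_bot hp hnz hquot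
  have hX : PiGrp {p} (zpowers x) := piGrp_of_prime hp (by rw [card_zpowers', hx])
  have hnc := not_comm_le hp hnz
  rw [hO] at hnc
  have hON : ∀ N : Subgroup G, N ⊴ ⊤ → O[{p}ᶜ](N) = ⊥ := fun N hN => le_bot_iff.1 (hO ▸ hN.pcore_le_pcore)
  -- dichotomy
  have dich : ∀ N : Subgroup G, N ⊴ ⊤ → N ⊔ zpowers x = ⊤ ∨ zpowers x ≤ C(N) := by
    intro N hN
    by_cases h : N ⊔ zpowers x = ⊤
    · exact Or.inl h
    · right
      have hxH : x ∈ N ⊔ zpowers x := mem_sup_right (mem_zpowers x)
      have h1 := sub_comm hp hxH (hmin _ hxH h)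
      have h2 : ⁅N, zpowers x⁆ ≤ N ⊓ O[{p}ᶜ](N ⊔ zpowers x) :=
        le_inf (comm_le_left (le_top.trans hN.norm)) ((comm_mono le_sup_left le_rfl).trans h1)
      have h3 := h2.trans (inf_pcore_le le_sup_left)
      rw [hON N hN, le_bot_iff, comm_eq_bot_iff] at h3
      exact cent_symm h3
  set K : Subgroup G := ⁅(⊤ : Subgroup G), zpowers x⁆ with hK
  have hKn : K ⊴ ⊤ := ⟨le_top, norm_comm_left⟩
  have hKX : K ⊔ zpowers x = ⊤ := by
    rcases dich K hKn with h | h
    · exact h
    · exfalso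
      refine hnc (comm_zpowers_le (by simp) fun g _ => ?_)
      have h1 : g * x * g⁻¹ * x⁻¹ ∈ K := commutator_mem_commutator (mem_top g) (mem_zpowers x)
      have h2 := comm_of_cent h (mem_zpowers x) h1
      have h3 : g * x * g⁻¹ = x := hiso g (by
        have : x * (g * x * g⁻¹ * x⁻¹) * x = g * x * g⁻¹ * x⁻¹ * x * x := by rw [h2]
        show x * (g * x * g⁻¹) = g * x * g⁻¹ * x
        simpa [mul_assoc] using this)
      rw [h3]; simp
  have hder : ∀ N : Subgroup G, N ⊴ ⊤ → N ⊔ zpowers x = ⊤ → ⁅(⊤ : Subgroup G), ⊤⁆ ≤ N := by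
    intro N hN h
    have := der_sup_le (A := N) (B := zpowers x) (le_top.trans hN.norm)
    rwa [h, abel_zpowers.der, sup_bot_eq] at this
  have hKD : K = commutator G := le_antisymm (comm_mono le_rfl le_top) (hder K hKn hKX)
  have hnil : ¬ Nil K := by
    intro h
    have h1 : PiGrp {p} K := by
      have := h.pcore_sup (π := {p})
      rw [hON K hKn, sup_bot_eq] at this
      rw [← this]; exact pcore_pi
    have h2 : PiGrp {p} (⊤ : Subgroup G) := hKX ▸ h1.sup_norm' hX (le_top.trans hKn.norm)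
    refine hnc (comm_zpowers_le (by simp) fun g _ => ?_)
    have := H9.iso_commute_of_mem hiso h2.isPGroup (mem_top x) (mem_top g)
    rw [this.eq]; simp
  have hminN : MinNorm K ⊤ := by
    refine ⟨fun h => hnil (h ▸ nil_bot), hKn.norm, fun N hNK hN1 hN => ?_⟩
    have hN' : N ⊴ ⊤ := ⟨le_top, hN⟩
    rcases dich N hN' with h | h
    · exact le_antisymm hNK ((comm_mono le_rfl le_top).trans (hder N hN' h))
    · exfalso
      have hC : K ≤ C(N) := (comm_mono le_rfl h).trans (comm_le_right (norm_C hN))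
      have hNp : PiGrp {p} N := by
        have := (Abel.nil (hNK.trans hC)).pcore_sup (π := {p})
        rw [hON N hN', sup_bot_eq] at this
        rw [← this]; exact pcore_pi
      haveI := hN'.normal
      obtain ⟨M, h1, h2, h3, h4⟩ := quo_comm hp N (hquot N hN1)
      have hS : Hall {p} N K := ⟨hNK, hNp, h3.of_dvd (relIndex_dvd_right hNK h4)⟩
      have hB := Burnside_normal_complement hp hS (inf_le_left.trans hC)
      rw [hON K hKn] at hB
      exact hnil (PiGrp.nil (p := p) hB.compl_of_eq_bot.of_compl_compl)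
  rw [← hKD]
  refine ⟨?_, fun h => hnil (abel_of_comm h).nil, hKX⟩
  haveI : Nontrivial K := (nontrivial_iff_ne_bot K).2 hminN.ne_bot
  refine ⟨fun L₀ hL₀ => ?_⟩
  by_contra hc
  push Not at hc
  have hL1 : L₀.map K.subtype ≠ ⊥ := fun h => hc.1 ((map_eq_bot_iff_of_injective _ K.subtype_injective).1 h)
  obtain ⟨L, hL, hLm⟩ := exists_minNorm hL1 (nml_map_subtype (X := L₀)).norm
  have hLK : L ⊴ K := ⟨hL.trans (map_subtype_le _), hLm.norm⟩
  have hpL : p ∣ Nat.card L := by
    by_contra h
    exact hLm.ne_bot (le_bot_iff.1 (hON K hKn ▸ le_pcore hLK ((piNat_compl_iff hp).2 h)))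
  obtain ⟨P, hP, hxP⟩ := exists_sylow_le hp hX le_top
  have hPL : Hall {p} (P ⊓ K ⊓ L) L := (hP.inf_nml hKn).inf_nml hLK
  obtain ⟨y, hy, hy1⟩ := exists_mem_ne_one' (hPL.ne_bot_p hp hpL)
  have hxy := H9.iso_commute_of_mem hiso hP.pi.isPGroup (hxP (mem_zpowers x)) hy.1.1
  have hxK : x ∈ N(K) := hKn.norm trivial
  have hLx : L ≤ cj x L := by
    refine hLm.le_of_inf_ne_bot ?_ (ne_bot_of_mem (x := y) ⟨hy.2, ?_⟩ hy1)
    · have := (hLK.cj x).norm
      rwa [cj_eq_self hxK] at this
    · have : y = x * y * x⁻¹ := by rw [← hxy.eq]; group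
      rw [this]; exact conj_mem_cj hy.2
  have hxL : x ∈ N(L) := mem_N_iff_cj.2 (eq_of_card_eq hLx card_cj.symm).symm
  have hLK' : L = K := hminN.min L hLK.le hLm.ne_bot (hKX ▸ sup_le hLm.norm (zpowers_le.2 hxL))
  refine hc.2 (eq_top_iff.2 fun y _ => ?_)
  obtain ⟨z, hz, e⟩ := hL (hLK'.ge y.2)
  have e' : z = y := Subtype.ext e
  rwa [← e']

end Cfsg.Agent.S2972
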