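import Cfsg.Statements.S2975
import Cfsg.Agent.H18.BG1
import Cfsg.Agent.H5.ZsP

set_option autoImplicit false
open Cfsg

namespace Cfsg.Agent.S2975
open H5
open H18 Subgroup H5.ZsP
open H1 (Cop cop_of_pi cop_of_pi')
open scoped commutatorElement

/-- Let G be a finite group, p a prime and x ∈ G an isolated element of order p (the only conjugate of x commuting with x is x) which is not central modulo the largest normal subgroup of order prime to p, while x is central modulo the largest normal subgroup of order prime to p in every proper subgroup containing x, and the image of x is so in every quotient of G by a nontrivial normal subgroup (a minimal counterexample to the Z*_p statement). Then for every prime q, every q-subgroup of G that is normalized by x and maximal among the q-subgroups normalized by x is either trivial or a Sylow q-subgroup of G; and C_G(x) permutes the x-invariant Sylow q-subgroups of G transitively by conjugation. -/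
theorem result {G : Type*} [Group G] [Finite G] {p : ℕ} [Fact p.Prime] (x : G) (hx : orderOf x = p) (hiso : Cfsg.IsIsolated x) (hnz : ¬ Cfsg.InZStar p x) (hmin : ∀ (H : Subgroup G) (hxH : x ∈ H), H ≠ ⊤ → Cfsg.InZStar p (⟨x, hxH⟩ : ↥H)) (hquot : ∀ (N : Subgroup G) [N.Normal], N ≠ ⊥ → Cfsg.InZStar p (QuotientGroup.mk x : G ⧸ N)) (q : ℕ) [Fact q.Prime] : (∀ Q : Subgroup G, IsPGroup q ↥Q → x ∈ Subgroup.normalizer (Q : Set G) → (∀ R : Subgroup G, IsPGroup q ↥R → x ∈ Subgroup.normalizer (R : Set G) → Q ≤ R → R = Q) → Q = ⊥ ∨ ∃ S : Sylow q G, (S : Subgroup G) = Q) ∧ (∀ S₁ S₂ : Sylow q G, x ∈ Subgroup.normalizer ((S₁ : Subgroup G) : Set G) → x ∈ Subgroup.normalizer ((S₂ : Subgroup G) : Set G) → ∃ c ∈ Subgroup.centralizer ({x} : Set G), (S₁ : Subgroup G).map (MulAut.conj c).toMonoidHom = (S₂ : Subgroup G)) := by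
  have hp : p.Prime := Fact.out
  have hq : q.Prime := Fact.out
  have hO := core_eq_bot hp hnz hquot
  have hX : PiGrp {p} (zpowers x) := piGrp_of_prime hp (by rw [card_zpowers', hx])
  refine ⟨fun Q hQ' hxQ hmax => ?_, fun S₁ S₂ h1 h2 => ?_⟩
  · have hQ := piGrp_of_isPGroup hq hQ'
    have hm : ∀ R, PiGrp {q} R → x ∈ N(R) → Q ≤ R → R = Q := fun R h => hmax R h.isPGroup
    by_cases hQ1 : Q = ⊥
    · exact Or.inl hQ1
    right
    refine Hall.exists_sylow_top hq ?_
    by_cases e : q = p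
    · subst e
      obtain ⟨P, hP, h⟩ := exists_sylow_le hq (hQ.sup_norm' hX (zpowers_le.2 hxQ)) le_top
      rw [← hm P hP.pi (le_N (h (mem_sup_right (mem_zpowers x)))) (le_sup_left.trans h)]
      exact hP
    have hQp : PiGrp {p}ᶜ Q := hQ.p'_of_ne e
    have hH : N(Q) ≠ ⊤ := fun h => hQ1 (le_bot_iff.1 (hO ▸ le_pcore ⟨le_top, h.ge⟩ hQp))
    have h1 := sub_comm hp hxQ (hmin _ hxQ hH)
    have hXH : zpowers x ≤ N(Q) := zpowers_le.2 hxQ
    set O := O[{p}ᶜ](N(Q)) with hOd
    have hOn : O ⊴ N(Q) := pcore_nml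
    have hQO : Q ≤ O := le_pcore nml_N hQp
    have hcop : Cop (zpowers x) O := cop_p'core hXH hX
    have hsup : N(Q) ≤ (N(Q) ⊓ C(zpowers x)) ⊔ O := by
      rw [← quo_le_quo_iff hOn.norm (inf_le_left.trans hOn.norm), quo_inf_cent' hcop hOn]
      exact le_inf le_rfl ((comm_le_iff_quo hOn.norm (hXH.trans hOn.norm)).1 h1)
    obtain ⟨R, hR, hQR, hXR⟩ := hcop.exists_sylow_ge hq hQO hQ hXH
    have eR := hm R hR.pi (hXR (mem_zpowers x)) hQR
    rw [eR] at hR
    obtain ⟨S, hS⟩ := exists_sylow hq (N(Q) ⊓ C(zpowers x))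
    have hSQ : S ≤ Q := by
      have := hm (Q ⊔ S) (hQ.sup_norm' hS.pi (hS.le.trans inf_le_left))
        (norm_sup hXH (cent_norm (cent_symm (hS.le.trans inf_le_right))) (mem_zpowers x)) le_sup_left
      exact le_sup_right.trans this.le
    have hQH : Hall {q} Q N(Q) := by
      refine hR.of_idx hOn.le ?_
      rw [le_antisymm hsup (sup_le inf_le_left hOn.le)]
      rw [relIndex_sup_of_norm (inf_le_left.trans hOn.norm)]
      exact hS.idx_of_le (hSQ.trans hQO)
    obtain ⟨P, hP, hQP⟩ := exists_sylow_le hq hQ le_top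
    have : Q = P := hP.pi.nil.eq_of_norm_le hQP (hQH.le_of_nml le_rfl inf_le_right hP.pi.inf_left)
    rw [this]; exact hP
  · obtain ⟨g, -, hg⟩ := sylow_conj hq (hall_sylow_top hq S₁) (hall_sylow_top hq S₂)
    rw [hg, ← cj_N, mem_cj] at h2
    obtain ⟨h, hh, e⟩ := conj_in hp (hX.elt (mem_zpowers x)) hiso h1 (g := g⁻¹) (by simpa using h2)
    refine ⟨g * h⁻¹, mem_C1.2 ?_, ?_⟩
    · conv_lhs => rw [← e]
      group
    · rw [← cj_def, hg, cj_mul, cj_eq_self (inv_mem hh)]

end Cfsg.Agent.S2975
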