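import Cfsg.Statements.S2976
import Cfsg.Agent.H29.Three
import Cfsg.Agent.H25.FieldAut
import Cfsg.Agent.H17.Pump
import Cfsg.Agent.H17.Bal
import Cfsg.Agent.H1.Harv3
import Cfsg.Agent.H13.Stem
import Cfsg.Agent.H13.SzAut

set_option autoImplicit false
open Cfsg

namespace Cfsg.Agent.S2976

open H18 Subgroup H29

open H13.Sz in
theorem fix {F : Type} [Field F] [Fintype F] {m : ℕ} [hF : IsSz F m] {β : MulAut (Cfsg.Sz F m)} (h : β ^ 3 = 1)
    (hs : ∀ R : Subgroup (Cfsg.Sz F m), (∀ x ∈ R, β x = x) → Solv R) : m = 1 := by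
  classical
  have : Finite (MulAut (Cfsg.Sz F m)) := Finite.of_injective _ DFunLike.coe_injective
  obtain ⟨g, σ, e⟩ := exists_conj_mul_fAut β
  set N := (MulAut.conj : Cfsg.Sz F m →* _).range
  have : N.Normal := ⟨by rintro _ ⟨x, rfl⟩ a; exact ⟨a x, by ext1 y; simp⟩⟩
  have gN : MulAut.conj g ∈ N := ⟨g, rfl⟩
  have h3 : σ ^ 3 = 1 := by
    have : (β : _ ⧸ N) = fAut F m σ := by rw [e, QuotientGroup.mk_mul, (QuotientGroup.eq_one_iff _).2 gN, one_mul]
    obtain ⟨k, hk⟩ := (QuotientGroup.eq_one_iff (N := N) (fAut F m (σ ^ 3))).1 (by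
      rw [map_pow, QuotientGroup.mk_pow, ← this, ← QuotientGroup.mk_pow, h, QuotientGroup.mk_one])
    exact eq_one_of_fAut_eq_conj hk.symm
  have n : PiGrp {3}ᶜ N := (piNat_compl_iff Nat.prime_three).2 fun a =>
    H27.not_three_dvd_Sz (a.trans (card_range_dvd _))
  have h1 := hall_of_sup' (piElt_of_pow_eq_one Nat.prime_three h).zpowers n (.inl norm_of_normal)
  have h2 := hall_of_sup' (piElt_of_pow_eq_one Nat.prime_three (x := fAut F m σ)
    (by rw [← map_pow, h3, map_one])).zpowers n (.inl norm_of_normal)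
  rw [show N ⊔ zpowers β = N ⊔ zpowers (fAut F m σ) from le_antisymm
    (sup_le le_sup_left (zpowers_le.2 (e ▸ mul_mem_sup' gN (mem_zpowers _))))
    (sup_le le_sup_left (zpowers_le.2 (by
      rw [← inv_mul_cancel_left (MulAut.conj g) (fAut F m σ), ← e]
      exact mul_mem_sup' (inv_mem gN) (mem_zpowers _))))] at h1
  obtain ⟨c, -, hc⟩ := sylow_conj Nat.prime_three h2 h1
  obtain ⟨ψ, hψ, rfl⟩ := mem_cj'.1 (hc.le (mem_zpowers β))
  by_cases a : ∃ c ∈ H25.fixF σ, c ≠ 0 ∧ c ≠ 1
  · obtain ⟨k, _⟩ := exists_isSz (m := m) _ a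
    have := hs (c.toMonoidHom.comp (szMap m k (H25.fixF σ).subtype)).range (by
      rintro _ ⟨w, rfl⟩
      have : ψ ∈ MulAction.stabilizer _ (szMap m k (H25.fixF σ).subtype w) := zpowers_le.2 (by
        rw [MulAction.mem_stabilizer_iff, MulAut.smul_def, fAut_apply, szMap_comp]
        congr 2; ext x; exact H25.mem_fixF.1 x.2) hψ
      simpa using this)
    exact absurd (Group.isSolvable_of_isSolvable_injective (f := MonoidHom.rangeRestrict
      (c.toMonoidHom.comp (szMap m k (H25.fixF σ).subtype))) fun _ _ e =>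
        (c.injective.comp (szMap_injective _)) (congrArg Subtype.val e)) not_isSolvable
  have h2 : Nat.card (H25.fixF σ) ≤ 2 := by
    rw [← Set.ncard_pair (zero_ne_one (α := F))]
    exact Set.ncard_le_ncard (fun x hx => by_contra fun k => a ⟨x, hx, by simpa using k⟩)
  have := H25.card_fixF σ
  have h4 : Nat.card (H25.fixF σ) ^ orderOf σ ≤ 2 ^ 3 := (Nat.pow_le_pow_left h2 _).trans
    (Nat.pow_le_pow_right two_pos (Nat.le_of_dvd three_pos (orderOf_dvd_of_pow_eq_one h3)))
  rw [this, Nat.card_eq_fintype_card, hF.card, Nat.pow_le_pow_iff_right one_lt_two] at h4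
  have := hF.hm
  omega

/-- Let G be a finite group, K a component of G whose order is not divisible by 3, and y ∈ G an element of order 3 whose centralizer C_G(y) is solvable. Then K ⧸ Z(K) is isomorphic to the Suzuki group over the field with 8 elements and y normalizes K. If moreover O₂(G) = 1, then K is simple. -/
theorem result {G : Type*} [Group G] [Finite G] (K : Subgroup G) (hK : Cfsg.IsComponent K) (h3 : ¬ 3 ∣ Nat.card ↥K) (y : G) (hy : orderOf y = 3) (hsol : Group.IsSolvable ↥(Subgroup.centralizer ({y} : Set G))) : (∃ (F : Type) (_ : Field F) (_ : Fintype F), Fintype.card F = 8 ∧ Nonempty (↥K ⧸ Subgroup.center ↥K ≃* ↥(Cfsg.Lie.Sz F 4))) ∧ y ∈ Subgroup.normalizer (K : Set G) ∧ (Cfsg.pCore 2 G = ⊥ → IsSimpleGroup ↥K) := by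
  have : Fact (Nat.Prime 3) := ⟨Nat.prime_three⟩
  have c := H17.isComp_top_iff.2 hK
  have y3 : y ^ 3 = 1 := hy ▸ pow_orderOf_eq_one y
  have hn : y ∈ N(K) := by_contra fun a =>
    have d := c.dg (p := 3) (by simp) (y3 ▸ one_mem _) a
    H17.qs_not_solvable (d.qs hK.2) (Solv.of_le hsol d.le_C1)
  have := hK.2.2
  have s := QuotientGroup.mk'_surjective (center K)
  obtain ⟨F, _, _, m, hF, ⟨e⟩⟩ := H27.isoSuzuki_iff.1 (sz_of_three (K ⧸ center K) (fun a =>
    H17.qs_not_solvable hK.2 (by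
      have : Group.IsSolvable (K ⧸ center K) := Group.isSolvable_of_comm a.1.1
      have : Group.IsSolvable (center K) := Group.isSolvable_of_comm fun a b => Subtype.ext (mem_center_iff.1 b.2 a)
      exact Group.isSolvable_of_ker_le_range (center K).subtype (QuotientGroup.mk' (center K)) (by simp)))
    fun a => h3 (a.trans (card_quotient_dvd_card _)))
  let f : K →* Cfsg.Sz F m := e.toMonoidHom.comp (QuotientGroup.mk' _)
  have hf : Function.Surjective f := e.surjective.comp s
  have hk : f.ker = center K := by ext x; simp [f]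
  have k : mker f = Z(K) := by rw [H9.MSi.mker_eq, hk, H17.map_subtype_center]
  obtain rfl : m = 1 := fix (β := MulAut.congr e (H17.autL K ⟨y, hn⟩))
    (by rw [← map_pow, ← map_pow, show (⟨y, hn⟩ : N(K)) ^ 3 = 1 from Subtype.ext y3, map_one, map_one]) fun R hR => by
      have a : ⁅zpowers y, mpre f R⁆ ≤ Z(K) := H1.comm_zpowers_le (norm_Z le_rfl hn) (mpre_le.trans nml_Z.norm)
        fun x hx => by
          obtain ⟨xK, xR⟩ := mem_mpre.1 hx
          have := hR _ xR
          rw [mfun_of_mem xK] at this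
          replace this : f ⟨_, conj_mem_N hn xK⟩ = f ⟨x, xK⟩ := by
            rw [← this]; simp [f, H17.autL_mk]
          rw [← k, commutatorElement_def, mem_mker, mfun_mul (conj_mem_N hn xK) (inv_mem xK), mfun_inv xK,
            mfun_of_mem (conj_mem_N hn xK), mfun_of_mem xK, this]
          exact ⟨mul_mem (conj_mem_N hn xK) (inv_mem xK), mul_inv_cancel _⟩
      have b : ⁅⁅zpowers y, mpre f R⁆, mpre f R⁆ = ⊥ := comm_eq_bot_iff.2 (a.trans (cent_mono le_rfl inf_le_right mpre_le))
      have d := comm_eq_bot_iff.1 (three_subgroup (by rwa [comm_comm (A := mpre f R)]) b)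
      rw [C_zpowers] at d
      rw [← mim_mpre (f := f) (U := R) (by rw [mim, subgroupOf_self, map_top_of_surjective _ hf]; exact le_top)]
      exact Solv.mim (solv_of_quo nml_der.norm (Abel.solv (abel_iff_der.2 (by
        rw [← mim_comm nml_der.norm nml_der.norm]; exact quo_eq_bot le_rfl))) (Solv.of_le hsol d))
  refine ⟨⟨F, _, _, hF.card, ⟨e.trans (H13.Sz.lieEquiv F 1)⟩⟩, hn, fun h2 => (H17.isSimpleGroup_of_qs hK.2 ?_).1⟩
  by_contra a
  obtain ⟨z, hz, hp⟩ := exists_prime_order a
  have := Fact.mk hp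
  by_cases p2 : orderOf z = 2
  · have := ((H17.subn_top_iff.2 hK.1).trans (.of_normal (zpowers_le.2 hz.1) (cent_norm (cent_symm
      (zpowers_le.2 hz.2))))).le_oP ((piGrp_of_prime Nat.prime_two (card_zpowers'.trans p2)).isPGroup) (mem_zpowers z)
    rw [H17.oP_top, h2, mem_bot] at this
    simp [this] at p2
  obtain ⟨P⟩ := Sylow.nonempty (p := orderOf z) (G := Cfsg.Sz F 1)
  have := H13.Sz.isCyclic_of_isPGroup p2 P.isPGroup'
  have h4 := H21.pow_index_mem_commutator ((P : Subgroup _).comap f) (z := ⟨z, hz.1⟩)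
    (mem_center_iff.2 fun g => Subtype.ext (hz.2 g g.2)) (by rw [Group.isPerfect_def.1 hK.2.1]; trivial)
  rw [index_comap_of_surjective _ hf, H13.comm_comap_of_isCyclic hk.le, mem_bot] at h4
  exact P.not_dvd_index (orderOf_dvd_of_pow_eq_one (congrArg Subtype.val h4))

end Cfsg.Agent.S2976
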