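import Cfsg.Statements.S3022
import Cfsg.Agent.H27.St2

set_option autoImplicit false
open Cfsg

namespace Cfsg.Agent.S3022

open H26 H27 Subgroup

open H118 H18.PU H27.St H4

/-- Let G be a finite group all of whose non-abelian simple sections are known simple groups, such that a Sylow 2-subgroup of G lies in exactly one maximal subgroup of G and C_G(O₂(G)) ≤ O₂(G). Let S be a Sylow 2-subgroup of G and A a group of automorphisms of S of odd order. Then some nontrivial A-invariant subgroup of S is normal in G. -/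
theorem result {G : Type*} [Group G] [Finite G] (hK : Cfsg.IsKGroup G) (hirr : ∀ S : Sylow 2 G, ∃! M : Subgroup G, IsCoatom M ∧ (S : Subgroup G) ≤ M) (hchar : Subgroup.centralizer (Cfsg.pCore 2 G : Set G) ≤ Cfsg.pCore 2 G) (S : Sylow 2 G) (A : Subgroup (MulAut ↥(S : Subgroup G))) (hA : Odd (Nat.card A)) : ∃ U : Subgroup G, U ≠ ⊥ ∧ U.Normal ∧ U ≤ (S : Subgroup G) ∧ ∀ a ∈ A, ∀ x : ↥(S : Subgroup G), (x : G) ∈ U → ((a x : ↥(S : Subgroup G)) : G) ∈ U := by
  by_contra hn
  have key : ∀ U ≤ (S : Subgroup G), (U.subgroupOf S).Characteristic → ⊤ ≤ 𝐍 U → U = ⊥ := fun U h1 h2 h3 =>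
    by_contra fun c => hn ⟨U, c, normal_of_top_le_normalizer h3, h1, fun a _ x hx => characteristic_iff_le_comap.1 h2 a hx⟩
  obtain ⟨M, hu⟩ := existsUnique_coatom_iff.1 (hirr S)
  have cp := charPOf_top.2 hchar
  have sy := isSyl_top S
  have ne : (S : Subgroup G) ≠ ⊥ := fun e => hu.lt.not_ge ((le_inf le_rfl (le_centralizer_iff.1 (sy.pCoreOf_le.trans
    (e.le.trans bot_le)))).trans (le_trans cp (sy.pCoreOf_le.trans hu.le)))
  have cB : ((𝐁 2 (S : Subgroup G)).subgroupOf S).Characteristic :=
    char_of_norm (by rw [map_bau MulAction.toPerm_injective]; exact n_bau le_rfl)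
  have h : PH 2 ⊤ (S : Subgroup G) M := ⟨cp, sy, hu, inf_le_right.trans (le_sup_right.trans
    (hu.all ((S : Subgroup G) ⊔ _) le_sup_left (lt_top_iff_ne_top.2 fun e => omegaOne_center_ne_bot sy.isP ne
      (key _ (oc_le _ _) (char_oc _) (e.ge.trans (sup_le (le_normalizer_omegaOne_center le_normalizer)
        (centralizer_le_normalizer _))))))), fun U h1 h2 h3 => key U (h1.trans (bau_le _))
          (characteristic_iff_le_comap.2 fun φ u hu => characteristic_iff_le_comap.1 h2
            ((subgroupOfEquivOfLe (bau_le _)).symm.trans ((MulAut.characteristic ((𝐁 2 (S : Subgroup G)).subgroupOf S) φ).trans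
              (subgroupOfEquivOfLe (bau_le _)))) (x := ⟨u, h1 hu⟩) hu) h3⟩
  set V := (VV 2 (⊤ : Subgroup G)).subgroupOf S
  have gd' : ∀ a : MulAut (S : Subgroup G), Gd (V.comap a.toMonoidHom) := fun a =>
    gd h (ι := (S : Subgroup G).subtype.comp a.toMonoidHom) ((S : Subgroup G).subtype_injective.comp a.injective) (by
      rw [MonoidHom.range_comp, MonoidHom.range_eq_top.2 a.surjective, ← MonoidHom.range_eq_map, range_subtype])
  set U := ⨆ a : A, V.comap (a : MulAut (S : Subgroup G)).toMonoidHom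
  have mV : V.map (S : Subgroup G).subtype = VV 2 ⊤ := map_subgroupOf_eq_of_le h.VT
  have u1 : U ≤ 𝐂 V := iSup_le fun a => le_of_odd (fun n => gd' _)
    (hA.of_dvd_nat ((orderOf_coe a).symm ▸ orderOf_dvd_natCard a))
  have u2 : V ≤ U := le_iSup (fun a : A => V.comap (a : MulAut (S : Subgroup G)).toMonoidHom) 1
  have u3 : U.Normal := by
    have := fun a : A => (gd' a).n
    infer_instance
  have v1 : VV 2 ⊤ ≤ U.map (S : Subgroup G).subtype := mV ▸ map_mono u2
  have v2 : U.map (S : Subgroup G).subtype ≤ 𝐎 2 ⊤ := (le_inf (map_subtype_le _)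
    (mV ▸ map_le_centralizer_map _ u1)).trans h.cV.le
  refine hn ⟨U.map (S : Subgroup G).subtype, fun e => h.hyp.2 (le_centralizer_iff.1 (v1.trans (e.le.trans bot_le))),
    normal_of_top_le_normalizer (sy.le_of_pResidualOf_le (le_normalizer_of_commutator_le
      ((commutator_mono v2 le_rfl).trans ((res_comm h).trans v1))) (normal_iff_le_normalizer_map_subtype.1 u3)),
    map_subtype_le _, fun a ha x hx => mem_map_of_mem _ ?_⟩
  have : U ≤ U.comap a.toMonoidHom := iSup_le fun b y hy =>
    le_iSup (fun a : A => V.comap (a : MulAut (S : Subgroup G)).toMonoidHom) (b * (⟨a, ha⟩ : A)⁻¹) (by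
      show (b : MulAut (S : Subgroup G)) (a.symm (a y)) ∈ V
      rwa [MulEquiv.symm_apply_apply])
  exact this ((mem_map_iff_mem (S : Subgroup G).subtype_injective).1 hx)

end Cfsg.Agent.S3022
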