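import Cfsg.Statements.S3038
import Cfsg.Agent.H19.IsoML
import Cfsg.Agent.H8.IsoRed

set_option autoImplicit false
open Cfsg

namespace Cfsg.Agent.S3038

/-- Let G be a finite group and p an odd prime with O_{p'}(G) = 1. Suppose that G has p-rank at most 2 and that some element x of order p is isolated in G and not central. Then F*(G) is a non-abelian simple group, and for every Sylow p-subgroup P of F*(G), either no conjugate of x lies in P and P is cyclic, or some conjugate of x lies in P and either P is extraspecial of order p³ and exponent p, or p = 3 and P has order 3^{2k+1} for some k ≥ 2 and is of maximal class (nilpotency class 2k). Since O_{p'}(G) = 1, such an x is not central modulo O_{p'}(G): the hypotheses describe a counterexample to the Z*_p statement in p-rank at most 2, and the conclusion records the structure it would have. -/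
theorem result {G : Type*} [Group G] [Finite G] {p : ℕ} [Fact p.Prime] (hp : p ≠ 2) (hcore : Cfsg.pPrimeCore p G = ⊥)
    (hrank : Cfsg.PRankLE p 2 G) (x : G) (hx : orderOf x = p) (hiso : Cfsg.IsIsolated x) (hnc : x ∉ Subgroup.center G) :
    IsSimpleGroup ↥(Cfsg.generalizedFittingSubgroup G) ∧ ¬ IsMulCommutative ↥(Cfsg.generalizedFittingSubgroup G) ∧
    ∀ P : Sylow p ↥(Cfsg.generalizedFittingSubgroup G),
      ((∀ g : G, g * x * g⁻¹ ∉ ((P : Subgroup ↥(Cfsg.generalizedFittingSubgroup G)).map (Cfsg.generalizedFittingSubgroup G).subtype)) ∧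
          IsCyclic ↥(P : Subgroup ↥(Cfsg.generalizedFittingSubgroup G))) ∨
      ((∃ g : G, g * x * g⁻¹ ∈ ((P : Subgroup ↥(Cfsg.generalizedFittingSubgroup G)).map (Cfsg.generalizedFittingSubgroup G).subtype)) ∧
        ((Cfsg.IsExtraspecial p ↥(P : Subgroup ↥(Cfsg.generalizedFittingSubgroup G)) ∧
            Nat.card (P : Subgroup ↥(Cfsg.generalizedFittingSubgroup G)) = p ^ 3 ∧
            ∀ y ∈ (P : Subgroup ↥(Cfsg.generalizedFittingSubgroup G)), y ^ p = 1) ∨
         (p = 3 ∧ ∃ k : ℕ, 2 ≤ k ∧ Nat.card (P : Subgroup ↥(Cfsg.generalizedFittingSubgroup G)) = 3 ^ (2 * k + 1) ∧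
            ∃ _ : Group.IsNilpotent ↥(P : Subgroup ↥(Cfsg.generalizedFittingSubgroup G)),
              Group.nilpotencyClass ↥(P : Subgroup ↥(Cfsg.generalizedFittingSubgroup G)) = 2 * k))) := by
  obtain ⟨h1, h2, h3⟩ := H8.red hp hcore hrank x hx hiso hnc fun L _ _ a b l c d e z => H19.Iso.ml3 hp a b c d e z
  refine ⟨h1, h2, fun P => ?_⟩
  have hp' : p.Prime := Fact.out
  have nF : (Cfsg.generalizedFittingSubgroup G).Normal := inferInstance
  generalize Cfsg.generalizedFittingSubgroup G = F at *
  by_cases hm : x ∈ F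
  · have a : commutator F = ⊤ := (h1.eq_bot_or_eq_top_of_normal _ inferInstance).resolve_left fun e =>
      h2 ((commutator_eq_bot_iff _).1 e)
    have b : Cfsg.PRankLE p 2 F := (H3.prank_le_iff_PRankLE hp').1
      ((H18.prank_mono hp' le_top).trans ((H18.prank_top_le_iff hp').2 hrank))
    have c : (⟨x, hm⟩ : F) ≠ 1 := fun e => hnc ((show x = 1 from congrArg Subtype.val e) ▸ one_mem _)
    have d : Cfsg.IsIsolated (⟨x, hm⟩ : F) := fun g hg => Subtype.ext (hiso g (hg.map F.subtype))
    obtain ⟨g, hg⟩ := H19.Iso.exists_conj_mem (l := (⟨x, hm⟩ : F))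
      ⟨1, Subtype.ext (by simp [← hx])⟩ P
    exact Or.inr ⟨⟨g, _, hg, rfl⟩, (H19.Iso.ml2 hp a b (by simpa using c) (H19.Iso.iso_conj d g) P hg).1⟩
  · refine Or.inl ⟨fun g hg => hm ?_, h3.resolve_left hm P⟩
    simpa [mul_assoc] using nF.conj_mem _ (Subgroup.map_subtype_le _ hg) g⁻¹

end Cfsg.Agent.S3038
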