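import Cfsg.Statements.S3161
import Cfsg.Agent.H17.InvC

set_option autoImplicit false
open Cfsg

namespace Cfsg.Agent.S3161

/-- Let Q be a non-abelian finite 2-group admitting commuting automorphisms α of order 2 and ρ of order 2^n − 1, where n ≥ 2, such that the fixed points of α form an elementary abelian subgroup of order 2^n on whose nonidentity elements the group generated by ρ acts transitively. Then Q is isomorphic to a Sylow 2-subgroup of the projective special unitary group of dimension 3 with parameter 2^n (realised over the field with 4^n elements) or of the projective special linear group of dimension 3 over the field with 2^n elements. -/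
theorem result {Q : Type*} [Group Q] [Finite Q] (hQ : IsPGroup 2 Q) (hna : ¬ IsMulCommutative Q) (n : ℕ) (hn : 2 ≤ n)
    (α ρ : MulAut Q) (hα : orderOf α = 2) (hρ : orderOf ρ = 2 ^ n - 1) (hc : Commute α ρ)
    (C : Subgroup Q) (hC : ∀ x : Q, x ∈ C ↔ α x = x) (hCE : Cfsg.IsElementaryAbelian 2 C ∧ Nat.card ↥C = 2 ^ n)
    (htr : ∀ x y : Q, x ∈ C → y ∈ C → x ≠ 1 → y ≠ 1 → ∃ k : ℕ, (ρ ^ k) x = y) :
    (∃ (F : Type) (_ : Field F) (_ : Fintype F), Fintype.card F = 4 ^ n ∧
        ∃ S : Sylow 2 (Cfsg.PSU 3 F (2 ^ n)), Nonempty (Q ≃* ↥(S : Subgroup (Cfsg.PSU 3 F (2 ^ n))))) ∨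
      (∃ (F : Type) (_ : Field F) (_ : Fintype F), Fintype.card F = 2 ^ n ∧
        ∃ S : Sylow 2 (Matrix.ProjectiveSpecialLinearGroup (Fin 3) F), Nonempty (Q ≃* ↥(S : Subgroup (Matrix.ProjectiveSpecialLinearGroup (Fin 3) F)))) := by
  have a2 : ∀ t, α (α t) = t := fun t => by simpa [pow_succ, hα] using MulEquiv.congr_fun (pow_orderOf_eq_one α) t
  rcases H17.IC.classify hn hQ a2 (MulEquiv.congr_fun hc) hC (fun x hx => (pow_two x).symm.trans (hCE.1.2 x hx)) hCE.2 hρ htr with
    ⟨m, -, -, h, -⟩ | ⟨-, h⟩ | ⟨F, _, _, h, h'⟩ | ⟨F, _, _, h, h'⟩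
  · exact absurd ⟨⟨h⟩⟩ hna
  · refine absurd ⟨⟨fun u v => ?_⟩⟩ hna
    rw [← inv_eq_of_mul_eq_one_right (h (u * v)), mul_inv_rev, inv_eq_of_mul_eq_one_right (h u), inv_eq_of_mul_eq_one_right (h v)]
  · exact .inl ⟨F, _, _, h.trans (by rw [← pow_mul, mul_comm, pow_mul]; rfl), default, h' _⟩
  · exact .inr ⟨F, _, _, h, default, h' _⟩

end Cfsg.Agent.S3161
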