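import Cfsg.Statements.S3175
import Cfsg.Agent.H27.Ru3
import Cfsg.Agent.H4.PSol2
import Cfsg.Agent.H3.Frobenius

set_option autoImplicit false
open Cfsg

namespace Cfsg.Agent.S3175

open H26 H27 Subgroup

/-- Let G be a finite group whose Sylow 2-subgroup T has order at least 2^14 and whose upper central series has fourth term of order 16; let W be the centralizer in T of the third term, and suppose the Frattini subgroup of W has order at most 8 and lies in every subgroup of W of index at most 16. Then the normalizer of T in G has a normal 2-complement, and W is weakly closed in T with respect to G. -/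
theorem result {G : Type*} [Group G] [Finite G]
    (T : Sylow 2 G) (ha : 2 ^ 14 ≤ Nat.card ↥(T : Subgroup G))
    (hb : Nat.card ↥(Subgroup.upperCentralSeries ↥(T : Subgroup G) 4) = 16)
    (W : Subgroup ↥(T : Subgroup G))
    (hW : W = Subgroup.centralizer ((Subgroup.upperCentralSeries ↥(T : Subgroup G) 3 : Subgroup ↥(T : Subgroup G)) : Set ↥(T : Subgroup G)))
    (hc : Nat.card ↥(frattini ↥W) ≤ 8)
    (hd : ∀ U : Subgroup ↥W, U.index ≤ 16 → frattini ↥W ≤ U) :
    Cfsg.HasNormalPComplement 2 ↥(Subgroup.normalizer ((T : Subgroup G) : Set G)) ∧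
      Cfsg.IsWeaklyClosed (W.map (T : Subgroup G).subtype) (T : Subgroup G) := by
  have h : Ru.Hyp W := ⟨T.isPGroup', ha, hb, hW, hc, hd⟩
  refine ⟨H3.frobenius_iff'.2 fun Q hQ g _ hg x hx => ?_, map_subtype_le _, fun g hg => ?_⟩
  · have h1 : Q.map (normalizer ((T : Subgroup G) : Set G)).subtype ≤ T :=
      (isSyl_top T).le_of_le_normalizer' (hQ.map _) le_top (map_subtype_le _)
    have h2 := h.aut (α := (T : Subgroup G).normalizerMonoidHom g) (Nat.coprime_two_right.1 hg)
      (by rw [← map_pow, pow_orderOf_eq_one, map_one])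
    have h3 := congrArg Subtype.val (DFunLike.congr_fun h2 ⟨x, h1 ⟨x, hx, rfl⟩⟩)
    exact Subtype.ext (mul_inv_eq_iff_eq_mul.1 h3).symm
  · have h1 := h.wc (W' := ((W.map (T : Subgroup G).subtype).map (MulAut.conj g).toMonoidHom).subgroupOf T)
      (((W.equivMapOfInjective _ (T : Subgroup G).subtype_injective).trans
        (equivMapOfInjective _ (MulAut.conj g).toMonoidHom (MulAut.conj g).injective)).trans (subgroupOfEquivOfLe hg).symm)
    rw [← map_subgroupOf_eq_of_le hg, h1]

end Cfsg.Agent.S3175
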