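import Cfsg.Statements.S3192
import Cfsg.Agent.H17.R3c

set_option autoImplicit false
open Cfsg

namespace Cfsg.Agent.S3192

open Subgroup Cfsg H18 H1 H117

/-- Simple groups of conjugate type rank three. For a finite group G consider the set of indices of the centralizers of the non-central elements of G. Then G is a non-abelian simple group for which this set has exactly three members if and only if G is isomorphic to PSL(2, 2^m) for some m ≥ 2. -/
theorem result (G : Type*) [Group G] [Finite G] :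
    (IsSimpleGroup G ∧ ¬ IsMulCommutative G ∧
        Set.ncard {m : ℕ | ∃ x : G, x ∉ Subgroup.center G ∧ m = (Subgroup.centralizer ({x} : Set G)).index} = 3) ↔
      ∃ (m : ℕ) (F : Type) (_ : Field F) (_ : Fintype F), 2 ≤ m ∧ Fintype.card F = 2 ^ m ∧
        Nonempty (G ≃* Matrix.ProjectiveSpecialLinearGroup (Fin 2) F) := by
  have eq : ∀ (X : Type _) [Group X] [Finite X], {m : ℕ | ∃ x : X, x ∉ center X ∧ m = C1(x).index} =
      {n : ℕ | 1 < n ∧ ∃ x : X, C1(x).index = n} := fun X _ _ => Set.ext fun n =>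
    ⟨fun ⟨x, h1, h2⟩ => ⟨h2 ▸ lt_of_le_of_ne (Nat.pos_of_ne_zero index_ne_zero_of_finite) (Ne.symm (mt center_iff_index.2 h1)),
      x, h2.symm⟩, fun ⟨h1, x, h2⟩ => ⟨x, fun k => h1.ne' (h2 ▸ center_iff_index.1 k), h2.symm⟩⟩
  rw [eq]
  constructor
  · rintro ⟨hs, nc, h⟩
    have hZ : center G = ⊥ := (hs.eq_bot_or_eq_top_of_normal _ inferInstance).resolve_right fun k =>
      nc ⟨⟨fun a b => mem_center_iff.1 (k ▸ mem_top b) a⟩⟩
    obtain ⟨F, _, _, ⟨n, h1, h2⟩, e⟩ := r3_main (G := G) (by rw [coe_top, centralizer_univ, hZ])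
      (fun k => nc ⟨⟨IsSimpleGroup.comm_iff_isSolvable.2 (solv_top_iff.1 k)⟩⟩) h.le
    exact ⟨n, F, _, _, h1, h2, e⟩
  · rintro ⟨n, F, _, _, h1, h2, ⟨e⟩⟩
    have h4 : 4 ≤ Fintype.card F := h2 ▸ H13.four_le h1
    have : IsSimpleGroup (Matrix.ProjectiveSpecialLinearGroup (Fin 2) F) :=
      Matrix.ProjectiveSpecialLinearGroup.rank_two_simple (F := F) (by rwa [Nat.card_eq_fintype_card])
    have k := Cfsg.Agent.S2507.result (F := F) (h2 ▸ dvd_pow_self 2 (by omega)) h4
    obtain ⟨j, hj⟩ : ∃ j, Fintype.card F = j + 1 := ⟨Fintype.card F - 1, by omega⟩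
    have e1 : Fintype.card F ^ 2 - 1 = j * j + 2 * j := by rw [hj, show (j + 1) ^ 2 = j * j + 2 * j + 1 by ring]; omega
    have e2 : Fintype.card F * (Fintype.card F + 1) = j * j + 3 * j + 2 := by rw [hj]; ring
    have e3 : Fintype.card F * (Fintype.card F - 1) = j * j + j := by rw [hj, Nat.add_sub_cancel]; ring
    rw [e1, e2, e3] at k
    have E : {n : ℕ | 1 < n ∧ ∃ x : G, C1(x).index = n} = {j * j + j, j * j + 2 * j, j * j + 3 * j + 2} := by
      ext t
      have : (∃ x : G, C1(x).index = t) ↔ t ∈ ({1, j * j + j, j * j + 2 * j, j * j + 3 * j + 2} : Set ℕ) := by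
        rw [← k]; exact ⟨fun ⟨x, hx⟩ => ⟨e x, (idx_equiv e x).trans hx⟩, fun ⟨x, hx⟩ => ⟨e.symm x, (idx_equiv e.symm x).trans hx⟩⟩
      simp only [Set.mem_setOf_eq, this, Set.mem_insert_iff, Set.mem_singleton_iff]
      omega
    refine ⟨e.isSimpleGroup, fun c => ?_, by rw [E]; exact Set.ncard_eq_three.2 ⟨_, _, _, by omega, by omega, by omega, rfl⟩⟩
    obtain ⟨h1, x, hx⟩ : j * j + j ∈ {n : ℕ | 1 < n ∧ ∃ x : G, C1(x).index = n} := E ▸ by simp
    exact h1.ne' (hx ▸ center_iff_index.1 (mem_center_iff.2 fun g => c.1.1 g x))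

end Cfsg.Agent.S3192
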