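import Cfsg.Statements.S3200
import Cfsg.Agent.S0564
import Cfsg.Agent.H23.FT1

set_option autoImplicit false
open Cfsg

namespace Cfsg.Agent.S3200

theorem aux {L : Type*} [Group L] [Finite L] (D : Subgroup L) (h : H18.Hall {2}ᶜ D ⊤) :
    ∃ P : Sylow 2 L, Subgroup.IsComplement' (P : Subgroup L) D :=
  have h' := H18.hall_sylow_top Nat.prime_two (default : Sylow 2 L)
  ⟨default, Subgroup.isComplement'_of_coprime (by simpa using h'.card_mul_compl h) (h'.pi.coprime h.pi)⟩

/-- Let H be a finite group in which a Sylow 2-subgroup has an abelian complement (an abelian subgroup meeting it trivially whose product with it is all of H). Then H is solvable, and every subgroup and every quotient group of H again has a Sylow 2-subgroup with an abelian complement. -/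
theorem result {H : Type*} [Group H] [Finite H]
    (S : Sylow 2 H) (C : Subgroup H) (hC : IsMulCommutative ↥C) (hSC : Subgroup.IsComplement' (S : Subgroup H) C) :
    Group.IsSolvable H ∧
    (∀ L : Subgroup H, ∃ (P : Sylow 2 ↥L) (D : Subgroup ↥L), IsMulCommutative ↥D ∧ Subgroup.IsComplement' (P : Subgroup ↥L) D) ∧
    (∀ (N : Subgroup H) [N.Normal], ∃ (P : Sylow 2 (H ⧸ N)) (D : Subgroup (H ⧸ N)),
      IsMulCommutative ↥D ∧ Subgroup.IsComplement' (P : Subgroup (H ⧸ N)) D) := by
  have hs : Group.IsSolvable H := S0564.result S C S.isPGroup'.isNilpotent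
    (open scoped IsMulCommutative in inferInstance) fun g => by
    obtain ⟨⟨a, b⟩, e⟩ := hSC.2 g
    exact ⟨a, a.2, b, b.2, e.symm⟩
  have hS := H18.hall_sylow_top Nat.prime_two S
  have hH : H18.Hall {2}ᶜ C ⊤ := ⟨le_top, by
    simpa [H18.PiGrp, hSC.symm.index_eq_card] using hS.idx, by
    simpa [hSC.index_eq_card] using hS.pi⟩
  refine ⟨hs, fun L => ?_, fun N _ => ?_⟩
  · obtain ⟨D, hD⟩ := H23.hall_exists (H := (⊤ : Subgroup L)) {2}ᶜ inferInstance
    obtain ⟨P, hP⟩ := aux D hD
    obtain ⟨g, -, hg⟩ := H23.hall_le_cj (X := D.map L.subtype) inferInstance hH le_top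
      (by rw [H18.PiGrp, Subgroup.card_map_of_injective L.subtype_injective]; exact hD.pi)
    refine ⟨P, D, ⟨⟨fun a b => Subtype.ext (Subtype.ext ((MulAut.conj g).injective ?_))⟩⟩, hP⟩
    simpa using congrArg Subtype.val (hC.is_comm.comm ⟨_, hg ⟨_, ⟨a, a.2, rfl⟩, rfl⟩⟩ ⟨_, hg ⟨_, ⟨b, b.2, rfl⟩, rfl⟩⟩)
  · obtain ⟨P, hP⟩ := aux (C.map (QuotientGroup.mk' N)) ⟨le_top, hH.pi.of_dvd (Subgroup.card_map_dvd ..), by
      simpa using hH.idx.of_dvd (by simpa using C.index_map_dvd (QuotientGroup.mk'_surjective N))⟩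
    exact ⟨P, _, inferInstance, hP⟩

end Cfsg.Agent.S3200
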