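import Cfsg.Statements.S3216
import Cfsg.Agent.H26.Jt9
import Cfsg.Agent.H1.Cores

set_option autoImplicit false
open Cfsg

namespace Cfsg.Agent.S3216

/-- Let G be a finite non-abelian simple group and t an involution of G; write C = C_G(t) and C̄ = C/O(C). If the subgroup of C̄ generated by its 2-elements (the smallest normal subgroup of C̄ of odd index) is isomorphic to Z₂ × PSL₂(q) for some prime power q > 3, then the Sylow 2-subgroups of G are elementary abelian of order 8. -/
theorem result {G : Type*} [Group G] [Finite G] [IsSimpleGroup G]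
    (hG : ¬ IsMulCommutative G) (t : G) (ht : orderOf t = 2) {F : Type*} [Field F] [Fintype F] (hF : 3 < Fintype.card F)
    (hL : Nonempty (↥(Subgroup.closure {x : (↥(Subgroup.centralizer ({t} : Set G)) ⧸ Cfsg.oddCore ↥(Subgroup.centralizer ({t} : Set G))) | ∃ k : ℕ, orderOf x = 2 ^ k}) ≃*
      (Multiplicative (ZMod 2) × Matrix.ProjectiveSpecialLinearGroup (Fin 2) F))) (S : Sylow 2 G) :
    Nat.card ↥(S : Subgroup G) = 8 ∧ ∀ x ∈ (S : Subgroup G), x ^ 2 = 1 := by
  have hno : ∀ H : Subgroup G, H.index ≠ 2 := by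
    intro H h
    have := Fact.mk Nat.prime_two
    rcases (Subgroup.normal_of_index_eq_two h).eq_bot_or_eq_top with rfl | rfl
    · rw [Subgroup.index_bot] at h
      exact hG (isCyclic_of_prime_card h).isMulCommutative
    · simp at h
  have tt : t * t = 1 := by rw [← pow_two, ← ht, pow_orderOf_eq_one]
  have h4 : 4 ≤ Nat.card F := by rw [Nat.card_eq_fintype_card]; omega
  have := Matrix.ProjectiveSpecialLinearGroup.rank_two_simple h4
  have nc := H10.not_comm_PSL2 (F := F)
  obtain ⟨D, hD⟩ : ∃ D : Sylow 2 (Matrix.ProjectiveSpecialLinearGroup (Fin 2) F),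
      (2 : F) = 0 → (D : Subgroup _) = (H326.Jt.uu F).range := by
    by_cases h : (2 : F) = 0
    · obtain ⟨D, hD⟩ := H326.Jt.uu_syl h
      exact ⟨D, fun _ => hD⟩
    · exact ⟨default, fun a => absurd a h⟩
  obtain ⟨e⟩ := hL
  have er : ((Subgroup.subtype _).comp e.symm.toMonoidHom).range = Subgroup.closure {x | ∃ k : ℕ, orderOf x = 2 ^ k} := by
    rw [MonoidHom.range_comp, MonoidHom.range_eq_top.2 e.symm.surjective, ← MonoidHom.range_eq_map, Subgroup.range_subtype]
  obtain ⟨ψ, i, t1, c, up, dn⟩ := H326.Jt.lift (Cfsg.oddCore ↥(Subgroup.centralizer ({t} : Set G)))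
    (H1.not_dvd_card_pPrimeCore Nat.prime_two) ((Subgroup.subtype _).comp e.symm.toMonoidHom)
    ((Subgroup.subtype_injective _).comp e.symm.injective) (fun x hx => by rw [er]; exact Subgroup.subset_closure hx)
    (by
      rw [er]
      refine ⟨fun n hn g => ?_⟩
      induction hn using Subgroup.closure_induction with
      | mem x hx =>
        obtain ⟨k, hk⟩ := hx
        exact Subgroup.subset_closure ⟨k, ((MulAut.conj g).orderOf_eq x).trans hk⟩
      | one => simp
      | mul x y _ _ a b => rw [← conj_mul]; exact Subgroup.mul_mem _ a b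
      | inv x _ a => rw [← conj_inv]; exact Subgroup.inv_mem _ a)
    (fun z hz => by
      rcases (inferInstance : (Subgroup.center (Matrix.ProjectiveSpecialLinearGroup (Fin 2) F)).Normal).eq_bot_or_eq_top
        with h | h
      · exact Subgroup.mem_bot.1 (h ▸ Subgroup.mem_center_iff.2 hz)
      · exact absurd ⟨⟨fun a b => Subgroup.mem_center_iff.1 (h ▸ Subgroup.mem_top b) a⟩⟩ nc)
    (fun φ l => by
      rcases (MonoidHom.normal_ker φ).eq_bot_or_eq_top with h | h
      · exact absurd ⟨⟨fun a b => (MonoidHom.ker_eq_bot_iff φ).1 h (by rw [map_mul, map_mul, mul_comm])⟩⟩ nc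
      · exact MonoidHom.mem_ker.1 (h ▸ Subgroup.mem_top l))
    (t := ⟨t, H326.Jt.mc.2 rfl⟩) (by rw [← ht, Subgroup.orderOf_mk]) (fun g => Subtype.ext (H326.Jt.mc.1 g.2)) D
  refine H326.Jt.main hno tt D hF hD ((Subgroup.subtype _).comp ψ) ((Subgroup.subtype_injective _).comp i)
    (fun ⟨x, hx⟩ => t1 ⟨x, Subtype.ext hx⟩) (fun x => (H326.Jt.mc.1 (ψ x).2).symm) c (fun l U hU => ?_) (fun g hg => ?_) S
  · obtain ⟨k, hk⟩ := up l U hU
    exact ⟨k, k.2, fun x hx y hy => congrArg Subtype.val (hk x hx y hy)⟩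
  · obtain ⟨θ, hθ⟩ := dn ⟨g, hg⟩
    refine ⟨θ, fun x hx => ?_⟩
    obtain ⟨y, y1, y2⟩ := hθ x (hx.imp (fun ⟨y, hy⟩ => ⟨y, Subtype.ext hy⟩) fun ⟨y, hy⟩ => ⟨y, Subtype.ext hy⟩)
    exact ⟨y, congrArg Subtype.val y1, y2⟩

end Cfsg.Agent.S3216
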