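import Cfsg.Statements.S3222
import Cfsg.Agent.H2.ZS4

set_option autoImplicit false
open Cfsg

open H2 H2.ZS H18 Subgroup

namespace Cfsg.Agent.S3222

/-- Let G be a finite group of even order such that (1) some involution t lying in the centre of a Sylow 2-subgroup of G has C_G(t) ≅ Z₂ × S₄, and (2) every Sylow 2-subgroup S of G satisfies C_G(S′) = S, where S′ is the derived subgroup of S. Then G = C_G(t) if G is solvable, and G ≅ S₆ otherwise. -/
theorem result {G : Type*} [Group G] [Finite G] (hev : Even (Nat.card G))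
    (t : G) (ht : orderOf t = 2) (T : Sylow 2 G) (htT : t ∈ (T : Subgroup G)) (htc : ∀ s ∈ (T : Subgroup G), s * t = t * s)
    (e : ↥(Subgroup.centralizer ({t} : Set G)) ≃* (Multiplicative (ZMod 2) × Equiv.Perm (Fin 4)))
    (h2 : ∀ S : Sylow 2 G, Subgroup.centralizer ((⁅(S : Subgroup G), (S : Subgroup G)⁆ : Subgroup G) : Set G) = (S : Subgroup G)) :
    (Group.IsSolvable G → Subgroup.centralizer ({t} : Set G) = ⊤) ∧
      (¬ Group.IsSolvable G → Nonempty (G ≃* Equiv.Perm (Fin 6))) := by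
  let ι : ℤˣ ≃* Multiplicative (ZMod 2) := mulEquivOfPrimeCardEq (p := 2) (by simp) (by simp)
  let e0 : H0 ≃* C1(t) := (ι.prodCongr (MulEquiv.refl _)).trans e.symm
  let σ : H0 →* G := C1(t).subtype.comp e0.toMonoidHom
  have inj : Function.Injective σ := C1(t).subtype_injective.comp e0.injective
  have rng : σ.range = C1(t) := by
    rw [MonoidHom.range_comp, MonoidHom.range_eq_top.2 e0.surjective, ← MonoidHom.range_eq_map, range_subtype]
  have st : σ τ = t := by
    obtain ⟨a, ha⟩ : t ∈ σ.range := rng ▸ C1_self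
    have k : ∀ b, a * b = b * a := fun b => inj (by
      rw [map_mul, map_mul, ha]; exact (mem_C1.1 (rng ▸ ⟨b, rfl⟩ : σ b ∈ C1(t))).symm)
    rcases d6 a (k _) (k _) with rfl | rfl
    · rw [← ha, map_one, orderOf_one] at ht; omega
    · exact ha
  have odd : ¬ 2 ∣ C1(t).index := fun h =>
    T.not_dvd_index (h.trans (index_dvd_of_le fun s hs => mem_C1.2 (htc s hs)))
  have h1 : Nat.card (C1(ζ).map σ) = 16 := by rw [card_map_of_injective inj, cardD]
  have h3 : C1(ζ).map σ ≤ C1(t) := rng ▸ map_le_range _ _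
  have h4 := H18.card_mul_relIndex h3
  rw [h1, ← Nat.card_congr e0.toEquiv, card0] at h4
  have h5 := h2 ((IsPGroup.of_card (n := 4) h1).toSylow (by
    rw [← relIndex_mul_index h3, show (C1(ζ).map σ).relIndex C1(t) = 3 by omega]; omega))
  have h : Hy σ := ⟨inj, st ▸ rng, st ▸ le_trans (fun g hg => h5.le (cent_symm (commutator_le.2 ?_)
    (mem_zpowers g))) h3, st ▸ odd⟩
  · rcases h.main with h6 | ⟨⟨f⟩⟩
    · rw [st] at h6
      refine ⟨fun _ => h6, fun hn => (hn ?_).elim⟩
      exact H5.burnside_paqb (a := 4) (b := 1) Nat.prime_two Nat.prime_three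
        (by rw [← card_top, ← h6, ← st, h.cardt]; rfl)
    · exact ⟨fun hs => (Equiv.Perm.not_isSolvable (Fin 6) (by simp; norm_num)
        (Group.isSolvable_of_surjective (f := f.toMonoidHom) f.surjective)).elim, fun _ => ⟨f⟩⟩
  rintro _ ⟨a, ha, rfl⟩ _ ⟨b, hb, rfl⟩
  rw [← map_commutatorElement, C_zpowers]
  rcases d8 a b (mem_C1.1 ha) (mem_C1.1 hb) with e | e <;> rw [e]
  exacts [map_one σ ▸ one_mem _, mem_C1_comm.1 hg]

end Cfsg.Agent.S3222
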