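import Cfsg.Statements.S3244
import Cfsg.Agent.S3109
import Cfsg.Agent.S0223
import Cfsg.Agent.H17.Misc
import Cfsg.Agent.H18.Bender2
import Cfsg.Agent.H2.LyB

set_option autoImplicit false
open Cfsg

namespace Cfsg.Agent.S3244
open Subgroup H9 H18

/-- Say that a finite group G is of characteristic 2 type in the early sense when a Sylow 2-subgroup S of G has a self-centralizing normal subgroup of rank at least 3, S normalizes no nontrivial subgroup of odd order, and every 2-local subgroup of G is 2-constrained. If G is a non-abelian simple group of characteristic 2 type in this sense, then for some maximal 2-local subgroup M of G the centre of O₂(M) is not cyclic. -/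
theorem result {G : Type*} [Group G] [Finite G] [IsSimpleGroup G]
    (hG : ¬ IsMulCommutative G) (S : Sylow 2 G) (A : Subgroup G) (hA : Cfsg.IsSCN (S : Subgroup G) A) (hA3 : ¬ Cfsg.PRankLE 2 2 ↥A)
    (hinv : ∀ X : Subgroup G, Odd (Nat.card ↥X) → (S : Subgroup G) ≤ Subgroup.normalizer (X : Set G) → X = ⊥)
    (hcon : ∀ T : Subgroup G, IsPGroup 2 ↥T → T ≠ ⊥ → Cfsg.IsPConstrained 2 ↥(Subgroup.normalizer (T : Set G))) :
    ∃ M : Subgroup G, Cfsg.IsMaximalTwoLocal M ∧ ¬ IsCyclic ↥(Subgroup.center ↥(Cfsg.pCore 2 ↥M)) := by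
  by_contra! hc
  have syl := hall_sylow_top Nat.prime_two S
  have h1 := Cfsg.Agent.S3109.result hG hcon S (A.subgroupOf S) ((normal_subgroupOf_iff_le_normalizer hA.1).2 hA.2.1)
    ⟨⟨fun a b => Subtype.ext (Subtype.ext ((hA.2.2.ge b.2).2 _ a.2))⟩⟩
    (SetLike.ext fun x => ⟨fun h => hA.2.2.le ⟨x.2, fun a ha => congrArg Subtype.val (h ⟨a, hA.1 ha⟩ ha)⟩,
      fun h a ha => Subtype.ext ((hA.2.2.ge h).2 _ ha)⟩)
    fun h => hA3 fun B b1 b2 => by
      have e := subgroupOfEquivOfLe hA.1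
      have := h (B.map e.symm.toMonoidHom) inferInstance (by
        rintro _ ⟨a, ha, rfl⟩; rw [← map_pow, b2 a ha, map_one])
      rwa [card_map_of_injective e.symm.injective] at this
  have nz : ∀ t : G, orderOf t = 2 → N(zpowers t) = C1(t) := fun t ht => le_antisymm (fun g hg => by
      rcases eq_one_or_eq_of_mem_zpowers (mul_self_of_orderOf ht) (conj_mem_of_mem_normalizer hg (mem_zpowers t)) with e | e
      · exact (ne_one_of_orderOf ht (by simpa using e)).elim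
      · exact mem_C1.2 (mul_inv_eq_iff_eq_mul.1 e))
    fun g hg => by rw [mem_N_iff_cj, cj_zpowers, mem_C1.1 hg, mul_inv_cancel_right]
  have pz : ∀ t : G, orderOf t = 2 → IsPGroup 2 (zpowers t) ∧ zpowers t ≠ ⊥ := fun t ht =>
    ⟨(two_zpowers (mul_self_of_orderOf ht)).isPGroup, by simpa using ne_one_of_orderOf ht⟩
  have ch : ∀ T : Subgroup G, IsPGroup 2 T → T ≠ ⊥ → H17.CharP 2 N(T) := fun T => H17.charP_local_of_inv fun t ht =>
    H17.charP_two_of_sub ⟨nz t ht ▸ hcon _ (pz t ht).1 (pz t ht).2,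
      (map_eq_bot_iff_of_injective _ (subtype_injective _)).1 (h1 t ht)⟩
  obtain ⟨B, b1, b2, b3⟩ : ∃ B : Subgroup A, IsMulCommutative B ∧ (∀ a ∈ B, a ^ 2 = 1) ∧ 2 ^ 2 < Nat.card B := by
    simpa [PRankLE] using hA3
  have : Fintype B := Fintype.ofFinite _
  obtain ⟨d, e, f, n1, n2, n3⟩ := Fintype.two_lt_card_iff.1 (show 2 < Fintype.card B by
    rw [← Nat.card_eq_fintype_card]; omega)
  have S1 : (S : Subgroup G) ≠ ⊥ := fun h => n1 (Subtype.ext (Subtype.ext
    ((mem_bot.1 (h ▸ hA.1 d.1.2)).trans (mem_bot.1 (h ▸ hA.1 e.1.2)).symm)))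
  obtain ⟨z, -, z1, z2⟩ := exists_central_involution S.isPGroup' ⊤ (by
    have := (nontrivial_iff_ne_bot _).2 S1; exact top_ne_bot)
  rw [← orderOf_coe] at z2
  have key : ∀ M, IsMaximalTwoLocal M → ∃ g : G, M = C1(g * z * g⁻¹) := fun M hM => by
    obtain ⟨T, t1, t2, rfl⟩ := hM.1
    obtain ⟨y, -, y1, y2⟩ := exists_central_involution (H1.pCore_isPGroup 2 N(T)) ⊤ (by
      have := (nontrivial_iff_ne_bot (pCore 2 N(T))).2 fun e => t2 (le_bot_iff.1 (by
        simpa [e] using H1.le_map_pCore le_normalizer le_rfl t1))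
      exact top_ne_bot)
    have uq : ∀ x : pCore 2 N(T), x ∈ center _ → orderOf x = 2 → x = y := fun x h1 h2 => by
      obtain ⟨c, hc⟩ := (hc _ hM).exists_generator
      have k : ∀ x (h : x ∈ center (pCore 2 N(T))), x ∈ zpowers (c : pCore 2 N(T)) := fun x h => by
        obtain ⟨i, e⟩ := hc ⟨x, h⟩
        exact ⟨i, congrArg Subtype.val e⟩
      exact (eq_one_or_eq_of_mem_zpowers (mul_self_of_orderOf y2) (mem_zpowers_of_orderOf_dvd (k x h1) (k y y1)
        (by rw [h2, y2]))).resolve_left (ne_one_of_orderOf h2)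
    have y3 : orderOf ((y : N(T)) : G) = 2 := by rw [orderOf_coe, orderOf_coe, y2]
    have e : C1(((y : N(T)) : G)) = N(T) := hM.2 _ ⟨_, (pz _ y3).1, (pz _ y3).2, (nz _ y3).symm⟩ fun g hg => by
      have := uq ⟨⟨g, hg⟩ * y * ⟨g, hg⟩⁻¹, (inferInstance : (pCore 2 N(T)).Normal).conj_mem _ y.2 _⟩
        (mem_center_iff.2 fun k => by
          have := congrArg Subtype.val (mem_center_iff.1 y1 ⟨⟨g, hg⟩⁻¹ * k * ⟨g, hg⟩,
            (inferInstance : (pCore 2 N(T)).Normal).conj_mem' _ k.2 _⟩)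
          apply Subtype.ext
          simpa [mul_assoc] using congrArg (fun x : N(T) => ⟨g, hg⟩ * x * ⟨g, hg⟩⁻¹) this)
        (by rw [← orderOf_coe]; exact H18.orderOf_conj.trans ((orderOf_coe y).trans y2))
      exact mem_C1.2 (mul_inv_eq_iff_eq_mul.1 (congrArg (fun x : pCore 2 N(T) => ((x : N(T)) : G)) this))
    obtain ⟨g, -, hg⟩ := sylow_le_cj' Nat.prime_two syl
      (piGrp_of_isPGroup Nat.prime_two (H1.map_pCore_isPGroup 2 N(T))) le_top
    have c : ∀ x ∈ (pCore 2 N(T)).map N(T).subtype, x * (g * z * g⁻¹) = g * z * g⁻¹ * x := fun x hx => by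
      have := congrArg Subtype.val (mem_center_iff.1 z1 ⟨_, mem_cj.1 (hg hx)⟩)
      simpa [mul_assoc] using congrArg (fun x => g * x * g⁻¹) this
    have m : g * z * g⁻¹ ∈ N(T) := e ▸ mem_C1.2 (c _ (mem_map_of_mem _ y.2)).symm
    obtain ⟨x, x1, x2⟩ := ch T t1 t2 ⟨m, c⟩
    have := uq ⟨x, x1⟩ (mem_center_iff.2 fun k => Subtype.ext (Subtype.ext (by
      simpa [← x2] using c _ (mem_map_of_mem _ k.2)))) (by
        rw [← orderOf_coe, ← orderOf_coe]; exact (congrArg orderOf x2).trans (H18.orderOf_conj.trans z2))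
    exact ⟨g, e.symm.trans (by rw [← x2, ← this]; rfl)⟩
  have mx : ∀ T : Subgroup G, PiGrp {2} T → T ≠ ⊥ → ∃ M, N(T) ≤ M ∧ IsMaximalTwoLocal M := fun T h1 h2 =>
    exists_maximal_sub IsTwoLocal ⟨T, h1.isPGroup, h2, rfl⟩
  obtain ⟨M, hM, mM⟩ := mx S syl.pi S1
  obtain ⟨g, rfl⟩ := key M mM
  have o : orderOf (g * z * g⁻¹) = 2 := H18.orderOf_conj.trans z2
  have ne : C1(g * z * g⁻¹) ≠ ⊤ := fun e => by
    rcases (inferInstance : (center G).Normal).eq_bot_or_eq_top with e' | e'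
    · exact ne_one_of_orderOf o (mem_bot.1 (e' ▸ mem_center_iff.2 fun x => mem_C1.1 (e ▸ mem_top x)))
    · exact hG ⟨⟨fun a b => mem_center_iff.1 (e' ▸ mem_top b) a⟩⟩
  have se := se_of_conj_family ne syl S1 hM fun T h2 h3 _ => by
    obtain ⟨M', h4, h5⟩ := mx T h2 h3
    obtain ⟨k, rfl⟩ := key M' h5
    exact ⟨k * g⁻¹, by rwa [cj_C1, show k * g⁻¹ * (g * z * g⁻¹) * (k * g⁻¹)⁻¹ = k * z * k⁻¹ by group]⟩
  have fin : ∀ p q : B, p ≠ q → (((p⁻¹ * q : B) : A) : G) = g * z * g⁻¹ := fun p q n => by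
    have o' : orderOf (((p⁻¹ * q : B) : A) : G) = 2 := by
      rw [orderOf_coe]
      exact orderOf_eq_prime (b2 _ (p⁻¹ * q).2) fun e => n (eq_of_inv_mul_eq_one (Subtype.ext e))
    obtain ⟨k, k1, k2⟩ := ((Cfsg.Agent.S0223.result _ ne se.2.1).1 se).2 _ (mem_C1.2 rfl) _
      (hM (le_normalizer (hA.1 (p⁻¹ * q).1.2))) o o' (isConj_iff.2 (H2.Ly.se_conj se (mul_self_of_orderOf o)
        (ne_one_of_orderOf o) (mul_self_of_orderOf o') (ne_one_of_orderOf o')))
    rw [← k2, mem_C1.1 k1, mul_inv_cancel_right]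
  exact n3 (mul_left_cancel (Subtype.ext (Subtype.ext ((fin d e n1).trans (fin d f n2).symm))))

end Cfsg.Agent.S3244
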