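import Cfsg.Statements.S3250
import Cfsg.Agent.H5.MS2
import Cfsg.Agent.H2.FT3b

set_option autoImplicit false
open Cfsg

namespace Cfsg.Agent.S3250
open H5
open Subgroup H9 H18 H5.MS

theorem coatom {G : Type*} [Group G] [Finite G] (h9 : ∀ c : Fin 10 → Subgroup G, ¬ StrictAnti c) {S : Subgroup G}
    (hS : Nat.card S = 2 ^ 7) (ht : S ≠ ⊤) : IsCoatom S := by
  refine ⟨ht, fun K hK => by_contra fun n => ?_⟩
  have k : ∀ (A : Subgroup G) (n : ℕ), Nat.card A = 2 ^ (n + 1) → ∃ B < A, Nat.card B = 2 ^ n := fun A n h => by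
    obtain ⟨B, h1, h2⟩ := exists_sub_card_pow (H := A) Nat.prime_two (n := n) (h ▸ pow_dvd_pow 2 n.le_succ)
    exact ⟨B, lt_of_le_of_ne h1 fun e => by rw [e, h, pow_succ] at h2; have := Nat.two_pow_pos n; omega, h2⟩
  obtain ⟨A6, l6, c6⟩ := k _ _ hS
  obtain ⟨A5, l5, c5⟩ := k _ _ c6
  obtain ⟨A4, l4, c4⟩ := k _ _ c5
  obtain ⟨A3, l3, c3⟩ := k _ _ c4
  obtain ⟨A2, l2, c2⟩ := k _ _ c3
  obtain ⟨A1, l1, c1⟩ := k _ _ c2
  obtain ⟨A0, l0, -⟩ := k _ _ c1
  refine h9 ![⊤, K, S, A6, A5, A4, A3, A2, A1, A0] (Fin.strictAnti_iff_succ_lt.2 fun i => ?_)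
  fin_cases i <;> first | assumption | exact lt_top_iff_ne_top.2 n

/-- With the length of a finite group defined as the maximum n for which there is a chain G = G₀ > G₁ > ⋯ > G_n = 1 of subgroups: a finite non-abelian simple group of length exactly 8 whose Sylow 2-subgroups have order 2⁷ is isomorphic to PSL₂(127). -/
theorem result {G : Type*} [Group G] [Finite G] [IsSimpleGroup G]
    (hG : ¬ IsMulCommutative G) (h8 : ∃ c : Fin 9 → Subgroup G, StrictAnti c) (h9 : ∀ c : Fin 10 → Subgroup G, ¬ StrictAnti c)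
    (S : Sylow 2 G) (hS : Nat.card ↥(S : Subgroup G) = 2 ^ 7) :
    ∃ (F : Type) (_ : Field F) (_ : Fintype F), Fintype.card F = 127 ∧ Nonempty (G ≃* Matrix.ProjectiveSpecialLinearGroup (Fin 2) F) := by
  classical
  have hZ : center G = ⊥ := (inferInstance : (center G).Normal).eq_bot_or_eq_top.resolve_right fun e =>
    hG ⟨⟨fun a b => mem_center_iff.1 (e ▸ mem_top b) a⟩⟩
  have syl := hall_sylow_top Nat.prime_two S
  have Sb : (S : Subgroup G) ≠ ⊥ := fun e => by simp [e] at hS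
  obtain ⟨z, -, z1, z2⟩ := exists_central_involution S.isPGroup' ⊤ (by
    have := (nontrivial_iff_ne_bot _).2 Sb; exact top_ne_bot)
  rw [← orderOf_coe] at z2
  have zc : ∀ s ∈ (S : Subgroup G), Commute s (z : G) := fun s hs => congrArg Subtype.val (mem_center_iff.1 z1 ⟨s, hs⟩)
  have zZ : (z : G) ∉ center G := fun e => ne_one_of_orderOf z2 (by simpa [hZ] using e)
  have ht : (S : Subgroup G) ≠ ⊤ := fun e => zZ (mem_center_iff.2 fun g => zc g (e ▸ mem_top g))
  have co := coatom h9 hS ht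
  have nm : ∀ U ≤ (S : Subgroup G), U ≠ ⊥ → (S : Subgroup G) ≤ N(U) → N(U) ≤ S := fun U h1 h2 h3 =>
    (co.le_iff.1 h3).elim (fun e => (ht (top_le_iff.1 (((normalizer_eq_top_iff.1 e).eq_bot_or_eq_top.resolve_left
      h2).ge.trans h1))).elim) Eq.le
  have cen : ∀ e ∈ (S : Subgroup G), e ≠ 1 → (∀ s ∈ (S : Subgroup G), Commute s e) → C1(e) = S := fun e he h1 hc => by
    have k : ∀ g, Commute g e → g ∈ N(zpowers e) := fun g hg => by rw [mem_N_iff_cj, cj_zpowers, cj_of_comm hg]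
    exact le_antisymm (fun g hg => nm _ (zpowers_le.2 he) (by simpa using h1) (fun s hs => k s (hc s hs))
      (k g (mem_C1'.1 hg))) fun s hs => mem_C1'.2 (hc s hs)
  have cz := cen z z.2 (ne_one_of_orderOf z2) zc
  have hp := H10.commutator_eq_top_of_simple hG
  obtain ⟨g, g1, g2⟩ : ∃ g : G, Commute (z : G) (g * z * g⁻¹) ∧ g * z * g⁻¹ ≠ z := by
    by_contra! c
    refine zZ (zstar_two_center c (k := 1) (by rw [pow_one, pow_two, mul_self_of_orderOf z2]) ?_)
    refine (inferInstance : (pPrimeCore 2 G).Normal).eq_bot_or_eq_top.resolve_right fun e => ?_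
    have := (H1.coprime_card_pPrimeCore 2 G).coprime_dvd_left (z2 ▸ orderOf_dvd_natCard _ (e ▸ mem_top (z : G)))
    simp at this
  obtain ⟨⟨x, y⟩, ⟨x1, y1, n, c⟩, mx⟩ := Set.exists_max_image
    {p : G × G | IsConj (z : G) p.1 ∧ IsConj (z : G) p.2 ∧ p.1 ≠ p.2 ∧ Commute p.1 p.2}
    (fun p => Nat.card (C1(p.1) ⊓ C1(p.2) : Subgroup G)) (Set.toFinite _)
    ⟨(z, g * z * g⁻¹), IsConj.refl _, isConj_iff.2 ⟨g, rfl⟩, g2.symm, g1⟩
  obtain ⟨k, rfl⟩ := isConj_iff.1 x1
  obtain ⟨a, rfl⟩ : ∃ a, y = k * a * k⁻¹ := ⟨k⁻¹ * y * k, by group⟩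
  simp only at n c y1 mx
  have aS : a ∈ (S : Subgroup G) := cz.le (mem_C1'.2 (by simpa [mul_assoc] using (comm_cj c k⁻¹).symm))
  have su : Su (S : Subgroup G) (z : G) a := ⟨syl, nm, z.2, mul_self_of_orderOf z2, ne_one_of_orderOf z2, zc, aS,
    y1.trans (isConj_iff.2 ⟨k, rfl⟩).symm, fun e => n (e ▸ rfl), fun x y h1 h2 h3 h4 => by
      have := mx (x, y) ⟨h1, h2, h3, h4⟩
      rwa [← cj_C1, ← cj_C1, ← cj_inf, card_cj, cz] at this⟩
  obtain ⟨n, x, m⟩ := mc_of_card_centralizer S.isPGroup' aS (su.card_le_four hS hp) fun e =>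
    su.DS.not_ge fun s hs => mem_R.2 ⟨hs, H1.isMulCommutative_iff.1 e s hs a aS⟩
  have zu : (z : G) = x ^ 2 ^ (n + 1) := (m.center_cases z.2 zc).resolve_left su.z1
  have ax : a ∉ zpowers x := fun e => su.az (((m.eq_one_or_eq_u e (su.sq su.za)).resolve_left fun e =>
    su.z1 (isConj_one_left.1 (e ▸ su.za))).trans zu.symm)
  rcases m.cases with h1 | h1 | ⟨-, h1⟩
  rotate_left
  · exact (m.u_ne_one ((h1 a aS ax).symm.trans (su.sq su.za))).elim
  · have a2 := su.sq su.za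
    have xa : x * a ∉ zpowers x := fun e => ax ((mul_mem_cancel_left (mem_zpowers x)).1 e)
    have q2 : x * a * (x * a) = z := by rw [m.sd_sq h1 aS ax, a2, mul_one, zu]
    have qS := mul_mem m.xmem aS
    have mem := fun g => mem_ext (g := g) (M := zpowers (x ^ 2)) (q := a)
      (fun b hb => by rw [m.inverts_sq aS ax hb]; exact inv_mem hb) (a2 ▸ one_mem _)
    have inv : ∀ g ∈ (S : Subgroup G), g * g = 1 → g ∈ zpowers (x ^ 2) ⊔ zpowers a := fun g hg g2 => by
      by_cases c : g ∈ zpowers x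
      · rcases m.eq_one_or_eq_u c g2 with rfl | rfl
        exacts [one_mem _, mem_sup_left m.u_mem_sq]
      · simpa using mul_mem (mem_sup_left (m.sd_mem_sq h1 aS hg ax c (g2.trans a2.symm))) (mem_sup_right (mem_zpowers a))
    refine (not_mem_der Nat.prime_two (K := zpowers (x ^ 2) ⊔ zpowers a) (m.commutator_eq.le.trans le_sup_left)
      S.not_dvd_index qS (fun e => ((mem _).1 e).elim (fun e => xa (m.sq_le e)) fun e => m.x_notMem_sq (by
        rwa [mul_assoc, a2, mul_one] at e)) (syl.pi.elt qS) (fun j g hg => ?_) (hp ▸ mem_top _)).elim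
    obtain ⟨j, rfl | rfl⟩ := Nat.even_or_odd' j
    · have k : ((x * a) ^ (2 * j)) * ((x * a) ^ (2 * j)) = 1 := by
        rw [pow_mul, pow_two, q2, ← (Commute.refl _).mul_pow, su.z2, one_pow]
      exact mul_mem (inv _ hg (H9.conj_sq k g)) (inv_mem (inv _ (pow_mem qS _) k))
    have k : ((x * a) ^ (2 * j + 1)) * ((x * a) ^ (2 * j + 1)) = z := by
      rw [← (Commute.refl _).mul_pow, q2, pow_succ, pow_mul, pow_two, su.z2, one_pow, one_mul]
    have k1 : g * z * g⁻¹ = z := by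
      have e : g * (x * a) ^ (2 * j + 1) * g⁻¹ * (g * (x * a) ^ (2 * j + 1) * g⁻¹) = g * z * g⁻¹ := by rw [conj_mul, k]
      have := (m.eq_one_or_eq_u (m.sq_le (m.sq_mem_sq hg)) (by rw [e]; exact H9.conj_sq su.z2 g)).resolve_left
        (by rw [e]; simpa using su.z1)
      rwa [e, ← zu] at this
    exact mem_sup_left (m.comm_mem_sq (cz.le (mem_C1'.2 (comm_of_cj k1))) (pow_mem qS _))
  obtain rfl : n = 4 := by have := m.card_eq; rw [hS, Nat.pow_right_inj one_lt_two] at this; omega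
  have d : 2 ^ 7 ∣ Nat.card G := hS ▸ card_subgroup_dvd_card (S : Subgroup G)
  have key : ∀ c : G, 64 ∣ orderOf c → orderOf c = 64 := fun c ⟨j, hj⟩ => by
    have p := orderOf_pos c
    have o : orderOf (c ^ (16 * j)) = 2 ^ 2 := by
      rw [orderOf_pow_of_dvd (by omega) ⟨4, by omega⟩, hj]; exact Nat.div_eq_of_eq_mul_left (by omega) (by ring)
    obtain ⟨g, -, hg⟩ := sylow_le_cj Nat.prime_two syl (piGrp_of_card_pow Nat.prime_two
      ((Nat.card_zpowers _).trans o)) le_top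
    have h2 := hg (conj_mem_cj (mem_zpowers _))
    have o' : orderOf (g * c ^ (16 * j) * g⁻¹) = 2 ^ (1 + 1) := H18.orderOf_conj.trans o
    have h3 : g * c ^ (16 * j) * g⁻¹ ∈ zpowers x := by_contra fun e => by
      have := orderOf_dvd_of_pow_eq_one ((pow_two _).trans (h1 _ h2 e))
      rw [o'] at this; omega
    have h4 := m.eq_u (pow_mem h3 2) (orderOf_sq o')
    have h5 : g * c * g⁻¹ ∈ (S : Subgroup G) := cz.le (mem_C1'.2 (by
      rw [zu, ← h4]; exact (comm_cj (Commute.self_pow c _) g).pow_right 2))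
    have := orderOf_dvd_of_mem_zpowers (m.mem_zpowers_of_orderOf h5 fun e => by
      rw [H18.orderOf_conj, hj] at e; have := Nat.le_of_dvd (by norm_num) e; omega)
    rw [H18.orderOf_conj, m.ordx] at this
    exact Nat.dvd_antisymm this ⟨j, hj⟩
  obtain ⟨F, _, _, h2, h3, ⟨e⟩⟩ | ⟨⟨e⟩⟩ := H22.gw_sylow hG S (m.equiv_dihedral h1).some
  swap
  · rw [H2.T3.card_a7 e] at d; omega
  refine ⟨F, inferInstance, inferInstance, ?_, ⟨e⟩⟩
  have g2 : Nat.gcd 2 (Fintype.card F - 1) = 2 := Nat.gcd_eq_left (Nat.Odd.sub_odd h2 odd_one).two_dvd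
  obtain ⟨-, c, -, hc, -⟩ := H10.exists_dihedral_nonsplit (F := F)
  obtain ⟨-, c', -, hc', -⟩ := H10.exists_dihedral_split (F := F) h3
  rw [g2, ← e.symm.orderOf_eq] at hc hc'
  have h4 := H10.card_of_PSL2 h2 e
  obtain ⟨j, hj⟩ := h2
  have h5 : 2 ^ 6 ∣ j * (j + 1) := by
    obtain ⟨m, hm⟩ := d
    refine (Nat.Coprime.pow_left 6 (Nat.coprime_two_left.2 ⟨j, rfl⟩)).dvd_of_dvd_mul_left ⟨m, ?_⟩
    rw [hj, hm, Nat.add_sub_cancel] at h4
    linarith
  rcases Nat.even_or_odd j with o | o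
  · have := key (e.symm c') (by
      rw [hc', hj, show (2 * j + 1 - 1) / 2 = j by omega]
      exact (Nat.Coprime.pow_left 6 (Nat.coprime_two_left.2 o.add_one)).dvd_of_dvd_mul_right h5)
    obtain ⟨p, i, hp, -, hi⟩ := (isPrimePow_nat_iff _).1 (FiniteField.isPrimePow_card F)
    rw [show Fintype.card F = 129 by omega] at hi
    obtain rfl := (Nat.prime_dvd_prime_iff_eq Nat.prime_three hp).1 (Nat.prime_three.dvd_of_dvd_pow (n := i) (by rw [hi]; norm_num))
    have := (by norm_num : Nat.Prime 43).dvd_of_dvd_pow (n := i) (m := 3) (by rw [hi]; norm_num)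
    omega
  · have := key (e.symm c) (by
      rw [hc, hj, show (2 * j + 1 + 1) / 2 = j + 1 by omega]
      exact (Nat.Coprime.pow_left 6 (Nat.coprime_two_left.2 o)).dvd_of_dvd_mul_left h5)
    omega

end Cfsg.Agent.S3250
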