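import Cfsg.Statements.S3258
import Cfsg.Agent.H29.Hom
import Cfsg.Agent.H29.Free

set_option autoImplicit false
open Cfsg

namespace Cfsg.Agent.S3258

open H18 Subgroup H1 H29
open scoped MatrixGroups
universe u
section
variable {σ : Set ℕ} {X : Type*} [Group X] [Finite X]

/-- `σ'`-subgroups are `2`-closed -/
def TC (σ : Set ℕ) (X : Type*) [Group X] : Prop := ∀ H : Subgroup X, PiGrp σᶜ H → Hall {2} O[{2}](H) H

theorem TC.sec {G : Type u} [Group G] [Finite G] {D : Subgroup G} {f : D →* X} (h : TC σ G) (hf : mim f D = ⊤)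
    (hk : Clo σ (mker f)) : TC σ X := fun U hU => by
  obtain ⟨L, hL, rfl⟩ := lift_pi hf hk hU
  exact ((h L hL.pi).mim (hL.le.trans mpre_le)).pcore_hall pcore_nml.mim.norm

theorem TC.solv (h : TC σ X) (h2 : 2 ∉ σ) {M : Subgroup X} (c : Clo σ M) : Solv M := by
  obtain ⟨L, hL⟩ := c.exists_compl pcore_nml.norm
  obtain ⟨K, hK⟩ := (h L hL.pi).exists_compl pcore_nml.norm
  rw [← c.sup_compl hL, ← (h L hL.pi).sup_compl hK]
  exact Solv.sup (solv_of_not_mem pcore_pi h2) (Solv.sup pcore_pi.solv (solv_of_two' hK.pi)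
    (.inr (hK.le.trans pcore_nml.norm))) (.inr (((h L hL.pi).sup_compl hK).le.trans (hL.le.trans pcore_nml.norm)))

theorem TC.real (h : TC σ X) (h2 : 2 ∉ σ) {k g : X} {r : ℕ} (hr : r.Prime) (r2 : r ≠ 2) (a : r ∉ σ) (hk : k ^ r = 1)
    (hg : g * k * g⁻¹ = k⁻¹) : k = 1 := by
  have kr := piElt_of_pow_eq_one hr hk
  obtain ⟨j, m, ⟨n, rfl⟩, e⟩ := Nat.exists_eq_two_pow_mul_odd (orderOf_pos g).ne'
  have c : g ^ 2 ∈ C1(k) := mem_C1.2 (by
    rw [← mul_inv_eq_iff_eq_mul]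
    calc _ = g * (g * k * g⁻¹) * g⁻¹ := by simp [pow_two, mul_assoc]
      _ = (g * k * g⁻¹)⁻¹ := by rw [conj_inv, hg]
      _ = k := by rw [hg, inv_inv])
  have ht : g ^ (2 * n + 1) * k * (g ^ (2 * n + 1))⁻¹ = k⁻¹ := by
    rw [pow_succ', pow_mul, mul_inv_rev, mul_assoc g, mul_assoc g, ← mul_assoc (_ * k),
      conj_eq_self_of_C1 (pow_mem c n), ← mul_assoc, hg]
  have t2 : PiElt {2} (g ^ (2 * n + 1)) := (piNat_pow_self Nat.prime_two j).of_dvd
    (orderOf_dvd_of_pow_eq_one (by rw [← pow_mul, mul_comm, ← e, pow_orderOf_eq_one]))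
  generalize g ^ (2 * n + 1) = t at ht t2
  have := h _ ((PiElt.zpowers (kr.of_p a)).sup_norm' (PiElt.zpowers (t2.of_p h2))
    (zpowers_le.2 (mem_N_iff_cj.2 (by rw [cj_zpowers, ht, zpowers_inv]))))
  have m := this.mem_of_nml pcore_nml.norm (mem_sup_right (mem_zpowers t)) t2
  have m' := mul_mem m (conj_mem pcore_nml.norm (mem_sup_left (mem_zpowers k)) (inv_mem m))
  rw [← mul_assoc, ← mul_assoc, ht, ← mul_inv_rev] at m'
  have k2 : k ^ 2 = 1 := ((pow_two k ▸ pcore_pi.elt ((inv_mem_iff.1 m'))) : PiElt {2} (k ^ 2)).eq_one'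
    ((kr.pow' 2).p'_of_ne r2)
  exact orderOf_eq_one_iff.1 (Nat.eq_one_of_dvd_coprimes ((Nat.coprime_primes hr Nat.prime_two).2 r2)
    (orderOf_dvd_of_pow_eq_one hk) (orderOf_dvd_of_pow_eq_one k2))

theorem TC.cent (h : TC σ X) (hh : Homog σ X) (h2 : 2 ∉ σ) {U : Subgroup X} (hU : PiGrp σᶜ U) {k g : X} {r : ℕ}
    (hr : r.Prime) (r2 : r ≠ 2) (hk : k ^ r = 1) (hn : k ∈ N(U)) (hg : g * k * g⁻¹ = k⁻¹) : k ∈ C(U) := by
  by_cases a : r ∈ σ
  · exact H29.Homog.cent hh hU ((piElt_of_pow_eq_one hr hk).of_p a) hn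
  · exact h.real h2 hr r2 a hk hg ▸ one_mem _

theorem four {a b k : X} (ha : a ^ 2 = 1) (hb : b ^ 2 = 1) (c : a * b = b * a) (h1 : k * a * k⁻¹ = b)
    (h2 : k * b * k⁻¹ = a * b) (ne : a ≠ b) : ∃ U : Subgroup X, PiGrp {2} U ∧ k ∈ N(U) ∧ k ∉ C(U) :=
  ⟨zpowers a ⊔ zpowers b, (piElt_of_pow_eq_one Nat.prime_two ha).zpowers.sup_norm
    (piElt_of_pow_eq_one Nat.prime_two hb).zpowers (zpowers_le.2 (C1_le_N_zpowers (mem_C1.2 c))),
    mem_N_of_cj_le (by
      rw [cj_sup, cj_zpowers, cj_zpowers, h1, h2]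
      exact sup_le le_sup_right (zpowers_le.2 (mul_mem_sup' (mem_zpowers a) (mem_zpowers b)))),
    fun e => ne (by rw [← h1, ← mem_C.1 e a (mem_sup_left (mem_zpowers a)), mul_inv_cancel_right])⟩

theorem s4 (h : TC σ (Equiv.Perm (Fin 4))) (hh : Homog σ (Equiv.Perm (Fin 4))) (h2 : 2 ∉ σ) : False := by
  obtain ⟨U, a, b, c⟩ := four (X := Equiv.Perm (Fin 4)) (a := .swap 0 1 * .swap 2 3) (b := .swap 1 2 * .swap 0 3)
    (k := .swap 0 1 * .swap 1 2) (by decide) (by decide) (by decide) (by decide) (by decide) (by decide)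
  exact c (h.cent hh h2 (a.of_p h2) (g := .swap 0 1) Nat.prime_three (by decide) (by decide) b (by decide))

open H10 OnePoint in
theorem psl {F : Type} [Field F] [Fintype F] (hF : 4 ≤ Fintype.card F) (h : TC σ PSL(2, F)) (hh : Homog σ PSL(2, F))
    (h2 : 2 ∉ σ) : False := by
  classical
  obtain ⟨p, hp⟩ := CharP.exists F
  obtain ⟨n, pp, hn⟩ := FiniteField.card F p
  have := Fact.mk pp
  have key : p ∉ σ ∧ ¬ 4 ∣ Fintype.card F - 1 := by
    by_cases e : p = 2
    · subst e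
      have : 2 ∣ Fintype.card F := hn ▸ dvd_pow_self 2 n.pos.ne'
      exact ⟨h2, by omega⟩
    obtain ⟨a, c, e⟩ := exists_root_of_odd (K := F) (fun a => e ((Nat.prime_dvd_prime_iff_eq pp Nat.prime_two).1
      ((CharP.cast_eq_zero_iff F p 2).1 (by exact_mod_cast a)))) 1
    obtain ⟨H, ⟨e⟩⟩ := exists_A4_of_root e
    let f := H.subtype.comp e.symm.toMonoidHom
    have i : Function.Injective f := H.subtype_injective.comp e.symm.injective
    obtain ⟨a, b, k, h1, h3, h4, h5, h6, h7, h8⟩ : ∃ a b k : alternatingGroup (Fin 4), a ^ 2 = 1 ∧ b ^ 2 = 1 ∧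
      a * b = b * a ∧ k * a * k⁻¹ = b ∧ k * b * k⁻¹ = a * b ∧ a ≠ b ∧ k ^ 3 = 1 := by decide +kernel
    obtain ⟨U, a, b, c⟩ := four (a := f a) (b := f b) (k := f k) (by rw [← map_pow, h1, map_one])
      (by rw [← map_pow, h3, map_one]) (by rw [← map_mul, h4, map_mul]) (by rw [← h5]; simp only [map_mul, map_inv])
      (by rw [← map_mul, ← map_inv, ← map_mul, h6, map_mul]) (i.ne h7)
    have h3 : 3 ∉ σ := fun s => c (H29.Homog.cent hh (a.of_p h2)
      ((piElt_of_pow_eq_one Nat.prime_three (by rw [← map_pow, h8, map_one])).of_p s) b)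
    obtain ⟨j, hj⟩ := H27.r3_PSL_iff.1 fun (x g : PSL(2, F)) h1 e => h.real h2 Nat.prime_three (by decide) h3 h1 e
    have : 3 ^ (2 * j + 1) % 4 = 3 := by rw [pow_succ, pow_mul, Nat.mul_mod, Nat.pow_mod]; simp
    refine ⟨fun s => h3 ((Nat.prime_dvd_prime_iff_eq pp Nat.prime_three).1 (pp.dvd_of_dvd_pow (n := 2 * j + 1)
      (by rw [← hj, hn]; exact dvd_pow_self p n.pos.ne')) ▸ s), by omega⟩
  obtain ⟨r, hr, hd, ro⟩ := (Nat.four_dvd_or_exists_odd_prime_and_dvd_of_two_lt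
    (by omega : 2 < Fintype.card F - 1)).resolve_left key.2
  have := Fact.mk hr
  obtain ⟨a, ha⟩ := exists_prime_orderOf_dvd_card' (G := Fˣ) r (by rwa [Nat.card_units, Nat.card_eq_fintype_card])
  have r2 : r ≠ 2 := by rintro rfl; exact absurd ro (by decide)
  have c := centralP'_of_injective p (ι_injective (K := F))
  have := h.cent hh h2 ((piGrp_of_isPGroup pp (c.isPGroup_pAt ∞)).of_p key.1)
    (k := π F (slMk (a : F) 0 0 a⁻¹ (by simp))) (g := π F (slMk 0 1 (-1) 0 (by simp))) hr r2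
    (by rw [← map_pow, slMk_diag_pow a.ne_zero, ← map_one (π F), ← slMk_one]
        simp [← Units.val_pow_eq_pow_val, ← ha, pow_orderOf_eq_one])
    (c.mem_normalizer_pAt (by rw [ι_π, toPGL_slMk, mob_smul_infty_eq_infty_iff]))
    (by rw [mul_inv_eq_iff_eq_mul, eq_inv_mul_iff_mul_eq, ← map_mul, ← map_mul, slMk_mul, slMk_mul]
        congr 2 <;> simp)
  have := mem_C.1 this (π F (slMk 1 1 0 1 (by simp))) (c.mem_pAt.2 ⟨by
    rw [ι_π, toPGL_slMk, mob_smul_infty_eq_infty_iff], 1, ι_injective (by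
      rw [map_pow, ι_π, toPGL_slMk, map_one]
      exact (aff_one_pow 1 _).trans (aff_eq_one_iff.2 ⟨rfl, by simp⟩))⟩)
  rw [← map_mul, ← map_mul, slMk_mul, slMk_mul, π_eq_iff, slMk_neg, slMk_inj, slMk_inj] at this
  have e : (a : F)⁻¹ = a := by
    obtain ⟨-, e, -⟩ | ⟨e, e', -⟩ := this
    · simpa using e
    · linear_combination e' - e
  refine r2 ((Nat.prime_dvd_prime_iff_eq hr Nat.prime_two).1 (ha ▸ orderOf_dvd_of_pow_eq_one (Units.ext ?_)))
  rw [Units.val_pow_eq_pow_val, pow_two]; nth_rw 1 [← e]; simp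

theorem simple (h2 : 2 ∉ σ) (S : Type u) [Group S] [Finite S] [IsSimpleGroup S] (h : TC σ S) (hh : Homog σ S) :
    IsMulCommutative S := by
  induction' e : Nat.card S using Nat.strong_induction_on with n ih generalizing S
  subst e
  by_contra na
  have ns := H27.not_solvable_of_simple na
  have cl : ∀ M : Subgroup S, M ≠ ⊤ → Clo σ M := closed_ind hh (· ≠ ⊤)
    (fun K M a b e => a (top_le_iff.1 (e ▸ b.le))) fun D X _ _ _ f hD hf hk hX a => (a (ih _ (by
      rw [← card_top, ← hf]; exact card_mim_le.trans_lt (by simpa using card_lt (lt_top_iff_ne_top.2 hD)))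
      X (h.sec hf hk) hX rfl)).elim
  obtain ⟨H, hH⟩ | ⟨F, _, _, hF, ⟨e⟩⟩ := ms_of_free (G := S) ⟨inferInstance, na, fun M a => h.solv h2 (cl M a)⟩ (by
    rintro ⟨K, R, _, ⟨e⟩⟩
    have s : Function.Surjective (e.toMonoidHom.comp (QuotientGroup.mk' _)) :=
      e.surjective.comp (QuotientGroup.mk'_surjective _)
    by_cases a : K = ⊤
    · subst a
      obtain ⟨f⟩ := H27.equiv_of_simple (topEquiv (G := S)) s
      exact ns (H10.isSolvable_of_card_dvd_24 (by rw [← Nat.card_congr f.toEquiv, Nat.card_perm, Nat.card_fin]; decide))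
    have hf : mim (e.toMonoidHom.comp (QuotientGroup.mk' _)) K = ⊤ := by
      rw [mim, subgroupOf_self, map_top_of_surjective _ s]
    have hk := (cl K a).pcore_of_le (mker_le (f := e.toMonoidHom.comp (QuotientGroup.mk' _)))
    exact s4 (h.sec hf hk) (H29.Homog.sec hh hf hk) h2)
  · obtain ⟨Q, t, a, -⟩ := H9.bender_simple hH
    obtain ⟨K, V, W, Q₀, s, z⟩ := a.exists_suz
    obtain ⟨k, hk, hr⟩ := exists_prime_order (z.K_ne_iff.2 (H19.two_lt_of_simple z))
    have := h.cent hh h2 (z.pi₀.of_p h2) hr (fun e => by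
      have := z.oddK.of_dvd_nat (orderOf_dvd_card hk); rw [e] at this; exact absurd this (by decide))
      (pow_orderOf_eq_one k) (z.nQ₀D (z.leK hk)) (g := t) (by rw [a.ti, z.invK hk])
    exact z.s_ne (eq_one_of_eq_bot (z.semireg k hk fun e => by simp [e, Nat.not_prime_one] at hr)
      ⟨z.sQ, mem_C1.2 (mem_C.1 this s z.sQ₀)⟩)
  · let f : (⊤ : Subgroup S) →* PSL(2, F) := (topEquiv.trans e).toMonoidHom
    have hf : mim f ⊤ = ⊤ := by rw [mim, subgroupOf_self, map_top_of_surjective _ (topEquiv.trans e).surjective]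
    have hk : Clo σ (mker f) := cl _ fun a => by
      have := mim_mker (f := f)
      rw [a, hf] at this
      have := e.symm.toEquiv.nontrivial
      exact top_ne_bot ‹⊤ = ⊥›
    exact psl hF (h.sec hf hk) (H29.Homog.sec hh hf hk) h2

end

/-- Let π be a set of primes containing 2 and G a finite group all of whose π-subgroups (subgroups whose order is divisible only by primes in π) have a normal Sylow 2-subgroup. Then the π'-elements of G (elements whose order is divisible by no prime in π) form a subgroup if and only if N_G(H)/C_G(H) is a π-group for every nontrivial π-subgroup H of G. -/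
theorem result {G : Type*} [Group G] [Finite G] (π : Set ℕ) (h2 : 2 ∈ π)
    (hcl : ∀ H : Subgroup G, (∀ p : ℕ, p.Prime → p ∣ Nat.card ↥H → p ∈ π) → ∀ P : Sylow 2 ↥H, (P : Subgroup ↥H).Normal) :
    (∃ K : Subgroup G, ∀ x : G, x ∈ K ↔ ∀ p : ℕ, p.Prime → p ∣ orderOf x → p ∉ π) ↔
      (∀ H : Subgroup G, H ≠ ⊥ → (∀ p : ℕ, p.Prime → p ∣ Nat.card ↥H → p ∈ π) →
        ∀ p : ℕ, p.Prime → p ∣ (Subgroup.centralizer (H : Set G)).relIndex (Subgroup.normalizer (H : Set G)) → p ∈ π) := by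
  obtain ⟨σ, rfl⟩ : ∃ σ, π = σᶜ := ⟨πᶜ, (compl_compl π).symm⟩
  simp only [Set.mem_compl_iff (s := σ), not_not]
  have h : TC σ G := fun H hH => by
    have : Fact (Nat.Prime 2) := ⟨Nat.prime_two⟩
    obtain ⟨P⟩ : Nonempty (Sylow 2 H) := inferInstance
    have := hcl H hH P
    exact (hall_map_sylow Nat.prime_two P).pcore_hall nml_map_subtype.norm
  exact (closed_iff (π := σ)).trans ⟨homog_of_closed, fun hh => closed_ind hh (fun _ => True) (fun _ _ _ _ => trivial)
    (fun D S _ _ _ f _ hf hk hS na => (na (simple h2 S (h.sec hf hk) hS)).elim) ⊤ trivial⟩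

end Cfsg.Agent.S3258
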