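import Cfsg.Statements.S3282
import Cfsg.Agent.H2.BSW

set_option autoImplicit false
open Cfsg

namespace Cfsg.Agent.S3282

/-- The abstract form of the Brauer–Suzuki–Wall Theorem. Let G be a finite group with an involution t and an abelian subgroup K of H = C_G(t) containing t, such that H = K⟨s⟩ for an involution s ∉ K with C_K(s) = ⟨t⟩ and s inverting every element of K, K ∩ K^g = 1 for every g outside H, and all involutions of G conjugate. Then G has a subgroup Q, of order q say, with |G| = q(q+1)(q−1)/2, C_G(x) = Q for every non-identity x ∈ Q, N_G(Q) = QD for an abelian subgroup D of order (q−1)/2 meeting Q trivially, and for every nontrivial subgroup X of D, N_G(X) = N_G(D) = D⟨u⟩ for some involution u ∉ D inverting D. -/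
theorem result {G : Type*} [Group G] [Finite G] (t : G) (ht : orderOf t = 2)
    (K : Subgroup G) (hKab : IsMulCommutative ↥K) (hKH : K ≤ Subgroup.centralizer ({t} : Set G)) (htK : t ∈ K)
    (s : G) (hs : orderOf s = 2) (hsH : s ∈ Subgroup.centralizer ({t} : Set G)) (hsK : s ∉ K)
    (hH : K ⊔ Subgroup.zpowers s = Subgroup.centralizer ({t} : Set G)) (hCK : K ⊓ Subgroup.centralizer ({s} : Set G) = Subgroup.zpowers t)
    (hinv : ∀ x ∈ K, s * x * s⁻¹ = x⁻¹)
    (hTI : ∀ g : G, g ∉ Subgroup.centralizer ({t} : Set G) → K ⊓ K.map (MulAut.conj g).toMonoidHom = ⊥)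
    (hconj : ∀ x y : G, orderOf x = 2 → orderOf y = 2 → IsConj x y) :
    ∃ Q D : Subgroup G, 2 * Nat.card G = Nat.card ↥Q * (Nat.card ↥Q + 1) * (Nat.card ↥Q - 1) ∧
      (∀ x ∈ Q, x ≠ 1 → Subgroup.centralizer ({x} : Set G) = Q) ∧
      IsMulCommutative ↥D ∧ 2 * Nat.card ↥D + 1 = Nat.card ↥Q ∧ Q ⊓ D = ⊥ ∧
      Subgroup.normalizer (Q : Set G) = Q ⊔ D ∧
      ∀ X : Subgroup G, X ≤ D → X ≠ ⊥ →
        Subgroup.normalizer (X : Set G) = Subgroup.normalizer (D : Set G) ∧
        ∃ u : G, orderOf u = 2 ∧ u ∉ D ∧ (∀ d ∈ D, u * d * u⁻¹ = d⁻¹) ∧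
          Subgroup.normalizer (D : Set G) = D ⊔ Subgroup.zpowers u := by
  have h : H2.BSW t K s := H2.bsw_of ht (H18.abel_of_comm hKab) htK (H9.mul_self_of_orderOf hs) hsK hH.ge
    (fun x hx hxx => by
      have : x ∈ Subgroup.zpowers t := hCK ▸ Subgroup.mem_inf.2 ⟨hx, H18.mem_C1.2 (by
        have := hinv x hx
        rw [H9.inv_eq_of_mul_self hxx] at this
        exact (mul_inv_eq_iff_eq_mul.1 this).symm)⟩
      obtain ⟨n, rfl⟩ := this
      have tt := H9.mul_self_of_orderOf ht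
      rcases Int.even_or_odd' n with ⟨m, rfl | rfl⟩
      · left; simp [zpow_mul, sq, tt]
      · right; simp [zpow_add, zpow_mul, sq, tt])
    hinv hTI (fun x hx => hconj t x ht hx)
  obtain ⟨Q, D, hc⟩ := h.main
  exact ⟨Q, D, hc.card, hc.cc, hc.abel.comm, hc.cardD, hc.inf, hc.sup, fun X hX h1 =>
    ⟨hc.norm X hX h1, hc.inv fun e => h1 (le_bot_iff.1 (e ▸ hX))⟩⟩

end Cfsg.Agent.S3282
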