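import Cfsg.Statements.S3297
import Cfsg.Agent.H9.Lf3
import Cfsg.Agent.H3.LfT
import Cfsg.Agent.H27.LfR
import Cfsg.Agent.H15.LfS
import Cfsg.Agent.H21.LfU

set_option autoImplicit false
open Cfsg

namespace Cfsg.Agent.S3297

open H7 H9.Lf Subgroup

/-- Let p be a prime and P a Sylow p-subgroup of a finite group G with no nontrivial normal subgroup of order prime to p, with P not normal in G. Suppose (a) two elements of P are conjugate in G only if they are conjugate in N_G(P); (b) the centralizer of every element of order p of P has a normal p-complement; (c) every two elements of order p of G generate a p-solvable subgroup; (d) it is not the case that p = 2 and P is elementary abelian with all its nonidentity elements conjugate in G. Then p = 2 and G is isomorphic to a Suzuki group Sz(q), q = 2^(2m+1) ≥ 8. -/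
theorem result {G : Type*} [Group G] [Finite G] {p : ℕ} [Fact p.Prime] (hcore : Cfsg.pPrimeCore p G = ⊥) (P : Sylow p G)
    (hnn : ¬ (P : Subgroup G).Normal)
    (ha : ∀ x ∈ (P : Subgroup G), ∀ y ∈ (P : Subgroup G), (∃ g : G, g * x * g⁻¹ = y) →
      ∃ n ∈ Subgroup.normalizer ((P : Subgroup G) : Set G), n * x * n⁻¹ = y)
    (hb : ∀ x ∈ (P : Subgroup G), orderOf x = p → Cfsg.HasNormalPComplement p ↥(Subgroup.centralizer ({x} : Set G)))
    (hc : ∀ x y : G, orderOf x = p → orderOf y = p → Cfsg.IsPSolvable p ↥(Subgroup.closure ({x, y} : Set G)))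
    (hd : ¬ (p = 2 ∧ Cfsg.IsElementaryAbelian 2 (P : Subgroup G) ∧
      ∀ x ∈ (P : Subgroup G), ∀ y ∈ (P : Subgroup G), x ≠ 1 → y ≠ 1 → ∃ g : G, g * x * g⁻¹ = y)) :
    p = 2 ∧ Cfsg.Lie.IsoSuzuki G := by
  have hA : HA ⊤ (P : Subgroup G) := fun x hx y hy ⟨g, _, e⟩ => by
    obtain ⟨n, hn, e⟩ := ha x hx y hy ⟨g, e⟩
    exact ⟨n, trivial, hn, e⟩
  have R := (H27.LfR.pR G p P hcore hnn hA hb).1
  have P1 : (P : Subgroup G) ≠ ⊥ := fun e => hnn (by rw [e]; infer_instance)
  set L := normalClosure ((P : Subgroup G) : Set G) with hL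
  have hPL : (P : Subgroup G) ≤ L := le_normalClosure
  have hAL := (R L inferInstance fun e => P1 (le_bot_iff.1 (e ▸ hPL))).2
  set Q : Sylow p L := P.subtype hPL with hQ
  have mQ : ∀ {x : L}, x ∈ (Q : Subgroup L) ↔ (x : G) ∈ (P : Subgroup G) := Iff.rfl
  have c1 : Cfsg.pPrimeCore p L = ⊥ := by
    haveI := H1.instPPrimeCoreCharacteristic p L
    have : (Cfsg.pPrimeCore p L).map L.subtype ≤ Cfsg.pPrimeCore p G :=
      le_pPrimeCore' (by rw [card_subtype]; exact not_dvd_card_pPrimeCore)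
    rwa [hcore, le_bot_iff, map_eq_bot_iff_of_injective _ L.subtype_injective] at this
  have c2 : ¬ (Q : Subgroup L).Normal := fun h => by
    haveI := Q.characteristic_of_normal h
    refine hnn ?_
    rw [← map_subgroupOf_eq_of_le hPL]
    exact (inferInstance : ((Q : Subgroup L).map L.subtype).Normal)
  have c3 : HA ⊤ (Q : Subgroup L) := fun x hx y hy ⟨g, _, e⟩ => by
    obtain ⟨n, hn, h1, e⟩ := hAL x hx y hy ⟨g, g.2, congrArg Subtype.val e⟩
    exact ⟨⟨n, hn⟩, trivial, mem_normalizer_iff.2 fun z => mem_normalizer_iff.1 h1 z, Subtype.ext e⟩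
  have c4 : HB p (Q : Subgroup L) := fun x hx ox =>
    H3.hasNormalPComplement_of_injective
      ((L.subtype.comp (centralizer ({x} : Set L)).subtype).codRestrict
        (centralizer ({(x : G)} : Set G)) fun g => mem_centralizer_singleton_iff.2
          (congrArg Subtype.val (mem_centralizer_singleton_iff.1 g.2)))
      (fun a b e => by
        have := congrArg Subtype.val e
        exact Subtype.ext (Subtype.ext this))
      (hb x hx (by rw [orderOf_coe, ox]))
  have c5 : HC p L := fun x y ox oy => by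
    have := H4.isPSolvable_subgroup_iff.1 (hc x y (by rw [orderOf_coe, ox]) (by rw [orderOf_coe, oy]))
    rw [H4.isPSolvable_subgroup_iff, ← H4.pSol_map_iff L.subtype_injective, MonoidHom.map_closure]
    simpa [Set.image_pair] using this
  obtain ⟨R1, m, hm, z, hz, mv⟩ := H27.LfR.pR L p Q c1 c2 c3 c4
  haveI : Nontrivial L := (nontrivial_iff_ne_bot L).2 fun e => P1 (le_bot_iff.1 (e ▸ hPL))
  haveI : IsSimpleGroup L := ⟨fun M hM => by
    refine or_iff_not_imp_left.2 fun h => ?_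
    have h1 := (R1 M hM h).1
    have h2 : L ≤ M.map L.subtype := by
      refine (closure_le _).2 fun x hx => ?_
      have xL : x ∈ L := subset_closure hx
      obtain ⟨a, ha, e⟩ := Group.mem_conjugatesOfSet_iff.1 hx
      obtain ⟨g, rfl⟩ := isConj_iff.1 e
      have pe : IsPE p (⟨_, xL⟩ : L) := isPE_coe.1 ((isPE_of_mem P.2 ha).conj g)
      obtain ⟨t, -, ht⟩ := (sylIn_top Q).exists_cj_le pe.isPGroup_zpowers le_top
      have := hM.conj_mem _ (h1 (cj_le_iff'.1 ht _ (mem_zpowers _))) t⁻¹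
      exact ⟨⟨_, xL⟩, by simpa [mul_assoc] using this, rfl⟩
    exact eq_top_iff.2 fun x _ => by
      obtain ⟨y, hy, e⟩ := h2 x.2
      rwa [← Subtype.ext (a2 := x) e]⟩
  obtain rfl : p = 2 := by
    by_contra h2
    exact odd H15.Lf.pS h2 c2 c3 c4 c5 hm hz mv
  refine ⟨rfl, ?_⟩
  rcases H3.LfT.pT L Q (fun h => c2 (normal_of_isMulCommutative _)) c3 c4 with ⟨⟨h1, h2⟩, h3⟩ | h
  · refine (hd ⟨rfl, ⟨⟨⟨fun a b => Subtype.ext ?_⟩⟩, fun a ha => ?_⟩, fun x hx y hy x1 y1 => ?_⟩).elim
    · exact congrArg (fun x : Q => ((x : L) : G))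
        (h1.is_comm.comm (⟨⟨a, hPL a.2⟩, a.2⟩ : (Q : Subgroup L)) ⟨⟨b, hPL b.2⟩, b.2⟩)
    · exact congrArg Subtype.val (h2 ⟨a, hPL ha⟩ ha)
    · obtain ⟨g, e⟩ := h3 ⟨x, hPL hx⟩ hx ⟨y, hPL hy⟩ hy (fun e => x1 (congrArg Subtype.val e))
        fun e => y1 (congrArg Subtype.val e)
      exact ⟨g, congrArg Subtype.val e⟩
  · have e := H21.Lf.pU G P L inferInstance hnn (fun M hM h => (R M hM h).1) hPL hAL hb h
    obtain ⟨F, _, _, m, h1, h2, ⟨f⟩⟩ := h
    exact ⟨F, _, _, m, h1, h2, ⟨(topEquiv.symm.trans (MulEquiv.subgroupCongr e.symm)).trans f⟩⟩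

end Cfsg.Agent.S3297
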