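import Cfsg.Statements.S3335
import Cfsg.Agent.S2530

set_option autoImplicit false
open Cfsg

namespace Cfsg.Agent.S3335

/-- the relators -/
def rels (k : ℕ) : Set (FreeGroup (Fin k)) :=
  ({g : FreeGroup (Fin k) | ∃ i : Fin k, i.val = 0 ∧ g = FreeGroup.of i ^ 3} ∪
       {g | ∃ i : Fin k, 1 ≤ i.val ∧ g = FreeGroup.of i ^ 2} ∪
       {g | ∃ i j : Fin k, j.val = i.val + 1 ∧ g = (FreeGroup.of i * FreeGroup.of j) ^ 3} ∪
       {g | ∃ i j : Fin k, i.val + 1 < j.val ∧ g = (FreeGroup.of i * FreeGroup.of j) ^ 2})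

/-- the relations -/
def Rel {k : ℕ} {Γ : Type*} [Group Γ] (x : Fin k → Γ) : Prop :=
  (∀ i : Fin k, i.val = 0 → x i ^ 3 = 1) ∧ (∀ i : Fin k, 1 ≤ i.val → x i ^ 2 = 1) ∧
  (∀ i j : Fin k, j.val = i.val + 1 → (x i * x j) ^ 3 = 1) ∧
  (∀ i j : Fin k, i.val + 1 < j.val → (x i * x j) ^ 2 = 1)

theorem rel_lift {k : ℕ} {Γ : Type*} [Group Γ] {x : Fin k → Γ} (h : Rel x) :
    ∀ r ∈ rels k, FreeGroup.lift x r = 1 := by
  rintro r (((⟨i, hi, rfl⟩ | ⟨i, hi, rfl⟩) | ⟨i, j, hi, rfl⟩) | ⟨i, j, hi, rfl⟩)
  · simpa using h.1 i hi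
  · simpa using h.2.1 i hi
  · simpa using h.2.2.1 i j hi
  · simpa using h.2.2.2 i j hi

theorem rel_of (k : ℕ) : Rel (fun i : Fin k => (PresentedGroup.of i : PresentedGroup (rels k))) := by
  have key : ∀ r ∈ rels k, PresentedGroup.mk (rels k) r = 1 := fun r hr =>
    (QuotientGroup.eq_one_iff _).mpr (Subgroup.subset_normalClosure hr)
  refine ⟨fun i hi => ?_, fun i hi => ?_, fun i j hi => ?_, fun i j hi => ?_⟩
  · have := key _ (Or.inl (Or.inl (Or.inl ⟨i, hi, rfl⟩)))
    rw [map_pow] at this; exact this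
  · have := key _ (Or.inl (Or.inl (Or.inr ⟨i, hi, rfl⟩)))
    rw [map_pow] at this; exact this
  · have := key _ (Or.inl (Or.inr ⟨i, j, hi, rfl⟩))
    rw [map_pow, map_mul] at this; exact this
  · have := key _ (Or.inr ⟨i, j, hi, rfl⟩)
    rw [map_pow, map_mul] at this; exact this

theorem pow_swap {Γ : Type*} [Group Γ] {a b : Γ} {n : ℕ} (h : (a * b) ^ n = 1) : (b * a) ^ n = 1 := by
  have : b * a = b * (a * b) * b⁻¹ := by group
  rw [this, conj_pow, h]; group

theorem pow_inv2 {Γ : Type*} [Group Γ] {a b : Γ} {n : ℕ} (h : (a * b) ^ n = 1) :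
    (a⁻¹ * b⁻¹) ^ n = 1 := by
  rw [← mul_inv_rev, inv_pow, pow_swap h, inv_one]

theorem rel_inv {k : ℕ} {Γ : Type*} [Group Γ] {x : Fin k → Γ} (h : Rel x) :
    Rel (fun i => (x i)⁻¹) :=
  ⟨fun i hi => by rw [inv_pow, h.1 i hi, inv_one], fun i hi => by rw [inv_pow, h.2.1 i hi, inv_one],
    fun i j hi => pow_inv2 (h.2.2.1 i j hi), fun i j hi => pow_inv2 (h.2.2.2 i j hi)⟩

theorem inv_of_sq {Γ : Type*} [Group Γ] {a : Γ} (h : a ^ 2 = 1) : a⁻¹ = a :=
  inv_eq_of_mul_eq_one_right (by rw [← pow_two, h])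

theorem rel_mixed {k : ℕ} {Γ : Type*} [Group Γ] {x : Fin k → Γ} (h : Rel x) (i j : Fin k) (n : ℕ)
    (hij : i.val < j.val) (hn : (x i * x j) ^ n = 1) :
    ((x i)⁻¹ * x j) ^ n = 1 ∧ ((x j)⁻¹ * x i) ^ n = 1 := by
  have hj := inv_of_sq (h.2.1 j (by omega))
  constructor
  · have := pow_inv2 hn
    rwa [hj] at this
  · rw [hj]; exact pow_swap hn

theorem main (m : ℕ) :
    Nonempty (PresentedGroup (rels (m + 1)) ≃* alternatingGroup (Fin (m + 3))) := by
  classical
  obtain ⟨c, hc⟩ := Cfsg.Agent.S2530.result (m + 2)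
  set P := PresentedGroup (rels (m + 1))
  set x : Fin (m + 1) → P := fun i => PresentedGroup.of i with hx
  have hR : Rel x := rel_of (m + 1)
  let τ0 : P →* P := PresentedGroup.toGroup (rel_lift (rel_inv hR))
  have hτ0 : ∀ i, τ0 (x i) = (x i)⁻¹ := fun i => PresentedGroup.toGroup.of _
  have hττ : ∀ g, τ0 (τ0 g) = g := by
    have : τ0.comp τ0 = MonoidHom.id P := PresentedGroup.ext (fun i => by
      show τ0 (τ0 (x i)) = x i
      rw [hτ0, map_inv, hτ0, inv_inv])
    exact fun g => DFunLike.congr_fun this g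
  let τ : MulAut P := MulEquiv.mk' ⟨τ0, τ0, hττ, hττ⟩ (map_mul τ0)
  have hτ : ∀ i, τ (x i) = (x i)⁻¹ := hτ0
  have hτ2 : τ * τ = 1 := by ext g; exact hττ g
  let Γ := P ⋊[MonoidHom.id (MulAut P)] MulAut P
  let t : Γ := SemidirectProduct.inr τ
  let y : Fin (m + 1) → Γ := fun i => SemidirectProduct.inl (x i)
  have hRy : Rel y := by
    refine ⟨fun i hi => ?_, fun i hi => ?_, fun i j hi => ?_, fun i j hi => ?_⟩
    · simp only [y]; rw [← map_pow, hR.1 i hi, map_one]
    · simp only [y]; rw [← map_pow, hR.2.1 i hi, map_one]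
    · simp only [y]; rw [← map_mul, ← map_pow, hR.2.2.1 i j hi, map_one]
    · simp only [y]; rw [← map_mul, ← map_pow, hR.2.2.2 i j hi, map_one]
  have htt : t * t = 1 := by simp only [t]; rw [← map_mul, hτ2, map_one]
  have hty : ∀ i, t * y i * t = (y i)⁻¹ := by
    intro i
    have h1 : t⁻¹ = t := inv_eq_of_mul_eq_one_right htt
    have h2 := SemidirectProduct.inl_aut (φ := MonoidHom.id (MulAut P)) τ (x i)
    simp only [MonoidHom.id_apply, hτ, map_inv] at h2
    conv_lhs => rw [show t * y i * t = t * y i * t⁻¹ by rw [h1]]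
    exact h2.symm
  let f : Fin (m + 2) → Γ := fun i => Fin.cases t (fun j => t * y j) i
  have hf : (CoxeterMatrix.A (m + 2)).IsLiftable f := by
    have h0 : ∀ j : Fin (m + 1), (y j) ^ ((CoxeterMatrix.A (m + 2)) 0 j.succ) = 1 := by
      intro j
      have e : (CoxeterMatrix.A (m + 2)) 0 j.succ = if j.val = 0 then 3 else 2 := by
        simp [CoxeterMatrix.A, (Fin.succ_ne_zero j).symm]
      rw [e]
      split_ifs with h
      · exact hRy.1 j h
      · exact hRy.2.1 j (by omega)
    intro i j
    induction i using Fin.cases with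
    | zero =>
      induction j using Fin.cases with
      | zero => simp [f, htt]
      | succ j =>
        simp only [f, Fin.cases_zero, Fin.cases_succ]
        rw [← mul_assoc, htt, one_mul]; exact h0 j
    | succ i =>
      induction j using Fin.cases with
      | zero =>
        simp only [f, Fin.cases_zero, Fin.cases_succ]
        rw [hty, inv_pow, (CoxeterMatrix.A (m + 2)).symmetric, h0, inv_one]
      | succ j =>
        simp only [f, Fin.cases_succ]
        rw [← mul_assoc, hty]
        have e : (CoxeterMatrix.A (m + 2)) i.succ j.succ =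
            if i = j then 1 else if j.val + 1 = i.val ∨ i.val + 1 = j.val then 3 else 2 := by
          simp [CoxeterMatrix.A]
        rw [e]
        split_ifs with h1 h2
        · subst h1; rw [pow_one]; exact inv_mul_cancel _
        · rcases h2 with h2 | h2
          · exact (rel_mixed hRy j i 3 (by omega) (hRy.2.2.1 j i h2.symm)).2
          · exact (rel_mixed hRy i j 3 (by omega) (hRy.2.2.1 i j h2.symm)).1
        · have h3 : i.val ≠ j.val := fun h => h1 (Fin.ext h)
          rcases lt_or_gt_of_ne h3 with h4 | h4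
          · exact (rel_mixed hRy i j 2 h4 (hRy.2.2.2 i j (by omega))).1
          · exact (rel_mixed hRy j i 2 h4 (hRy.2.2.2 j i (by omega))).2
  let F := c.lift ⟨f, hf⟩
  have hF : ∀ i, F (c.simple i) = f i := c.lift_apply_simple hf
  let z : Fin (m + 1) → Equiv.Perm (Fin (m + 3)) := fun j => c.simple 0 * c.simple j.succ
  have e0 : ∀ j : Fin (m + 1),
      (CoxeterMatrix.A (m + 2)) 0 j.succ = if j.val = 0 then 3 else 2 := by
    intro j
    simp [CoxeterMatrix.A, (Fin.succ_ne_zero j).symm]
  have hcm : ∀ j : Fin (m + 1), 1 ≤ j.val → (z j) ^ 2 = 1 := by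
    intro j hj
    have := c.simple_mul_simple_pow 0 j.succ
    have e : (CoxeterMatrix.A (m + 2)) 0 j.succ = 2 := by
      rw [e0, if_neg (by omega)]
    rwa [e] at this
  have hzz : ∀ i j : Fin (m + 1), (z i)⁻¹ * z j = c.simple i.succ * c.simple j.succ := by
    intro i j
    simp only [z, mul_inv_rev, c.inv_simple]
    rw [mul_assoc, ← mul_assoc (c.simple 0), c.simple_mul_simple_self, one_mul]
  have hz2 : ∀ (i j : Fin (m + 1)) (n : ℕ), 1 ≤ j.val →
      (c.simple i.succ * c.simple j.succ) ^ n = 1 → (z i * z j) ^ n = 1 := by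
    intro i j n hj h
    rw [← hzz] at h
    have := pow_inv2 h
    rwa [inv_inv, inv_of_sq (hcm j hj)] at this
  have hRz : Rel z := by
    refine ⟨fun i hi => ?_, hcm, fun i j hi => hz2 i j 3 (by omega) ?_,
      fun i j hi => hz2 i j 2 (by omega) ?_⟩
    · have := c.simple_mul_simple_pow 0 i.succ
      have e : (CoxeterMatrix.A (m + 2)) 0 i.succ = 3 := by
        rw [e0, if_pos hi]
      rwa [e] at this
    · have := c.simple_mul_simple_pow i.succ j.succ
      have e : (CoxeterMatrix.A (m + 2)) i.succ j.succ = 3 := by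
        have : i ≠ j := by rintro rfl; omega
        simp [CoxeterMatrix.A, this]; omega
      rwa [e] at this
    · have := c.simple_mul_simple_pow i.succ j.succ
      have e : (CoxeterMatrix.A (m + 2)) i.succ j.succ = 2 := by
        have : i ≠ j := by rintro rfl; omega
        simp [CoxeterMatrix.A, this]; omega
      rwa [e] at this
  let g : P →* Equiv.Perm (Fin (m + 3)) := PresentedGroup.toGroup (rel_lift hRz)
  have hg : ∀ i, g (x i) = z i := fun i => PresentedGroup.toGroup.of _
  have hFg : F.comp g = SemidirectProduct.inl := PresentedGroup.ext (fun i => by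
    show F (g (x i)) = y i
    rw [hg, map_mul, hF, hF]
    simp only [f, Fin.cases_zero, Fin.cases_succ]
    rw [← mul_assoc, htt, one_mul])
  have hinj : Function.Injective g := by
    intro a b h
    have := congrArg F h
    rw [← MonoidHom.comp_apply, ← MonoidHom.comp_apply, hFg] at this
    exact SemidirectProduct.inl_injective this
  have hsg : ∀ i, Equiv.Perm.sign (c.simple i) = -1 := fun i => by
    rw [hc]; exact Equiv.Perm.sign_swap (Fin.castSucc_lt_succ).ne
  have hle : g.range ≤ alternatingGroup (Fin (m + 3)) := by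
    rintro _ ⟨a, rfl⟩
    refine PresentedGroup.generated_by _ ((alternatingGroup (Fin (m + 3))).comap g) (fun j => ?_) a
    show Equiv.Perm.sign (g (x j)) = 1
    rw [hg, map_mul, hsg, hsg]; simp
  have h0i : ∀ i, c.simple 0 * c.simple i ∈ g.range := by
    intro i
    induction i using Fin.cases with
    | zero => rw [c.simple_mul_simple_self]; exact g.range.one_mem
    | succ j => exact ⟨x j, hg j⟩
  have hall : ∀ w, w ∈ g.range ∨ c.simple 0 * w ∈ g.range := by
    intro w
    refine c.simple_induction_left (p := fun w => w ∈ g.range ∨ c.simple 0 * w ∈ g.range) w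
      (Or.inl g.range.one_mem) ?_
    rintro w i (h | h)
    · right; rw [← mul_assoc]; exact g.range.mul_mem (h0i i) h
    · left
      have : c.simple i * w = (c.simple 0 * c.simple i)⁻¹ * (c.simple 0 * w) := by
        rw [mul_inv_rev, c.inv_simple, c.inv_simple, mul_assoc, ← mul_assoc (c.simple 0),
          c.simple_mul_simple_self, one_mul]
      rw [this]; exact g.range.mul_mem (g.range.inv_mem (h0i i)) h
  have heq : g.range = alternatingGroup (Fin (m + 3)) := by
    refine le_antisymm hle (fun w hw => (hall w).resolve_right (fun h => ?_))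
    have h1 := Equiv.Perm.mem_alternatingGroup.1 (hle h)
    rw [map_mul, hsg, Equiv.Perm.mem_alternatingGroup.1 hw] at h1
    simp at h1
  exact ⟨(MonoidHom.ofInjective hinj).trans (MulEquiv.subgroupCongr heq)⟩

/-- A presentation of the alternating group of degree n ≥ 3 on generators x_1, …, x_{n−2} (indexed here by 0, …, n−3): the first generator cubes to 1, every other generator squares to 1, the product of two consecutive generators has order dividing 3, and the product of two generators at distance at least 2 has order dividing 2. The group so presented is isomorphic to the alternating group of degree n. -/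
theorem result (n : ℕ) (hn : 3 ≤ n) :
    Nonempty (PresentedGroup
      ({g : FreeGroup (Fin (n - 2)) | ∃ i : Fin (n - 2), i.val = 0 ∧ g = FreeGroup.of i ^ 3} ∪
       {g | ∃ i : Fin (n - 2), 1 ≤ i.val ∧ g = FreeGroup.of i ^ 2} ∪
       {g | ∃ i j : Fin (n - 2), j.val = i.val + 1 ∧ g = (FreeGroup.of i * FreeGroup.of j) ^ 3} ∪
       {g | ∃ i j : Fin (n - 2), i.val + 1 < j.val ∧ g = (FreeGroup.of i * FreeGroup.of j) ^ 2})
      ≃* alternatingGroup (Fin n)) := by
  obtain ⟨m, rfl⟩ : ∃ m, n = m + 3 := ⟨n - 3, by omega⟩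
  exact main m

end Cfsg.Agent.S3335
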