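import Cfsg.Statements.S3347
import Cfsg.Agent.H8.SmT2
import Cfsg.Agent.H6.K3c
import Cfsg.Agent.H4.PSol2

set_option autoImplicit false
open Cfsg

namespace Cfsg.Agent.S3347

open Subgroup

/-- Let G be a finite group, p an odd prime, and P an abelian, non-cyclic Sylow p-subgroup of G with [N_G(P) : C_G(P)] = 2. Then either O^p(G) is a proper subgroup of G, or G has p-length 1 (G = O_{p',p,p'}(G)). -/
theorem result {G : Type*} [Group G] [Finite G]
    (p : ℕ) [Fact p.Prime] (hp : p ≠ 2) (P : Sylow p G) (hab : IsMulCommutative (P : Subgroup G)) (hnc : ¬ IsCyclic (P : Subgroup G))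
    (hidx : ((Subgroup.centralizer ((P : Subgroup G) : Set G)).subgroupOf (Subgroup.normalizer ((P : Subgroup G) : Set G))).index = 2) :
    Cfsg.pResidual p G ≠ ⊤ ∨ Cfsg.PLengthLE p 1 G := by
  refine or_iff_not_imp_left.2 fun hr => ?_
  rw [not_ne_iff] at hr
  have cen : ∀ {n : G}, n ∈ centralizer ((P : Subgroup G) : Set G) ↔ ∀ v ∈ (P : Subgroup G), n * v * n⁻¹ = v := fun {n} =>
    forall₂_congr fun v _ => by rw [mul_inv_eq_iff_eq_mul, eq_comm]
  have cm : ∀ u ∈ (P : Subgroup G), ∀ v ∈ (P : Subgroup G), u * v = v * u := fun u hu v hv =>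
    congrArg Subtype.val (hab.is_comm.comm ⟨u, hu⟩ ⟨v, hv⟩)
  obtain ⟨s, s1, s2⟩ := relIndex_eq_two_iff.1 hidx
  have pm : H8.PmAct (P : Subgroup G) := fun n hn => or_iff_not_imp_left.2 fun hc v hv => by
    have sC : s ∉ centralizer ((P : Subgroup G) : Set G) := by simpa using (s2 1 (one_mem _)).resolve_left fun e => e.2 (one_mem _)
    have k : ∀ a ∈ normalizer ((P : Subgroup G) : Set G), a ∉ centralizer ((P : Subgroup G) : Set G) →
        ∀ w ∈ (P : Subgroup G), a * w * a⁻¹ = s⁻¹ * w * s := fun a ha h w hw => by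
      have := cen.1 ((s2 a ha).resolve_right fun e => h e.1).1 (s⁻¹ * w * s) (by
        simpa using (mem_normalizer_iff.1 (inv_mem s1) w).1 hw)
      rw [← this]; group
    have nv := (mem_normalizer_iff.1 hn v).1 hv
    have fix : ∀ a ∈ normalizer ((P : Subgroup G) : Set G), a * (v * (n * v * n⁻¹)) * a⁻¹ = v * (n * v * n⁻¹) := fun a ha => by
      by_cases h : a ∈ centralizer ((P : Subgroup G) : Set G)
      · exact cen.1 h _ (mul_mem hv nv)
      · have h1 := k n⁻¹ (inv_mem hn) (fun e => hc (cen.1 (inv_mem_iff.1 e))) _ nv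
        rw [show a * (v * (n * v * n⁻¹)) * a⁻¹ = (a * v * a⁻¹) * (a * (n * v * n⁻¹) * a⁻¹) by group, k a ha h v hv,
          k a ha h _ nv, ← h1, ← k n hn (mt cen.1 hc) v hv, cm _ hv _ nv]
        group
    by_contra e
    obtain ⟨l, l1, l2⟩ := H6.exists_lam (H7.as_sylow P hab) (mul_mem hv nv) (fun f => e (eq_inv_of_mul_eq_one_right f))
      fun j g hg => by
        obtain ⟨a, ha, f⟩ := P.conj_eq_normalizer_conj_of_mem _ g (pow_mem (mul_mem hv nv) j) hg
        have := congrArg (· ^ j) (fix a⁻¹ (inv_mem ha))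
        rwa [conj_pow, inv_inv, ← f] at this
    have : pResidual p G ≤ l.ker := (closure_le _).2 fun g hg =>
      l2 g (((Fact.out : p.Prime).coprime_iff_not_dvd).1 (Nat.Coprime.symm hg))
    exact l1 (this (hr ▸ mem_top _))
  set U := (upperPSeries p G (2 * 0 + 1)).1 with hU
  have hπ := QuotientGroup.mk'_surjective U
  have cU : ¬ p ∣ Nat.card U := by
    have := H4.upperPSeries_odd (p := p) (G := G) 0
    rw [hU, this, ← Nat.card_congr (((pPrimeCore p _).comap _).equivMapOfInjective (QuotientGroup.mk' (upperPSeries p G (2 * 0)).1)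
      (by rw [← MonoidHom.ker_eq_bot_iff, QuotientGroup.ker_mk']; rfl)).symm.toEquiv,
      map_comap_eq_self_of_surjective (QuotientGroup.mk'_surjective _)]
    exact H7.not_dvd_card_pPrimeCore
  have inj : Function.Injective ((QuotientGroup.mk' U).subgroupMap P) := (injective_iff_map_eq_one _).2 fun v hv =>
    Subtype.ext ((H7.isPE_of_mem P.isPGroup' v.2).eq_one (H7.not_dvd_orderOf_of_mem cU
      ((QuotientGroup.eq_one_iff _).1 (congrArg Subtype.val hv))))
  have e : (P : Subgroup G) ≃* (P.mapSurjective hπ : Subgroup (G ⧸ U)) :=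
    MulEquiv.ofBijective _ ⟨inj, (QuotientGroup.mk' U).subgroupMap_surjective P⟩
  have : IsMulCommutative (P.mapSurjective hπ) := ⟨⟨fun a b => e.symm.injective (by
    rw [map_mul, map_mul, hab.is_comm.comm])⟩⟩
  have nm := H8.PmAct.normal hp (P.mapSurjective hπ) (fun n hn => by
    obtain ⟨m, hm, rfl⟩ := ((H7.sylIn_top P).map_nN hπ).ge hn
    refine (pm m hm).imp (fun f => ?_) fun f => ?_ <;> rintro _ ⟨v, hv, rfl⟩ <;>
      rw [← map_inv, ← map_mul, ← map_mul, f v hv]
    rw [map_inv]) (fun f => hnc (e.isCyclic.2 f)) (H4.pPrimeCore_quotient_upperPSeries 0)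
  refine H4.pLengthLE_of_le P ?_
  rw [show 2 * 1 = 2 * 0 + 2 from rfl, H4.upperPSeries_even, ← map_le_iff_le_comap]
  exact H7.le_pCore' (hN := nm) (P.mapSurjective hπ).isPGroup'

end Cfsg.Agent.S3347
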