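import Cfsg.Statements.S3362
import Cfsg.Agent.H16.Sift

set_option autoImplicit false
open Cfsg

namespace Cfsg.Agent.S3362

open H16 H16.Sift

def g (j : ℕ) : Equiv.Perm (Fin 12) :=
  [Equiv.swap 4 9 * Equiv.swap 4 5 * Equiv.swap 4 6 * Equiv.swap 7 10 * Equiv.swap 7 11 * Equiv.swap 7 8,
   Equiv.swap 4 11 * Equiv.swap 4 5 * Equiv.swap 4 7 * Equiv.swap 6 8 * Equiv.swap 6 9 * Equiv.swap 6 10,
   Equiv.swap 4 8 * Equiv.swap 4 5 * Equiv.swap 4 10 * Equiv.swap 6 7 * Equiv.swap 6 9 * Equiv.swap 6 11,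
   Equiv.swap 3 5 * Equiv.swap 3 4 * Equiv.swap 6 8 * Equiv.swap 6 7 * Equiv.swap 9 11 * Equiv.swap 9 10,
   Equiv.swap 3 9 * Equiv.swap 3 6 * Equiv.swap 4 10 * Equiv.swap 4 7 * Equiv.swap 5 11 * Equiv.swap 5 8,
   Equiv.swap 0 3 * Equiv.swap 6 7 * Equiv.swap 8 10 * Equiv.swap 9 11,
   Equiv.swap 0 1 * Equiv.swap 6 9 * Equiv.swap 7 10 * Equiv.swap 8 11,
   Equiv.swap 1 2 * Equiv.swap 6 11 * Equiv.swap 7 9 * Equiv.swap 8 10].getD j 1

def O0 : Finset (Fin 12) := {4, 5, 6, 7, 8, 9, 10, 11}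
def t0 (b : Fin 12) : List ℕ := ([[], [], [], [], [], [0, 0], [0], [1], [0, 1], [1, 2], [2], [2, 0]] : List (List ℕ)).getD b []
def c0 (j : ℕ) (b : Fin 12) : List ℕ := (([[[], [], [], [], [], [], [], [], [], [], [], []], [[], [], [], [], [], [], [], [], [], [], [], []], [[], [], [], [], [], [], [], [], [], [], [], []]] : List (List (List ℕ))).getD j []).getD b []
def O1 : Finset (Fin 12) := {3, 4, 5, 6, 7, 8, 9, 10, 11}
def t1 (b : Fin 12) : List ℕ := ([[], [], [], [], [3], [3, 3], [4], [1, 3], [0, 1, 3], [4, 4], [2, 3], [2, 4]] : List (List ℕ)).getD b []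
def c1 (j : ℕ) (b : Fin 12) : List ℕ := (([[[], [], [], [0], [0], [0], [0], [], [0], [0], [], [1, 2]], [[], [], [], [1], [], [1, 2], [1, 2], [0, 0], [0], [0], [1, 2], [1, 2]], [[], [], [], [2], [], [0, 0], [], [0], [], [0], [0, 0], [0, 0]], [[], [], [], [], [], [], [2, 0], [0], [0, 1], [0, 1], [], [2]], [[], [], [], [], [2, 0], [2], [], [1, 2], [0, 0], [], [2], [2]]] : List (List (List ℕ))).getD j []).getD b []
def O2 : Finset (Fin 12) := {0, 3, 4, 5, 6, 7, 8, 9, 10, 11}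
def t2 (b : Fin 12) : List ℕ := ([[], [], [], [5], [3, 5], [3, 3, 5], [4, 5], [1, 3, 5], [0, 1, 3, 5], [4, 4, 5], [2, 3, 5], [2, 4, 5]] : List (List ℕ)).getD b []
def c2 (j : ℕ) (b : Fin 12) : List ℕ := (([[[0], [], [], [1], [1], [1], [1], [], [1], [1], [], [2, 0]], [[1], [], [], [0], [], [2, 0], [2, 0], [0, 0], [1], [1], [2, 0], [2, 0]], [[2], [], [], [0, 1], [], [0, 0], [], [1], [], [1], [0, 0], [0, 0]], [[3], [], [], [], [], [], [1, 2], [1], [2], [2], [], [0, 1]], [[4], [], [], [], [1, 2], [0, 1], [], [2, 0], [0, 0], [], [0, 1], [0, 1]], [[], [], [], [], [0, 4, 0], [3, 0, 0], [3, 3, 1], [2, 4, 0], [0, 4, 0], [2, 4, 0, 1], [0, 4, 0], [4, 3]]] : List (List (List ℕ))).getD j []).getD b []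
def O3 : Finset (Fin 12) := {0, 1, 3, 4, 5, 6, 7, 8, 9, 10, 11}
def t3 (b : Fin 12) : List ℕ := ([[6], [], [], [5, 6], [3, 5, 6], [3, 3, 5, 6], [4, 5, 6], [1, 3, 5, 6], [0, 1, 3, 5, 6], [4, 4, 5, 6], [2, 3, 5, 6], [2, 4, 5, 6]] : List (List ℕ)).getD b []
def c3 (j : ℕ) (b : Fin 12) : List ℕ := (([[[1, 2], [0], [], [2], [2], [2], [2], [], [2], [2], [], [0, 1]], [[2], [1], [], [1, 2], [], [0, 1], [0, 1], [0, 0], [2], [2], [0, 1], [0, 1]], [[1], [2], [], [2, 0], [], [0, 0], [], [2], [], [2], [0, 0], [0, 0]], [[3], [3], [], [], [], [], [0], [2], [1], [1], [], [2, 0]], [[4, 4], [4], [], [], [0], [2, 0], [], [0, 1], [0, 0], [], [2, 0], [2, 0]], [[], [5], [], [], [0, 4, 0], [3, 0, 0], [3, 3, 2], [0, 1, 3], [0, 4, 0], [4, 3, 3], [0, 4, 0], [4, 4, 3]], [[], [], [], [5], [5], [5], [5], [5], [2, 5], [5], [5], [2, 5]]] : List (List (List ℕ))).getD j []).getD b []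
def O4 : Finset (Fin 12) := {0, 1, 2, 3, 4, 5, 6, 7, 8, 9, 10, 11}
def t4 (b : Fin 12) : List ℕ := ([[6, 7], [7], [], [5, 6, 7], [3, 5, 6, 7], [3, 3, 5, 6, 7], [4, 5, 6, 7], [1, 3, 5, 6, 7], [0, 1, 3, 5, 6, 7], [4, 4, 5, 6, 7], [2, 3, 5, 6, 7], [2, 4, 5, 6, 7]] : List (List ℕ)).getD b []
def c4 (j : ℕ) (b : Fin 12) : List ℕ := (([[[1], [2, 0], [0], [0, 1], [0, 1], [0, 1], [0, 1], [], [0, 1], [0, 1], [], [2]], [[0, 1], [1, 2], [1], [1], [], [2], [2], [0, 0], [0, 1], [0, 1], [2], [2]], [[1, 2], [0, 1], [2], [0], [], [0, 0], [], [0, 1], [], [0, 1], [0, 0], [0, 0]], [[3], [3], [3], [], [], [], [2, 0], [0, 1], [1, 2], [1, 2], [], [0]], [[4, 3], [2, 4, 0, 1], [4], [], [2, 0], [0], [], [2], [0, 0], [], [0], [0]], [[], [5], [5], [], [0, 4, 0], [3, 0, 0], [0, 4, 1], [2, 3], [0, 4, 0], [4, 4, 3], [0, 4, 0], [4, 3, 3]], [[], [], [6], [5], [5], [5], [5], [5], [5, 2], [5], [5], [5,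 2]], [[6], [], [], [6], [6], [6], [6, 0], [6, 1], [6], [6, 0, 1], [6], [6, 0]]] : List (List (List ℕ))).getD j []).getD b []

theorem l0 : Kl g 3 ⊓ MulAction.stabilizer _ (4 : Fin 12) = Kl g 0 ∧ Nat.card (Kl g 3) = O0.card * Nat.card (Kl g 0) :=
  level g (by decide) _ O0 t0 c0 (by decide +kernel) (by decide +kernel) (by decide +kernel) (by decide +kernel)

theorem l1 : Kl g 5 ⊓ MulAction.stabilizer _ (3 : Fin 12) = Kl g 3 ∧ Nat.card (Kl g 5) = O1.card * Nat.card (Kl g 3) :=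
  level g (by decide) _ O1 t1 c1 (by decide +kernel) (by decide +kernel) (by decide +kernel) (by decide +kernel)

theorem l2 : Kl g 6 ⊓ MulAction.stabilizer _ (0 : Fin 12) = Kl g 5 ∧ Nat.card (Kl g 6) = O2.card * Nat.card (Kl g 5) :=
  level g (by decide) _ O2 t2 c2 (by decide +kernel) (by decide +kernel) (by decide +kernel) (by decide +kernel)

theorem l3 : Kl g 7 ⊓ MulAction.stabilizer _ (1 : Fin 12) = Kl g 6 ∧ Nat.card (Kl g 7) = O3.card * Nat.card (Kl g 6) :=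
  level g (by decide) _ O3 t3 c3 (by decide +kernel) (by decide +kernel) (by decide +kernel) (by decide +kernel)

theorem l4 : Kl g 8 ⊓ MulAction.stabilizer _ (2 : Fin 12) = Kl g 7 ∧ Nat.card (Kl g 8) = O4.card * Nat.card (Kl g 7) :=
  level g (by decide) _ O4 t4 c4 (by decide +kernel) (by decide +kernel) (by decide +kernel) (by decide +kernel)


/-- An explicit construction of the Mathieu groups of degrees 11 and 12. On the points 0, …, 11 let s = (3 4 5)(6 7 8)(9 10 11), t = (3 6 9)(4 7 10)(5 8 11), u = (4 6 5 9)(7 8 11 10), v = (4 7 5 11)(6 10 9 8), w = (4 10 5 8)(6 11 9 7), x₁ = (0 3)(6 7)(8 10)(9 11), x₂ = (0 1)(6 9)(7 10)(8 11), x₃ = (1 2)(6 11)(7 9)(8 10) (each written as a product of transpositions). Then the group M₁₂ generated by all eight permutations is sharply 5-transitive on the 12 points and has order 95040, and the group M₁₁ generated by the first seven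 has order 7920 and is the stabilizer of the point 2 in M₁₂. -/
theorem result
    (s t u v w x₁ x₂ x₃ : Equiv.Perm (Fin 12))
    (hs : s = Equiv.swap (3 : Fin 12) 5 * Equiv.swap (3 : Fin 12) 4 * Equiv.swap (6 : Fin 12) 8 * Equiv.swap (6 : Fin 12) 7 * Equiv.swap (9 : Fin 12) 11 * Equiv.swap (9 : Fin 12) 10) (ht : t = Equiv.swap (3 : Fin 12) 9 * Equiv.swap (3 : Fin 12) 6 * Equiv.swap (4 : Fin 12) 10 * Equiv.swap (4 : Fin 12) 7 * Equiv.swap (5 : Fin 12) 11 * Equiv.swap (5 : Fin 12) 8)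
    (hu : u = Equiv.swap (4 : Fin 12) 9 * Equiv.swap (4 : Fin 12) 5 * Equiv.swap (4 : Fin 12) 6 * Equiv.swap (7 : Fin 12) 10 * Equiv.swap (7 : Fin 12) 11 * Equiv.swap (7 : Fin 12) 8) (hv : v = Equiv.swap (4 : Fin 12) 11 * Equiv.swap (4 : Fin 12) 5 * Equiv.swap (4 : Fin 12) 7 * Equiv.swap (6 : Fin 12) 8 * Equiv.swap (6 : Fin 12) 9 * Equiv.swap (6 : Fin 12) 10) (hw : w = Equiv.swap (4 : Fin 12) 8 * Equiv.swap (4 : Fin 12) 5 * Equiv.swap (4 : Fin 12) 10 * Equiv.swap (6 : Fin 12) 7 * Equiv.swap (6 : Fin 12) 9 * Equiv.swap (6 : Fin 12) 11)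
    (hx₁ : x₁ = Equiv.swap (0 : Fin 12) 3 * Equiv.swap (6 : Fin 12) 7 * Equiv.swap (8 : Fin 12) 10 * Equiv.swap (9 : Fin 12) 11) (hx₂ : x₂ = Equiv.swap (0 : Fin 12) 1 * Equiv.swap (6 : Fin 12) 9 * Equiv.swap (7 : Fin 12) 10 * Equiv.swap (8 : Fin 12) 11)
    (hx₃ : x₃ = Equiv.swap (1 : Fin 12) 2 * Equiv.swap (6 : Fin 12) 11 * Equiv.swap (7 : Fin 12) 9 * Equiv.swap (8 : Fin 12) 10)
    (M₁₂ M₁₁ : Subgroup (Equiv.Perm (Fin 12))) (hM₁₂ : M₁₂ = Subgroup.closure {s, t, u, v, w, x₁, x₂, x₃})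
    (hM₁₁ : M₁₁ = Subgroup.closure {s, t, u, v, w, x₁, x₂}) :
    MulAction.IsMultiplyPretransitive M₁₂ (Fin 12) 5 ∧ (∀ y : Fin 5 ↪ Fin 12, MulAction.stabilizer M₁₂ y = ⊥) ∧
    Nat.card M₁₂ = 95040 ∧ Nat.card M₁₁ = 7920 ∧
    M₁₁ = M₁₂ ⊓ MulAction.stabilizer (Equiv.Perm (Fin 12)) (2 : Fin 12) := by
  have e8 : M₁₂ = Kl g 8 := by
    rw [hM₁₂, Kl, show Set.Iio 8 = ({3, 4, 0, 1, 2, 5, 6, 7} : Set ℕ) by ext; simp; omega, hs, ht, hu, hv, hw, hx₁, hx₂,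
      hx₃]
    simp only [Set.image_insert_eq, Set.image_singleton]
    rfl
  have e7 : M₁₁ = Kl g 7 := by
    rw [hM₁₁, Kl, show Set.Iio 7 = ({3, 4, 0, 1, 2, 5, 6} : Set ℕ) by ext; simp; omega, hs, ht, hu, hv, hw, hx₁, hx₂]
    simp only [Set.image_insert_eq, Set.image_singleton]
    rfl
  have c7 : Nat.card (Kl g 7) = 7920 := by
    rw [l3.2, l2.2, l1.2, l0.2, Kl_zero, Subgroup.card_bot]; decide
  have c8 : Nat.card (Kl g 8) = 95040 := by rw [l4.2, c7]; decide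
  rw [e8, e7]
  obtain ⟨h1, h2⟩ := sharp_of_card (G := Kl g 8) (⟨![2, 1, 0, 3, 4], by decide⟩ : Fin 5 ↪ Fin 12)
    (eq_bot_iff.2 fun x hx => by
      have h := fun i => DFunLike.congr_fun (MulAction.mem_stabilizer_iff.1 hx) i
      exact Subtype.ext (Subgroup.mem_bot.1 (Kl_zero g ▸ l0.1.le ⟨l1.1.le ⟨l2.1.le ⟨l3.1.le ⟨l4.1.le
        ⟨x.2, h 0⟩, h 1⟩, h 2⟩, h 3⟩, h 4⟩))) (by rw [c8, Nat.card_fin]; decide)
  exact ⟨h1, h2, c8, c7, l4.1.symm⟩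

end Cfsg.Agent.S3362
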