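import Cfsg.Statements.S3685
import Cfsg.Agent.H26.Sims

set_option autoImplicit false
open Cfsg

namespace Cfsg.Agent.S3685

open H26 Subgroup
open scoped Pointwise commutatorElement

variable {X : Type*} [Group X]

theorem three_core {P T : Subgroup X} [Finite P] (hT : T ≤ P) (h3 : T.relIndex P = 3) :
    ∃ K ≤ T, P ≤ 𝐍 K ∧ (K = T ∨ K.relIndex T = 2) ∧
      (K = ⊥ → Nat.card P = 6 → Nonempty (P ≃* Equiv.Perm (Fin 3))) := by
  obtain ⟨f, hf⟩ := H10.exists_hom_perm P (P ⧸ T.subgroupOf P) (n := 3) h3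
  rw [← normalCore_eq_ker] at hf
  have h1 : f.ker.map P.subtype ≤ T := by
    rw [hf, map_le_iff_le_comap]; exact normalCore_le _
  refine ⟨f.ker.map P.subtype, h1, normal_iff_le_normalizer_map_subtype.1 inferInstance, ?_, fun e h6 =>
    H10.equiv_perm_of_injective f ((MonoidHom.ker_eq_bot_iff f).1
      ((map_eq_bot_iff_of_injective _ P.subtype_injective).1 e)) h6⟩
  have h2 : (f.ker.map P.subtype).relIndex P ∣ 6 := by
    rw [relIndex, subgroupOf, comap_map_eq_self_of_injective P.subtype_injective, index_ker]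
    simpa [Fintype.card_perm, Nat.factorial] using card_subgroup_dvd_card f.range
  rw [← relIndex_mul_relIndex _ _ _ h1 hT, h3] at h2
  rcases (Nat.dvd_prime Nat.prime_two).1 (Nat.dvd_of_mul_dvd_mul_right (by norm_num) (h2 : _ * 3 ∣ 2 * 3)) with e | e
  · exact Or.inl (le_antisymm h1 (relIndex_eq_one.1 e))
  · exact Or.inr e

theorem res_normal {P T : Subgroup X} [Finite P] (hT : T ≤ P) (h3 : T.relIndex P = 3) : P ≤ 𝐍 (Cfsg.pResidualOf 2 T) := by
  classical
  obtain ⟨K, h1, h2, e, -⟩ := three_core hT h3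
  have := finite_of_le hT
  rw [← pResidualOf_eq_of_le (K := K) (pResidualOf_le_of_relIndex (n := if K = T then 0 else 1) (hT.trans h2) ?_) h1]
  · exact le_normalizer_pResidualOf_of_le h2
  split_ifs with e'
  · simp [e']
  · simp [e.resolve_left e']

theorem six_of {P T : Subgroup X} [Finite P] (hT : IsSyl 2 T P) (h3 : T.relIndex P = 3) (hn : ¬ P ≤ 𝐍 T) :
    (Cfsg.pCoreOf 2 P).relIndex P = 6 ∧ (Cfsg.pCoreOf 2 P = ⊥ → Nonempty (P ≃* Equiv.Perm (Fin 3))) := by
  obtain ⟨K, h1, h2, e, h4⟩ := three_core hT.le h3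
  have e' := e.resolve_left fun e => hn (e ▸ h2)
  have h5 : Cfsg.pCoreOf 2 P = K := (eq_or_eq_of_prime_relIndex (e' ▸ Nat.prime_two)
    (le_pCoreOf (hT.isP.to_le h1) (h1.trans hT.le) h2) hT.pCoreOf_le).resolve_right
      fun e => hn (e ▸ le_normalizer_pCoreOf 2 P)
  have h6 : K.relIndex P = 6 := by rw [← relIndex_mul_relIndex _ _ _ h1 hT.le, h3, e']
  exact ⟨h5 ▸ h6, fun e => h4 (h5 ▸ e) (by rw [← h6, ← h5, e, relIndex_bot_left])⟩

theorem not_char {P T : Subgroup X} [Finite P] (hT : IsSyl 2 T P) (h6 : (Cfsg.pCoreOf 2 P).relIndex P = 6)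
    (hc : ¬ CharPOf 2 P) : P ≤ T ⊔ (P ⊓ 𝐂 (Cfsg.pCoreOf 2 P)) :=
  ((six_max hT h6 le_sup_left (sup_le hT.le inf_le_left)).resolve_left fun e => hc (le_pCoreOf
    (hT.isP.to_le (le_sup_right.trans e.le)) inf_le_left
    (le_normalizer_inf le_normalizer (le_normalizer_centralizer (le_normalizer_pCoreOf 2 P))))).ge

theorem d12 [Finite X] {P T : Subgroup X} (hT : IsSyl 2 T P) (h6 : (Cfsg.pCoreOf 2 P).relIndex P = 6)
    (hc : ¬ CharPOf 2 P) (h2 : Nat.card (Cfsg.pCoreOf 2 P) = 2) (ht : ∀ t ∈ T, t * t = 1) :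
    Nonempty (P ≃* DihedralGroup 6) := by
  classical
  set Q := Cfsg.pCoreOf 2 P
  have hnQ : P ≤ 𝐍 Q := le_normalizer_pCoreOf 2 P
  have hQP : Q ≤ P := pCoreOf_le 2 P
  have hP : Nat.card P = 12 := by rw [← card_mul_relIndex_of_le hQP, h2, h6]
  obtain ⟨d, hd, hd3⟩ := H10.exists_mem_orderOf_eq P Nat.prime_three (by rw [hP]; norm_num)
  obtain ⟨z, hz, hz2⟩ := H10.exists_mem_orderOf_eq Q Nat.prime_two (by rw [h2])
  obtain ⟨s, hs, hs'⟩ := SetLike.not_le_iff_exists.1 (six_not_le hT h6)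
  have hC := hnQ.trans (normalizer_le_c_of_card_two h2)
  have hdT : d ∉ T := fun e => by
    have := eq_one_of_mem_isPGroup hT.isP e (by rw [hd3]; norm_num)
    rw [this, orderOf_one] at hd3; omega
  have hd3' : d ^ 3 = 1 := hd3 ▸ pow_orderOf_eq_one d
  have h1 := relIndex_sup_zpowers (p := 3) (hp := ⟨Nat.prime_three⟩) (hnQ hd) (hd3' ▸ one_mem _)
    fun e => hdT (hT.pCoreOf_le e)
  have h3 : zpowers d ⊔ Q ≤ P := sup_le (zpowers_le.2 hd) hQP
  have h4 : (zpowers d ⊔ Q).relIndex P = 2 := by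
    have := relIndex_mul_relIndex _ _ _ le_sup_right h3
    rw [h1, h6] at this; omega
  have h5 : s * d * s⁻¹ ∈ zpowers d := by
    have : ((zpowers d ⊔ Q).subgroupOf P).Normal := normal_of_index_eq_two h4
    have h7 := conj_mem_of_mem_normalizer ((normal_subgroupOf_iff_le_normalizer h3).1 this (hT.le hs))
      (mem_sup_left (mem_zpowers d))
    rw [sup_comm] at h7
    exact pResidualOf_sup_le (isPGroup_pCoreOf 2 P) (le_normalizer_of_le_centralizer (le_centralizer_iff.1
      (zpowers_le.2 (hC hd)))) (mem_pResidualOf h7 (by rw [orderOf_cj, hd3]; norm_num))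
  have h7 : s * d * s⁻¹ = d⁻¹ := by
    rw [mem_zpowers_iff_mem_range_orderOf, hd3, Finset.mem_image] at h5
    obtain ⟨i, hi, e⟩ := h5
    rw [Finset.mem_range] at hi
    interval_cases i
    · rw [pow_zero, eq_comm, conj_eq_one_iff] at e
      exact absurd (e ▸ one_mem _) hdT
    · refine absurd (six_conj hT h6 hd hdT hs hs') (not_not.2 ?_)
      rw [pow_one, eq_mul_inv_iff_mul_eq] at e
      rwa [mul_assoc, ← e, inv_mul_cancel_left]
    · rw [← e, eq_inv_iff_mul_eq_one, ← pow_succ, hd3']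
  have h8 : orderOf (d * z) = 6 := H10.orderOf_mul_of_commute (hC hd z hz).symm hd3 hz2 (by norm_num)
  have hzz := ht z (hT.pCoreOf_le hz)
  have h9 : s * (d * z) * s⁻¹ = (d * z)⁻¹ := by
    rw [mul_inv_rev, inv_eq_of_mul_eq_one_left hzz, hC (inv_mem hd) z hz, ← h7, mul_assoc (s * d),
      ← hC (inv_mem (hT.le hs)) z hz]
    group
  have h10 : s ∉ zpowers (d * z) := fun ⟨k, e⟩ => by
    have : s * (d * z) * s⁻¹ = d * z := by rw [← e, ((Commute.refl _).zpow_left k).eq, mul_inv_cancel_right]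
    rw [h9, inv_eq_iff_mul_eq_one, ← sq] at this
    have := orderOf_dvd_of_pow_eq_one this
    rw [h8] at this
    omega
  obtain ⟨e⟩ := H9.nonempty_closure_equiv_dihedral (by norm_num) h8 (ht s hs) h9 h10
  refine ⟨(MulEquiv.subgroupCongr (eq_of_le_of_card_ge ((closure_le _).2 ?_) ?_)).symm.trans e⟩
  · rintro _ (rfl | rfl)
    exacts [hT.le hs, P.mul_mem hd (hQP hz)]
  · rw [H9.card_closure_dihedral (ht s hs) h9 h10, h8, hP]


/-- Let a finite group G act faithfully and primitively on a set Ω, and suppose the stabilizer of a point a has an orbit of length 3. Then the stabilizer of a is isomorphic to one of: the cyclic group of order 3, the symmetric group of degree 3, the dihedral group of order 12, the symmetric group of degree 4, or the direct product of the symmetric group of degree 4 with a group of order 2. -/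
theorem result {G Ω : Type*} [Group G] [Finite G] [MulAction G Ω] [FaithfulSMul G Ω] [Finite Ω]
    (hprim : MulAction.IsPreprimitive G Ω) (a b : Ω) (h3 : Nat.card (MulAction.orbit (MulAction.stabilizer G a) b) = 3) :
    Nonempty (MulAction.stabilizer G a ≃* Multiplicative (ZMod 3)) ∨ Nonempty (MulAction.stabilizer G a ≃* Equiv.Perm (Fin 3)) ∨
      Nonempty (MulAction.stabilizer G a ≃* DihedralGroup 6) ∨ Nonempty (MulAction.stabilizer G a ≃* Equiv.Perm (Fin 4)) ∨
      Nonempty (MulAction.stabilizer G a ≃* Equiv.Perm (Fin 4) × Multiplicative (ZMod 2)) := by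
  have : Nontrivial Ω := by
    have := Finite.one_lt_card_iff_nontrivial.1 (by rw [h3]; norm_num)
    exact (Subtype.val_injective (p := (· ∈ MulAction.orbit (MulAction.stabilizer G a) b))).nontrivial
  have hco := (MulAction.isCoatom_stabilizer_iff_preprimitive G a).2 hprim
  obtain ⟨g, rfl⟩ := MulAction.exists_smul_eq G a b
  set P := MulAction.stabilizer G a with hP
  have hP' : MulAction.stabilizer G (g • a) = cj g P := stabilizer_smul' g a
  have i1 : (P ⊓ cj g P).relIndex P = 3 := by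
    rw [inf_relIndex_left, ← h3, Nat.card_coe_set_eq, ← MulAction.index_stabilizer, ← hP']; rfl
  set T := P ⊓ cj g P with hT
  have i2 : T.relIndex (cj g P) = 3 := by
    have h1 := card_mul_relIndex_of_le (inf_le_left : T ≤ P)
    have h2 := card_mul_relIndex_of_le (inf_le_right : T ≤ cj g P)
    rw [card_cj, ← h1, i1] at h2
    exact Nat.eq_of_mul_eq_mul_left Nat.card_pos h2
  have free : ∀ N ≤ T, P ≤ 𝐍 N → cj g P ≤ 𝐍 N → N = ⊥ := fun N h1 h2 h4 => by
    have hn := normal_of_top_le_normalizer (hco.2 _ (lt_of_le_of_ne h2 fun e => by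
      rw [relIndex_eq_one.2 (le_inf (h4.trans e.ge) le_rfl)] at i2; omega)).ge
    refine eq_bot_iff.2 fun x hx => mem_bot.2 (eq_of_smul_eq_smul fun c : Ω => ?_)
    obtain ⟨k, rfl⟩ := MulAction.exists_smul_eq G a c
    rw [one_smul, ← inv_smul_eq_iff, ← mul_smul, ← mul_smul]
    exact (h1 (hn.conj_mem' x hx k)).1
  have h2 : IsPGroup 2 T := pResidualOf_eq_bot_iff.1 (free _ (pResidualOf_le 2 T) (res_normal inf_le_left i1)
    (res_normal inf_le_right i2))
  have s1 : IsSyl 2 T P := isSyl_of_not_dvd h2 inf_le_left (by omega)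
  have s2 : IsSyl 2 T (cj g P) := isSyl_of_not_dvd h2 inf_le_right (by omega)
  obtain ⟨k, hk, hk'⟩ := (s1.cj g).exists_cj_eq s2
  have tr : ∀ F : Subgroup G → Subgroup G, (∀ x A, cj x (F A) = F (cj x A)) → (P ≤ F T ↔ cj g P ≤ F T) := fun F hF => by
    conv_rhs => rw [← hk', ← hF, ← hF, ← cj_eq_of_mem hk, cj_le_cj_iff, cj_le_cj_iff]
  have tn := tr (fun A => 𝐍 A) cj_normalizer
  by_cases hn : P ≤ 𝐍 T
  · refine Or.inl ⟨mulEquivOfPrimeCardEq (p := 3) ?_ (by simp)⟩
    rw [← i1, free T le_rfl hn (tn.1 hn), relIndex_bot_left]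
  obtain ⟨j1, e1⟩ := six_of s1 i1 hn
  obtain ⟨j2, -⟩ := six_of s2 i2 (mt tn.2 hn)
  by_cases hc : CharPOf 2 P
  · have tc := tr (fun A => 𝐂 (oz A)) fun x A => by rw [cj_centralizer, cj_oz]
    have nc : ¬ P ≤ 𝐂 (oz T) := fun e => omegaOne_center_ne_bot h2 (fun e => six_not_le s1 j1 (e ▸ bot_le))
      (free _ (oz_le T) (le_normalizer_of_le_centralizer e) (le_normalizer_of_le_centralizer (tc.1 e)))
    exact Or.inr (Or.inr (Or.inr ((s3_amalgam_iso hT ⟨inferInstance, s1, j1, hc, nc⟩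
      ⟨inferInstance, s2, j2, hc.cj g, mt tc.2 nc⟩ free).imp And.left fun e => ⟨e.1.some.trans MulEquiv.prodComm⟩)))
  have h4 : T ≤ 𝐍 (Cfsg.pCoreOf 2 P ⊓ Cfsg.pCoreOf 2 (cj g P)) :=
    le_normalizer_inf (s1.le.trans (le_normalizer_pCoreOf 2 _)) (s2.le.trans (le_normalizer_pCoreOf 2 _))
  have h5 : Cfsg.pCoreOf 2 P ⊓ Cfsg.pCoreOf 2 (cj g P) = ⊥ := free _ (inf_le_left.trans s1.pCoreOf_le)
    ((not_char s1 j1 hc).trans (sup_le h4 (le_normalizer_of_le_centralizer (inf_le_right.trans (centralizer_anti inf_le_left)))))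
    ((not_char s2 j2 (mt (charPOf_map_iff (conj_injective' g)).1 hc)).trans (sup_le h4
      (le_normalizer_of_le_centralizer (inf_le_right.trans (centralizer_anti inf_le_right)))))
  have t1 := (six_relIndex s1 j1).1
  have t2 := (six_relIndex s2 j2).1
  have h6 := card_mul_relIndex (Cfsg.pCoreOf 2 (cj g P)) (Cfsg.pCoreOf 2 P)
  have h7 := relIndex_le_of_le_right s1.pCoreOf_le (H := Cfsg.pCoreOf 2 (cj g P)) (by omega)
  have h8 : 0 < Nat.card (Cfsg.pCoreOf 2 P) := Nat.card_pos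
  rw [inf_comm, h5, card_bot] at h6
  by_cases h9 : Nat.card (Cfsg.pCoreOf 2 P) = 1
  · exact Or.inr (Or.inl (e1 (card_eq_one.1 h9)))
  refine Or.inr (Or.inr (Or.inl (d12 s1 j1 hc (by omega) fun t ht => mem_bot.1 (h5.le ?_))))
  have k : ∀ R : Subgroup G, R.relIndex T = 2 → t * t ∈ R := fun R e =>
    mul_self_mem_of_index_two (H := R.subgroupOf T) e ⟨t, ht⟩
  exact ⟨k _ t1, k _ t2⟩

end Cfsg.Agent.S3685
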