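import Cfsg.Statements.S4084
import Cfsg.Agent.H22.Misc2

set_option autoImplicit false
open Cfsg

namespace Cfsg.Agent.S4084

theorem aux {G H : Type*} [Group G] [Finite G] [Group H] [Finite H] (e : G ≃ H)
    (he : ∀ x y : G, Commute x y ↔ Commute (e x) (e y))
    {p q : ℕ} (hp : p.Prime) (hq : q.Prime) (hpq : p ≠ q) (g : G) (hg : orderOf g = p * q) :
    ∃ h : H, orderOf h = p * q := by
  have h1 : ∀ x : G, x ∈ Subgroup.centralizer (Subgroup.centralizer ({g} : Set G) : Set G) ↔
      e x ∈ Subgroup.centralizer (Subgroup.centralizer ({e g} : Set H) : Set H) := by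
    intro x
    simp only [Subgroup.mem_centralizer_iff, SetLike.mem_coe, Set.mem_singleton_iff, forall_eq]
    constructor
    · intro h y hy
      obtain ⟨y, rfl⟩ := e.surjective y
      exact (he y x).mp (h y ((he g y).mpr hy))
    · intro h y hy
      exact (he y x).mpr (h _ ((he g y).mp hy))
  have h2 : Nat.card (Subgroup.centralizer (Subgroup.centralizer ({g} : Set G) : Set G)) =
      Nat.card (Subgroup.centralizer (Subgroup.centralizer ({e g} : Set H) : Set H)) :=
    Nat.card_congr (e.subtypeEquiv h1)
  have h3 : p * q ∣ Nat.card (Subgroup.centralizer (Subgroup.centralizer ({g} : Set G) : Set G)) := by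
    rw [← hg]
    exact Subgroup.orderOf_dvd_natCard _ (fun y hy => Subgroup.mem_centralizer_singleton_iff.mp hy)
  rw [h2] at h3
  obtain ⟨a, ha, hao⟩ := H1.exists_prime_orderOf_mem hp ((dvd_mul_right p q).trans h3)
  obtain ⟨b, hb, hbo⟩ := H1.exists_prime_orderOf_mem hq ((dvd_mul_left q p).trans h3)
  have hc : Commute a b := hb a (Subgroup.mem_centralizer_singleton_iff.mpr
    (ha (e g) (Subgroup.mem_centralizer_singleton_iff.mpr rfl)).symm)
  exact ⟨a * b, by
    rw [hc.orderOf_mul_eq_mul_orderOf_of_coprime
      (by rw [hao, hbo]; exact (Nat.coprime_primes hp hq).mpr hpq), hao, hbo]⟩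

/-- Let G and H be finite groups whose commuting graphs are isomorphic: there is a bijection e : G → H with x, y commuting exactly when e(x), e(y) commute. Then G and H have the same prime graph: for distinct primes p, q, G has an element of order pq if and only if H does (and #G = #H, so the prime divisors agree). -/
theorem result {G H : Type*} [Group G] [Finite G] [Group H] [Finite H] (e : G ≃ H)
    (he : ∀ x y : G, Commute x y ↔ Commute (e x) (e y))
    {p q : ℕ} (hp : p.Prime) (hq : q.Prime) (hpq : p ≠ q) :
    (∃ g : G, orderOf g = p * q) ↔ (∃ h : H, orderOf h = p * q) := by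
  constructor
  · rintro ⟨g, hg⟩
    exact aux e he hp hq hpq g hg
  · rintro ⟨g, hg⟩
    exact aux e.symm (fun x y => by rw [he]; simp) hp hq hpq g hg

end Cfsg.Agent.S4084
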