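import Cfsg.Statements.S3413
import Cfsg.Agent.H2.IdP
import Cfsg.Agent.S4084

set_option autoImplicit false
open Cfsg

namespace Cfsg.Agent.S3413

/-- Let H be a finite group whose commuting graph (vertices the non-identity elements, two joined when they commute) is isomorphic to that of the Mathieu group M_11: there is a bijection between the non-identity elements of H and of M_11 under which two elements commute exactly when their images do. Then H ≅ M_11. -/
theorem result {H : Type*} [Group H] [Finite H]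
    (f : {h : H // h ≠ 1} ≃ {g : ↥Cfsg.Spor.M11 // g ≠ 1})
    (hf : ∀ x y : {h : H // h ≠ 1}, (x : H) * y = y * x ↔ ((f x) : ↥Cfsg.Spor.M11) * (f y) = (f y) * (f x)) :
    Nonempty (H ≃* ↥Cfsg.Spor.M11) := by
  classical
  have := H14.isM11.1
  have hM := H14.isM11.2
  have : Finite Cfsg.Spor.M11 := Nat.finite_of_card_ne_zero (by omega)
  let e : H ≃ Cfsg.Spor.M11 := (Equiv.optionSubtypeNe 1).symm.trans (f.optionCongr.trans (Equiv.optionSubtypeNe 1))
  have e1 : e 1 = 1 := by simp [e]
  have e2 : ∀ x : {h : H // h ≠ 1}, e x = f x := fun x => by simp [e, Equiv.optionSubtypeNe_symm_of_ne x.2]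
  have he : ∀ x y : H, Commute x y ↔ Commute (e x) (e y) := fun x y => by
    by_cases hx : x = 1
    · simp [hx, e1]
    by_cases hy : y = 1
    · simp [hy, e1]
    rw [e2 ⟨x, hx⟩, e2 ⟨y, hy⟩]
    exact hf ⟨x, hx⟩ ⟨y, hy⟩
  have hc := (Nat.card_congr e).trans hM
  have := H2.M11.disc hc (A := {11}) rfl (b := 2) (by simp) Nat.prime_two (by norm_num) fun a ha b hb ap bp g o => by
    obtain rfl : a = 11 := ha
    obtain ⟨x, hx⟩ := Cfsg.Agent.S4084.aux e he ap bp (Ne.symm hb) g o
    exact H2.M11.no22 hM (g := x) (hx ▸ dvd_mul_right _ _) bp hb (hx ▸ dvd_mul_left _ _)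
  exact H2.m11_iso hc

end Cfsg.Agent.S3413
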