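import Cfsg.Statements.S3427
import Cfsg.Agent.H10.G22b
import Cfsg.Agent.H10.DG6
import Cfsg.Agent.H12.SpG2
import Cfsg.Agent.S1059

set_option autoImplicit false
open Cfsg

namespace Cfsg.Agent.S3427

/-- Let F be the field with 2 elements and let M be the Chevalley group of type G₂ over F (a non-simple group of order 12096 whose derived subgroup, of index 2, is isomorphic to PSU(3, 3)). A finite group G is isomorphic to M if and only if G has the same set of element orders and the same order as M. -/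
theorem result {G : Type*} [Group G] [Finite G] {F : Type*} [Field F] [Fintype F] (hF : Fintype.card F = 2) :
    Nonempty (G ≃* ↥(Cfsg.Lie.chevG2.group F)) ↔
      (Set.range (orderOf : G → ℕ) = Set.range (orderOf : ↥(Cfsg.Lie.chevG2.group F) → ℕ) ∧ Nat.card G = Nat.card ↥(Cfsg.Lie.chevG2.group F)) := by
  refine ⟨fun ⟨e⟩ => ⟨?_, Nat.card_congr e.toEquiv⟩, fun ⟨h1, h2⟩ => ?_⟩
  · ext n
    exact ⟨fun ⟨g, hg⟩ => ⟨e g, (e.orderOf_eq g).trans hg⟩,
      fun ⟨g, hg⟩ => ⟨e.symm g, (e.symm.orderOf_eq g).trans hg⟩⟩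
  have hc : Nat.card (Cfsg.Lie.chevG2.group F) = 12096 := S1059.result hF
  have : Finite (Cfsg.Lie.chevG2.group F) := Nat.finite_of_card_ne_zero (by omega)
  have : CharP F 2 := H19.charP_of_card (n := 1) hF
  have h3 : H10.CC7 (Cfsg.Lie.chevG2.group F) := fun x hx => by
    rcases H12.spec_G2 2 hF x with h | h | h | h | h | h | h | h
    · exact absurd (hx.trans h) (by norm_num)
    · exact Nat.dvd_antisymm h hx
    · exact absurd (hx.trans h) (by norm_num)
    · exact absurd (hx.trans h) (by norm_num)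
    · exact absurd (hx.trans h) (by norm_num)
    · exact absurd rfl h.1
    · exact absurd (hx.trans (h.2 2 (by norm_num))) (by norm_num)
    · exact absurd (hx.trans (h 3 (by norm_num))) (by norm_num)
  have h4 : H10.CC7 G := fun x hx => by
    obtain ⟨y, hy⟩ : orderOf x ∈ Set.range (orderOf : Cfsg.Lie.chevG2.group F → ℕ) := h1 ▸ ⟨x, rfl⟩
    rw [← hy] at hx ⊢
    exact h3 y hx
  have := Fintype.ofFinite (GaloisField 3 2)
  have c := H10.card_GF 3 2 9 (by norm_num) rfl
  obtain ⟨f⟩ := h4.equiv_aut (h2.trans hc) c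
  obtain ⟨g⟩ := h3.equiv_aut hc c
  exact ⟨f.trans g.symm⟩

end Cfsg.Agent.S3427
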