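import Cfsg.Statements.S3494
import Cfsg.Agent.H17.TW

set_option autoImplicit false
open Cfsg

namespace Cfsg.Agent.S3494

open Subgroup H17 MulAction
open scoped Pointwise

theorem key {G : Type*} [Group G] [Finite G] {Ω : Type*} [Fintype Ω] [MulAction G Ω] [FaithfulSMul G Ω]
    (hprim : IsPreprimitive G Ω) (hep : ∀ (α : Ω) (ω : Ω), IsPreprimitive (stabilizer G α) (orbit (stabilizer G α) ω))
    {α β : Ω} (hω : β ≠ α) :
    cor (stabilizer G α) (stabilizer G α ⊓ stabilizer G β) ≤ cor (stabilizer G β) (stabilizer G β ⊓ stabilizer G α) := by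
  set M := stabilizer G α with hM
  set N := stabilizer G β with hN
  set K := cor M (M ⊓ N)
  have hKN : K ≤ N := (cor_le' _ _).trans inf_le_right
  intro x hx
  refine mem_cor.2 ⟨hKN hx, fun n hn => ⟨N.mul_mem (N.mul_mem hn (hKN hx)) (N.inv_mem hn), ?_⟩⟩
  by_contra h
  set γ := n⁻¹ • α with hγ
  have h1 : x • γ ≠ γ := fun e => h (by
    change (n * x * n⁻¹) • α = α
    rw [mul_smul, mul_smul, ← hγ, e, hγ, smul_inv_smul])
  have := hep α γ
  have : (K.subgroupOf M).Normal := (normal_subgroupOf_iff_le_normalizer (cor_le _ _)).2 (le_normalizer_cor _ _)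
  have ht : IsPretransitive (K.subgroupOf M) (orbit M γ) := IsQuasiPreprimitive.isPretransitive_of_normal fun e => by
    have h2 : (⟨γ, mem_orbit_self γ⟩ : orbit M γ) ∈ fixedPoints (K.subgroupOf M) (orbit M γ) := e ▸ Set.mem_univ _
    exact h1 (congrArg Subtype.val (h2 ⟨⟨x, cor_le _ _ hx⟩, hx⟩))
  have h2 : orbit M β ⊆ orbit (stabilizer G γ) β := by
    rintro _ ⟨m, rfl⟩
    obtain ⟨k, hk⟩ := ht.exists_smul_eq ⟨γ, mem_orbit_self γ⟩ ⟨m⁻¹ • γ, mem_orbit γ _⟩
    have hk' : ((k : M) : G) • γ = (m : G)⁻¹ • γ := congrArg Subtype.val hk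
    refine ⟨⟨m * (k : M), by rw [mem_stabilizer_iff, mul_smul, hk', smul_inv_smul]⟩, ?_⟩
    change ((m : G) * (k : M)) • β = (m : G) • β
    rw [mul_smul, show ((k : M) : G) • β = β from hKN k.2]
  have h3 : (orbit (stabilizer G γ) β).ncard = (orbit M β).ncard := by
    rw [← index_stabilizer, ← index_stabilizer]
    change N.relIndex (stabilizer G γ) = N.relIndex M
    rw [hγ, stabilizer_smul_eq_stabilizer_map_conj, ← relIndex_map_map_of_injective
      (f := (MulAut.conj n⁻¹).toMonoidHom) N M (MulAut.conj _).injective]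
    congr 1
    exact (cj_eq_of_mem (N.inv_mem hn)).symm
  have h4 := Set.eq_of_subset_of_ncard_le h2 h3.le
  have : Nontrivial Ω := ⟨β, α, hω⟩
  have hc := (isCoatom_stabilizer_iff_preprimitive G α).2 hprim
  have h5 : ∀ (L : Subgroup G), L ≤ stabilizer G (orbit L β) := fun L g hg => smul_orbit (⟨g, hg⟩ : L) β
  have h6 : stabilizer G (orbit M β) = ⊤ := by
    refine hc.2 _ (lt_of_le_of_ne (h5 M) fun e => h1 ?_)
    have h7 : stabilizer G γ ≤ M := (h5 _).trans (by rw [← h4]; exact e.ge)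
    have h8 : Nat.card (stabilizer G γ) = Nat.card M := by
      rw [hγ, stabilizer_smul_eq_stabilizer_map_conj]; exact card_cj _ _
    exact (eq_of_le_of_card_ge h7 h8.ge).ge (cor_le _ _ hx)
  obtain ⟨g, hg⟩ := exists_smul_eq G β α
  have h7 : α ∈ orbit M β := by
    rw [← hg, ← mem_stabilizer_iff.1 (h6.ge (mem_top g))]
    exact Set.smul_mem_smul_set (mem_orbit_self β)
  obtain ⟨m, hm⟩ := h7
  exact hω (by rw [← (smul_eq_iff_eq_inv_smul m).1 hm |>.symm]; exact (m⁻¹).2)

theorem cf {G : Type*} [Group G] [Finite G] {Ω : Type*} [Fintype Ω] [MulAction G Ω] [FaithfulSMul G Ω]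
    (hprim : IsPreprimitive G Ω) [Nontrivial Ω] (a : Ω) : CF (stabilizer G a) := by
  refine cf_of_coatom ((isCoatom_stabilizer_iff_preprimitive G a).2 hprim) (eq_bot_iff.2 fun x hx => ?_)
  refine eq_of_smul_eq_smul (α := Ω) fun c => ?_
  obtain ⟨k, rfl⟩ := exists_smul_eq G a c
  have := hx k⁻¹
  rw [inv_inv, mem_stabilizer_iff, mul_smul, mul_smul, inv_smul_eq_iff] at this
  rw [this, one_smul]

/-- Manning's Theorem on extremely primitive groups. Let a finite group G act faithfully and primitively on a finite set Ω with non-trivial point stabilizers, and suppose every point stabilizer G_α acts primitively on each of its orbits. Then G_α acts faithfully on each of its orbits other than {α}: an element of G_α fixing every point of one such orbit is the identity. -/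
theorem result {G : Type*} [Group G] [Finite G] {Ω : Type*} [Fintype Ω] [MulAction G Ω] [FaithfulSMul G Ω] (hprim : MulAction.IsPreprimitive G Ω) (hH : ∀ α : Ω, MulAction.stabilizer G α ≠ ⊥) (hep : ∀ (α : Ω) (ω : Ω), MulAction.IsPreprimitive (MulAction.stabilizer G α) (MulAction.orbit (MulAction.stabilizer G α) ω))
    (α ω : Ω) (hω : ω ≠ α) (h : MulAction.stabilizer G α) (hfix : ∀ x ∈ MulAction.orbit (MulAction.stabilizer G α) ω, h • x = x) : h = 1 := by
  have : Nontrivial Ω := ⟨ω, α, hω⟩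
  have h1 := le_antisymm (key hprim hep hω) (key hprim hep hω.symm)
  have h2 : (h : G) ∈ cor (stabilizer G α) (stabilizer G α ⊓ stabilizer G ω) := by
    refine mem_cor.2 ⟨h.2, fun m hm => ⟨Subgroup.mul_mem _ (Subgroup.mul_mem _ hm h.2) (Subgroup.inv_mem _ hm), ?_⟩⟩
    have h5 := hfix _ (mem_orbit ω (⟨m, hm⟩⁻¹ : stabilizer G α))
    change (h : G) • m⁻¹ • ω = m⁻¹ • ω at h5
    change (m * h * m⁻¹) • ω = ω
    rw [mul_smul, mul_smul, h5, smul_inv_smul]
  by_contra h0
  have h3 : cor (stabilizer G α) (stabilizer G α ⊓ stabilizer G ω) ≠ ⊥ := fun e =>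
    h0 (Subtype.ext (mem_bot.1 (e ▸ h2)))
  have h4 := cf hprim α _ h3 (cor_le _ _) (le_normalizer_cor _ _)
  rw [h1] at h4
  have h5 := (le_normalizer_cor _ _).trans h4
  obtain ⟨g, hg⟩ := exists_smul_eq G ω α
  have e : stabilizer G α = cj g (stabilizer G ω) := by rw [← hg, stabilizer_smul_eq_stabilizer_map_conj]
  have h6 : stabilizer G ω = stabilizer G α := eq_of_le_of_card_ge h5 (by rw [e, card_cj])
  have h7 := cf hprim ω _ (hH ω) le_rfl le_normalizer (mem_normalizer_iff_cj.2 (e.symm.trans h6.symm))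
  exact hω (h7.symm.trans hg)

end Cfsg.Agent.S3494
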