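import Cfsg.Statements.S3496
import Cfsg.Agent.H17.EP
import Cfsg.Agent.H17.FIr
import Cfsg.Agent.S3494
import Cfsg.Agent.H18.BG1
import Cfsg.Agent.H3.PG

set_option autoImplicit false
open Cfsg

namespace Cfsg.Agent.S3496

open H117 H18 Subgroup MulAction
open scoped IsMulCommutative

theorem fb (X : Type*) [Group X] [Finite X] [Group.IsSolvable X] [Nontrivial X] : fittingSubgroup X ≠ ⊥ := fun e => by
  have := cent_sub_Fitting (inferInstance : Solv (⊤ : Subgroup X))
  rw [fit_top, e, C_bot] at this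
  exact top_ne_bot (le_bot_iff.1 ((le_inf le_rfl le_rfl).trans this))

theorem top {H : Type*} [Group H] [Finite H] {t : H} {p q d : ℕ} [(zpowers t).Normal] (hq : orderOf t = q)
    (hc : q.Coprime p) (hC : C(zpowers t) = zpowers t) (hd : t ^ p ^ d = t)
    (h : ∀ x : H, ∃ k : ℕ, x * t * x⁻¹ = t ^ p ^ k) :
    (∃ x : H, zpowers t ⊔ zpowers x = ⊤) ∧ Nat.card H ∣ q * d := by
  have cq : Nat.card (zpowers t) = q := by rw [Nat.card_zpowers, hq]
  let π : MulAut (zpowers t) := MulEquiv.ofBijective (powMonoidHom p) (Nat.Coprime.pow_left_bijective (cq ▸ hc))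
  have hπ : ∀ (k : ℕ) x, (π ^ k) x = x ^ p ^ k := fun k => by
    induction k with
    | zero => simp
    | succ k ih => intro x; rw [pow_succ, MulAut.mul_apply, ih, pow_succ', pow_mul]; rfl
  have pw : ∀ (n : ℤ) (m : ℕ), (t ^ n) ^ m = (t ^ m) ^ n := fun n m => by
    simp only [← zpow_natCast, ← zpow_mul, mul_comm]
  let f : H →* MulAut (zpowers t) := MulAut.conjNormal
  have kf : f.ker = zpowers t := by
    refine Eq.trans ?_ hC
    ext x
    rw [MonoidHom.mem_ker, mem_centralizer_iff, MulEquiv.ext_iff]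
    exact ⟨fun e y hy => (mul_inv_eq_iff_eq_mul.1 (congrArg Subtype.val (e ⟨y, hy⟩))).symm,
      fun e y => Subtype.ext (mul_inv_eq_iff_eq_mul.2 (e y y.2).symm)⟩
  have r : f.range ≤ zpowers π := by
    rintro _ ⟨x, rfl⟩
    obtain ⟨k, hk⟩ := h x
    refine ⟨k, MulEquiv.ext fun ⟨_, n, rfl⟩ => Subtype.ext ?_⟩
    simp only [zpow_natCast, hπ]
    show (t ^ n) ^ p ^ k = x * t ^ n * x⁻¹
    rw [pw, ← hk, conj_zpow]
  constructor
  · obtain ⟨_, e⟩ := (cyc_zpowers.of_le r).gen
    obtain ⟨x, rfl⟩ := e.le (mem_zpowers _)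
    refine ⟨x, eq_top_iff.2 fun y _ => ?_⟩
    obtain ⟨n, hn⟩ := e.ge ⟨y, rfl⟩
    have : y * (x ^ n)⁻¹ ∈ f.ker := by rw [MonoidHom.mem_ker, map_mul, map_inv, map_zpow, ← hn, mul_inv_cancel]
    rw [← inv_mul_cancel_right y (x ^ n)]
    exact mul_mem (mem_sup_left (kf.le this)) (mem_sup_right (zpow_mem (mem_zpowers x) n))
  · rw [← f.ker.card_mul_index, index_ker, kf, cq]
    refine mul_dvd_mul_left _ ((card_dvd_of_le r).trans ?_)
    rw [Nat.card_zpowers, orderOf_dvd_iff_pow_eq_one]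
    refine MulEquiv.ext fun ⟨_, n, rfl⟩ => Subtype.ext ?_
    rw [hπ]
    show (t ^ n) ^ p ^ d = t ^ n
    rw [pw, hd]

/-- The soluble extremely primitive groups. Let a finite solvable group G act faithfully and primitively on a finite set Ω with p ^ d points (p prime), with non-trivial point stabilizers each acting primitively on every one of its orbits. Then there is a prime q such that every orbit of a point stabilizer G_α other than {α} has exactly q points, q divides p ^ d − 1 but no p ^ i − 1 with 0 < i < d, and G_α has a normal subgroup T of order q with G_α generated by T and one further element and the order of G_α dividing q·d (so G_α is cyclic of order q, or an extension of T by a cyclic group of order dividing d). -/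
theorem result {G : Type*} [Group G] [Finite G] {Ω : Type*} [Fintype Ω] [MulAction G Ω] [FaithfulSMul G Ω] [Group.IsSolvable G] (p d : ℕ) (hp : p.Prime) (hcard : Fintype.card Ω = p ^ d)
    (hprim : MulAction.IsPreprimitive G Ω) (hH : ∀ α : Ω, MulAction.stabilizer G α ≠ ⊥) (hep : ∀ (α : Ω) (ω : Ω), MulAction.IsPreprimitive (MulAction.stabilizer G α) (MulAction.orbit (MulAction.stabilizer G α) ω)) (α : Ω) :
    ∃ q : ℕ, q.Prime ∧ (∀ ω : Ω, ω ≠ α → Nat.card (MulAction.orbit (MulAction.stabilizer G α) ω) = q) ∧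
      q ∣ p ^ d - 1 ∧ (∀ i : ℕ, 0 < i → i < d → ¬ q ∣ p ^ i - 1) ∧
      ∃ T : Subgroup G, T ≤ MulAction.stabilizer G α ∧ MulAction.stabilizer G α ≤ Subgroup.normalizer (T : Set G) ∧ Nat.card T = q ∧
        (∃ h : G, MulAction.stabilizer G α = T ⊔ Subgroup.zpowers h) ∧ Nat.card (MulAction.stabilizer G α) ∣ q * d := by
  obtain ⟨ω₀, hω₀⟩ : ∃ ω, ω ≠ α := by
    by_contra! h
    exact hH α (eq_bot_iff.2 fun g _ => eq_of_smul_eq_smul (α := Ω) fun c => by rw [h (g • c), one_smul, h c])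
  have hf : ∀ ω, ω ≠ α → ∀ h : stabilizer G α, (∀ x : orbit (stabilizer G α) ω, h • x = x) → h = 1 :=
    fun ω hω h e => S3494.result hprim hH hep α ω hω h fun x hx => congrArg Subtype.val (e ⟨x, hx⟩)
  have hG : ∀ g : G, (∀ x : Ω, g • x = x) → g = 1 := fun g e => eq_of_smul_eq_smul (α := Ω) fun c => by
    rw [e, one_smul]
  have nH : Nontrivial (stabilizer G α) := (nontrivial_iff_ne_bot _).2 (hH α)
  have : Nontrivial G := (stabilizer G α).subtype_injective.nontrivial
  have v0 := fb G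
  have h0 := fb (stabilizer G α)
  obtain ⟨r, hr, eV, cV, mV⟩ := prim_fit hprim hG α v0
  obtain ⟨q, hq, hE, hC, mN⟩ := prim_fit (hep α ω₀) (hf ω₀ hω₀) ⟨ω₀, mem_orbit_self ω₀⟩ h0
  generalize fittingSubgroup G = V at v0 eV cV mV
  generalize fittingSubgroup (stabilizer G α) = F at h0 hE hC mN
  have := nml_top_iff.1 ⟨le_top, mN.norm⟩
  have nV := nml_top_iff.1 ⟨le_top, mV.norm⟩
  have sV : ∀ v ∈ V, v • α = α → v = 1 := fun v hv e => prim_semireg hprim hG v0 (eV.abel hv) e
  have tV := (prim_trans hprim hG v0).exists_smul_eq α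
  have cardV : Nat.card V = p ^ d := by
    rw [← hcard, ← Nat.card_eq_fintype_card]
    refine Nat.card_eq_of_bijective (fun v : V => v • α) ⟨fun u v e => Subtype.ext (inv_mul_eq_one.1 (sV _
      (mul_mem (inv_mem u.2) v.2) ?_)), tV⟩
    rw [mul_smul, inv_smul_eq_iff]
    exact e.symm
  obtain rfl : r = p := (Nat.prime_dvd_prime_iff_eq hr hp).1 (hr.dvd_of_dvd_pow (cardV ▸ (eV.pi hr).dvd_card v0))
  have sF : ∀ ω, ω ≠ α → ∀ g ∈ F, (g : G) • ω = ω → g = 1 := fun ω hω g hg e =>
    prim_semireg (hep α ω) (hf ω hω) h0 (hE.abel hg) (x := ⟨ω, mem_orbit_self _⟩) (Subtype.ext e)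
  have tF : ∀ ω, ω ≠ α → ∀ h : stabilizer G α, ∃ g ∈ F, (g : G) • ω = (h : G) • ω := fun ω hω h => by
    obtain ⟨g, e⟩ := (prim_trans (hep α ω) (hf ω hω) h0).exists_smul_eq ⟨ω, mem_orbit_self _⟩ ⟨_, mem_orbit ω h⟩
    exact ⟨g, g.2, congrArg Subtype.val e⟩
  have reg : Semireg V (F.map (stabilizer G α).subtype) := by
    rintro _ ⟨g, hg, rfl⟩ g1
    refine eq_bot_iff.2 fun v hv => by_contra fun v1 => g1 (congrArg Subtype.val
      (sF (v • α) (fun e => v1 (sV v hv.1 e)) g hg ?_))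
    rw [← mul_smul, show (g : G) * v = v * g from mem_centralizer_iff.1 hv.2 _ rfl, mul_smul, g.2]
  have cop := reg.coprime (le_top.trans mV.norm)
  have cy : Cyc (F.map (stabilizer G α).subtype) := by
    by_contra hc
    obtain ⟨a, ha, a1, e⟩ := exists_cent1_ne_bot (abel_of_comm (by have := hE.abel.comm; infer_instance)) hc
      (le_top.trans mV.norm) cop.symm v0
    exact e (reg a ha a1)
  rw [card_map_of_injective (subtype_injective _)] at cop
  replace cy : Cyc F := (MulEquiv.isCyclic (F.equivMapOfInjective _ (subtype_injective _))).2 cy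
  have cF : Nat.card F = q := ((Nat.dvd_prime hq).1 (H3.card_dvd_of_cyc_of_pow cy hE.pow)).resolve_left
    fun e => h0 (card_eq_one.1 e)
  obtain ⟨t, rfl⟩ := cy.gen
  have ot : orderOf t = q := by rw [← Nat.card_zpowers, cF]
  let c : stabilizer G α →* MulAut V := MulAut.conjNormal.comp (Subgroup.subtype _)
  have ci : Function.Injective c := (injective_iff_map_eq_one c).2 fun h e => Subtype.ext (sV _
    (cV.le (mem_centralizer_iff.2 fun y hy => (mul_inv_eq_iff_eq_mul.1 (show (h : G) * y * (h : G)⁻¹ = y from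
      congrArg Subtype.val (DFunLike.congr_fun e (⟨y, hy⟩ : V)))).symm)) h.2)
  have := eV.abel.comm
  have : Nontrivial V := (nontrivial_iff_ne_bot _).2 v0
  obtain ⟨f1, f2⟩ := H17.FIr.field_irred hp (fun v => Subtype.ext (eV.pow v v.2)) cardV (c t) fun W hW => by
    have n1 : zpowers (t : G) ≤ N(W.map V.subtype) := zpowers_le.2 (mem_N_of_finite (by
      rintro _ ⟨w, hw, rfl⟩
      exact ⟨_, hW w hw, rfl⟩))
    have n2 : stabilizer G α ≤ N(W.map V.subtype) := fun h hh => mem_N_of_finite fun w hw => by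
      by_cases w1 : w = 1
      · rw [w1, mul_one, mul_inv_cancel]; exact one_mem _
      have wV := map_subtype_le W hw
      obtain ⟨g, hg, e⟩ := tF (w • α) (fun e => w1 (sV w wV e)) ⟨h, hh⟩
      have : (g : G) * w * (g : G)⁻¹ = h * w * h⁻¹ := inv_mul_eq_one.1 (sV _ (mul_mem (inv_mem (nV.conj_mem _ wV _))
        (nV.conj_mem _ wV _)) (by
          rw [mul_smul, inv_smul_eq_iff, mul_smul, mul_smul, mul_smul, mul_smul, (inv_mem hh : h⁻¹ • α = α),
            (inv_mem g.2 : (g : G)⁻¹ • α = α), e]))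
      obtain ⟨n, rfl⟩ := hg
      exact this ▸ conj_mem_N (n1 ⟨n, rfl⟩) hw
    have n3 : ⊤ ≤ N(W.map V.subtype) := fun g _ => by
      obtain ⟨v, e⟩ := tV (g • α)
      have : (v : G)⁻¹ * g ∈ stabilizer G α := by rw [mem_stabilizer_iff, mul_smul, inv_smul_eq_iff]; exact e.symm
      simpa using mul_mem (eV.abel.norm (map_subtype_le W) v.2) (n2 this)
    refine (mV.eq_bot_or (map_subtype_le W) n3).imp (map_eq_bot_iff_of_injective _ V.subtype_injective).1 fun e =>
      map_injective V.subtype_injective (by rw [e, ← MonoidHom.range_eq_map, range_subtype])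
  have g1 : ∀ i, q ∣ r ^ i - 1 ↔ d ∣ i := fun i => by
    rw [← f1, ← map_pow, ci.eq_iff, ← ot, orderOf_dvd_iff_pow_eq_one]
    obtain ⟨m, hm⟩ := Nat.exists_eq_succ_of_ne_zero (pow_pos hp.pos i).ne'
    rw [hm, Nat.succ_sub_one, pow_succ, mul_eq_right]
  obtain ⟨⟨x, hx⟩, g2⟩ := top (p := r) (d := d) ot (by
      rw [cF, cardV] at cop
      refine Nat.Coprime.symm ((Nat.coprime_pow_left_iff (Nat.pos_of_ne_zero fun e => v0 ?_) _ _).1 cop)
      rw [e, pow_zero] at cardV
      exact card_eq_one.1 cardV) hC (ci (by rw [map_pow, (f1 d).2 dvd_rfl])) fun h => by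
    obtain ⟨j, hj⟩ := H3.exists_conj_eq_pow (le_normalizer_of_normal (mem_top h) : h ∈ N(zpowers t))
    obtain ⟨k, hk⟩ := f2 (c h) j (by rw [← map_inv, ← map_mul, ← map_mul, hj, map_pow])
    exact ⟨k, ci (by rw [map_mul, map_mul, map_inv, hk, map_pow])⟩
  refine ⟨q, hq, fun ω hω => ?_, (g1 d).2 dvd_rfl, fun i i0 i1 e => (Nat.le_of_dvd i0 ((g1 i).1 e)).not_gt i1,
    (zpowers t).map (Subgroup.subtype _), map_subtype_le _, ?_, by rw [card_map_of_injective (subtype_injective _), cF],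
    ⟨x, ?_⟩, g2⟩
  · rw [← cF]
    refine (Nat.card_eq_of_bijective (fun g : zpowers t => (⟨_, mem_orbit ω g.1⟩ : orbit (stabilizer G α) ω))
      ⟨fun u v e => Subtype.ext (inv_mul_eq_one.1 (sF ω hω _ (mul_mem (inv_mem u.2) v.2) ?_)), ?_⟩).symm
    · rw [coe_mul, mul_smul, coe_inv, inv_smul_eq_iff]
      exact (congrArg Subtype.val e).symm
    · rintro ⟨_, h, rfl⟩
      obtain ⟨g, hg, e⟩ := tF ω hω h
      exact ⟨⟨g, hg⟩, Subtype.ext e⟩
  · have := le_normalizer_map (H := zpowers t) (stabilizer G α).subtype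
    rwa [normalizer_eq_top, ← MonoidHom.range_eq_map, range_subtype] at this
  · have := congrArg (map (stabilizer G α).subtype) hx
    rwa [Subgroup.map_sup, ← MonoidHom.range_eq_map, range_subtype, MonoidHom.map_zpowers _ x, eq_comm] at this

end Cfsg.Agent.S3496
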