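import Cfsg.Statements.S4039
import Cfsg.Agent.H1.Harv1

set_option autoImplicit false
open Cfsg

namespace Cfsg.Agent.S4039

open H18 Subgroup
open scoped commutatorElement

/-- A finite group possessing a maximal subgroup that is nilpotent of class at most 2 is solvable. -/
theorem result {G : Type*} [Group G] [Finite G]
    (M : Subgroup G) (hmax : IsCoatom M) (hnil : Group.IsNilpotent M) (hcl : Group.nilpotencyClass ↥M ≤ 2) :
    Group.IsSolvable G := by
  refine H1.solv_of_max_nil G M hmax hnil (cent_mono (A := ⁅M, M⁆) (B := M) ?_ (der_mono pcore_le) pcore_le)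
  have h := Subgroup.lowerCentralSeries_eq_bot_iff_nilpotencyClass_le.2 hcl
  have h2 := congrArg (Subgroup.map M.subtype) h
  rw [← comm_eq_bot_iff]
  simpa [Subgroup.lowerCentralSeries_succ, map_commutator, ← MonoidHom.range_eq_map, _root_.commutator_def] using h2

end Cfsg.Agent.S4039
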