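import Cfsg.Statements.S3501
import Cfsg.Agent.H23.Cls

set_option autoImplicit false
open Cfsg

namespace Cfsg.Agent.S3501
open H18 Subgroup MulAction

variable {G : Type*} [Group G] [Finite G] {Ω : Type*} [Fintype Ω] [MulAction G Ω]

theorem der_conj {d : G} (h : ∀ ω : Ω, d • ω ≠ ω) (g : G) (ω : Ω) : (g * d * g⁻¹) • ω ≠ ω := fun e =>
  h (g⁻¹ • ω) (by rw [← mul_smul, eq_inv_smul_iff, ← mul_smul, ← mul_assoc, e])

/-- `T` transitive on the (at least two) orbits of a subgroup `C` centralizing it -/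
theorem exists_der {T C : Subgroup G} (hc : C ≤ C(T)) {a b : Ω} (tr : ∀ ω : Ω, ∃ s ∈ T, ∃ c ∈ C, (s * c) • a = ω)
    (hb : ∀ c ∈ C, c • a ≠ b) : ∃ t ∈ T, ∀ c ∈ C, ∀ ω : Ω, (t * c) • ω ≠ ω := by
  have cm : ∀ s ∈ T, ∀ c ∈ C, s * c = c * s := fun s hs c h => hc h s hs
  let K : Subgroup G :=
    { carrier := {t | t ∈ T ∧ ∃ c ∈ C, t • a = c • a}
      one_mem' := ⟨one_mem _, 1, one_mem _, rfl⟩
      mul_mem' := fun {x y} ⟨hx, c, k, e⟩ ⟨hy, c', k', e'⟩ => ⟨mul_mem hx hy, c' * c, mul_mem k' k, by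
        rw [mul_smul, e', ← mul_smul, cm x hx c' k', mul_smul, e, mul_smul]⟩
      inv_mem' := fun {x} ⟨hx, c, k, e⟩ => ⟨inv_mem hx, c⁻¹, inv_mem k, by
        rw [inv_smul_eq_iff, ← mul_smul, cm x hx _ (inv_mem k), mul_smul, e, inv_smul_smul]⟩ }
  by_contra! h
  have : T ≤ K := H23.Cls.le_of_cover fun t ht => by
    obtain ⟨c, k, ω, e⟩ := h t ht
    obtain ⟨s, hs, c', k', rfl⟩ := tr ω
    have m : s⁻¹ * t * s⁻¹⁻¹ ∈ T := mul_mem (mul_mem (inv_mem hs) ht) (inv_mem (inv_mem hs))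
    refine ⟨s⁻¹, inv_mem hs, m, (c * c')⁻¹ * c', mul_mem (inv_mem (mul_mem k k')) k', ?_⟩
    rw [mul_smul (c * c')⁻¹, eq_inv_smul_iff, ← mul_smul, ← cm _ m _ (mul_mem k k'), inv_inv, mul_assoc, mul_assoc,
      mul_smul, inv_smul_eq_iff, ← mul_smul s, ← e, ← mul_smul, ← mul_assoc s, cm s hs c k]
    simp only [mul_assoc]
  obtain ⟨s, hs, c, k, e⟩ := tr b
  obtain ⟨-, c', k', e'⟩ := this hs
  exact hb _ (mul_mem k k') (by rw [mul_smul, ← e', ← mul_smul, ← cm s hs c k, e])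

theorem sharp_uniq (h2 : IsMultiplyPretransitive G Ω 2)
    (hs : ∀ g : G, g ≠ 1 → ∀ a b : Ω, a ≠ b → g • a = a → g • b ≠ b) {d d' : G} (hd : ∀ ω : Ω, d • ω ≠ ω)
    (hd' : ∀ ω : Ω, d' • ω ≠ ω) {a : Ω} (e : d • a = d' • a) : d = d' := by
  classical
  have inj : ∀ g g' : G, g • a = g' • a → g • d • a = g' • d • a → g = g' := fun g g' e1 e2 => by
    by_contra n
    exact hs (g'⁻¹ * g) (fun k => n (inv_mul_eq_one.1 k).symm) a _ (hd a).symm
      (by rw [mul_smul, e1, inv_smul_smul]) (by rw [mul_smul, e2, inv_smul_smul])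
  refine inj _ _ e (by_contra fun n => ?_)
  have : ∀ c : Ω, ∃ g : G, c ≠ a → c ≠ d • a → g • a = d • a ∧ g • c = c := fun c => by
    by_cases k : c ≠ a ∧ c ≠ d • a
    · exact (is_two_pretransitive_iff.1 h2 k.1.symm k.2.symm).imp fun _ e _ _ => e
    · exact ⟨1, fun x y => (k ⟨x, y⟩).elim⟩
  choose g hg using this
  have := Finset.card_le_card_of_injOn (s := (Finset.univ.erase a).erase (d • a))
    (t := ((Finset.univ.erase (d • a)).erase (d • d • a)).erase (d' • d • a)) (fun c => g c • d • a) (fun c hc => by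
      simp only [Finset.coe_erase, Finset.coe_univ, Set.mem_sdiff, Set.mem_univ, Set.mem_singleton_iff, true_and] at hc ⊢
      obtain ⟨e1, e2⟩ := hg c hc.1 hc.2
      refine ⟨⟨fun k => hd a (smul_left_cancel (g c) (k.trans e1.symm)), fun k => hd c ?_⟩, fun k => hd' c ?_⟩
      · rw [← inj _ _ e1 k, e2]
      · rw [← inj _ _ (e1.trans e) k, e2]) (fun c hc c' hc' k => by
      simp only [Finset.coe_erase, Finset.coe_univ, Set.mem_sdiff, Set.mem_univ, Set.mem_singleton_iff, true_and] at hc hc'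
      obtain ⟨e1, e2⟩ := hg c hc.1 hc.2
      obtain ⟨e1', e2'⟩ := hg c' hc'.1 hc'.2
      by_contra n
      refine hs (g c) (fun k => hd a (by rw [← e1, k, one_smul])) c c' n e2 ?_
      rw [inj _ _ (e1.trans e1'.symm) k, e2'])
  rw [Finset.card_erase_of_mem (by simp [hd]), Finset.card_erase_of_mem (by simp),
    Finset.card_erase_of_mem (by simp [hd', Ne.symm n]), Finset.card_erase_of_mem (by simp [hd]),
    Finset.card_erase_of_mem (by simp)] at this
  have h3 : ({d • a, d • d • a, d' • d • a} : Finset Ω).card ≤ Finset.univ.card := Finset.card_le_univ _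
  rw [Finset.card_eq_three.2 ⟨_, _, _, (hd _).symm, (hd' _).symm, n, rfl⟩] at h3
  omega

/-- Let a finite group G act faithfully and primitively on a finite set Ω with at least two points, and suppose G is not almost simple (it has no non-abelian simple normal subgroup with trivial centralizer). Then the derangements of G form a single conjugacy class if and only if G is sharply 2-transitive (2-transitive, and no non-identity element fixes two points). -/
theorem result {G : Type*} [Group G] [Finite G] {Ω : Type*} [Fintype Ω] [MulAction G Ω] [FaithfulSMul G Ω] (hΩ : 2 ≤ Fintype.card Ω) (hprim : MulAction.IsPreprimitive G Ω) (hnas : ¬ ∃ T : Subgroup G, T.Normal ∧ IsSimpleGroup T ∧ ¬ IsMulCommutative T ∧ Subgroup.centralizer (T : Set G) = ⊥) :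
    Nat.card {c : ConjClasses G // ∃ g : G, ConjClasses.mk g = c ∧ ∀ ω : Ω, g • ω ≠ ω} = 1 ↔ (MulAction.IsMultiplyPretransitive G Ω 2 ∧ ∀ g : G, g ≠ 1 → ∀ a b : Ω, a ≠ b → g • a = a → g • b ≠ b) := by
  obtain ⟨a, b, ab⟩ := Fintype.exists_pair_of_one_lt_card hΩ
  have fa : ∀ g : G, (∀ ω : Ω, g • ω = ω) → g = 1 := fun g h => eq_of_smul_eq_smul (α := Ω) (by simpa using h)
  have tr : ∀ M : Subgroup G, M.Normal → M ≠ ⊥ → ∀ x y : Ω, ∃ m ∈ M, m • x = y := fun M _ h x y => by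
    have := IsQuasiPreprimitive.isPretransitive_of_normal (G := G) (X := Ω) (N := M) fun e => h (eq_bot_iff.2
      fun m hm => fa m fun ω => (e.ge (Set.mem_univ ω)) ⟨m, hm⟩)
    obtain ⟨m, e⟩ := exists_smul_eq M x y
    exact ⟨m, m.2, e⟩
  have jd : ∀ M : Subgroup G, M.Normal → M ≠ ⊥ → ∃ m ∈ M, ∀ ω : Ω, m • ω ≠ ω := fun M n h => by
    obtain ⟨t, ht, k⟩ := exists_der (T := M) (C := ⊥) bot_le (a := a) (b := b)
      (fun ω => let ⟨m, k, e⟩ := tr M n h a ω; ⟨m, k, 1, one_mem _, by simpa using e⟩) (by simpa using ab)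
    exact ⟨t, ht, by simpa using k 1 (one_mem _)⟩
  have t0 : (⊤ : Subgroup G) ≠ ⊥ := fun e => by
    obtain ⟨g, k⟩ := exists_smul_eq G a b
    rw [mem_bot.1 (e.le (mem_top g)), one_smul] at k
    exact ab k
  have red : Nat.card {c : ConjClasses G // ∃ g : G, ConjClasses.mk g = c ∧ ∀ ω : Ω, g • ω ≠ ω} = 1 ↔
      ∀ d d' : G, (∀ ω : Ω, d • ω ≠ ω) → (∀ ω : Ω, d' • ω ≠ ω) → ∃ g : G, g * d * g⁻¹ = d' := by
    rw [Nat.card_eq_one_iff_unique]
    refine ⟨fun h d d' k k' => isConj_iff.1 (ConjClasses.mk_eq_mk_iff_isConj.1 (congrArg Subtype.val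
      (h.1.elim ⟨_, d, rfl, k⟩ ⟨_, d', rfl, k'⟩))), fun h => ⟨⟨?_⟩, ?_⟩⟩
    · rintro ⟨_, d, rfl, k⟩ ⟨_, d', rfl, k'⟩
      exact Subtype.ext (ConjClasses.mk_eq_mk_iff_isConj.2 (isConj_iff.2 (h d d' k k')))
    · obtain ⟨m, -, k⟩ := jd ⊤ inferInstance t0
      exact ⟨⟨_, m, rfl, k⟩⟩
  rw [red]
  refine ⟨fun h => ?_, fun ⟨h2, hs⟩ d d' k k' => ?_⟩
  swap
  · obtain ⟨g, e1, e2⟩ := is_two_pretransitive_iff.1 h2 (k a).symm (k' a).symm
    exact ⟨g, sharp_uniq h2 hs (der_conj k g) k' (a := a) (by rw [mul_smul, mul_smul, inv_smul_eq_iff.2 e1.symm, e2])⟩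
  have sub : ∀ M : Subgroup G, M.Normal → M ≠ ⊥ → ∀ d : G, (∀ ω : Ω, d • ω ≠ ω) → d ∈ M := fun M n h0 d k => by
    obtain ⟨m, hm, k'⟩ := jd M n h0
    obtain ⟨g, rfl⟩ := h m d k' k
    exact n.conj_mem m hm g
  obtain ⟨M, -, hM⟩ := exists_minNorm t0 (le_top.trans N_top.ge)
  have nM : M.Normal := normalizer_eq_top_iff.1 (top_le_iff.1 hM.norm)
  have semi : ∀ C : Subgroup G, (∀ ω : Ω, ∃ c ∈ C, c • a = ω) → ∀ t ∈ C(C), t ≠ 1 → ∀ ω : Ω, t • ω ≠ ω :=
    fun C k t ht t1 ω e => t1 (fa t fun ω' => by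
      obtain ⟨c, hc, rfl⟩ := k ω
      obtain ⟨c', hc', rfl⟩ := k ω'
      rw [← mul_smul, ← ht c hc, mul_smul] at e
      rw [← mul_smul, ← ht c' hc', mul_smul, smul_left_cancel c e])
  by_cases hab : Abel M
  · have reg := semi M (tr M nM hM.ne_bot a)
    constructor
    · have key : ∀ x y z : Ω, x ≠ y → x ≠ z → ∃ g : G, g • x = x ∧ g • y = z := fun x y z xy xz => by
        obtain ⟨m, hm, rfl⟩ := tr M nM hM.ne_bot x y
        obtain ⟨m', hm', rfl⟩ := tr M nM hM.ne_bot x z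
        obtain ⟨g, rfl⟩ := h m m' (reg m (hab hm) (by rintro rfl; simp at xy)) (reg m' (hab hm') (by rintro rfl; simp at xz))
        obtain ⟨u, hu, e⟩ := tr M nM hM.ne_bot (g • x) x
        refine ⟨u * g, by rw [mul_smul, e], ?_⟩
        calc (u * g) • m • x = (u * (g * m * g⁻¹)) • g • x := by simp [mul_smul]
          _ = _ := by rw [hab hm' u hu, mul_smul, e]
      refine is_two_pretransitive_iff.2 fun {x y z w} xy zw => ?_
      obtain ⟨g, rfl⟩ := exists_smul_eq G x z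
      obtain ⟨g', e1, e2⟩ := key (g • x) (g • y) w (fun e => xy (smul_left_cancel g e)) zw
      exact ⟨g' * g, by rw [mul_smul, e1], by rw [mul_smul, e2]⟩
    intro g g1 x y xy ex ey
    have gM : g ∉ M := fun k => reg g (hab k) g1 x ex
    choose f hf ef using fun ω : Ω => tr M nM hM.ne_bot (g • ω) ω
    have un : ∀ m ∈ M, ∀ ω, m • g • ω = ω → f ω = m := fun m hm ω e => by_contra fun n =>
      reg (m⁻¹ * f ω) (hab (mul_mem (inv_mem hm) (hf ω))) (fun k => n (inv_mul_eq_one.1 k).symm) (g • ω)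
        (by rw [mul_smul, ef, inv_smul_eq_iff, e])
    have sj : Function.Surjective fun ω => (⟨f ω, hf ω⟩ : M) := fun ⟨m, hm⟩ => by
      obtain ⟨ω, e⟩ := not_forall.1 fun k => gM ((mul_mem_cancel_left hm).1 (sub M nM hM.ne_bot (m * g) k))
      exact ⟨ω, Subtype.ext (un m hm ω (by rw [← mul_smul, not_not.1 e]))⟩
    refine xy ((sj.bijective_of_nat_card_le (Nat.card_le_card_of_surjective (fun m : M => (m : G) • a) fun ω => ?_)).1
      (Subtype.ext ((un 1 (one_mem _) x (by rw [one_smul, ex])).trans (un 1 (one_mem _) y (by rw [one_smul, ey])).symm)))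
    obtain ⟨m, hm, e⟩ := tr M nM hM.ne_bot a ω
    exact ⟨⟨m, hm⟩, e⟩
  exfalso
  have Z0 : Z(M) = ⊥ := (hM.eq_bot_or inf_le_left (norm_Z hM.norm)).resolve_right fun e => hab (e.ge.trans inf_le_right)
  obtain ⟨T, TM, hT⟩ := exists_minNorm hM.ne_bot (le_normalizer (H := M))
  have di : ∀ g : G, cj g T = T ∨ cj g T ≤ C(T) := fun g => by
    have e : cj g M = M := cj_eq_self (hM.norm (mem_top g))
    have n : M ≤ N(cj g T) := by rw [← e, ← cj_N]; exact cj_mono hT.norm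
    exact (hT.le_or_disj n).imp (fun k => (eq_of_le_of_card_ge k card_cj.le).symm) fun k =>
      cent_of_inf_eq_bot (((cj_mono TM).trans e.le).trans hT.norm) (TM.trans n) (by rwa [inf_comm])
  have gen : M ≤ T ⊔ M ⊓ C(T) := by
    have le : ∀ g, cj g T ≤ M := fun g => (cj_mono TM).trans (cj_eq_self (hM.norm (mem_top g))).le
    have := hM.min (⨆ g, cj g T) (iSup_le le) (fun e => hT.ne_bot (eq_bot_iff.2 (e ▸ le_iSup_of_le 1 cj_one.ge)))
      fun g _ => mem_N_of_cj_le (by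
        rw [cj_iSup]; exact iSup_le fun g' => le_iSup_of_le (g * g') cj_mul.ge)
    exact this.ge.trans (iSup_le fun g => (di g).elim (fun e => e.le.trans le_sup_left) fun e =>
      (le_inf (le g) e).trans le_sup_right)
  have TC : T ⊓ C(T) = ⊥ := eq_bot_iff.2 (Z0 ▸ le_inf (inf_le_left.trans TM) (cent_comm.1 (gen.trans
    (sup_le (cent_comm.1 inf_le_right) (inf_le_right.trans (C_anti inf_le_left))))))
  by_cases tC : ∀ ω : Ω, ∃ c ∈ M ⊓ C(T), c • a = ω
  · have k := fun t (ht : t ∈ T) => semi _ tC t (cent_comm.1 inf_le_right ht)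
    obtain ⟨p, hp, d⟩ := exists_prime_dvd_card hT.ne_bot
    obtain ⟨t, ht, o⟩ := cauchy hp d
    have t1 : t ≠ 1 := fun e => hp.ne_one (by rw [← o, e, orderOf_one])
    refine PiGrp.nil (p := p) (piGrp_of_elt fun s hs => ?_) |>.Z_ne_bot hT.ne_bot TC
    by_cases s1 : s = 1
    · exact s1 ▸ PiElt.one
    obtain ⟨g, rfl⟩ := h t s (k t ht t1) (k s hs s1)
    exact PiElt.conj ((piNat_self hp).of_dvd o.dvd) g
  push Not at tC
  obtain ⟨ω, hω⟩ := tC
  obtain ⟨t, ht, k⟩ := exists_der (T := T) (C := M ⊓ C(T)) inf_le_right (a := a) (fun ω => by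
    obtain ⟨m, hm, e⟩ := tr M nM hM.ne_bot a ω
    obtain ⟨s, hs, c, hc, rfl⟩ := (mem_sup_of_cent (cent_comm.1 inf_le_right)).1 (gen hm)
    exact ⟨s, hs, c, hc, e⟩) hω
  have C0 : M ⊓ C(T) = ⊥ := eq_bot_iff.2 fun c hc => by
    obtain ⟨g, e⟩ := h _ _ (k 1 (one_mem _)) (k c hc)
    have m : t * c ∈ cj g T := e ▸ conj_mem_cj (mul_mem ht (one_mem _))
    rcases di g with e | e
    · exact TC.le ⟨(mul_mem_cancel_left ht).1 (e.le m), hc.2⟩
    · have := k 1 (one_mem _) a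
      rw [mem_bot.1 (TC.le ⟨ht, (Subgroup.mul_mem_cancel_right _ hc.2).1 (e m)⟩)] at this
      simp at this
  obtain rfl : T = M := le_antisymm TM (by simpa [C0] using gen)
  refine hnas ⟨T, nM, ?_, fun k => hab (abel_of_comm k), by_contra fun n => ?_⟩
  · have := (Subgroup.nontrivial_iff_ne_bot T).2 hT.ne_bot
    refine ⟨fun K n => (hT.eq_bot_or (map_subtype_le K) ?_).imp (fun e => ?_) fun e => ?_⟩
    · rintro x hx
      exact mem_N_of_finite (by rintro _ ⟨y, hy, rfl⟩; exact ⟨_, n.conj_mem y hy ⟨x, hx⟩, rfl⟩)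
    · exact (map_eq_bot_iff_of_injective _ T.subtype_injective).1 e
    · exact map_injective T.subtype_injective (e.trans (by rw [← MonoidHom.range_eq_map, range_subtype]))
  · have d := by simpa using k 1 (one_mem _)
    have := d a
    rw [mem_bot.1 (TC.le ⟨ht, sub _ inferInstance n t d⟩)] at this
    simp at this

end Cfsg.Agent.S3501
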