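import Cfsg.Statements.S3520
import Cfsg.Agent.H5.PA1

set_option autoImplicit false
open Cfsg

namespace Cfsg.Agent.S3520
open H5
open H5.PA H18 Subgroup MulAction

/-- Let a finite group G act faithfully and primitively on a finite set Ω with at least two points, suppose G is not almost simple (no non-abelian simple normal subgroup with trivial centralizer), and suppose the derangements of G form exactly two conjugacy classes. Then either Ω has 3 points and G has order 3; or G has a non-trivial abelian normal subgroup N acting regularly, every non-identity element of G fixes at most one point (so, when n > 3, G is a Frobenius group with kernel N), the number n of points is odd and a point stabilizer has order (n − 1)/2; or G is 2-transitive with a non-trivial abelian regular normal subgroup and some non-identity element fixes at least two points (a non-Frobenius 2-transitive affine group). -/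
theorem result {G : Type*} [Group G] [Finite G] {Ω : Type*} [Fintype Ω] [MulAction G Ω] [FaithfulSMul G Ω] (hΩ : 2 ≤ Fintype.card Ω) (hprim : MulAction.IsPreprimitive G Ω) (hnas : ¬ ∃ T : Subgroup G, T.Normal ∧ IsSimpleGroup T ∧ ¬ IsMulCommutative T ∧ Subgroup.centralizer (T : Set G) = ⊥)
    (hκ : Nat.card {c : ConjClasses G // ∃ g : G, ConjClasses.mk g = c ∧ ∀ ω : Ω, g • ω ≠ ω} = 2) (α : Ω) :
    (Fintype.card Ω = 3 ∧ Nat.card G = 3) ∨
    ((∃ N : Subgroup G, N.Normal ∧ N ≠ ⊥ ∧ IsMulCommutative N ∧ ∀ ω : Ω, MulAction.stabilizer N ω = ⊥) ∧ (∀ g : G, g ≠ 1 → Nat.card (MulAction.fixedBy Ω g) ≤ 1) ∧ ¬ 2 ∣ Fintype.card Ω ∧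
        2 * Nat.card (MulAction.stabilizer G α) = Fintype.card Ω - 1) ∨
    ((∃ N : Subgroup G, N.Normal ∧ N ≠ ⊥ ∧ IsMulCommutative N ∧ ∀ ω : Ω, MulAction.stabilizer N ω = ⊥) ∧ MulAction.IsMultiplyPretransitive G Ω 2 ∧ ∃ g : G, g ≠ 1 ∧ 2 ≤ Nat.card (MulAction.fixedBy Ω g)) := by
  obtain ⟨a, b, ab⟩ := Fintype.exists_pair_of_one_lt_card hΩ
  obtain ⟨⟨_, d, rfl, hd⟩, ⟨_, d', rfl, hd'⟩, ne, un⟩ := Nat.card_eq_two_iff.1 hκ
  have ne : ∀ g, g * d * g⁻¹ ≠ d' := fun g e => ne (Subtype.ext (ConjClasses.mk_eq_mk_iff_isConj.2 (isConj_iff.2 ⟨g, e⟩)))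
  have two : ∀ x : G, (∀ ω : Ω, x • ω ≠ ω) → (∃ g, g * d * g⁻¹ = x) ∨ ∃ g, g * d' * g⁻¹ = x := fun x hx => by
    obtain e | e := un.ge (Set.mem_univ ⟨_, x, rfl, hx⟩)
    · exact .inl (isConj_iff.1 (ConjClasses.mk_eq_mk_iff_isConj.1 (congrArg Subtype.val e).symm))
    · exact .inr (isConj_iff.1 (ConjClasses.mk_eq_mk_iff_isConj.1 (congrArg Subtype.val e).symm))
  have three : ∀ x y z : G, (∀ ω : Ω, x • ω ≠ ω) → (∀ ω : Ω, y • ω ≠ ω) → (∀ ω : Ω, z • ω ≠ ω) →
      (∃ g, g * x * g⁻¹ = y) ∨ (∃ g, g * x * g⁻¹ = z) ∨ ∃ g, g * y * g⁻¹ = z := fun x y z hx hy hz => by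
    have k : ∀ u g h : G, ∃ l, l * (g * u * g⁻¹) * l⁻¹ = h * u * h⁻¹ := fun u g h => ⟨h * g⁻¹, by group⟩
    obtain ⟨g, rfl⟩ | ⟨g, rfl⟩ := two x hx <;> obtain ⟨h, rfl⟩ | ⟨h, rfl⟩ := two y hy <;>
      obtain ⟨l, rfl⟩ | ⟨l, rfl⟩ := two z hz <;> simp only [k, true_or, or_true]
  obtain ⟨M, hM, hab⟩ | h | ⟨f, o, -, h, k⟩ := tri hprim ab
  rotate_left
  · exact (hnas h).elim
  · obtain ⟨g, e⟩ | ⟨g, e⟩ | ⟨g, e⟩ := three _ _ _ (h 0).2.2 (h 1).2.2 (h 2).2.2 <;>
      exact absurd (k _ _ g e) (by decide)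
  have nM := norm_top_iff.1 hM.norm
  have aff : ∃ N : Subgroup G, N.Normal ∧ N ≠ ⊥ ∧ IsMulCommutative N ∧ ∀ ω : Ω, stabilizer N ω = ⊥ :=
    ⟨M, nM, hM.ne_bot, hab.comm, reg hprim nM hM.ne_bot hab⟩
  have tM := tr hprim nM hM.ne_bot
  have rg : ∀ t ∈ M, t ≠ 1 → ∀ ω : Ω, t • ω ≠ ω := fun t ht => semi (tM a) (hab ht)
  have ij : ∀ m ∈ M, ∀ m' ∈ M, ∀ ω : Ω, m • ω = m' • ω → m = m' := fun m hm m' hm' ω e => by_contra fun n =>
    rg (m'⁻¹ * m) (mul_mem (inv_mem hm') hm) (fun k => n (inv_mul_eq_one.1 k).symm) ω (by rw [mul_smul, e, inv_smul_smul])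
  have mv : ∀ (x : Ω) (g : G), ∀ m ∈ M, ∃ h : G, h • x = x ∧ h • m • x = (g * m * g⁻¹) • x := fun x g m hm => by
    obtain ⟨u, hu, e⟩ := tM (g • x) x
    refine ⟨u * g, by rw [mul_smul, e], ?_⟩
    calc (u * g) • m • x = (u * (g * m * g⁻¹)) • g • x := by simp [mul_smul]
      _ = _ := by rw [hab (nM.conj_mem m hm g) u hu, mul_smul, e]
  have c2 : ∀ g : G, (∀ x y : Ω, g • x = x → g • y = y → x = y) ↔ Nat.card (fixedBy Ω g) ≤ 1 := fun g => by
    rw [Finite.card_le_one_iff_subsingleton]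
    exact ⟨fun h => ⟨fun x y => Subtype.ext (h _ _ x.2 y.2)⟩,
      fun h x y hx hy => congrArg Subtype.val (h.elim ⟨x, hx⟩ ⟨y, hy⟩)⟩
  by_cases sub : ∀ x : G, (∀ ω : Ω, x • ω ≠ ω) → x ∈ M
  · have fr : ∀ g : G, g ≠ 1 → ∀ x y : Ω, g • x = x → g • y = y → x = y := fun g g1 x y ex ey => by
      have gM : g ∉ M := fun k => rg g k g1 x ex
      choose f hf ef using fun ω : Ω => tM (g • ω) ω
      have un : ∀ m ∈ M, ∀ ω, m • g • ω = ω → f ω = m := fun m hm ω e => ij _ (hf ω) _ hm _ ((ef ω).trans e.symm)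
      have sj : Function.Surjective fun ω => (⟨f ω, hf ω⟩ : M) := fun ⟨m, hm⟩ => by
        obtain ⟨ω, e⟩ := not_forall.1 fun k => gM ((mul_mem_cancel_left hm).1 (sub (m * g) k))
        exact ⟨ω, Subtype.ext (un m hm ω (by rw [← mul_smul, not_not.1 e]))⟩
      refine (sj.bijective_of_nat_card_le (Nat.card_le_card_of_surjective (fun m : M => (m : G) • a) fun ω => ?_)).1
        (Subtype.ext ((un 1 (one_mem _) x (by rw [one_smul, ex])).trans (un 1 (one_mem _) y (by rw [one_smul, ey])).symm))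
      obtain ⟨m, hm, e⟩ := tM a ω
      exact ⟨⟨m, hm⟩, e⟩
    have nf : ∀ (h : stabilizer G α) (x : G), (∀ ω : Ω, x • ω ≠ ω) → (h : G) • x • α ≠ α := fun h x hx e =>
      hx α (smul_left_cancel (h : G) (e.trans h.2.symm))
    have cj : ∀ (h : stabilizer G α) (x : G), (h : G) • x • α = (h * x * (h : G)⁻¹) • α := fun h x => by
      rw [mul_smul, mul_smul, mem_stabilizer_iff.1 (inv_mem h.2)]
    have sm : ∀ (h h' : stabilizer G α) (x : G), (∀ ω : Ω, x • ω ≠ ω) → (h : G) • x • α = (h' : G) • x • α → h = h' :=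
      fun h h' x hx e => by_contra fun n => hx α (fr ((h' : G)⁻¹ * h) (fun k => n (Subtype.ext (inv_mul_eq_one.1 k).symm))
        _ _ (by rw [mul_smul, e, inv_smul_smul]) (mul_mem (inv_mem h'.2) h.2))
    have df : ∀ h h' : stabilizer G α, (h : G) • d • α ≠ (h' : G) • d' • α := fun h h' e => by
      rw [cj, cj] at e
      have := ij _ (nM.conj_mem _ (sub d hd) _) _ (nM.conj_mem _ (sub d' hd') _) _ e
      exact ne ((h' : G)⁻¹ * h) (by rw [mul_inv_rev, inv_inv, mul_assoc, mul_assoc, inv_mul_eq_iff_eq_mul,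
        ← mul_assoc, ← mul_assoc, this, inv_mul_cancel_right])
    have bij : Function.Bijective (Sum.elim (fun h : stabilizer G α => (⟨_, nf h d hd⟩ : {ω // ω ≠ α}))
        fun h : stabilizer G α => ⟨_, nf h d' hd'⟩) := by
      refine ⟨?_, fun ⟨ω, n⟩ => ?_⟩
      · rintro (h | h) (h' | h') e <;> have e := congrArg Subtype.val e
        exacts [congrArg _ (sm _ _ _ hd e), (df _ _ e).elim, (df _ _ e.symm).elim, congrArg _ (sm _ _ _ hd' e)]
      obtain ⟨m, hm, rfl⟩ := tM α ω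
      obtain ⟨g, rfl⟩ | ⟨g, rfl⟩ := two m (rg m hm (by rintro rfl; simp at n))
      · obtain ⟨h, e1, e2⟩ := mv α g d (sub d hd)
        exact ⟨.inl ⟨h, e1⟩, Subtype.ext e2⟩
      · obtain ⟨h, e1, e2⟩ := mv α g d' (sub d' hd')
        exact ⟨.inr ⟨h, e1⟩, Subtype.ext e2⟩
    have cd := Nat.card_eq_of_bijective _ bij
    classical
    rw [Nat.card_sum, ← two_mul, Nat.card_eq_fintype_card (α := {ω // ω ≠ α}), Fintype.card_subtype_compl,
      Fintype.card_subtype_eq] at cd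
    exact .inr (.inl ⟨aff, fun g g1 => (c2 g).1 (fr g g1), by omega, cd⟩)
  push Not at sub
  obtain ⟨x, hx, xM⟩ := sub
  have h2 : IsMultiplyPretransitive G Ω 2 := by
    have key : ∀ x y z : Ω, x ≠ y → x ≠ z → ∃ g : G, g • x = x ∧ g • y = z := fun w y z xy xz => by
      obtain ⟨m, hm, rfl⟩ := tM w y
      obtain ⟨m', hm', rfl⟩ := tM w z
      obtain ⟨g, rfl⟩ | ⟨g, rfl⟩ | ⟨g, rfl⟩ := three m m' x (rg m hm (by rintro rfl; simp at xy))
        (rg m' hm' (by rintro rfl; simp at xz)) hx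
      exacts [mv w g m hm, (xM (nM.conj_mem _ hm g)).elim, (xM (nM.conj_mem _ hm' g)).elim]
    refine is_two_pretransitive_iff.2 fun {x y z w} xy zw => ?_
    obtain ⟨g, rfl⟩ := exists_smul_eq G x z
    obtain ⟨g', e1, e2⟩ := key (g • x) (g • y) w (fun e => xy (smul_left_cancel g e)) zw
    exact ⟨g' * g, by rw [mul_smul, e1], by rw [mul_smul, e2]⟩
  refine .inr (.inr ⟨aff, h2, by_contra fun n => ?_⟩)
  push Not at n
  have := (S3501.result hΩ hprim hnas).2 ⟨h2, fun g g1 a b ab e1 e2 => ab ((c2 g).2 (by have := n g g1; omega) a b e1 e2)⟩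
  omega

end Cfsg.Agent.S3520
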