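import Cfsg.Statements.S3521
import Cfsg.Agent.H5.PA3

set_option autoImplicit false
open Cfsg

namespace Cfsg.Agent.S3521
open H5
open H5.PA H18 Subgroup MulAction

theorem lin {H V : Type*} [Group H] [Finite H] [CommGroup V] [MulDistribMulAction H V] {M T : Subgroup H} (S : Soc M T)
    (v2 : ∀ v : V, v * v = 1) (co : ∀ v : V, v ≠ 1 → IsCoatom (stabilizer H v))
    (cf : ∀ v : V, v ≠ 1 → ∀ K ≤ stabilizer H v, K.Normal → K = ⊥)
    (fx : ∀ P : Subgroup H, PiGrp {2} P → ∃ v : V, v ≠ 1 ∧ P ≤ stabilizer H v) : AS H := by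
  have nM : ∀ v : V, v ≠ 1 → ¬ M ≤ stabilizer H v := fun v n l => S.mn.ne_bot (cf v n M l S.normal)
  obtain ⟨P, hP⟩ := exists_sylow Nat.prime_two T
  have P0 := hP.ne_bot_p Nat.prime_two (H1.two_dvd_of_not_solv S.ns)
  obtain ⟨v, v1, hv⟩ := fx P hP.pi
  by_cases k : ∀ g, cj g T = T
  · refine S.as k (by_contra fun c => P0 (eq_bot_iff.2 ?_))
    have nT : ⊤ ≤ N(T) := fun g _ => mem_N_iff_cj.2 (k g)
    have nC := norm_top_iff.1 (norm_C nT)
    refine (cf v v1 (T ⊓ stabilizer H v) inf_le_right (norm_top_iff.1 fun g _ => ?_)) ▸ le_inf hP.le hv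
    obtain ⟨c, hc, x, hx, rfl⟩ := dec (co v v1) nC (fun l => c (cf v v1 _ l nC)) g
    exact mul_mem (C_le_N (C_anti inf_le_left hc)) (norm_inf (le_top.trans nT) le_N hx)
  exfalso
  obtain ⟨g, hg⟩ := not_forall.1 k
  obtain ⟨_, ⟨v, v1, rfl, hv⟩, mx⟩ := exists_max_card (fun R => ∃ v : V, v ≠ 1 ∧ R = T ⊓ stabilizer H v ∧ P ≤ R)
    ⟨v, v1, rfl, le_inf hP.le hv⟩
  obtain ⟨m, hm, h, hh, rfl⟩ := dec (co v v1) S.normal (nM v v1) g
  rw [cj_mul, cj_eq_self (S.nj h hm)] at hg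
  have hc := (S.di h).resolve_left hg
  have R0 : T ⊓ stabilizer H v ≠ ⊥ := fun e => P0 (eq_bot_iff.2 (e ▸ hv))
  have lt := inf_lt_left.2 (S.not_le (co v v1) (nM v v1))
  refine bend (fun K => S.simple) S.ns lt hP hv (fun a ha aR a2 => by_contra fun n => ?_) (A := stabilizer H v ⊓ N(T))
    inf_le_right (norm_inf inf_le_right (inf_le_left.trans le_N)) fun Y h1 h2 h3 => le_inf h2.le
      (S.pmax (co v v1) (nM v v1) h2 (fun t ht c hc m => h1 ⟨ht, S.prod (co v v1) (nM v v1) R0 ht hc m⟩) h3)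
  obtain ⟨b', hb, b2, bR⟩ : ∃ b ∈ T, b * b = 1 ∧ b ∉ T ⊓ stabilizer H v := by
    by_contra! l
    obtain ⟨s, hs, o⟩ := cauchy Nat.prime_two (H1.two_dvd_of_not_solv S.ns)
    refine lt.not_ge (gen_cj (fun K => S.simple) (zpowers_le.2 hs) (by rw [Ne, zpowers_eq_bot]; rintro rfl; simp at o)
      fun g hg => ?_)
    rw [cj_zpowers, zpowers_le]
    exact l _ (conj_mem le_N hg hs) (by rw [conj_mul, ← sq, ← o, pow_orderOf_eq_one]; simp)
  have bC : h * b' * h⁻¹ ∈ M ⊓ C(T) := ⟨S.cj_le h (conj_mem_cj hb), hc (conj_mem_cj hb)⟩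
  have bb : h * b' * h⁻¹ * (h * b' * h⁻¹) = 1 := by rw [conj_mul, b2]; simp
  have iv : ∀ u w : V, u * w = 1 → w = u := fun u w e => mul_left_cancel (e.trans (v2 u).symm)
  have w1 : v * a • v ≠ 1 := fun e => aR ⟨ha, iv _ _ e⟩
  have key : (h * b' * h⁻¹) • (v * a • v) = v * a • v := by
    generalize h * b' * h⁻¹ = b at *
    have ab : a * b = b * a := bC.2 a ha
    have u1 : v * (a * b) • v ≠ 1 := fun e => aR ⟨ha, S.prod (co v v1) (nM v v1) R0 ha bC (iv _ _ e)⟩
    have e1 : (a * (a * b)) • v = b • v := by rw [← mul_assoc, bC.2 _ a2.1, mul_smul, a2.2]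
    have e : a • (v * (a * b) • v) = v * (a * b) • v := S.prod (co _ u1) (nM _ u1) (fun e => n (eq_bot_iff.2 (e ▸
      fun r ⟨h1, h2⟩ => ⟨h1.1, show r • _ = _ by
        rw [smul_mul', h1.2, ← mul_smul, show r * (a * b) = a * b * (a⁻¹ * r * a) by
          rw [mul_assoc a b, ← bC.2 _ (mem_cj.1 h2).1]; group, mul_smul _ (a⁻¹ * r * a), (mem_cj.1 h2).2]⟩))) ha bC
      (show (a * b) • _ = _ by
        rw [smul_mul', ← mul_smul, ab, mul_assoc, ← ab, mul_smul b, e1, ← mul_smul, bb, one_smul, mul_comm])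
    rw [smul_mul', ← mul_smul, e1] at e
    rw [smul_mul', ← mul_smul, ← ab]
    calc b • v * (a * b) • v = b • v * v * (v * (a * b) • v) := by rw [mul_assoc, ← mul_assoc v, v2, one_mul]
      _ = v * a • v * (b • v * b • v) := by rw [← e]; ac_rfl
      _ = _ := by rw [v2, mul_one]
  have tr : ∀ r : H, (h * r * h⁻¹) • (v * a • v) = v * a • v → r ∈ stabilizer H (h⁻¹ • (v * a • v)) := fun r e => by
    rw [mem_stabilizer_iff, eq_inv_smul_iff, ← mul_smul, ← mul_smul, e]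
  have le : T ⊓ stabilizer H v ≤ T ⊓ stabilizer H (h⁻¹ • (v * a • v)) := fun r hr => ⟨hr.1, tr r (by
    have : (h * r * h⁻¹) • v = v := conj_mem le_N hh hr.2
    rw [smul_mul', this, ← mul_smul, ← hc (conj_mem_cj hr.1) a ha, mul_smul, this])⟩
  exact bR ((eq_of_le_of_card_ge le (mx _ ⟨_, fun e => w1 (by rw [inv_smul_eq_iff.1 e, smul_one]), rfl, hv.trans le⟩)).ge ⟨hb, tr b' key⟩)

/-- Let a finite group G that is not solvable act faithfully and primitively on a finite set with p ^ d points (p prime), with a non-trivial abelian normal subgroup acting regularly (affine type) and with non-trivial point stabilizers each acting primitively on every one of its orbits (an insoluble extremely primitive group of affine type). Then p = 2; and if moreover G is not 2-transitive, then a point stabilizer is almost simple (it has a non-abelian simple normal subgroup with trivial centralizer). -/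
theorem result {G : Type*} [Group G] [Finite G] {Ω : Type*} [Fintype Ω] [MulAction G Ω] [FaithfulSMul G Ω] (p d : ℕ) (hp : p.Prime) (hcard : Fintype.card Ω = p ^ d) (hsol : ¬ Group.IsSolvable G)
    (N : Subgroup G) [N.Normal] (hN : N ≠ ⊥) (hNc : IsMulCommutative N) (hNreg : ∀ ω : Ω, MulAction.stabilizer N ω = ⊥)
    (hprim : MulAction.IsPreprimitive G Ω) (hH : ∀ α : Ω, MulAction.stabilizer G α ≠ ⊥) (hep : ∀ (α : Ω) (ω : Ω), MulAction.IsPreprimitive (MulAction.stabilizer G α) (MulAction.orbit (MulAction.stabilizer G α) ω)) (α : Ω) :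
    p = 2 ∧ (¬ MulAction.IsMultiplyPretransitive G Ω 2 → ∃ T : Subgroup (MulAction.stabilizer G α), T.Normal ∧ IsSimpleGroup T ∧ ¬ IsMulCommutative T ∧ Subgroup.centralizer (T : Set (MulAction.stabilizer G α)) = ⊥) := by
  have : Nontrivial Ω := by
    by_contra hc
    rw [not_nontrivial_iff_subsingleton] at hc
    exact hH α (eq_bot_iff.2 fun g _ => fa fun x : Ω => Subsingleton.elim _ _)
  have E := ep hprim α (hep α)
  have H0 := hH α
  have ab := abel_of_comm hNc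
  have NH : ∀ n ∈ N, n ∈ stabilizer G α → n = 1 := fun n hn h =>
    congrArg Subtype.val (mem_bot.1 ((hNreg α).le (show (⟨n, hn⟩ : N) ∈ stabilizer N α from h)))
  have cN : Nat.card N = p ^ d := by
    rw [← hcard, ← Nat.card_eq_fintype_card]
    refine Nat.card_eq_of_bijective (fun n : N => (n : G) • α) ⟨fun x y e => Subtype.ext (inv_mul_eq_one.1
      (NH _ (mul_mem (inv_mem x.2) y.2) (by rw [mem_stabilizer_iff, mul_smul, inv_smul_eq_iff]; exact e.symm))), fun ω => ?_⟩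
    obtain ⟨m, hm, e⟩ := tr hprim inferInstance hN α ω
    exact ⟨⟨m, hm⟩, e⟩
  generalize stabilizer G α = H at *
  have pN := piGrp_of_card_pow hp cN
  have nH : ¬ Solv H := fun s => hsol (solv_top_iff.1 ((s.sup_norm ab.solv norm_of_normal).of_le fun g _ => by
    obtain ⟨l, hl, h, hh, rfl⟩ := E.dec inferInstance hN g
    exact mul_mem (mem_sup_right hl) (mem_sup_left hh)))
  have st : ∀ v ∈ N, H ⊓ cj v H = H ⊓ C1(v) := fun v hv => Subgroup.ext fun x => ⟨fun ⟨h1, h2⟩ => ⟨h1, by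
    have := NH _ (mul_mem (inv_mem hv) (conj_mem norm_of_normal h1 hv))
      (by simpa [mul_assoc] using mul_mem (mem_cj.1 h2) (inv_mem h1))
    exact mem_C1.2 (mul_inv_eq_iff_eq_mul.1 (inv_mul_eq_one.1 this).symm)⟩,
      fun ⟨h1, h2⟩ => ⟨h1, mem_cj.2 (by rwa [mul_assoc, mem_C1.1 h2, inv_mul_cancel_left])⟩⟩
  have mx : ∀ v ∈ N, ∀ B, H ⊓ C1(v) ≤ B → B ≤ H → B = H ⊓ C1(v) ∨ B = H := fun v hv B => st v hv ▸ E.mx v B
  have cf : ∀ v ∈ N, v ≠ 1 → ∀ K ≤ H ⊓ C1(v), H ≤ N(K) → K = ⊥ := fun v hv v1 K k n =>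
    E.bot (k.trans inf_le_left) n (C_le_N (le_C1_iff.1 (k.trans inf_le_right))) fun m => v1 (NH v hv m)
  have p2 : p = 2 := by_contra fun p2 => by
    obtain ⟨t, ht, o⟩ := cauchy Nat.prime_two (H1.two_dvd_of_not_solv nH)
    have t2 : t * t = 1 := by rw [← sq, ← o, pow_orderOf_eq_one]
    obtain ⟨v, hv, n⟩ : ∃ v ∈ N, t * v * t⁻¹ * v⁻¹ ≠ 1 := by
      by_contra! l
      obtain ⟨v, hv, v1⟩ := exists_mem_ne_one' hN
      have := mem_bot.1 ((cf v hv v1 (H ⊓ C(N)) (inf_le_inf_left _ (C_le_C1 hv))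
        (norm_inf le_N (norm_C norm_of_normal))).le ⟨ht, fun v hv => (mul_inv_eq_iff_eq_mul.1 (mul_inv_eq_one.1 (l v hv))).symm⟩)
      simp [this] at o
    have m := conj_mem norm_of_normal ht hv
    have e : t * (t * v * t⁻¹ * v⁻¹) * t⁻¹ = (t * v * t⁻¹ * v⁻¹)⁻¹ := by
      rw [← eq_inv_of_mul_eq_one_left t2] 
      calc _ = (t * t) * v * (t * v⁻¹ * t) := by group
        _ = _ := by rw [t2, one_mul, mul_inv_rev, inv_inv, mul_inv_rev, mul_inv_rev, ← eq_inv_of_mul_eq_one_left t2, mul_assoc t]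
    have m := mul_mem m (inv_mem hv)
    generalize t * v * t⁻¹ * v⁻¹ = w at *
    obtain l | l := mx w m (H ⊓ N(zpowers w)) (inf_le_inf_left _ C1_le_N_zpowers) inf_le_left
    · have := conj_eq_self_of_C1 (l.le ⟨ht, mem_N_iff_cj.2 (by rw [cj_zpowers, e, zpowers_inv])⟩).2
      have o2 : orderOf w = 2 := orderOf_eq_prime (by rw [sq]; nth_rewrite 1 [← this]; rw [e, inv_mul_cancel]) n
      exact p2 ((Nat.prime_dvd_prime_iff_eq Nat.prime_two hp).1 (Nat.prime_two.dvd_of_dvd_pow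
        (cN ▸ o2 ▸ N.orderOf_dvd_natCard m))).symm
    exact nH (Abel.solv (abel_iff_der.2 (cf w m n _ (le_inf der_le
      ((cyc_zpowers.der_cent (l.ge.trans inf_le_right)).trans C_zpowers.le)) (norm_der le_N))))
  subst p2
  refine ⟨rfl, fun _ => ?_⟩
  obtain ⟨M, -, hM⟩ := exists_minNorm (K := (⊤ : Subgroup H)) (A := ⊤) (by
    have := (nontrivial_iff_ne_bot H).2 H0; exact top_ne_bot) (by simp)
  have := norm_top_iff.1 hM.norm
  by_cases k : Abel M
  · obtain ⟨r, hr, -, e⟩ := hM.exists_elem k.solv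
    have A0 : M.map H.subtype ≠ ⊥ := fun e => hM.ne_bot ((map_eq_bot_iff_of_injective _ H.subtype_injective).1 e)
    have nA : M.map H.subtype ⊴ H := nml_map_subtype
    have aA : Abel (M.map H.subtype) := have := k.comm; abel_of_comm inferInstance
    have pA : PiGrp {r} (M.map H.subtype) := by
      rw [PiGrp, card_map_of_injective H.subtype_injective]; exact e.pi hr
    generalize M.map H.subtype = A at *
    have dc : ∀ v ∈ N, v ≠ 1 → A ⊔ H ⊓ C1(v) = H := fun v hv v1 => (mx v hv _ le_sup_right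
      (sup_le nA.le inf_le_left)).resolve_left fun l => A0 (cf v hv v1 A (le_sup_left.trans l.le) nA.norm)
    have sr : ∀ v ∈ N, v ≠ 1 → H ⊓ C(A) ⊓ (H ⊓ C1(v)) = ⊥ := fun v hv v1 => cf v hv v1 _ inf_le_right
      ((dc v hv v1).ge.trans (sup_le (cent_norm (cent_symm (inf_le_left.trans inf_le_right)))
        (norm_inf (inf_le_left.trans nA.cent.norm) le_N)))
    have cy : Cyc A := by_contra fun c => by
      by_cases r2 : r = 2
      · subst r2
        obtain ⟨v, hv, v1⟩ := exists_mem_ne_one' (pA.meet_cent pN norm_of_normal hN)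
        exact A0 (eq_bot_iff.2 (sr v hv.1 v1 ▸ le_inf (le_inf nA.le aA) (le_inf nA.le (le_C1_iff.2 hv.2))))
      obtain ⟨j, hj⟩ := pA.card_eq_pow
      obtain ⟨a, ha, a1, l⟩ := exists_cent1_ne_bot aA c norm_of_normal
        (by rw [hj, cN]; exact ((Nat.coprime_primes hr hp).2 r2).pow _ _) hN
      obtain ⟨v, hv, v1⟩ := exists_mem_ne_one' l
      exact a1 (mem_bot.1 ((sr v hv.1 v1).le ⟨⟨nA.le ha, aA ha⟩, nA.le ha, mem_C1_comm.1 hv.2⟩))
    obtain ⟨v, hv, v1⟩ := exists_mem_ne_one' hN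
    refine (nH (solv_of_quo (norm_der le_N) ((abel_quo_iff (norm_der le_N)).2 le_rfl).solv
      (aA.solv.of_le fun x hx => ?_))).elim
    obtain ⟨a, ha, y, hy, rfl⟩ := (mem_sup_of_norm' (inf_le_left.trans nA.norm)).1 ((dc v hv v1).ge (der_le hx))
    rwa [mem_bot.1 ((sr v hv v1).le ⟨⟨hy.1, (mul_mem_cancel_left (aA ha)).1 (cy.der_cent nA.norm hx)⟩, hy⟩), mul_one]
  obtain ⟨T, S⟩ := exists_soc hM k
  have el : Elem 2 N := MinNorm.elem_of_pi (A := ⊤) ⟨hN, norm_of_normal, fun K k k0 n => le_antisymm k fun x hx => by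
    obtain ⟨l, hl, h, hh, rfl⟩ := E.dec (norm_top_iff.1 n) k0 x
    rwa [NH h ((mul_mem_cancel_left (k hl)).1 hx) hh, mul_one]⟩ pN
  let _ : CommGroup N := { (inferInstance : Group N) with mul_comm := fun a b => Subtype.ext (ab b.2 a a.2) }
  let _ : MulDistribMulAction H N := MulDistribMulAction.compHom N ((MulAut.conjNormal (H := N)).comp H.subtype)
  have sb : ∀ (v : N) (h : H), h ∈ stabilizer H v ↔ (h : G) ∈ C1((v : G)) := fun v h =>
    Subtype.ext_iff.trans (mul_inv_eq_iff_eq_mul.trans mem_C1.symm)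
  have cf' : ∀ v : N, v ≠ 1 → ∀ K ≤ stabilizer H v, K.Normal → K = ⊥ := fun v v1 K l n =>
    (map_eq_bot_iff_of_injective _ H.subtype_injective).1 (cf v v.2 (fun e => v1 (Subtype.ext e)) _
      (by rintro _ ⟨x, hx, rfl⟩; exact ⟨x.2, (sb v x).1 (l hx)⟩) nml_map_subtype.norm)
  refine lin S (V := N) (fun v => Subtype.ext (by simpa [sq] using el.pow v v.2)) (fun v v1 => ⟨fun e => ?_, fun B l => ?_⟩)
    cf' fun P p => ?_
  · exact hM.ne_bot (cf' v v1 M (le_top.trans e.ge) this)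
  · obtain e | e := mx v v.2 (B.map H.subtype) (fun x hx => ⟨⟨x, hx.1⟩, l.le ((sb v _).2 hx.2), rfl⟩) (map_subtype_le B)
    · exact (l.not_ge fun x hx => (sb v x).2 (e.le ⟨x, hx, rfl⟩).2).elim
    · exact eq_top_iff.2 fun x _ => by obtain ⟨y, hy, e⟩ := e.ge x.2; exact Subtype.ext e ▸ hy
  · obtain ⟨v, hv, v1⟩ := exists_mem_ne_one' (PiGrp.meet_cent (P := P.map H.subtype) (by
      rwa [PiGrp, card_map_of_injective H.subtype_injective]) pN norm_of_normal hN)
    exact ⟨⟨v, hv.1⟩, fun e => v1 (congrArg Subtype.val e), fun x hx => (sb _ x).2 (mem_C1.2 (hv.2 x ⟨x, hx, rfl⟩))⟩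

end Cfsg.Agent.S3521
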