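import Cfsg.Statements.S3533
import Cfsg.Agent.H28.SqA2
import Cfsg.Agent.H28.SqC
import Cfsg.Agent.H11.SqF
import Cfsg.Agent.H11.SqE
import Cfsg.Agent.H13.SqA2
import Cfsg.Agent.H7.SqB
import Cfsg.Agent.H19.SqD
import Cfsg.Agent.H29.Three

set_option autoImplicit false
open Cfsg

namespace Cfsg.Agent.S3533
open H28


/-- Let S be the Suzuki group over the field with q = 2^(2m+1) elements, where m ≥ 1 and m ≠ 2 (so q ≥ 8 and q ≠ 32). A finite group with the same set of element orders as S × S is isomorphic to S × S. -/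
theorem result {F : Type*} [Field F] [Fintype F] {m : ℕ} (hm : 1 ≤ m) (hm2 : m ≠ 2) (hF : Fintype.card F = 2 ^ (2 * m + 1))
    {G : Type*} [Group G] [Finite G]
    (h : Set.range (orderOf : G → ℕ) = Set.range (orderOf : ↥(Cfsg.Lie.Sz F (2 ^ (m + 1))) × ↥(Cfsg.Lie.Sz F (2 ^ (m + 1))) → ℕ)) :
    Nonempty (G ≃* ↥(Cfsg.Lie.Sz F (2 ^ (m + 1))) × ↥(Cfsg.Lie.Sz F (2 ^ (m + 1)))) := by
  exact H11.SqF.final (H13.SqA2.pA2 H28.SqA.pA) H7.SqB.pB H28.SqC.pC
    (H19.Sq.pD_of fun S _ _ _ a b => H27.isoSuzuki_iff.1 (H29.sz_of_three S a b)) hm hm2 hF h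

end Cfsg.Agent.S3533
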