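import Cfsg.Statements.S3554
import Cfsg.Agent.H29.Basic

set_option autoImplicit false
open Cfsg

namespace Cfsg.Agent.S3554

/-- Let G act faithfully and transitively on a finite set and suppose G has a non-trivial cyclic normal subgroup. Then some element of G of prime order fixes no point. -/
theorem result {G Ω : Type*} [Group G] [Finite G] [MulAction G Ω] [FaithfulSMul G Ω] [Finite Ω]
    (htrans : MulAction.IsPretransitive G Ω) (C : Subgroup G) (hC : C.Normal) (hC1 : C ≠ ⊥) (hcyc : IsCyclic ↥C) :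
    ∃ g : G, (orderOf g).Prime ∧ ∀ ω : Ω, g • ω ≠ ω := by
  obtain ⟨c, hc, hcp⟩ := H29.exists_orderOf_prime_mem hC1
  refine ⟨c, hcp, fun ω hω => ?_⟩
  obtain ⟨a, ha⟩ := hcyc.exists_generator
  have : c = 1 := by
    apply FaithfulSMul.eq_of_smul_eq_smul (α := Ω)
    intro b
    obtain ⟨g, rfl⟩ := htrans.exists_smul_eq ω b
    obtain ⟨m, hm⟩ := ha ⟨c, hc⟩
    obtain ⟨k, hk⟩ := ha ⟨g⁻¹ * a * g⁻¹⁻¹, hC.conj_mem _ a.2 _⟩
    have hm' : (a : G) ^ m = c := congrArg Subtype.val hm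
    have hk' : (a : G) ^ k = g⁻¹ * a * g⁻¹⁻¹ := congrArg Subtype.val hk
    have h1 : g⁻¹ * c * g = c ^ k := by
      rw [← hm', ← zpow_mul, mul_comm m k, zpow_mul, hk', conj_zpow, inv_inv]
    have h2 : c ^ k ∈ MulAction.stabilizer G ω := Subgroup.zpow_mem _ hω k
    rw [← h1, ← H29.mem_stabilizer_smul_iff] at h2
    rw [one_smul]; exact h2
  rw [this, orderOf_one] at hcp
  exact Nat.not_prime_one hcp

end Cfsg.Agent.S3554
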