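import Cfsg.Statements.S3555
import Cfsg.Agent.H1.Basic

set_option autoImplicit false
open Cfsg

namespace Cfsg.Agent.S3555

open Subgroup MulAction Finset
open scoped Pointwise

theorem key {G Ω : Type*} [Group G] [Finite G] [MulAction G Ω] [FaithfulSMul G Ω] [Finite Ω] [Nonempty Ω]
    (htrans : IsPretransitive G Ω) (hinv : ∀ g : G, (∀ ω : Ω, g • ω ≠ ω) → g * g = 1) {g : G} {a b : Ω}
    (hab : a ≠ b) (ha : g • a = a) (hb : g • b = b) : g = 1 := by
  classical
  have := Fintype.ofFinite G
  have := Fintype.ofFinite Ω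
  let f : G → ℤ := fun g => ∑ ω : Ω, if g • ω = ω then 1 else 0
  let D := univ.filter fun g : G => ∀ ω : Ω, g • ω ≠ ω
  have mD : ∀ g, g ∈ D ↔ ∀ ω : Ω, g • ω ≠ ω := fun g => by simp only [D, mem_filter, mem_univ, true_and]
  have ef : ∀ g, f g = #(univ.filter fun ω : Ω => g • ω = ω) := fun g => by simp [f]
  have h1 : ∑ g, f g = Fintype.card G := by
    have : Fintype (orbitRel.Quotient G Ω) := Fintype.ofFinite _
    have e := sum_card_fixedBy_eq_card_orbits_mul_card_group G Ω
    have u := (pretransitive_iff_unique_quotient_of_nonempty G Ω).1 htrans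
    rw [Fintype.card_eq_one_iff_nonempty_unique.2 u, one_mul] at e
    rw [← e, Nat.cast_sum]
    refine sum_congr rfl fun g _ => ?_
    rw [ef, Fintype.card_subtype]
    rfl
  have h2 : ∀ a b : Ω, ((∑ t ∈ D, if t • a = b then 1 else 0) + ∑ g : G, if a = b ∧ g • a = a then 1 else 0 : ℤ) ≤
      ∑ g : G, (if g • a = a then 1 else 0) * (if g • b = b then 1 else 0) := fun a b => by
    by_cases e : a = b
    · subst e
      rw [sum_eq_zero fun t ht => if_neg ((mD t).1 ht a), zero_add]
      refine sum_le_sum fun g _ => ?_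
      split_ifs <;> simp_all
    · simp only [e, false_and, if_false, sum_const_zero, add_zero, ite_zero_mul_ite_zero, mul_one, sum_boole,
        Nat.cast_le]
      rcases (D.filter fun t => t • a = b).eq_empty_or_nonempty with e0 | ⟨s, hs⟩
      · rw [e0]; exact Nat.zero_le _
      obtain ⟨s1, s2⟩ := mem_filter.1 hs
      refine card_le_card_of_injOn (fun t => s * t) (fun t ht => ?_) fun _ _ _ _ => mul_left_cancel
      obtain ⟨t1, t2⟩ := mem_filter.1 ht
      refine mem_filter.2 ⟨mem_univ _, ?_, ?_⟩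
      · rw [mul_smul, t2, ← s2, ← mul_smul, hinv s (mem_filter.1 s1).2, one_smul]
      · rw [mul_smul, ← t2, ← mul_smul t, hinv t (mem_filter.1 t1).2, one_smul, s2, t2]
  have h3 : (Fintype.card Ω * #D : ℤ) + ∑ g, f g ≤ ∑ g, f g * f g := by
    have := sum_le_sum fun a (_ : a ∈ univ) => sum_le_sum fun b (_ : b ∈ univ) => h2 a b
    simp only [sum_add_distrib] at this
    refine le_of_eq_of_le ?_ (this.trans_eq ?_)
    · congr 1
      · rw [sum_congr rfl fun a _ => sum_comm]
        simp
      · rw [sum_congr rfl fun a _ => sum_comm, sum_comm]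
        simp only [ite_and, sum_ite_eq, mem_univ, if_true]
    · rw [sum_congr rfl fun a _ => sum_comm, sum_comm]
      simp only [f, sum_mul_sum]
  have fn : ∀ g, f g ≤ Fintype.card Ω := fun g => by rw [ef]; exact_mod_cast card_le_univ _
  have pos : ∀ g ∈ univ, 0 ≤ (Fintype.card Ω - f g) * (f g - 1) + if g ∈ D then (Fintype.card Ω : ℤ) else 0 :=
    fun g _ => by
    split_ifs with hg
    · rw [show f g = 0 from sum_eq_zero fun ω _ => if_neg ((mem_filter.1 hg).2 ω)]; simp
    · have : 1 ≤ f g := by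
        rw [ef]
        simp only [D, mem_filter, mem_univ, true_and, not_forall, not_not] at hg
        exact_mod_cast card_pos.2 (hg.imp fun ω h => mem_filter.2 ⟨mem_univ _, h⟩)
      rw [add_zero]
      exact mul_nonneg (sub_nonneg.2 (fn g)) (sub_nonneg.2 this)
  have z := (sum_eq_zero_iff_of_nonneg pos).1 (le_antisymm (by
    rw [sum_add_distrib, sum_ite_mem, univ_inter, sum_const, nsmul_eq_mul,
      sum_congr rfl fun g _ => show (Fintype.card Ω - f g) * (f g - 1) =
        (Fintype.card Ω + 1) * f g - f g * f g - Fintype.card Ω by ring,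
      sum_sub_distrib, sum_sub_distrib, ← mul_sum, sum_const, card_univ, nsmul_eq_mul]
    rw [h1] at h3 ⊢
    linarith) (sum_nonneg pos)) g (mem_univ g)
  rw [if_neg fun h => (mD g).1 h a ha, add_zero, mul_eq_zero, sub_eq_zero, sub_eq_zero, ef] at z
  rcases z with z | z
  · have := (card_eq_iff_eq_univ _).1 (Nat.cast_injective z.symm)
    exact eq_of_smul_eq_smul (α := Ω) fun c => by rw [one_smul]; exact (mem_filter.1 (this.ge (mem_univ c))).2
  · exact absurd (card_le_one.1 (Nat.cast_injective (R := ℤ) z).le a (mem_filter.2 ⟨mem_univ _, ha⟩) b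
      (mem_filter.2 ⟨mem_univ _, hb⟩)) hab

/-- Let G act faithfully and transitively on a finite set and suppose every element of G fixing no point is an involution. Then either G is an elementary abelian 2-group, or G is a Frobenius group whose Frobenius kernel is an elementary abelian 2-group: G has a Frobenius complement H, and the elements lying in no conjugate of H, together with the identity, pairwise commute and square to the identity. -/
theorem result {G Ω : Type*} [Group G] [Finite G] [MulAction G Ω] [FaithfulSMul G Ω] [Finite Ω]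
    (htrans : MulAction.IsPretransitive G Ω) (hinv : ∀ g : G, (∀ ω : Ω, g • ω ≠ ω) → orderOf g = 2) :
    (IsMulCommutative G ∧ ∀ g : G, g ^ 2 = 1) ∨
    (∃ H : Subgroup G, Cfsg.IsFrobeniusComplement H ∧
      (∀ x ∈ Cfsg.frobeniusKernel H, x ^ 2 = 1) ∧
      ∀ x ∈ Cfsg.frobeniusKernel H, ∀ y ∈ Cfsg.frobeniusKernel H, x * y = y * x) := by
  have h2 : ∀ g : G, (∀ ω : Ω, g • ω ≠ ω) → g * g = 1 := fun g h => by rw [← sq, ← hinv g h, pow_orderOf_eq_one]
  rcases isEmpty_or_nonempty Ω with he | ⟨⟨α⟩⟩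
  · exact absurd (hinv 1 fun ω => he.elim ω) (by simp)
  have : Nonempty Ω := ⟨α⟩
  have cm : ∀ x y : G, x * x = 1 → y * y = 1 → x * y * (x * y) = 1 → x * y = y * x := fun x y h1 h2 h3 => by
    rw [← inv_eq_of_mul_eq_one_right h3, mul_inv_rev, inv_eq_of_mul_eq_one_right h1, inv_eq_of_mul_eq_one_right h2]
  have cj : ∀ g x : G, x ∈ MulAut.conj g • stabilizer G α ↔ x • g • α = g • α := fun g x => by
    rw [← mem_stabilizer_iff, stabilizer_smul_eq_stabilizer_map_conj]; rfl
  by_cases h0 : stabilizer G α = ⊥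
  · have : ∀ g : G, g * g = 1 := fun g => by
      by_cases hg : ∀ ω : Ω, g • ω ≠ ω
      · exact h2 g hg
      push Not at hg
      obtain ⟨ω, hω⟩ := hg
      obtain ⟨x, rfl⟩ := exists_smul_eq G α ω
      have := (cj x g).2 hω
      rw [h0, Subgroup.smul_bot, mem_bot] at this
      rw [this, one_mul]
    exact Or.inl ⟨⟨⟨fun x y => cm x y (this _) (this _) (this _)⟩⟩, fun g => by rw [sq, this]⟩
  have hk : ∀ x ∈ frobeniusKernel (stabilizer G α), x = 1 ∨ ∀ ω : Ω, x • ω ≠ ω := fun x hx => hx.imp_right fun h ω e => by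
    obtain ⟨g, rfl⟩ := exists_smul_eq G α ω
    exact h g ((cj g x).2 e)
  refine Or.inr ⟨stabilizer G α, ⟨h0, fun e => h0 (eq_bot_iff.2 fun g _ => eq_of_smul_eq_smul (α := Ω) fun c => ?_),
    fun g hg => eq_bot_iff.2 fun x hx => key htrans h2 (Ne.symm hg) hx.1 ((cj g x).1 hx.2)⟩, fun x hx => ?_,
    fun x hx y hy => ?_⟩
  · obtain ⟨x, rfl⟩ := exists_smul_eq G α c
    rw [one_smul, ← mul_smul, (e.ge (mem_top _) : (g * x) • α = α), (e.ge (mem_top _) : x • α = α)]
  · rcases hk x hx with rfl | h
    · exact one_pow _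
    · rw [sq, h2 x h]
  · rcases hk x hx with rfl | h
    · rw [one_mul, mul_one]
    rcases hk y hy with rfl | h'
    · rw [one_mul, mul_one]
    refine cm x y (h2 x h) (h2 y h') ?_
    by_cases hg : ∀ ω : Ω, (x * y) • ω ≠ ω
    · exact h2 _ hg
    push Not at hg
    obtain ⟨ω, hω⟩ := hg
    rw [key htrans h2 (h' ω) (b := ω) ?_ hω, one_mul]
    rw [mul_smul, ← mul_smul y, h2 y h', one_smul]
    nth_rewrite 1 [← hω]
    rw [← mul_smul, ← mul_assoc, h2 x h, one_mul]

end Cfsg.Agent.S3555
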