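import Cfsg.Statements.S3556
import Cfsg.Agent.H5.PA1

set_option autoImplicit false
open Cfsg

namespace Cfsg.Agent.S3556
open H5
open H5.PA H18 Subgroup MulAction

/-- Let G act faithfully and primitively on a finite set with at least two points, and suppose that for some fixed prime p every element of G fixing no point has order a power of p. Then G is of affine type (it has a regular normal subgroup that is an elementary abelian r-group for some prime r) or almost simple (it has a non-abelian simple normal subgroup with trivial centralizer). -/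
theorem result {G Ω : Type*} [Group G] [Finite G] [MulAction G Ω] [FaithfulSMul G Ω] [Finite Ω]
    (hprim : MulAction.IsPreprimitive G Ω) (hΩ : 2 ≤ Nat.card Ω) (p : ℕ) (hp : p.Prime)
    (hder : ∀ g : G, (∀ ω : Ω, g • ω ≠ ω) → ∃ k : ℕ, orderOf g = p ^ k) :
    (∃ (N : Subgroup G) (r : ℕ), r.Prime ∧ N.Normal ∧ Cfsg.IsElementaryAbelian r N ∧
      MulAction.IsPretransitive N Ω ∧ ∀ a : Ω, MulAction.stabilizer N a = ⊥) ∨
    (∃ T : Subgroup G, T.Normal ∧ IsSimpleGroup ↥T ∧ ¬ IsMulCommutative ↥T ∧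
      Subgroup.centralizer (T : Set G) = ⊥) := by
  have := Fintype.ofFinite Ω
  obtain ⟨a, b, ab⟩ := (Finite.one_lt_card_iff_nontrivial.1 hΩ).exists_pair_ne
  obtain ⟨M, hM, k⟩ | h | ⟨f, o, inj, h, -⟩ := tri hprim ab
  · obtain ⟨r, hr, -, e⟩ := hM.exists_elem k.solv
    have n := norm_top_iff.1 hM.norm
    refine .inl ⟨M, r, hr, n, e.isElem, ⟨fun x y => ?_⟩, reg hprim n hM.ne_bot k⟩
    obtain ⟨m, hm, e⟩ := tr hprim n hM.ne_bot x y
    exact ⟨⟨m, hm⟩, e⟩
  · exact .inr h
  have k : ∀ i, o i = p := fun i => by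
    obtain ⟨h1, h2, h3⟩ := h i
    obtain ⟨k, e⟩ := hder _ h3
    exact (Nat.prime_dvd_prime_iff_eq h1 hp).1 (h1.dvd_of_dvd_pow (e ▸ h2))
  exact absurd (inj ((k 0).trans (k 1).symm)) (by decide)

end Cfsg.Agent.S3556
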