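import Cfsg.Statements.S3557
import Cfsg.Agent.H27.Control
import Cfsg.Agent.H1.Fitting

set_option autoImplicit false
open Cfsg

namespace Cfsg.Agent.S3557

open H26 H27 Subgroup

open MulAction

section
variable {G : Type*} [Group G] {Ω : Type*} [MulAction G Ω]

theorem card_orb (L : Subgroup G) (ω : Ω) : (orbit L ω).ncard = (L ⊓ stabilizer G ω).relIndex L := by
  rw [inf_relIndex_left, ← Nat.card_coe_set_eq, Nat.card_congr (orbitEquivQuotientStabilizer L ω)]
  rfl

theorem exz [Finite G] {p : ℕ} [Fact p.Prime] {S T : Subgroup G} (hS : IsPGroup p S) (h : T ≤ S) (hn : S ≤ normalizer T)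
    (h1 : T ≠ ⊥) : ∃ z ∈ T, orderOf z = p ∧ ∀ s ∈ S, z * s = s * z := by
  have := hS.isNilpotent
  have h2 := H1.inf_centralizer_ne_bot_of_isNilpotent h hn h1
  obtain ⟨z, hz⟩ := exists_prime_orderOf_dvd_card' p (dvd_card_of_ne_bot (hS.to_le (inf_le_left.trans h)) h2)
  exact ⟨z, z.2.1, by rw [orderOf_coe, hz], fun s hs => (z.2.2 s hs).symm⟩

end

/-- Let G act faithfully and transitively on a finite set with 2p² points, p a prime, and suppose G is 2-closed: every permutation of the set which, on each ordered pair of points, agrees with some element of G, is itself induced by an element of G. Then some element of G of prime order fixes no point. -/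
theorem result {G Ω : Type*} [Group G] [Finite G] [MulAction G Ω] [FaithfulSMul G Ω] [Finite Ω]
    (htrans : MulAction.IsPretransitive G Ω) (p : ℕ) (hp : p.Prime) (hcard : Nat.card Ω = 2 * p ^ 2)
    (hcl : ∀ σ : Equiv.Perm Ω, (∀ a b : Ω, ∃ g : G, σ a = g • a ∧ σ b = g • b) → ∃ g : G, ∀ a : Ω, σ a = g • a) :
    ∃ g : G, (orderOf g).Prime ∧ ∀ ω : Ω, g • ω ≠ ω := by
    classical
    have := Fact.mk hp
    obtain ⟨P0⟩ : Nonempty (Sylow p G) := inferInstance
    have hS := isSyl_top P0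
    have hI := P0.not_dvd_index
    set P := (P0 : Subgroup G)
    have hP : IsPGroup p P := P0.isPGroup'
    have p1 := hp.one_lt
    have hi : ∀ ω : Ω, (orbit P ω).ncard * P.index = (P ⊓ stabilizer G ω).relIndex (stabilizer G ω) * (2 * p ^ 2) := fun ω => by
      rw [← hcard, ← index_stabilizer_of_transitive G ω, relIndex_mul_index inf_le_right, card_orb, relIndex_mul_index inf_le_left]
    have hd : ∀ ω : Ω, p ^ 2 ≤ (orbit P ω).ncard := fun ω =>
      Nat.le_of_dvd ((Set.ncard_pos (Set.toFinite _)).2 ⟨ω, mem_orbit_self ω⟩)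
        ((Nat.Coprime.pow_left 2 (hp.coprime_iff_not_dvd.2 hI)).dvd_of_dvd_mul_right (by rw [hi]; exact ⟨_ * 2, by ring⟩))
    obtain ⟨ω0⟩ : Nonempty Ω := (Nat.card_pos_iff.1 (by rw [hcard]; positivity)).1
    obtain ⟨z, hz, zo, zc⟩ := exz hP le_rfl le_normalizer fun e => by
      have := hd ω0
      rw [card_orb, e, bot_inf_eq, relIndex_self] at this
      nlinarith
    have hne : ∀ u : G, u ≠ 1 → ∃ ω : Ω, u • ω ≠ ω := fun u hu => by
      by_contra h
      push Not at h
      exact hu (FaithfulSMul.eq_of_smul_eq_smul (α := Ω) fun ω => by rw [h, one_smul])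
    have h1 : ∀ u : G, orderOf u = p → u ≠ 1 := fun u hu e => by rw [e, orderOf_one] at hu; omega
    have hfix : ∀ y : G, (∀ s ∈ P, y * s = s * y) → ∀ ω : Ω, ∀ ω' ∈ orbit P ω, (y • ω' = ω' ↔ y • ω = ω) := by
      rintro y hy ω _ ⟨s, rfl⟩
      change y • (s : G) • ω = (s : G) • ω ↔ _
      rw [← mul_smul, hy s s.2, mul_smul, smul_left_cancel_iff]
    by_contra hcon
    push Not at hcon
    obtain ⟨b, hb⟩ := hcon z (zo ▸ hp)
    obtain ⟨a, ha⟩ := hne z (h1 z zo)
    set A := orbit P a with hA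
    set B := orbit P b with hB
    have zB : ∀ ω ∈ B, z • ω = ω := fun ω h => (hfix z zc b ω h).2 hb
    have zA : ∀ ω ∈ A, z • ω ≠ ω := fun ω h e => ha ((hfix z zc a ω h).1 e)
    have hu := Set.ncard_union_eq (Set.disjoint_left.2 fun ω h1 h2 => zA ω h1 (zB ω h2) : Disjoint A B)
    have hu2 : (A ∪ B).ncard ≤ 2 * p ^ 2 := hcard ▸ Set.ncard_le_card _
    have dA : p ^ 2 ≤ A.ncard := hd a
    have dB : p ^ 2 ≤ B.ncard := hd b
    have cA : A.ncard = p ^ 2 := by omega
    have cB : B.ncard = p ^ 2 := by omega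
    have hAB : ∀ ω, ω ∉ B → ω ∈ A := fun ω h =>
      (((Set.eq_univ_iff_ncard _).2 (by omega) : A ∪ B = Set.univ).ge (Set.mem_univ ω)).resolve_right h
    have hPB : ∀ s ∈ P, ∀ ω, s • ω ∈ B ↔ ω ∈ B := fun s hs ω =>
      ⟨fun h => inv_smul_smul s ω ▸ mapsTo_smul_orbit (⟨s⁻¹, inv_mem hs⟩ : P) b h, fun h => mapsTo_smul_orbit (⟨s, hs⟩ : P) b h⟩
    obtain ⟨g, hg⟩ := htrans.exists_smul_eq b a
    obtain ⟨h, -, hy⟩ := (isSyl_of_not_dvd (T := P ⊓ stabilizer G a) (H := stabilizer G a) hP.to_inf_left inf_le_right fun e => hI (by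
      have := hi a
      rw [← hA, cA, mul_comm, ← mul_assoc] at this
      rw [Nat.eq_of_mul_eq_mul_right (by positivity) this]
      exact e.mul_right _)).exists_conj_mem (x := g * z * g⁻¹) (k := 1)
        (by rw [mem_stabilizer_iff, ← hg, mul_smul, inv_smul_smul, mul_smul, hb])
        (by rw [conj_pow, pow_one, ← zo, pow_orderOf_eq_one]; simp)
    obtain ⟨y, k, hk, hy⟩ : ∃ y k : G, y = k * z * k⁻¹ ∧ y ∈ P ⊓ stabilizer G a := ⟨_, h * g, by group, hy⟩
    have ya : y • a = a := hy.2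
    have yp : y ^ p = 1 := by rw [hk, conj_pow, ← zo, pow_orderOf_eq_one]; simp
    obtain ⟨b', hb', yb⟩ : ∃ b' ∈ B, y • b' ≠ b' := by
      by_contra e
      push Not at e
      have a1 : a ∉ B := fun h => ha (zB a h)
      have := Set.ncard_le_ncard_of_injOn (s := insert a B) (t := B) (k⁻¹ • ·) (fun ω hω => by_contra fun h => zA _ (hAB _ h) (by
        have : y • ω = ω := hω.elim (fun h => h ▸ ya) (e ω)
        rwa [hk, mul_smul, mul_smul, ← eq_inv_smul_iff] at this)) (MulAction.injective _).injOn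
      rw [Set.ncard_insert_of_notMem a1] at this
      omega
    have zP : zpowers z ≤ P := zpowers_le.2 hz
    have zc' : ∀ s ∈ P, ∀ w ∈ zpowers z, s * w = w * s := by
      rintro s hs _ ⟨n, rfl⟩
      exact (Commute.zpow_right (zc s hs).symm n).eq
    let Q : Subgroup G :=
      { carrier := {x | x ∈ P ∧ ∃ w ∈ zpowers z, x • a = w • a}
        one_mem' := ⟨one_mem _, 1, one_mem _, rfl⟩
        mul_mem' := by
          rintro u v ⟨hu, w, hw, e⟩ ⟨hv, w', hw', e'⟩
          exact ⟨mul_mem hu hv, w' * w, mul_mem hw' hw, by rw [mul_smul, e', ← mul_smul, zc' u hu w' hw', mul_smul, e, mul_smul]⟩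
        inv_mem' := by
          rintro u ⟨hu, w, hw, e⟩
          exact ⟨inv_mem hu, w⁻¹, inv_mem hw, by
            rw [inv_smul_eq_iff, ← mul_smul, zc' u hu _ (inv_mem hw), mul_smul, e, inv_smul_smul]⟩ }
    have hQ : Q ≤ P := fun x hx => hx.1
    have o1 : ∀ ω ∈ A, (orbit (zpowers z) ω).ncard = p := fun ω hω => by
      rw [card_orb]
      refine ((Nat.dvd_prime hp).1 ?_).resolve_left fun e => zA ω hω (relIndex_eq_one.1 e (mem_zpowers z)).2
      rw [← zo, ← Nat.card_zpowers]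
      exact relIndex_dvd_card _ _
    have hyA : ∀ ω ∈ A, ∃ w ∈ zpowers z, (w * y) • ω = ω := fun ω hω => by
      obtain ⟨j, hj⟩ := (hP.to_le hQ).card_orbit ω
      rw [Nat.card_coe_set_eq] at hj
      have s1 : orbit Q ω ⊆ A := by
        rintro _ ⟨u, rfl⟩
        exact mapsTo_smul_orbit (⟨u, u.2.1⟩ : P) a hω
      have s2 : p ^ j < p ^ 2 := by
        rw [← hj, ← cA]
        refine Set.ncard_lt_ncard ⟨s1, fun e => ?_⟩
        have s3 : orbit Q a ⊆ orbit (zpowers z) a := by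
          rintro _ ⟨⟨u, hu, w, hw, e⟩, rfl⟩
          exact ⟨⟨w, hw⟩, e.symm⟩
        have := (Set.ncard_le_ncard e).trans (orbit_eq_iff.2 (e (mem_orbit_self a)) ▸ Set.ncard_le_ncard s3)
        rw [cA, o1 a (mem_orbit_self a)] at this
        nlinarith
      have s4 : orbit (zpowers z) ω = orbit Q ω := Set.eq_of_subset_of_ncard_le (by
        rintro _ ⟨w, rfl⟩
        exact ⟨⟨w, zP w.2, w, w.2, rfl⟩, rfl⟩) (by
          rw [hj, o1 ω hω]
          exact (Nat.pow_le_pow_right hp.pos (Nat.lt_succ_iff.1 ((Nat.pow_lt_pow_iff_right p1).1 s2))).trans (pow_one p).le)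
      obtain ⟨w, e⟩ := s4.ge (mem_orbit ω (⟨y, hy.1, 1, one_mem _, by rw [ya, one_smul]⟩ : Q))
      exact ⟨w⁻¹, inv_mem w.2, by rw [mul_smul, inv_smul_eq_iff]; exact e.symm⟩
    let f : G → Ω → Ω := fun u ω => if ω ∈ B then u • ω else ω
    have hf : ∀ u ∈ P, ∀ ω, f u⁻¹ (f u ω) = ω := fun u hu ω => by
      by_cases e : ω ∈ B <;> simp [f, e, hPB u hu]
    have hm : ∀ ω ∉ B, ∀ ω' ∈ B, ∃ u : G, f y ω = u • ω ∧ f y ω' = u • ω' := fun ω h ω' h' => by
      obtain ⟨w, hw, e⟩ := hyA ω (hAB ω h)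
      refine ⟨w * y, by simp only [f, if_neg h, e], ?_⟩
      simp only [f, if_pos h', mul_smul]
      exact (zpowers_le.2 (show z ∈ stabilizer G (y • ω') from zB _ ((hPB y hy.1 _).2 h')) hw).symm
    obtain ⟨s, hs⟩ := hcl ⟨f y, f y⁻¹, hf y hy.1, fun ω => by simpa using hf _ (P.inv_mem hy.1) ω⟩ fun c d => by
      by_cases e1 : c ∈ B <;> by_cases e2 : d ∈ B
      · exact ⟨y, if_pos e1, if_pos e2⟩
      · exact (hm d e2 c e1).imp fun _ h => h.symm
      · exact hm c e1 d e2
      · exact ⟨1, (if_neg e1).trans (one_smul _ _).symm, (if_neg e2).trans (one_smul _ _).symm⟩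
    have sB : ∀ ω ∈ B, s • ω = y • ω := fun ω h => (hs ω).symm.trans (if_pos h)
    set N := fixingSubgroup G Bᶜ with hN
    have mN : ∀ u, u ∈ N ↔ ∀ ω ∉ B, u • ω = ω := fun u => mem_fixingSubgroup_iff G
    have sN : s ∈ N := (mN s).2 fun ω h => (hs ω).symm.trans (if_neg h)
    have PN : P ≤ normalizer N := by
      have : ∀ u ∈ P, ∀ n ∈ N, u * n * u⁻¹ ∈ N := fun u hu n hn => (mN _).2 fun ω h => by
        rw [mul_smul, mul_smul, (mN n).1 hn _ (by rwa [hPB _ (P.inv_mem hu)]), smul_inv_smul]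
      exact fun u hu n => ⟨this u hu n, fun h => by simpa [mul_assoc] using this _ (P.inv_mem hu) _ h⟩
    have sp : s ^ p ^ 1 = 1 := by
      have : ∀ n : ℕ, ∀ ω ∈ B, s ^ n • ω = y ^ n • ω := fun n => by
        induction n with
        | zero => simp
        | succ n ih => exact fun ω h => by rw [pow_succ, pow_succ, mul_smul, mul_smul, sB ω h, ih _ ((hPB y hy.1 _).2 h)]
      refine FaithfulSMul.eq_of_smul_eq_smul (α := Ω) fun ω => ?_
      by_cases e : ω ∈ B
      · rw [pow_one, this p ω e, yp]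
      · rw [(mN _).1 (pow_mem sN _) ω e, one_smul]
    obtain ⟨u, hu, hus⟩ := (hS.mono PN le_top).exists_conj_mem (le_normalizer sN) sp
    obtain ⟨v, hv, vo, vc⟩ := exz hP (inf_le_left : P ⊓ N ≤ P) (le_normalizer_inf le_normalizer PN) fun e => by
      have : u * s * u⁻¹ = 1 := e.le ⟨hus, (mem_normalizer_iff.1 hu s).1 sN⟩
      rw [conj_eq_one_iff] at this
      exact yb (by rw [← sB b' hb', this, one_smul])
    have vB : ∀ ω ∈ B, v • ω ≠ ω := fun ω h e => by
      obtain ⟨c, hc⟩ := hne v (h1 v vo)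
      exact hc (by_cases (fun h' => (hfix v vc b c h').2 ((hfix v vc b ω h).1 e)) ((mN v).1 hv.2 c))
    have fin : ∀ ω : Ω, (z * v) • ω ≠ ω := fun ω => by
      rw [mul_smul]
      by_cases e : ω ∈ B
      · rw [zB _ ((hPB v hv.1 ω).2 e)]; exact vB ω e
      · rw [(mN v).1 hv.2 ω e]; exact zA ω (hAB ω e)
    obtain ⟨c, hc⟩ := hcon (z * v) (by
      rw [orderOf_eq_prime (p := p) _ fun e => fin a (by rw [e, one_smul])]
      · exact hp
      rw [Commute.mul_pow (zc v hv.1), orderOf_dvd_iff_pow_eq_one.1 zo.dvd, orderOf_dvd_iff_pow_eq_one.1 vo.dvd, mul_one])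
    exact fin c hc

end Cfsg.Agent.S3557
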