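import Cfsg.Statements.S3601
import Cfsg.Agent.H26.Cr3
import Cfsg.Agent.H26.NEnd
import Cfsg.Agent.H13.CitJ
import Cfsg.Agent.H11.Spec
import Cfsg.Agent.H9.MS2

set_option autoImplicit false
open Cfsg

namespace Cfsg.Agent.S3601

open H18 Subgroup H326.Cr
open scoped Pointwise commutatorElement

open scoped MatrixGroups

theorem not_psl {F : Type} [Field F] [Fintype F] (h4 : 4 ≤ Fintype.card F) (h : Om PSL(2, F)) : False := by
  have k : ∀ n, H13.Sp PSL(2, F) n → Wn n := by rintro _ ⟨x, rfl⟩; exact h x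
  obtain ⟨p, hp⟩ := CharP.exists F
  obtain ⟨⟨n, n0⟩, hp', hk⟩ := FiniteField.card F p
  have hk : Fintype.card F = p ^ n := hk
  have pd : p ∣ Fintype.card F := hk ▸ dvd_pow_self _ n0.ne'
  rcases hp'.eq_two_or_odd' with rfl | ho
  · have n2 : 2 ≤ n := by
      by_contra c
      interval_cases n; omega
    have a := k _ ((H13.sp_psl_even n2 hk).2 (.inr (.inl dvd_rfl)))
    have b := k _ ((H13.sp_psl_even n2 hk).2 (.inr (.inr dvd_rfl)))
    have c : 2 ^ 2 ∣ 2 ^ n := pow_dvd_pow 2 n2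
    unfold Wn at a b
    omega
  have qo : Odd (Fintype.card F) := hk ▸ ho.pow
  have a := k _ ((H13.sp_psl_odd hp' pd h4 qo).2 (.inl dvd_rfl))
  have b := k _ ((H13.sp_psl_odd hp' pd h4 qo).2 (.inr (.inl dvd_rfl)))
  have c := k _ ((H13.sp_psl_odd hp' pd h4 qo).2 (.inr (.inr dvd_rfl)))
  rw [Nat.odd_iff] at qo
  have := hp'.two_le
  rcases (by unfold Wn at b c; omega : Fintype.card F = 5 ∨ Fintype.card F = 7) with e | e <;> rw [e] at pd <;>
    rcases a with rfl | rfl | rfl | rfl | rfl | rfl | rfl <;> omega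

theorem not_sz {G : Type*} [Group G] [Finite G] (e : Lie.IsoSuzuki G) (h : Om G) : False := by
  obtain ⟨F, _, _, m, hm, hF, ⟨e⟩⟩ := e
  obtain ⟨x, hx⟩ := ((H13.sp_sz hm hF).2 (.inr (.inl dvd_rfl))).of_equiv e.symm
  have a := hx ▸ h x
  have c : 2 ^ 3 ∣ 2 ^ (2 * m + 1) := pow_dvd_pow 2 (by omega)
  have := Nat.two_pow_pos (2 * m + 1)
  unfold Wn at a
  omega

theorem sp33 (n : ℕ) : H13.Sp PSL(3, ZMod 3) n ↔ Wn n := by
  have := Fact.mk Nat.prime_three
  have h := H11.lu_psl (ι := Fin 3) (F := ZMod 3) 3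
  rw [Nat.card_zmod, Fintype.card_fin] at h
  refine (h.three (A := 13) (B := 8) (C := 2) (by decide) (by decide) (by decide) (by decide) n).trans ⟨?_, ?_⟩
  · rintro (h | h | h | h | ⟨h, -⟩)
    exacts [Wn.dvd (by decide) h, Wn.dvd (by decide) h, Wn.dvd (by decide) h, Wn.dvd (by decide) h, absurd h (by decide)]
  · rintro (rfl | rfl | rfl | rfl | rfl | rfl | rfl) <;> decide

/-- A finite group is critical with respect to a set Ω of natural numbers when its set of element orders is Ω while no proper section has Ω as its set of element orders. A finite group critical with respect to {1, 2, 3, 4, 6, 8, 13} (the set of element orders of SL(3,3) = PSL(3,3)) is isomorphic either to SL(3,3) or to a Frobenius group with elementary abelian kernel of order 13⁴ whose complement H has a unique subgroup Z of order 2 with H/Z isomorphic to the symmetric group of degree 4. -/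
theorem result {G : Type*} [Group G] [Finite G]
    (hcrit : Set.range (orderOf : G → ℕ) = ({1, 2, 3, 4, 6, 8, 13} : Set ℕ) ∧
      ∀ (H : Subgroup G) (N : Subgroup ↥H) [N.Normal], (H ≠ ⊤ ∨ N ≠ ⊥) → Set.range (orderOf : (↥H ⧸ N) → ℕ) ≠ ({1, 2, 3, 4, 6, 8, 13} : Set ℕ)) :
    (∃ (F : Type) (_ : Field F) (_ : Fintype F), Fintype.card F = 3 ∧ Nonempty (G ≃* Matrix.SpecialLinearGroup (Fin 3) F)) ∨
      ∃ (K H : Subgroup G), K.Normal ∧ IsMulCommutative K ∧ (∀ x ∈ K, x ^ 13 = 1) ∧ Nat.card K = 13 ^ 4 ∧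
        K ⊓ H = ⊥ ∧ K ⊔ H = ⊤ ∧ (∀ h ∈ H, h ≠ 1 → ∀ x ∈ K, h * x * h⁻¹ = x → x = 1) ∧
        ∃ (Z : Subgroup ↥H) (_ : Z.Normal), Nat.card Z = 2 ∧ (∀ Z' : Subgroup ↥H, Nat.card Z' = 2 → Z' = Z) ∧
          Nonempty (↥H ⧸ Z ≃* Equiv.Perm (Fin 4)) := by
  have w : ∀ n, n ∈ ({1, 2, 3, 4, 6, 8, 13} : Set ℕ) ↔ Wn n := fun n => Iff.rfl
  have k : ∀ n, H13.Sp G n ↔ Wn n := fun n => Set.ext_iff.1 hcrit.1 n
  have om : Om G := fun g => (k _).1 ⟨g, rfl⟩
  by_cases hs : Group.IsSolvable G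
  swap
  · obtain ⟨D, N, _, s⟩ := H9.MSi.exists_sec hs
    have o : Om (D ⧸ N) := (om.inj D.subtype D.subtype_injective).surj _ (QuotientGroup.mk'_surjective N)
    rcases H26.ms_class s.ms with ⟨F, _, _, h4, ⟨e⟩⟩ | ⟨⟨e⟩⟩ | e
    · exact (not_psl h4 (o.surj e.toMonoidHom e.surjective)).elim
    · obtain ⟨rfl, rfl⟩ : D = ⊤ ∧ N = ⊥ := by
        by_contra c
        exact hcrit.2 D N (not_and_or.1 c) (Set.ext fun n => (H13.sp_congr e).trans (sp33 n))
      obtain ⟨i⟩ := H9.MSi.iso33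
      exact .inl ⟨ZMod 3, inferInstance, inferInstance, rfl,
        ⟨((topEquiv.symm.trans QuotientGroup.quotientBot.symm).trans e).trans i.symm⟩⟩
    · exact (not_sz e o).elim
  obtain ⟨g, hg⟩ := (k 8).2 (by decide)
  obtain ⟨x, hx⟩ := (k 3).2 (by decide)
  have d13 := ((k 13).2 (by decide)).dvd_card
  have c := core_eq_bot om hs d13 hg hx
  obtain ⟨V, -, mn⟩ := exists_minNorm (K := (⊤ : Subgroup G)) (A := ⊤)
    (ne_bot_of_prime_dvd f13.out (by simpa using d13)) le_N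
  have := norm_top_iff.1 mn.norm
  obtain ⟨p, hp, -, hV⟩ := mn.exists_elem inferInstance
  obtain rfl : p = 13 := by
    by_contra e
    exact mn.ne_bot (eq_bot_iff.2 (c ▸ le_pcore nml_top ((hV.pi' hp).p'_of_ne e)))
  have lift : ∀ n, Wn n → n ≠ 13 → H13.Sp (G ⧸ V) n := fun n hn n13 => by
    obtain ⟨a, rfl⟩ := (k n).2 hn
    refine ⟨QuotientGroup.mk' V a, Nat.dvd_antisymm (orderOf_map_dvd _ a) (orderOf_dvd_of_pow_eq_one ?_)⟩
    refine PiElt.eq_one' ((hV.pi' hp).elt ((QuotientGroup.eq_one_iff _).1 ?_)) (PiElt.pow' ((piNat_compl_iff hp).2 ?_) _)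
    · exact (map_pow (QuotientGroup.mk' V) a _).trans (pow_orderOf_eq_one _)
    · unfold Wn at hn; omega
  have i13 : ¬ 13 ∣ V.index := fun d => by
    have e : (⊤ : Subgroup G) ⧸ V.subgroupOf ⊤ ≃* G ⧸ V := QuotientGroup.congr _ V topEquiv (by
      ext a; simp [mem_subgroupOf])
    refine hcrit.2 ⊤ (V.subgroupOf ⊤) (.inr fun b => mn.ne_bot (by simpa using b))
      (Set.ext fun n => (H13.sp_congr e).trans ⟨fun s => (k n).1 (s.of_surjective _ (QuotientGroup.mk'_surjective V)),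
        fun s => ?_⟩)
    by_cases n13 : n = 13
    · exact n13 ▸ (H13.sp_prime hp).2 d
    · exact lift n s n13
  obtain ⟨H, sd⟩ := exists_sd (K := V) nml_top ((hV.pi' hp).coprime ((piNat_compl_iff hp).2 (by simpa using i13)))
  have e := sd.isComplement'.symm.QuotientMulEquiv
  obtain ⟨g', hg'⟩ := (lift 8 (by decide) (by decide)).of_equiv e
  obtain ⟨x', hx'⟩ := (lift 3 (by decide) (by decide)).of_equiv e
  obtain ⟨h1, h2, h3⟩ := frob13 om hV mn sd (by rwa [← sd.relIndex, relIndex_top_right]) hg' hx'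
  exact .inr ⟨V, H, this, hV.abel.comm, hV.pow, h1, sd.inf, sd.sup, fun a ha a1 v hv e =>
    eq_one_of_eq_bot (h2 a ha a1) ⟨hv, mem_C1.2 (mul_inv_eq_iff_eq_mul.1 e).symm⟩, h3⟩

end Cfsg.Agent.S3601
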