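import Cfsg.Statements.S3634
import Cfsg.Agent.H23.Thompson

set_option autoImplicit false
open Cfsg

open Subgroup H18

namespace Cfsg.Agent.S3634

theorem ord {G : Type*} [Group G] {x y : G} {p q : ℕ} (hp : p.Prime) (hq : q.Prime) (h : p ≠ q) (hx : orderOf x = p)
    (hy : orderOf y = q) (e : x * y = y * x) : ∃ x : G, orderOf x = p * q :=
  ⟨x * y, (Commute.orderOf_mul_eq_mul_orderOf_of_coprime e (by
    rw [hx, hy]; exact (Nat.coprime_primes hp hq).2 h)).trans (by rw [hx, hy])⟩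

/-- Let G be a finite group with normal subgroups K ≤ M, and let p, q, r be distinct primes with p dividing the order of K, q dividing the order of M/K and r dividing the order of G/M. Then p, q, r are not pairwise non-adjacent in the prime graph of G: G has an element of order pq, pr or qr. -/
theorem result {G : Type*} [Group G] [Finite G] (K M : Subgroup G) [K.Normal] [M.Normal] (hKM : K ≤ M)
    (p q r : ℕ) (hp : p.Prime) (hq : q.Prime) (hr : r.Prime) (hpq : p ≠ q) (hpr : p ≠ r) (hqr : q ≠ r)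
    (hpK : p ∣ Nat.card ↥K) (hqM : q ∣ Nat.card ↥M / Nat.card ↥K) (hrG : r ∣ Nat.card G / Nat.card ↥M) :
    (∃ x : G, orderOf x = p * q) ∨ (∃ x : G, orderOf x = p * r) ∨ (∃ x : G, orderOf x = q * r) := by
  rw [← card_mul_relIndex hKM, Nat.mul_div_cancel_left _ card_pos'] at hqM
  rw [← M.card_mul_index, Nat.mul_div_cancel_left _ card_pos', ← relIndex_top_right] at hrG
  obtain ⟨P, hP⟩ := exists_sylow hp K
  obtain ⟨Q, hQ⟩ := exists_sylow hq (M ⊓ N(P))
  have e1 := frattini_arg hp (M := M) ⟨hKM, norm_of_normal⟩ hP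
  have e2 := frattini_arg hp (M := ⊤) ⟨le_top, norm_of_normal⟩ hP
  have e3 := frattini_arg hq (M := N(P)) ⟨inf_le_right, norm_inf norm_of_normal le_N⟩ hQ
  rw [← e1, sup_comm, relIndex_sup_of_norm norm_of_normal] at hqM
  rw [top_inf_eq] at e2
  rw [← top_unique (e2.ge.trans (sup_le_sup_right hKM _)), sup_comm, relIndex_sup_of_norm norm_of_normal,
    ← inf_relIndex_right] at hrG
  nth_rewrite 2 [← e3] at hrG
  rw [sup_comm, relIndex_sup_of_norm (inf_le_left.trans (norm_inf norm_of_normal le_N))] at hrG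
  obtain ⟨y, hy, oy⟩ := cauchy hr (hrG.trans relIndex_dvd)
  obtain ⟨a, ha, oa⟩ := cauchy hp (hP.dvd_card_p hp hpK)
  obtain ⟨b, hb, ob⟩ := cauchy hq (hQ.dvd_card_p hq (hqM.trans relIndex_dvd))
  by_cases h : (P ⊔ Q) ⊓ C(zpowers y) = ⊥
  · exact .inl (ord hp hq hpq oa ob (mem_C.1 ((H23.thompson_prime (norm_sup (zpowers_le.2 hy.1)
      (zpowers_le.2 hy.2)) (by rwa [card_zpowers', oy]) h).cent_pi le_sup_right le_sup_left
      hQ.pi (fun s h1 h2 => by rw [hP.pi s h1 h2]; exact hpq) hb) a ha))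
  obtain ⟨c, hc, oc⟩ := exists_prime_order h
  have k := PiGrp.sup_norm' (π := {p, q}) (fun s h1 h2 => .inl (hP.pi s h1 h2)) (fun s h1 h2 => .inr (hQ.pi s h1 h2))
    (hQ.le.trans inf_le_right) _ oc
    (orderOf_dvd_natCard _ hc.1)
  have e := (mem_C.1 hc.2 y (mem_zpowers y)).symm
  rcases k with k | k
  exacts [.inr (.inl (ord hp hr hpr k oy e)), .inr (.inr (ord hq hr hqr k oy e))]

end Cfsg.Agent.S3634
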