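import Cfsg.Statements.S3633
import Cfsg.Agent.S3634

set_option autoImplicit false
open Cfsg

open Subgroup H18

namespace Cfsg.Agent.S3633

theorem aux {G : Type*} [Group G] [Finite G] (ρ : Finset ℕ) (hρ : 3 ≤ ρ.card) (hc : ((∀ r ∈ ρ, r.Prime ∧ r ∣ Nat.card G) ∧ (∀ r ∈ ρ, ∀ s ∈ ρ, r ≠ s → ¬ ∃ x : G, orderOf x = r * s)))
    (K : Subgroup G) [K.Normal] (hK : Group.IsSolvable ↥K) :
    ∀ r ∈ ρ, ∀ s ∈ ρ, r ∣ Nat.card ↥K → s ∣ Nat.card ↥K → r = s := by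
  classical
  intro r hr s hs rK sK
  by_contra rs
  let D : ℕ → Subgroup G := fun i => (derivedSeries K i).map K.subtype
  have hD : ∀ i, (D i).Normal := fun i => inferInstance
  have mono : Antitone D := fun i j h => map_mono (derivedSeries_antitone _ h)
  obtain ⟨n, hn⟩ := hK
  have ex : ∀ u : ρ, ∃ i, ¬ u.1 ∣ Nat.card (D i) := fun u => ⟨n, by simp [D, hn, (hc.1 u u.2).1.ne_one]⟩
  have dv : ∀ {A B : Subgroup G} {u : ℕ}, u.Prime → A ≤ B → u ∣ Nat.card B → ¬ u ∣ Nat.card A →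
      u ∣ Nat.card B / Nat.card A := fun hu h h1 h2 => by
    rw [← card_mul_relIndex h] at h1 ⊢
    rw [Nat.mul_div_cancel_left _ card_pos']; exact (hu.dvd_mul.1 h1).resolve_left h2
  have L : ∀ u v w : ρ, Nat.find (ex v) < Nat.find (ex u) → Nat.find (ex w) < Nat.find (ex v) → False :=
    fun u v w h1 h2 => by
    have n1 : u.1 ≠ v := fun e => by rw [Subtype.ext e] at h1; omega
    have n2 : u.1 ≠ w := fun e => by rw [Subtype.ext e] at h1; omega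
    have n3 : v.1 ≠ w := fun e => by rw [Subtype.ext e] at h2; omega
    rcases S3634.result (D (Nat.find (ex v))) (D (Nat.find (ex w))) (mono h2.le) u v w (hc.1 u u.2).1 (hc.1 v v.2).1
      (hc.1 w w.2).1 n1 n2 n3 (not_not.1 (Nat.find_min _ h1))
      (dv (hc.1 v v.2).1 (mono h2.le) (not_not.1 (Nat.find_min _ h2)) (Nat.find_spec (ex v)))
      (card_top (G := G) ▸ dv (hc.1 w w.2).1 le_top (card_top (G := G) ▸ (hc.1 w w.2).2) (Nat.find_spec (ex w))) with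
      h | h | h
    exacts [hc.2 _ u.2 _ v.2 n1 h, hc.2 _ u.2 _ w.2 n2 h, hc.2 _ v.2 _ w.2 n3 h]
  have E : ∀ u v : ρ, u.1 ≠ v → u.1 ∣ Nat.card K → Nat.find (ex u) ≠ Nat.find (ex v) := fun u v h hu e => by
    obtain ⟨i, hi⟩ := Nat.exists_eq_succ_of_ne_zero (n := Nat.find (ex u)) fun e =>
      (Nat.find_eq_zero _).1 e (by simpa [D, ← MonoidHom.range_eq_map] using hu)
    have k : ∀ u : ρ, Nat.find (ex u) = i + 1 → ∃ x ∈ D i, orderOf (x : G ⧸ D (i + 1)) = u := fun u e => by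
      have := Fact.mk (hc.1 u u.2).1
      obtain ⟨x, hx, ox⟩ := cauchy (hc.1 u u.2).1 (not_not.1 (Nat.find_min (ex u) (m := i) (by omega)))
      refine ⟨x, hx, orderOf_eq_prime (by rw [← QuotientGroup.mk_pow, ← ox, pow_orderOf_eq_one]; rfl) fun e' => ?_⟩
      exact (e ▸ Nat.find_spec (ex u)) (ox ▸ orderOf_dvd_natCard _ ((QuotientGroup.eq_one_iff _).1 e'))
    obtain ⟨x, hx, ox⟩ := k u hi
    obtain ⟨y, hy, oy⟩ := k v (e ▸ hi)
    have h1 : Commute (x : G ⧸ D (i + 1)) y := by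
      rw [← commutatorElement_eq_one_iff_commute, ← QuotientGroup.mk'_apply, ← QuotientGroup.mk'_apply,
        ← map_commutatorElement, QuotientGroup.mk'_apply, QuotientGroup.eq_one_iff]
      simp only [D, derivedSeries_succ, map_commutator]; exact commutator_mem_commutator hx hy
    have h2 := h1.orderOf_mul_eq_mul_orderOf_of_coprime (by
      rw [ox, oy]; exact (Nat.coprime_primes (hc.1 u u.2).1 (hc.1 v v.2).1).2 h)
    rw [ox, oy] at h2
    have h3 : u.1 * v ∣ orderOf (x * y) := h2 ▸ orderOf_map_dvd (QuotientGroup.mk' _) (x * y)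
    exact hc.2 _ u.2 _ v.2 h ⟨_, orderOf_pow_orderOf_div (orderOf_pos _).ne' h3⟩
  obtain ⟨t, ht, h⟩ : ∃ t ∈ ρ, t ∉ ({r, s} : Finset ℕ) :=
    Finset.exists_mem_notMem_of_card_lt_card (Finset.card_le_two.trans_lt hρ)
  simp only [Finset.mem_insert, Finset.mem_singleton, not_or] at h
  have h1 := E ⟨r, hr⟩ ⟨s, hs⟩ rs rK
  have h2 := E ⟨r, hr⟩ ⟨t, ht⟩ (Ne.symm h.1) rK
  have h3 := E ⟨s, hs⟩ ⟨t, ht⟩ (Ne.symm h.2) sK
  have := not_and.2 (L ⟨r, hr⟩ ⟨s, hs⟩ ⟨t, ht⟩)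
  have := not_and.2 (L ⟨r, hr⟩ ⟨t, ht⟩ ⟨s, hs⟩)
  have := not_and.2 (L ⟨s, hs⟩ ⟨r, hr⟩ ⟨t, ht⟩)
  have := not_and.2 (L ⟨s, hs⟩ ⟨t, ht⟩ ⟨r, hr⟩)
  have := not_and.2 (L ⟨t, ht⟩ ⟨s, hs⟩ ⟨r, hr⟩)
  have := not_and.2 (L ⟨t, ht⟩ ⟨r, hr⟩ ⟨s, hs⟩)
  omega

/-- Let G be a finite group and ρ a set of at least three prime divisors of the order of G that are pairwise non-adjacent in the prime graph (no element of order rs for distinct r, s ∈ ρ). Then at most one prime of ρ divides the order of any given solvable normal subgroup of G; in particular G is not solvable. -/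
theorem result {G : Type*} [Group G] [Finite G] (ρ : Finset ℕ) (hρ : 3 ≤ ρ.card) (hc : ((∀ r ∈ ρ, r.Prime ∧ r ∣ Nat.card G) ∧ (∀ r ∈ ρ, ∀ s ∈ ρ, r ≠ s → ¬ ∃ x : G, orderOf x = r * s)))
    (K : Subgroup G) [K.Normal] (hK : Group.IsSolvable ↥K) :
    (∀ r ∈ ρ, ∀ s ∈ ρ, r ∣ Nat.card ↥K → s ∣ Nat.card ↥K → r = s) ∧ ¬ Group.IsSolvable G := by
  refine ⟨aux ρ hρ hc K hK, fun h => ?_⟩
  obtain ⟨r, hr, s, hs, e⟩ := Finset.one_lt_card.1 (by omega : 1 < ρ.card)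
  exact e (aux ρ hρ hc ⊤ inferInstance r hr s hs (card_top (G := G) ▸ (hc.1 r hr).2) (card_top (G := G) ▸ (hc.1 s hs).2))

end Cfsg.Agent.S3633
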