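import Cfsg.Statements.S3668
import Cfsg.Agent.H10.DG6
import Cfsg.Agent.H26.NEnd

set_option autoImplicit false
open Cfsg

namespace Cfsg.Agent.S3668

theorem iso_5616 {G : Type*} [Group G] [Finite G] [IsSimpleGroup G] (h : Nat.card G = 5616) :
    Nonempty (G ≃* Matrix.ProjectiveSpecialLinearGroup (Fin 3) (ZMod 3)) := by
  rcases H26.ms_class (H10.isMinimalSimple_5616 h) with ⟨F, _, _, -, ⟨e⟩⟩ | k | k
  · have h1 := H10.card_PSL2 (F := F)
    rw [← Nat.card_congr e.toEquiv, h] at h1
    generalize Fintype.card F = q at h1
    have h2 : q < 24 := by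
      by_contra h7
      have : 24 * 23 * 25 ≤ q * (q - 1) * (q + 1) := by gcongr <;> omega
      have := Nat.le_of_dvd two_pos (Nat.gcd_dvd_left 2 (q - 1))
      omega
    interval_cases q <;> simp at h1
  · exact k
  · obtain ⟨-, m, h1, h2⟩ := H19.isSuzuki_of_iso k
    have h3 : 2 ^ 3 ≤ 2 ^ (2 * m + 1) := Nat.pow_le_pow_right two_pos (by omega)
    generalize 2 ^ (2 * m + 1) = q at h2 h3
    have : 8 ^ 2 * (8 ^ 2 + 1) * 7 ≤ q ^ 2 * (q ^ 2 + 1) * (q - 1) := by gcongr <;> omega
    omega


/-- The character degree graph of a finite group has as vertices the primes dividing some irreducible complex character degree, two distinct primes being joined when their product divides some irreducible character degree; two groups have the same character degree graph when they have the same vertices and the same joined pairs. Let S be a finite non-abelian simple group of order less than 6000. If a finite group G has the same order as S and the same character degree graph as S, then G is isomorphic to S. -/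
theorem result {S : Type*} [Group S] [Finite S] [IsSimpleGroup S] (hS : ¬ IsMulCommutative S)
    (hlt : Nat.card S < 6000) {G : Type*} [Group G] [Finite G] (hcard : Nat.card G = Nat.card S) (hΓ : Cfsg.degreePrimes G = Cfsg.degreePrimes S ∧ Cfsg.degreeGraph G = Cfsg.degreeGraph S) :
    Nonempty (G ≃* S) := by
  have := H10.simple_of_graph hS hlt hcard hΓ.1 hΓ.2
  by_cases h : Nat.card S = 5616
  · obtain ⟨f⟩ := iso_5616 (hcard.trans h)
    obtain ⟨g⟩ := iso_5616 h
    exact ⟨f.trans g.symm⟩
  · exact H10.equiv_of_card_ne hS hlt hcard h

end Cfsg.Agent.S3668
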