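import Cfsg.Statements.S3686
import Cfsg.Agent.H26.Wo3
import Cfsg.Agent.S3685

set_option autoImplicit false
open Cfsg

namespace Cfsg.Agent.S3686

open H18 Subgroup H326.Wo
open scoped Pointwise commutatorElement

/-- Let G be a finite insoluble group acting faithfully and primitively on a set Ω so that the stabilizer of a point a has an orbit of length 3. Then G is isomorphic to one of: the alternating or the symmetric group of degree 5, PGL(2, 7), PSL(2, 11), PSL(2, 13), PSL(2, p) for a prime p ≡ ±1 (mod 16), PSL(3, 3), or a group containing a normal subgroup of index 2 isomorphic to PSL(3, 3) with trivial centralizer. -/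
theorem result {G Ω : Type*} [Group G] [Finite G] [MulAction G Ω] [FaithfulSMul G Ω] [Finite Ω]
    (hsol : ¬ Group.IsSolvable G) (hprim : MulAction.IsPreprimitive G Ω) (a b : Ω) (h3 : Nat.card (MulAction.orbit (MulAction.stabilizer G a) b) = 3) :
    Nonempty (G ≃* alternatingGroup (Fin 5)) ∨ Nonempty (G ≃* Equiv.Perm (Fin 5)) ∨
      Nonempty (G ≃* GL (Fin 2) (ZMod 7) ⧸ Subgroup.center (GL (Fin 2) (ZMod 7))) ∨
      Nonempty (G ≃* Matrix.ProjectiveSpecialLinearGroup (Fin 2) (ZMod 11)) ∨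
      Nonempty (G ≃* Matrix.ProjectiveSpecialLinearGroup (Fin 2) (ZMod 13)) ∨
      (∃ p : ℕ, p.Prime ∧ (p % 16 = 1 ∨ p % 16 = 15) ∧ Nonempty (G ≃* Matrix.ProjectiveSpecialLinearGroup (Fin 2) (ZMod p))) ∨
      Nonempty (G ≃* Matrix.ProjectiveSpecialLinearGroup (Fin 3) (ZMod 3)) ∨
      (∃ N : Subgroup G, N.Normal ∧ N.index = 2 ∧ Subgroup.centralizer (N : Set G) = ⊥ ∧
        Nonempty (N ≃* Matrix.ProjectiveSpecialLinearGroup (Fin 3) (ZMod 3))) := by
  have : Nontrivial Ω := by
    have := Finite.one_lt_card_iff_nontrivial.1 (by rw [h3]; norm_num)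
    exact (Subtype.val_injective (p := (· ∈ MulAction.orbit (MulAction.stabilizer G a) b))).nontrivial
  have hco := (MulAction.isCoatom_stabilizer_iff_preprimitive G a).2 hprim
  have r := S3685.result hprim a b h3
  obtain ⟨g, rfl⟩ := MulAction.exists_smul_eq G a b
  have i1 : (MulAction.stabilizer G a ⊓ H18.cj g (MulAction.stabilizer G a)).relIndex (MulAction.stabilizer G a) = 3 := by
    rw [inf_relIndex_left, ← h3, Nat.card_coe_set_eq, ← MulAction.index_stabilizer,
      show H18.cj g _ = _ from (MulAction.stabilizer_smul_eq_stabilizer_map_conj g a).symm]; rfl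
  have free : ∀ N : Subgroup G, N.Normal → N ≤ MulAction.stabilizer G a → N = ⊥ := fun N hn h1 => by
    refine eq_bot_iff.2 fun x hx => mem_bot.2 (eq_of_smul_eq_smul fun c : Ω => ?_)
    obtain ⟨k, rfl⟩ := MulAction.exists_smul_eq G a c
    rw [one_smul, ← inv_smul_eq_iff, ← mul_smul, ← mul_smul]
    exact h1 (hn.conj_mem' x hx k)
  generalize MulAction.stabilizer G a = P at hco r i1 free
  have w : ∀ {H : Type} [Group H] [Group.IsSolvable H] (e : P ≃* H), W0 P := fun e =>
    ⟨hco, free, mt solv_top_iff.1 hsol, solvable_of_solvable_injective (f := e.toMonoidHom) e.injective⟩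
  have nh : Hall {2} (P ⊓ H18.cj g P) P → ∃ h ∈ N(P ⊓ H18.cj g P), h ∉ P := fun s => by
    obtain ⟨k, hk, e⟩ := sylow_conj Nat.prime_two (s.cj g) ((s.cj g).of_card inf_le_right H18.card_cj.symm)
    refine ⟨k * g, mem_N_iff_cj.2 (cj_mul.trans e.symm), fun j => ?_⟩
    have := cj_eq_self_of_mem j
    rw [cj_mul, cj_eq_self_of_mem hk] at this
    rw [this, inf_idem, relIndex_self] at i1
    omega
  change Res G
  obtain ⟨⟨e⟩⟩ | ⟨⟨e⟩⟩ | ⟨⟨e⟩⟩ | ⟨⟨e⟩⟩ | ⟨⟨e⟩⟩ := r
  · exact (w e).c3 e (by rw [Nat.card_congr e.toEquiv]; simp) (.ofAdd 1) (by decide) (by decide) (by decide) (by decide)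
  · have : Group.IsSolvable (Equiv.Perm (Fin 3)) := H10.isSolvable_of_card_dvd_24 (by simp [Fintype.card_perm, Nat.factorial])
    exact (w e).c3 e (by rw [Nat.card_congr e.toEquiv]; simp [Fintype.card_perm, Nat.factorial]) (finRotate 3)
      (by decide) (by decide) (by decide) (by decide)
  · have : Group.IsSolvable (DihedralGroup 6) := H10.isSolvable_of_card_dvd_24 (by rw [DihedralGroup.nat_card]; norm_num)
    obtain ⟨s, φ, h1, h2, h4⟩ := model e inf_le_left i1 (.sr 0) (k := 2) (by rw [card_C1]; decide) DihedralGroup.nat_card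
    exact (w e).d12 h1 h2 (h4 ▸ s)
  · have : Group.IsSolvable S4 := H10.isSolvable_of_card_dvd_24 (by rw [card_S4])
    obtain ⟨s, φ, h1, h2, h4⟩ := model e inf_le_left i1 z0 (k := 3) (by rw [card_C1]; decide) card_S4
    obtain ⟨h, h5, h6⟩ := nh s
    exact (w e).s4 h1 h2 (h4 ▸ h5) h6
  · have : Group.IsSolvable S4 := H10.isSolvable_of_card_dvd_24 (by rw [card_S4])
    have := Fact.mk Nat.prime_two
    replace e := e.trans ((MulEquiv.refl S4).prodCongr (mulEquivOfPrimeCardEq (p := 2) (G' := ℤˣ) (by simp) (by simp)))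
    obtain ⟨s, φ, h1, h2, h4⟩ := model e inf_le_left i1 (z0, 1) (k := 4) (by rw [card_C1]; decide +kernel)
      (by rw [Nat.card_prod, card_S4]; simp)
    obtain ⟨h, h5, h6⟩ := nh s
    exact (w e).s42 h1 h2 (h4 ▸ h5) h6

end Cfsg.Agent.S3686
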