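import Cfsg.Statements.S3730
import Cfsg.Agent.H26.L2U

set_option autoImplicit false
open Cfsg

namespace Cfsg.Agent.S3730

open H26 Subgroup
open scoped Pointwise commutatorElement

/-- Let G be a nontrivial finite group with no nontrivial solvable normal subgroup, such that for every cyclic subgroup X of even order and every nontrivial subgroup Y of X one has N_G(X) = N_G(Y) (every nontrivial subgroup of a cyclic subgroup of even order has the same normalizer as the whole cyclic subgroup). Then G is isomorphic to PSL(2, q) or to PGL(2, q) for some prime power q > 3. -/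
theorem result
    {G : Type*} [Group G] [Finite G] [Nontrivial G]
    (hss : ∀ N : Subgroup G, N.Normal → Group.IsSolvable ↥N → N = ⊥)
    (hii : ∀ X : Subgroup G, IsCyclic ↥X → Even (Nat.card ↥X) → ∀ Y : Subgroup G, Y ≤ X → Y ≠ ⊥ →
      Subgroup.normalizer (X : Set G) = Subgroup.normalizer (Y : Set G)) :
    ∃ (F : Type) (_ : Field F) (_ : Fintype F), 3 < Fintype.card F ∧
      (Nonempty (G ≃* Matrix.ProjectiveSpecialLinearGroup (Fin 2) F) ∨
        Nonempty (G ≃* Matrix.ProjGenLinGroup (Fin 2) F)) := by
    have h : H326.NH G := fun x y g ho hy y1 hg => H326.mem_N_zpowers.1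
      ((hii (zpowers x) inferInstance (by rwa [Nat.card_zpowers]) (zpowers y) (zpowers_le.2 hy) (by simpa using y1)).ge
        (H326.mem_N_zpowers.2 hg))
    obtain ⟨F, _, _, k, e⟩ | ⟨F, _, _, k, -, e⟩ := h.main hss
    exacts [⟨F, _, _, k, .inl e⟩, ⟨F, _, _, by omega, .inr e⟩]

end Cfsg.Agent.S3730
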