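import Cfsg.Statements.S3805
import Cfsg.Agent.H10.E9
import Cfsg.Agent.H10.PSL2Max
import Cfsg.Agent.H10.Small
import Cfsg.Agent.H1.Cores
import Cfsg.Agent.S3331

set_option autoImplicit false
open Cfsg

namespace Cfsg.Agent.S3805

open H10 Subgroup
open scoped Pointwise

variable {G : Type*} [Group G] [Finite G]

theorem no_fix {T : Sylow 3 G} {y z a b : G} (h : E9 T y z a b) (hc : Nat.card T = 9) {L : Subgroup G} [L.Normal]
    (r : ℕ) [hr : Fact r.Prime] (r3 : r ≠ 3) (h1 : r ∣ Nat.card L) : 3 ∣ Nat.card (Sylow r L) := by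
  by_contra hn
  letI := MulAction.compHom (Sylow r L) ((MulAut.conjNormal : G →* MulAut L).comp (T : Subgroup G).subtype)
  obtain ⟨P, hP⟩ := T.isPGroup'.nonempty_fixed_point_of_prime_not_dvd_card (Sylow r L) hn
  have h2 : (P : Subgroup L).map L.subtype = ⊥ := h.eq_bot hc (by
    obtain ⟨k, hk⟩ := IsPGroup.iff_card.1 (P.isPGroup'.map L.subtype)
    rw [hk]
    exact ((Nat.coprime_primes hr.out Nat.prime_three).2 r3).pow_left k) fun t ht =>
      mem_normalizer_fintype (S := (((P : Subgroup L).map L.subtype : Subgroup G) : Set G)) (by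
        rintro _ ⟨x, hx, rfl⟩
        have e : MulAut.conjNormal t • (P : Subgroup L) = P := congrArg Sylow.toSubgroup (hP ⟨t, ht⟩)
        exact ⟨_, e.le (smul_mem_pointwise_smul x _ _ hx), MulAut.conjNormal_apply t x⟩)
  exact P.ne_bot_of_dvd_card h1 ((map_eq_bot_iff_of_injective _ L.subtype_injective).1 h2)

theorem fin {T : Sylow 3 G} {y z a b : G} (h : E9 T y z a b) (hc : Nat.card T = 9) {L : Subgroup G} [hL : L.Normal]
    (hy : y ∈ L) (hz : z ∉ L) : normalizer ((T : Subgroup G) : Set G) = ⊤ := by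
  have y3 := orderOf_eq_prime (h.t3 y h.hy) h.y1
  have c3 : Nat.card (zpowers (⟨y, hy⟩ : L)) = 3 := by rw [Nat.card_zpowers, orderOf_mk, y3]
  have hC : centralizer ((zpowers (⟨y, hy⟩ : L) : Subgroup L) : Set L) = zpowers (⟨y, hy⟩ : L) := by
    refine le_antisymm (fun c hc => ?_) (le_centralizer _)
    have e : (c : G) * y * (c : G)⁻¹ = y :=
      mul_inv_eq_iff_eq_mul.2 (congrArg Subtype.val (hc _ (mem_zpowers _))).symm
    rcases h.actz c (h.loc y h.hy h.y1 (mem_C1.2 e)) with e1 | e1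
    · obtain ⟨i, j, e2⟩ := h.gen _ (h.mem_T e e1)
      have e3 : z ^ j ∈ L := (L.mul_mem_cancel_left (pow_mem hy i)).1 (e2 ▸ c.2)
      have e4 : z ^ j = 1 := by
        by_contra e4
        exact hz (zpowers_le.2 e3 (mem_zpowers_of_prime_card (G := zpowers z) (p := 3)
          (by rw [Nat.card_zpowers, orderOf_eq_prime (h.t3 z h.hz) h.z1]) (g := ⟨z ^ j, pow_mem (mem_zpowers z) j⟩)
          (g' := ⟨z, mem_zpowers z⟩) (fun e => e4 (congrArg Subtype.val e)) |> fun ⟨k, hk⟩ =>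
            ⟨k, by simpa using congrArg Subtype.val hk⟩))
      rw [show c = ⟨y, hy⟩ ^ i from Subtype.ext (by simpa [e4] using e2)]
      exact pow_mem (mem_zpowers _) i
    · exact absurd (E9.mem_of_inv (h.t3 z h.hz) c.2 e1) hz
  have hO : pPrimeCore 3 L = ⊥ := (map_eq_bot_iff_of_injective _ L.subtype_injective).1
    (h.eq_bot hc (H1.coprime_card_map_pPrimeCore 3 L) (le_top.trans (normalizer_eq_top _).ge))
  have hM : ∀ M : Subgroup L, M.Normal → (Nat.card M).Coprime 3 → M = ⊥ := fun M _ hM =>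
    eq_bot_iff.2 ((H1.le_pPrimeCore hM).trans hO.le)
  rcases S3331.result _ c3 hC with ⟨M, hn, -, h1, h2⟩ | ⟨M, hn, -, h1, ⟨e⟩⟩ | ⟨⟨e⟩⟩
  · obtain rfl := hM M hn h1
    have k : ∀ u : L, u * u ∈ zpowers (⟨y, hy⟩ : L) := fun u => by
      have := (zpowers (⟨y, hy⟩ : L)).card_mul_index
      rw [c3, ← Nat.card_congr QuotientGroup.quotientBot.toEquiv] at this
      rcases h2 with h2 | ⟨⟨e⟩⟩
      · rw [index_eq_one.1 (show (zpowers (⟨y, hy⟩ : L)).index = 1 by omega)]; trivial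
      · rw [Nat.card_congr e.toEquiv, Nat.card_perm, Nat.card_fin] at this
        exact mul_self_mem_of_index_two (by simp [Nat.factorial] at this; omega) u
    refine eq_top_iff.2 fun g _ => h.ti (mul_mem h.hy h.hy) (fun e => ne_inv_of_cube (h.t3 y h.hy) h.y1
      (inv_eq_of_mul_eq_one_right e)) ?_
    obtain ⟨i, hi⟩ := k ⟨_, hL.conj_mem y hy g⟩
    rw [← conj_mul, show g * y * g⁻¹ * (g * y * g⁻¹) = y ^ i by simpa using (congrArg Subtype.val hi).symm]
    exact zpow_mem h.hy i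
  · have : Fact (Nat.Prime 2) := ⟨Nat.prime_two⟩
    obtain rfl := hM M hn (by
      have : IsPGroup 2 M := fun m => ⟨1, Subtype.ext (h1 m m.2)⟩
      obtain ⟨k, hk⟩ := IsPGroup.iff_card.1 this
      rw [hk]; exact Nat.Coprime.pow_left k (by norm_num))
    have f := QuotientGroup.quotientBot.symm.trans e
    have := f.isSimpleGroup
    have c : Nat.card L = 2 ^ 2 * 15 := by
      rw [Nat.card_congr f.toEquiv, nat_card_alternatingGroup]; simp [Nat.factorial]
    have nc : ¬ IsMulCommutative L := not_comm_of_simple_of_not_prime (by rw [c]; norm_num)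
    have h2 : 2 ∣ Nat.card L := by rw [c]; norm_num
    obtain ⟨P⟩ := (inferInstance : Nonempty (Sylow 2 L))
    have h3 := two_mul_card_dvd_factorial_card_sylow nc h2
    have h4 := card_sylow_ne_index_of_perfect (commutator_eq_top_of_simple nc) P h2
      (IsPGroup.isMulCommutative_of_card_eq_prime_sq (p := 2) (sylow_card_of c (by norm_num) P))
    have h5 := P.card_dvd_index
    have h6 := no_fix h hc 2 (by norm_num) h2
    rw [sylow_index_of c (by norm_num) P] at h4 h5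
    rw [c] at h3
    generalize Nat.card (Sylow 2 L) = n at h3 h4 h5 h6
    have := Nat.le_of_dvd (by norm_num) h5
    interval_cases n <;> simp [Nat.factorial] at h3 h4 h5 h6
  · have : Fact (Nat.Prime 7) := ⟨by norm_num⟩
    have c : Nat.card L = 7 ^ 1 * 24 := by
      rw [Nat.card_congr e.toEquiv, card_PSL2_of 168 (ZMod.card 7) rfl]; rfl
    obtain ⟨P⟩ := (inferInstance : Nonempty (Sylow 7 L))
    have h5 := P.card_dvd_index
    have h6 := no_fix h hc 7 (L := L) (by norm_num) (by rw [c]; norm_num)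
    have h7 := card_sylow_modEq_one 7 L
    rw [sylow_index_of c (by norm_num) P] at h5
    generalize Nat.card (Sylow 7 L) = n at h5 h6 h7
    have := Nat.le_of_dvd (by norm_num) h5
    interval_cases n <;> simp [Nat.ModEq] at h5 h6 h7

/-- Let G be a finite group whose Sylow 3-subgroup T is elementary abelian of order 9 and self-centralizing, with N_G(T)/T a Klein four-group, and suppose that the centralizer of every nonidentity element of T lies in N_G(T). Then T is normal in G. -/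
theorem result {G : Type*} [Group G] [Finite G]
    (T : Sylow 3 G) (hT : Cfsg.IsElementaryAbelian 3 (T : Subgroup G)) (hcard : Nat.card T = 9)
    (hC : Subgroup.centralizer ((T : Subgroup G) : Set G) = T)
    [hn : ((T : Subgroup G).subgroupOf (Subgroup.normalizer ((T : Subgroup G) : Set G))).Normal]
    (hK : IsKleinFour (↥(Subgroup.normalizer ((T : Subgroup G) : Set G)) ⧸
      (T : Subgroup G).subgroupOf (Subgroup.normalizer ((T : Subgroup G) : Set G))))
    (hloc : ∀ t ∈ (T : Subgroup G), t ≠ 1 →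
      Subgroup.centralizer ({t} : Set G) ≤ Subgroup.normalizer ((T : Subgroup G) : Set G)) :
    Subgroup.normalizer ((T : Subgroup G) : Set G) = ⊤ := by
  set N := normalizer ((T : Subgroup G) : Set G) with hN
  have cm : ∀ {s t : G}, s ∈ (T : Subgroup G) → t ∈ (T : Subgroup G) → s * t = t * s := fun hs ht =>
    (hC.ge ht : _ ∈ centralizer _) _ hs
  have cj : ∀ {s t : G}, s ∈ (T : Subgroup G) → t ∈ (T : Subgroup G) → s * t * s⁻¹ = t := fun hs ht =>
    mul_inv_eq_iff_eq_mul.2 (cm hs ht)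
  have nj : ∀ {n t : G}, n ∈ N → t ∈ (T : Subgroup G) → n * t * n⁻¹ ∈ (T : Subgroup G) := fun hn ht =>
    (mem_normalizer_iff.1 hn _).1 ht
  have mk1 : ∀ n : N, (n : N ⧸ (T : Subgroup G).subgroupOf N) = 1 ↔ (n : G) ∈ (T : Subgroup G) := fun n =>
    QuotientGroup.eq_one_iff n
  have sq : ∀ n ∈ N, n * n ∈ (T : Subgroup G) := fun n hn =>
    (mk1 (⟨n, hn⟩ * ⟨n, hn⟩ : N)).1 (by rw [QuotientGroup.mk_mul]; exact IsKleinFour.mul_self _)
  have sq' : ∀ n ∈ N, ∀ t ∈ (T : Subgroup G), n * (n * t * n⁻¹) * n⁻¹ = t := fun n hn t ht => by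
    simpa only [mul_assoc, mul_inv_rev] using cj (sq n hn) ht
  have sw : ∀ m ∈ N, ∀ n ∈ N, ∀ t ∈ (T : Subgroup G), m * (n * t * n⁻¹) * m⁻¹ = n * (m * t * m⁻¹) * n⁻¹ :=
    fun m hm n hn t ht => by
      have h1 := sq' _ (mul_mem hm hn) _ (nj hn (nj hm ht))
      rw [show m * n * (n * (m * t * m⁻¹) * n⁻¹) * (m * n)⁻¹ = m * (n * (n * (m * t * m⁻¹) * n⁻¹) * n⁻¹) * m⁻¹ by group,
        sq' n hn _ (nj hm ht), sq' m hm t ht] at h1
      rw [← h1]; group
  have ex : ∀ s : N, ∃ w : N, (w : G) ∉ (T : Subgroup G) ∧ (w : G) * s ∉ (T : Subgroup G) := fun s => by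
    by_contra hn
    push Not at hn
    have := Set.ncard_le_ncard (show Set.univ ⊆ {1, (s : N ⧸ (T : Subgroup G).subgroupOf N)⁻¹} from fun q _ => by
      obtain ⟨w, rfl⟩ := QuotientGroup.mk_surjective q
      by_cases e : (w : G) ∈ (T : Subgroup G)
      · exact Or.inl ((mk1 w).2 e)
      · exact Or.inr (eq_inv_of_mul_eq_one_left ((mk1 (w * s)).2 (hn w e))))
    have h2 := Set.ncard_insert_le 1 ({(s : N ⧸ (T : Subgroup G).subgroupOf N)⁻¹} : Set _)
    rw [Set.ncard_univ, hK.card_four] at this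
    rw [Set.ncard_singleton] at h2
    omega
  obtain ⟨s, sT, t1, ht1, e1⟩ : ∃ s : N, (s : G) ∉ (T : Subgroup G) ∧ ∃ t ∈ (T : Subgroup G), s * t * (s : G)⁻¹ ≠ t⁻¹ := by
    by_contra hn
    push Not at hn
    obtain ⟨s, hs, -⟩ := ex 1
    obtain ⟨w, hw, hws⟩ := ex s
    refine hws (hC.le fun t ht => ?_)
    rw [eq_comm, ← mul_inv_eq_iff_eq_mul, show w * s * t * ((w : G) * s)⁻¹ = w * (s * t * (s : G)⁻¹) * (w : G)⁻¹ by group,
      hn s hs t ht, hn w hw _ (inv_mem ht), inv_inv]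
  obtain ⟨t2, ht2, e2⟩ : ∃ t ∈ (T : Subgroup G), s * t * (s : G)⁻¹ ≠ t := by
    by_contra hn
    push Not at hn
    exact sT (hC.le fun t ht => (mul_inv_eq_iff_eq_mul.1 (hn t ht)).symm)
  obtain ⟨z, hz, z1, sz⟩ : ∃ z ∈ (T : Subgroup G), z ≠ 1 ∧ s * z * (s : G)⁻¹ = z :=
    ⟨t1 * (s * t1 * (s : G)⁻¹), mul_mem ht1 (nj s.2 ht1), fun e => e1 (eq_inv_of_mul_eq_one_right e), by
      rw [← conj_mul, sq' _ s.2 _ ht1, cm ht1 (nj s.2 ht1)]⟩
  obtain ⟨y, hy, y1, sy⟩ : ∃ y ∈ (T : Subgroup G), y ≠ 1 ∧ s * y * (s : G)⁻¹ = y⁻¹ :=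
    ⟨t2 * (s * t2 * (s : G)⁻¹)⁻¹, mul_mem ht2 (inv_mem (nj s.2 ht2)), fun e => e2 (mul_inv_eq_one.1 e).symm, by
      rw [← conj_mul, ← conj_inv (b := (s : G)), sq' _ s.2 _ ht2, mul_inv_rev (a := t2), inv_inv]⟩
  have md : ∀ r ∈ (T : Subgroup G), ∀ i : ℕ, r ^ i = 1 ∨ r ^ i = r ∨ r ^ i = r⁻¹ := fun r hr i => by
    rw [← Nat.div_add_mod i 3, pow_add, pow_mul, hT.2 r hr, one_pow, one_mul]
    rcases (by omega : i % 3 = 0 ∨ i % 3 = 1 ∨ i % 3 = 2) with e | e | e <;> rw [e]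
    · simp
    · simp
    · exact Or.inr (Or.inr (eq_inv_of_mul_eq_one_left (by rw [← pow_succ, hT.2 r hr])))
  have gen : ∀ r ∈ (T : Subgroup G), ∃ i j : ℕ, r = y ^ i * z ^ j := by
    have yz : Commute y z := cm hy hz
    let K : Subgroup G :=
      { carrier := {r | ∃ i j : ℕ, r = y ^ i * z ^ j}
        mul_mem' := by
          rintro _ _ ⟨i, j, rfl⟩ ⟨i', j', rfl⟩
          exact ⟨i + i', j + j', by rw [pow_add, pow_add, (yz.pow_pow i' j).mul_mul_mul_comm]⟩
        one_mem' := ⟨0, 0, by simp⟩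
        inv_mem' := by
          rintro _ ⟨i, j, rfl⟩
          refine ⟨i * 2, j * 2, inv_eq_of_mul_eq_one_right ?_⟩
          rw [← (yz.pow_pow (i * 2) j).mul_mul_mul_comm, ← pow_add, ← pow_add, show i + i * 2 = 3 * i by ring,
            show j + j * 2 = 3 * j by ring, pow_mul, pow_mul, hT.2 y hy, hT.2 z hz]; simp }
    have le : K ≤ T := by rintro _ ⟨i, j, rfl⟩; exact mul_mem (pow_mem hy _) (pow_mem hz _)
    have l2 : zpowers y ≤ K := zpowers_le.2 ⟨1, 0, by simp⟩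
    have c1 : Nat.card (zpowers y) = 3 := by rw [Nat.card_zpowers, orderOf_eq_prime (hT.2 y hy) y1]
    have c2 : Nat.card K ≠ 3 := fun e => by
      obtain ⟨i, hi⟩ := (eq_of_le_of_card_ge l2 (by omega)).ge (⟨0, 1, by simp⟩ : z ∈ K)
      refine ne_inv_of_cube (hT.2 z hz) z1 ?_
      conv_rhs => rw [← sz, ← hi, ← conj_zpow, sy, inv_zpow]
      exact congrArg _ hi.symm
    have c3 := card_dvd_of_le le
    have c4 := card_dvd_of_le l2
    rw [show Nat.card (T : Subgroup G) = 9 from hcard] at c3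
    have := Nat.le_of_dvd (by omega) c3
    exact (eq_of_le_of_card_ge le (by
      rw [show Nat.card (T : Subgroup G) = 9 from hcard]
      rw [c1] at c4
      generalize Nat.card K = n at *
      interval_cases n <;> omega)).ge
  have sg : ∀ i j : ℕ, s * (y ^ i * z ^ j) * (s : G)⁻¹ = (y ^ i)⁻¹ * z ^ j := fun i j => by
    rw [← conj_mul, ← conj_pow, ← conj_pow, sy, sz, inv_pow]
  have k1 : ∀ u ∈ (T : Subgroup G), u⁻¹ = u → u = 1 := fun u hu e => by
    by_contra e'; exact ne_inv_of_cube (hT.2 u hu) e' e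
  have acty : ∀ n ∈ N, n * y * n⁻¹ = y ∨ n * y * n⁻¹ = y⁻¹ := fun n hn => by
    obtain ⟨i, j, e⟩ := gen _ (nj hn hy)
    have h1 := sw _ s.2 n hn y hy
    rw [sy, ← conj_inv, e, sg, mul_inv_rev, cm (inv_mem (pow_mem hz j)) (inv_mem (pow_mem hy i))] at h1
    rw [k1 _ (pow_mem hz j) (mul_left_cancel h1).symm, mul_one] at e
    rw [e]
    exact (md y hy i).resolve_left fun e' => y1 (by simpa [e'] using e)
  have actz : ∀ n ∈ N, n * z * n⁻¹ = z ∨ n * z * n⁻¹ = z⁻¹ := fun n hn => by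
    obtain ⟨i, j, e⟩ := gen _ (nj hn hz)
    have h1 := sw _ s.2 n hn z hz
    rw [sz, e, sg] at h1
    rw [k1 _ (pow_mem hy i) (mul_right_cancel h1), one_mul] at e
    rw [e]
    exact (md z hz j).resolve_left fun e' => z1 (by simpa [e'] using e)
  have mT : ∀ n, n * y * n⁻¹ = y → n * z * n⁻¹ = z → n ∈ (T : Subgroup G) := fun n h1 h2 => hC.le fun t ht => by
    obtain ⟨i, j, rfl⟩ := gen t ht
    exact (((Commute.pow_left (mul_inv_eq_iff_eq_mul.1 h1).symm i).mul_left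
      (Commute.pow_left (mul_inv_eq_iff_eq_mul.1 h2).symm j)).eq)
  obtain ⟨w, hw, wy, wz⟩ : ∃ w ∈ N, w * y * w⁻¹ = y ∧ w * z * w⁻¹ = z⁻¹ := by
    obtain ⟨w, h1, h2⟩ := ex s
    have ky : w * y * (w : G)⁻¹ = y⁻¹ → w * s * y * ((w : G) * s)⁻¹ = y := fun e => by
      rw [show w * s * y * ((w : G) * s)⁻¹ = w * (s * y * (s : G)⁻¹) * (w : G)⁻¹ by group, sy, ← conj_inv, e, inv_inv]
    have kz : w * s * z * ((w : G) * s)⁻¹ = w * z * (w : G)⁻¹ := by
      rw [show w * s * z * ((w : G) * s)⁻¹ = w * (s * z * (s : G)⁻¹) * (w : G)⁻¹ by group, sz]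
    rcases acty w w.2 with e | e <;> rcases actz w w.2 with e' | e'
    · exact absurd (mT _ e e') h1
    · exact ⟨w, w.2, e, e'⟩
    · exact absurd (mT _ (ky e) (kz.trans e')) h2
    · exact ⟨_, mul_mem w.2 s.2, ky e, kz.trans e'⟩
  have cu : ∀ n ∈ N, ∀ t ∈ (T : Subgroup G), n * (n * n) * t * (n * (n * n))⁻¹ = n * t * n⁻¹ := fun n hn t ht => by
    conv_rhs => rw [← cj (sq n hn) ht]
    group
  have cu2 : ∀ n ∈ N, n * (n * n) * (n * (n * n)) = 1 := fun n hn => by
    rw [← hT.2 _ (sq n hn)]; simp only [pow_succ, pow_zero, one_mul, mul_assoc]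
  have h : E9 T y z (s * (s * s)) (w * (w * w)) :=
    ⟨hC, hloc, hT.2, hy, hz, y1, z1, gen, mul_mem s.2 (mul_mem s.2 s.2), mul_mem hw (mul_mem hw hw), cu2 _ s.2,
      cu2 _ hw, (cu _ s.2 _ hy).trans sy, (cu _ s.2 _ hz).trans sz, (cu _ hw _ hy).trans wy, (cu _ hw _ hz).trans wz,
      acty, actz⟩
  obtain ⟨K, hKn, h1, h2 | h2⟩ := h.exists_ker'
  · obtain ⟨L, _, h3, h4⟩ := h.exists_normal h1 h2
    exact fin h hcard h3 h4
  · obtain ⟨L, _, h3, h4⟩ := h.symm.exists_normal h1 h2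
    exact fin h.symm hcard h3 h4

end Cfsg.Agent.S3805
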