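import Cfsg.Statements.S3808
import Cfsg.Agent.H21.Extra

set_option autoImplicit false
open Cfsg

namespace Cfsg.Agent.S3808

open H18 H21 Subgroup

/-- Let S be a finite p-group with an extraspecial subgroup Q of index p. Then either Z(S) = Z(Q), or S = Q·Z(S) and Z(S) has order p². -/
theorem result {S : Type*} [Group S] [Finite S] (p : ℕ) [Fact p.Prime] (hS : IsPGroup p S) (Q : Subgroup S) (hQ : Cfsg.IsExtraspecial p ↥Q) (hQi : Q.index = p) :
    Subgroup.center S = (Subgroup.center ↥Q).map Q.subtype ∨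
      (Q ⊔ Subgroup.center S = ⊤ ∧ Nat.card (Subgroup.center S) = p ^ 2) := by
  have hp : p.Prime := Fact.out
  obtain ⟨h1, h2⟩ := (isExtraspecial_iff hp).1 hQ
  have hpi : PiGrp {p} (⊤ : Subgroup S) := piGrp_of_isPGroup hp (hS.to_subgroup ⊤)
  have hi : Q.relIndex ⊤ = p := (relIndex_top_right Q).trans hQi
  have h3 : Z(Q) ≤ center S := Z_top (G := S) ▸ hpi.le_Z_of_prime hp h1.card (hpi.nml_of_relIndex hp le_top hi).Z
  have h4 : center S ⊓ Q = Z(Q) :=
    le_antisymm (le_inf inf_le_right (inf_le_left.trans (center_le_centralizer _))) (le_inf h3 inf_le_left)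
  rw [map_center]
  rcases eq_or_eq_of_prime_relIndex (hi ▸ hp) (le_sup_left : Q ≤ Q ⊔ center S) le_top with h | h
  · exact Or.inl (by rw [← h4, inf_eq_left.2 (le_sup_right.trans h.le)])
  · refine Or.inr ⟨h, ?_⟩
    rw [← card_mul_relIndex' (A := Q), inf_comm, h4, h1.card, ← relIndex_sup_of_norm (le_top.trans
      (hpi.nml_of_relIndex hp le_top hi).norm), sup_comm, h, hi, sq]

end Cfsg.Agent.S3808
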