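import Cfsg.Statements.S3809
import Cfsg.Agent.H21.Extra

set_option autoImplicit false
open Cfsg

namespace Cfsg.Agent.S3809

open H18 H21 Subgroup

/-- Let S be a finite p-group with an extraspecial subgroup of index p. Then S has order p^(2+2n) for some n ≥ 1, derived length at most 3, and exponent dividing p³. -/
theorem result {S : Type*} [Group S] [Finite S] (p : ℕ) [Fact p.Prime] (hS : IsPGroup p S) (Q : Subgroup S) (hQ : Cfsg.IsExtraspecial p ↥Q) (hQi : Q.index = p) :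
    (∃ n : ℕ, 1 ≤ n ∧ Nat.card S = p ^ (2 + 2 * n)) ∧ derivedSeries S 3 = ⊥ ∧ ∀ x : S, x ^ (p ^ 3) = 1 := by
  have hp : p.Prime := Fact.out
  obtain ⟨h1, h2⟩ := (isExtraspecial_iff hp).1 hQ
  have hpi : PiGrp {p} (⊤ : Subgroup S) := piGrp_of_isPGroup hp (hS.to_subgroup ⊤)
  have hi : Q.relIndex ⊤ = p := (relIndex_top_right Q).trans hQi
  have hn := (hpi.nml_of_relIndex hp le_top hi).norm
  refine ⟨?_, ?_, fun x => ?_⟩
  · obtain ⟨n, e⟩ := h1.exists_card hp
    refine ⟨n, Nat.one_le_iff_ne_zero.2 (mt (h1.abel_iff_card hp e).2 h2), ?_⟩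
    rw [← Q.card_mul_index, e, hQi]; ring
  · have h3 := (der_mono (H3.der_le_of_relIndex_prime hp hn hi)).trans h1.der_le
    exact (abel_Z.mono h3).der
  · rw [pow_succ', pow_mul, sq, pow_mul]
    exact h1.pow_Z (h1.pow_mem (hi ▸ H3.pow_relIndex_mem hn (mem_top x)))

end Cfsg.Agent.S3809
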