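import Cfsg.Statements.S3810
import Cfsg.Agent.H21.Extra

set_option autoImplicit false
open Cfsg

namespace Cfsg.Agent.S3810

open H18 H21 Subgroup

/-- Let S be a finite p-group with an extraspecial subgroup of index p. Then S has an abelian subgroup of index p if and only if S has order p⁴. -/
theorem result {S : Type*} [Group S] [Finite S] (p : ℕ) [Fact p.Prime] (hS : IsPGroup p S) (Q : Subgroup S) (hQ : Cfsg.IsExtraspecial p ↥Q) (hQi : Q.index = p) :
    (∃ A : Subgroup S, IsMulCommutative ↥A ∧ A.index = p) ↔ Nat.card S = p ^ 4 := by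
  have hp : p.Prime := Fact.out
  obtain ⟨h1, h2⟩ := (isExtraspecial_iff hp).1 hQ
  have hpi : PiGrp {p} (⊤ : Subgroup S) := piGrp_of_isPGroup hp (hS.to_subgroup ⊤)
  constructor
  · rintro ⟨A, hA, hi⟩
    obtain ⟨n, e⟩ := h1.exists_card hp
    have h3 := mt (h1.abel_iff_card hp e).2 h2
    have h4 := h1.card_abel_le hp e ((abel_of_comm hA).mono (inf_le_left (b := Q))) inf_le_right
    have h5 := card_mul_le (le_top : A ≤ ⊤) (le_top : Q ≤ ⊤)
    rw [card_top, ← A.card_mul_index, hi, mul_left_comm, e] at h5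
    have h6 := (Nat.le_of_mul_le_mul_left h5 card_pos').trans (Nat.mul_le_mul_right p h4)
    rw [← pow_succ, Nat.pow_le_pow_iff_right hp.one_lt] at h6
    rw [← Q.card_mul_index, e, hQi, ← pow_succ]
    congr 1
    omega
  · intro h
    obtain ⟨E, -, hE, hc⟩ := H3.exists_nml_card (n := 2) hp hpi Nml.rfl
      (by rw [card_top, h]; exact Nat.pow_le_pow_right hp.pos (by norm_num))
    have h3 := H3.relIndex_C_le_of_card_sq hp hpi hE.norm hc.dvd
    have h4 : p ^ 3 * p ≤ Nat.card (⊤ ⊓ C(E) : Subgroup S) * p := by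
      rw [← pow_succ, ← h, ← card_top, ← card_mul_relIndex' (A := C(E)), inf_comm]
      exact Nat.mul_le_mul_left _ h3
    obtain ⟨M, m1, m2, -, m3⟩ := H3.exists_nml_between hp hpi hE hE.cent (le_inf le_top (abel_of_card_sq hp hc)) 1
      (by rw [hc, ← pow_add]; exact Nat.le_of_mul_le_mul_right h4 hp.pos)
    refine ⟨M, (abel_of_relIndex_prime (cent_symm (m2.trans inf_le_right))
      (by rwa [relIndex_eq_of_mul m1 m3, pow_one])).comm, ?_⟩
    have := M.card_mul_index
    rw [m3, hc, h, ← pow_add, pow_succ p 3] at this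
    exact Nat.eq_of_mul_eq_mul_left (pow_pos hp.pos 3) this

end Cfsg.Agent.S3810
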