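import Cfsg.Statements.S3811
import Cfsg.Agent.H3.PG

set_option autoImplicit false
open Cfsg

namespace Cfsg.Agent.S3811

open H18 Subgroup

universe u

structure Soft {G : Type u} [Group G] (p : ℕ) (A H : Subgroup G) : Prop where
  pi : PiGrp {p} H
  le : A ≤ H
  ab : Abel A
  cent : H ⊓ C(A) ≤ A
  idx : A.relIndex (H ⊓ N(A)) = p

variable {G : Type u} [Group G] [Finite G] {p : ℕ} {A H K Z : Subgroup G}

theorem Soft.leN (h : Soft p A H) : A ≤ H ⊓ N(A) := le_inf h.le le_N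

theorem Soft.up (h : Soft p A H) (hp : p.Prime) (h1 : A < K) (h2 : K ≤ H) : H ⊓ N(A) ≤ K := by
  have a := (h.pi.of_le h2).nil.lt_norm h1
  exact ((eq_or_eq_of_prime_relIndex (h.idx.symm ▸ hp) a.le (inf_le_inf_right _ h2)).resolve_left a.ne').ge.trans
    inf_le_left

theorem Soft.mono (h : Soft p A H) (h1 : H ⊓ N(A) ≤ K) (h2 : K ≤ H) : Soft p A K :=
  ⟨h.pi.of_le h2, h.leN.trans h1, h.ab, (inf_le_inf_right _ h2).trans h.cent,
    by rw [le_antisymm (inf_le_inf_right _ h2) (le_inf h1 inf_le_right), h.idx]⟩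

theorem Soft.not_le (h : Soft p A H) (hp : p.Prime) : ¬ H ⊓ N(A) ≤ A := fun e =>
  hp.one_lt.ne' (h.idx.symm.trans (relIndex_eq_one_iff.2 e))

theorem Soft.Z_le (h : Soft p A H) (h1 : A ≤ K) (h2 : K ≤ H) : Z(K) ≤ A :=
  (inf_le_inf h2 (C_anti h1)).trans h.cent

theorem Soft.step (h : Soft p A H) (hp : p.Prime) (ne : H ⊓ N(A) ≠ H) :
    (H ⊓ N(A)).relIndex (H ⊓ N(H ⊓ N(A))) = p := by
  have i := h.idx
  have AB := h.leN
  have nA : A ⊴ H ⊓ N(A) := ⟨AB, inf_le_right⟩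
  have mx : ∀ L, L ≤ H → L ≤ N(A) → L ≤ H ⊓ N(A) := fun L => le_inf
  have BH : H ⊓ N(A) ≤ H := inf_le_left
  generalize H ⊓ N(A) = B at *
  have lt := h.pi.nil.lt_norm (BH.lt_of_ne ne)
  obtain ⟨x, xD, xB⟩ := SetLike.exists_of_lt lt
  have n2 : cj x A ⊴ B := by simpa only [cj_eq_self xD.2] using nA.cj x
  have su : A ⊔ cj x A = B := (eq_or_eq_of_prime_relIndex (i.symm ▸ hp) le_sup_left (sup_le AB n2.le)).resolve_left
    fun e => xB (mx (zpowers x) (zpowers_le.2 xD.1) (zpowers_le.2 (mem_N_of_cj_le (le_sup_right.trans e.le)))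
      (mem_zpowers x))
  have c1 := (nA.nrm2 n2.le).card_sup
  have c2 := card_mul_relIndex AB
  have c3 : Nat.card (A ⊓ cj x A : Subgroup G) ≤ Nat.card ↥Z(B) := card_le (le_inf (inf_le_left.trans AB)
    (su ▸ cent_sup (inf_le_left.trans h.ab) (inf_le_right.trans (h.ab.cj x))))
  rw [su, card_cj, ← c2, i, mul_assoc] at c1
  have c4 := Nat.eq_of_mul_eq_mul_left card_pos' c1
  have c5 := card_quo_mul (nml_Z (H := B))
  have nZ : H ⊓ N(B) ≤ N(Z(B)) := norm_Z inf_le_right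
  have piD : PiGrp {p} (H ⊓ N(B)) := h.pi.inf_left
  have c6 : Nat.card (B ⫽ Z(B)) ≤ p ^ 2 := Nat.le_of_mul_le_mul_left (by
    rw [c5, ← c2, i, ← c4]; nlinarith [Nat.mul_le_mul_left (p * p) c3]) (card_pos' (H := Z(B)))
  have c7 := H3.relIndex_C_le_of_card_sq hp piD.mim (mim_norm inf_le_right)
    (H3.card_dvd_of_le_pow hp (h.pi.of_le BH).mim c6)
  refine H3.relIndex_eq_prime_of_le piD lt.not_ge ?_
  rw [← relIndex_quo lt.le nZ inf_le_left]
  refine le_trans (Nat.le_of_dvd relIndex_pos ?_) c7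
  rw [← relIndex_inf_left (A := C(B ⫽ Z(B)))]
  refine relIndex_dvd_left fun y hy => ?_
  obtain ⟨d, hd, rfl⟩ := (mem_quo nZ).1 hy.1
  have ZA := h.Z_le AB BH
  have : zpowers d ≤ N(A) := norm_of_quo_norm (zpowers_le.2 (nZ hd)) (nml_Z.of_le ZA AB) (by
    rw [mim_zpowers (nZ hd)]; exact zpowers_le.2 (C_le_N (C_anti (mim_mono AB) hy.2)))
  exact mfun_mem_mim (mx _ (zpowers_le.2 hd.1) this (mem_zpowers d))

theorem Soft.quo (h : Soft p A H) (hp : p.Prime) (hZ : Z ⊴ H) (ZA : Z ≤ A) :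
    Soft p (A ⫽ Z) (H ⫽ Z) ∨ (H ⊓ N(A) ≠ H → Soft p ((H ⊓ N(A)) ⫽ Z) (H ⫽ Z)) := by
  have nA := hZ.of_le ZA h.le
  have nB := hZ.of_le (ZA.trans h.leN) inf_le_left
  have e1 := quo_inf_N (A := H) nA
  have i : (A ⫽ Z).relIndex (H ⫽ Z ⊓ N(A ⫽ Z)) = p := by rw [← e1, relIndex_quo h.leN nB.norm ZA, h.idx]
  have l : A ⫽ Z ≤ H ⫽ Z ⊓ C(A ⫽ Z) := le_inf (mim_mono h.le) h.ab.mim
  refine (eq_or_eq_of_prime_relIndex (i.symm ▸ hp) l (inf_le_inf_left _ C_le_N)).imp
    (fun e => ⟨h.pi.mim, mim_mono h.le, h.ab.mim, e.le, i⟩) fun e ne => ⟨h.pi.mim, mim_mono inf_le_left, ?_, ?_, ?_⟩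
  · rw [e1]
    exact H3.abel_of_relIndex_prime (le_inf (mim_mono h.le) le_N) (cent_symm (e.ge.trans inf_le_right)) (i.symm ▸ hp)
  · exact ((inf_le_inf_left _ (C_anti (mim_mono h.leN))).trans e.le).trans e1.ge
  · rw [← quo_inf_N nB, relIndex_quo (le_inf inf_le_left le_N) (inf_le_left.trans hZ.norm) nB.le, h.step hp ne]

theorem chain (hp : p.Prime) (n : ℕ) : ∀ {G : Type u} [Group G] [Finite G] {A H : Subgroup G}, Soft p A H →
    Nat.card H = n → (∀ K L, A ≤ K → A ≤ L → K ≤ H → L ≤ H → K ≤ L ∨ L ≤ K) ∧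
      ∀ K, A ≤ K → K < H → K.relIndex (H ⊓ N(K)) = p := by
  induction n using Nat.strong_induction_on with | _ n ih => ?_
  intro G _ _ A H h hn
  have ZA := h.Z_le h.le le_rfl
  have lt : Nat.card (H ⫽ Z(H)) < n := hn ▸ card_quo_lt nml_Z (h.pi.nil.Z_ne_bot fun e =>
    h.not_le hp (inf_le_left.trans (e.le.trans bot_le)))
  have key : ∀ B, Z(H) ≤ B → Soft p (B ⫽ Z(H)) (H ⫽ Z(H)) →
      (∀ K L, B ≤ K → B ≤ L → K ≤ H → L ≤ H → K ≤ L ∨ L ≤ K) ∧
      ∀ K, B ≤ K → K < H → K.relIndex (H ⊓ N(K)) = p := fun B ZB s => by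
    obtain ⟨a, b⟩ := ih _ lt s rfl
    refine ⟨fun K L a1 a2 a3 a4 => ?_, fun K a1 a2 => ?_⟩
    · have nK := nml_Z.of_le (ZB.trans a1) a3
      have nL := nml_Z.of_le (ZB.trans a2) a4
      exact (a _ _ (mim_mono a1) (mim_mono a2) (mim_mono a3) (mim_mono a4)).imp (le_of_quo_le nK.norm nL)
        (le_of_quo_le nL.norm nK)
    · have nK := nml_Z.of_le (ZB.trans a1) a2.le
      rw [← b _ (mim_mono a1) (quo_lt_quo nK.le nml_Z.norm a2), ← quo_inf_N nK,
        relIndex_quo (le_inf a2.le le_N) (inf_le_left.trans nml_Z.norm) nK.le]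
  rcases h.quo hp nml_Z ZA with s | s
  · exact key A ZA s
  have key2 : (∀ K L, H ⊓ N(A) ≤ K → H ⊓ N(A) ≤ L → K ≤ H → L ≤ H → K ≤ L ∨ L ≤ K) ∧
      ∀ K, H ⊓ N(A) ≤ K → K < H → K.relIndex (H ⊓ N(K)) = p := by
    by_cases e : H ⊓ N(A) = H
    · exact ⟨fun K L _ a b _ => Or.inl (b.trans (e.ge.trans a)), fun K a b => absurd (e.ge.trans a) b.not_ge⟩
    · exact key _ (ZA.trans h.leN) (s e)
  refine ⟨fun K L a1 a2 a3 a4 => ?_, fun K a1 a2 => ?_⟩
  · rcases a1.eq_or_lt with rfl | a1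
    · exact Or.inl a2
    rcases a2.eq_or_lt with rfl | a2
    · exact Or.inr a1.le
    exact key2.1 K L (h.up hp a1 a3) (h.up hp a2 a4) a3 a4
  · rcases a1.eq_or_lt with rfl | a1
    · exact h.idx
    exact key2.2 K (h.up hp a1 a2.le) a2

omit [Finite G] in
theorem cls_quo (hK : Nil K) (h1 : K ≠ ⊥) : Group.nilpotencyClass K = Group.nilpotencyClass (K ⫽ Z(K)) + 1 := by
  haveI : Group.IsNilpotent K := hK
  haveI : Group.IsNilpotent (K ⫽ Z(K)) := hK.mim
  haveI := (nontrivial_iff_ne_bot K).2 h1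
  let f : K →* K ⫽ Z(K) := ((coset Z(K)).comp (inclusion nml_Z.norm)).codRestrict _ fun x => by
    have := mfun_mem_mim (f := coset Z(K)) x.2
    rwa [mfun_of_mem (nml_Z.norm x.2)] at this
  have s : Function.Surjective f := fun y => by
    obtain ⟨x, hx, e⟩ := (mem_quo nml_Z.norm).1 y.2
    exact ⟨⟨x, hx⟩, Subtype.ext (by rw [← e, mfun_of_mem (nml_Z.norm hx)]; rfl)⟩
  have k : center K = f.ker := Subgroup.ext fun x => by
    have : f x = 1 ↔ cs Z(K) x = 1 := by rw [mfun_of_mem (nml_Z.norm x.2), Subtype.ext_iff]; rfl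
    rw [MonoidHom.mem_ker, this, cs_eq_one_iff (nml_Z.norm x.2), mem_center_iff]
    exact ⟨fun a => ⟨x.2, mem_C.2 fun g hg => congrArg Subtype.val (a ⟨g, hg⟩)⟩,
      fun a g => Subtype.ext (mem_C.1 a.2 g g.2)⟩
  have e := (QuotientGroup.quotientMulEquivOfEq k).trans (QuotientGroup.quotientKerEquivOfSurjective f s)
  rw [Group.nilpotencyClass_eq_quotient_center_plus_one,
    le_antisymm (Group.nilpotencyClass_le_of_surjective e.symm.toMonoidHom e.symm.surjective)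
      (Group.nilpotencyClass_le_of_surjective e.toMonoidHom e.surjective)]

theorem cls (hp : p.Prime) (i : ℕ) : ∀ {G : Type u} [Group G] [Finite G] {A H K : Subgroup G}, Soft p A H →
    A ≤ K → K < H → A.relIndex K = p ^ i → Group.nilpotencyClass K = i + 1 := by
  induction i with
  | zero =>
    intro G _ _ A H K h a1 a2 a3
    obtain rfl := le_antisymm a1 (relIndex_eq_one_iff.1 a3)
    have ne : A ≠ ⊥ := fun e => a2.not_ge (le_trans (by simp [e]) h.cent)
    haveI : Group.IsNilpotent (A ⫽ Z(A)) := h.ab.nil.mim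
    rw [cls_quo h.ab.nil ne, Group.nilpotencyClass_zero_iff_subsingleton.2]
    rw [quo_eq_bot h.ab.Z_eq.ge]; infer_instance
  | succ i ih =>
    intro G _ _ A H K h a1 a2 a3
    have lt : A < K := a1.lt_of_ne fun e => (Nat.one_lt_pow i.succ_ne_zero hp.one_lt).ne'
      (a3.symm.trans (relIndex_eq_one_iff.2 e.ge))
    have BK := h.up hp lt a2.le
    have KD := h.pi.nil.lt_norm a2
    obtain ⟨ch, ix⟩ := chain hp _ h rfl
    obtain ⟨x, xD, xK⟩ := SetLike.exists_of_lt KD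
    have cA := cj_le_of_mem_N a1 xD.2
    have su : A ⊔ cj x A = K := (sup_le a1 cA).eq_or_lt.resolve_right fun l => xK (by
      have LH := l.le.trans a2.le
      have xN : x ∈ N(A ⊔ cj x A) := by
        rcases ch _ (cj x⁻¹ (A ⊔ cj x A)) le_sup_left (le_cj_iff.2 (by simp)) LH (cj_le_of_mem LH (inv_mem xD.1))
          with e | e
        · exact mem_N_of_cj_le (by simpa using le_cj_iff.1 e)
        · exact inv_mem_iff.1 (mem_N_of_cj_le e)
      rcases ch K (H ⊓ N(A ⊔ cj x A)) a1 (le_inf h.le (le_norm le_sup_left)) a2.le inf_le_left with e | e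
      · exact ((eq_or_eq_of_prime_relIndex ((ix _ le_sup_left (l.trans a2)).symm ▸ hp) l.le e).resolve_left
          l.ne').ge ⟨xD.1, xN⟩
      · exact e ⟨xD.1, xN⟩)
    have s := h.mono (BK.trans KD.le) inf_le_left
    have nZ : Z(K) ⊴ H ⊓ N(K) := ⟨inf_le_left.trans KD.le, norm_Z inf_le_right⟩
    have ZA := h.Z_le a1 a2.le
    have eB : H ⊓ N(K) ⊓ N(A) = H ⊓ N(A) :=
      le_antisymm (inf_le_inf_right _ inf_le_left) (le_inf (BK.trans KD.le) inf_le_right)
    have nK := (h.pi.of_le a2.le).nil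
    rw [cls_quo nK lt.ne_bot]
    rcases s.quo hp nZ ZA with t | t
    · refine (nK.mim.Z_ne_bot (fun e => lt.not_ge (((quo_eq_bot_iff nml_Z.norm).1 e).trans ZA)) ?_).elim
      have b1 := t.Z_le (mim_mono a1) (mim_mono KD.le)
      have b2 : Z(K ⫽ Z(K)) ≤ cj x A ⫽ Z(K) := by
        rw [mim_cj (nZ.norm xD), ← cj_eq_self (norm_Z (mim_norm inf_le_right) (mfun_mem_mim xD))]
        exact cj_mono b1
      rw [eq_bot_iff, ← quo_eq_bot (A := A ⊓ cj x A) (le_inf (inf_le_left.trans a1)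
        (su ▸ cent_sup (inf_le_left.trans h.ab) (inf_le_right.trans (h.ab.cj x)))), quo_inf' (nml_Z.of_le ZA a1)]
      exact le_inf b1 b2
    · rw [eB] at t
      rw [ih (t (BK.trans_lt KD).ne) (mim_mono BK) (quo_lt_quo inf_le_left nZ.norm KD)]
      rw [relIndex_quo BK nml_Z.norm (ZA.trans h.leN)]
      refine Nat.eq_of_mul_eq_mul_left hp.pos ?_
      rw [← pow_succ', ← a3, ← relIndex_tower h.leN BK, h.idx]

/-- Let P be a finite p-group and E an abelian subgroup of P that contains its centralizer, has index p in its normalizer, and has index at least p² in P. Then the subgroups of P containing E are totally ordered by inclusion, each proper one has index p in its normalizer (so they form the normalizer tower of E, with all steps of index p), and the i-th member of the tower above E has nilpotency class i + 1 whenever it is a proper subgroup of P. -/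
theorem result {P : Type*} [Group P] [Finite P] (p : ℕ) [Fact p.Prime] (hP : IsPGroup p P)
    (E : Subgroup P) (hEab : IsMulCommutative ↥E) (hC : Subgroup.centralizer (E : Set P) ≤ E)
    (hN : (E.subgroupOf (Subgroup.normalizer (E : Set P))).index = p) (hidx : p ^ 2 ≤ E.index) :
    (∀ K L : Subgroup P, E ≤ K → E ≤ L → K ≤ L ∨ L ≤ K) ∧
      (∀ K : Subgroup P, E ≤ K → K ≠ ⊤ → (K.subgroupOf (Subgroup.normalizer (K : Set P))).index = p) ∧
      ∀ (i : ℕ) (K : Subgroup P) [Group.IsNilpotent ↥K], E ≤ K → K ≠ ⊤ → K.index * p ^ i = E.index →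
        Group.nilpotencyClass ↥K = i + 1 := by
  have hp : p.Prime := Fact.out
  have s : Soft p E ⊤ := ⟨piGrp_of_isPGroup hp (hP.to_subgroup _), le_top, abel_of_comm hEab, inf_le_right.trans hC,
    by rw [top_inf_eq]; exact hN⟩
  obtain ⟨a, b⟩ := chain hp _ s rfl
  refine ⟨fun K L a1 a2 => a K L a1 a2 le_top le_top, fun K a1 a2 => by have := b K a1 a2.lt_top; rwa [top_inf_eq] at this,
    fun i K _ a1 a2 a3 => cls hp i s a1 a2.lt_top ?_⟩
  refine Nat.eq_of_mul_eq_mul_right (Nat.pos_of_ne_zero (FiniteIndex.index_ne_zero (H := K))) ?_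
  rw [relIndex_mul_index a1, ← a3, mul_comm]

end Cfsg.Agent.S3811
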