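import Cfsg.Statements.S3824
import Cfsg.Agent.H18.Pi
import Cfsg.Agent.H5.Central

set_option autoImplicit false
open Cfsg

namespace Cfsg.Agent.S3824

open H18 Subgroup

/-- Every finite group having an abelian subgroup whose index is a power of 2 is solvable. -/
theorem result {G : Type*} [Group G] [Finite G]
    (A : Subgroup G) (hA : IsMulCommutative A) (hidx : ∃ k : ℕ, A.index = 2 ^ k) : Group.IsSolvable G := by
  refine H5.isSolvable_of_simple_sections (fun G _ => ∃ A : Subgroup G, Abel A ∧ ∃ k, A.index ∣ 2 ^ k) ?_ ?_ ?_ G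
    ⟨A, abel_of_comm hA, hidx.imp fun k h => h ▸ dvd_rfl⟩
  · rintro G _ _ N _ ⟨A, h1, k, h2⟩
    refine ⟨A.subgroupOf N, fun x hx y hy => Subtype.ext (h1 hx _ hy), k, ?_⟩
    have := (nml_top (K := N)).relIndex_dvd' (le_top (a := A))
    rw [relIndex_top_right] at this
    exact this.trans h2
  · rintro G _ _ N _ ⟨A, h1, k, h2⟩
    refine ⟨A.map (QuotientGroup.mk' N), ?_, k, (A.index_map_dvd (QuotientGroup.mk'_surjective N)).trans h2⟩
    rintro _ ⟨x, hx, rfl⟩ _ ⟨y, hy, rfl⟩
    rw [← map_mul, ← map_mul, h1 hx _ hy]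
  · rintro G _ _ _ ⟨A, h1, k, h2⟩
    by_cases e : A = ⊥
    · rw [e, index_bot] at h2
      exact H5.burnside_paqb_dvd Nat.prime_two Nat.prime_two (b := 0) (by simpa using h2)
    obtain ⟨x, hx, x1⟩ := exists_mem_ne_one' e
    obtain ⟨m, -, hm⟩ := (Nat.dvd_prime_pow Nat.prime_two).1
      ((index_dvd_of_le (h1.trans (C_le_C1 hx))).trans h2)
    exact H5.isSolvable_of_card_prime (H5.card_prime_of_isSimpleGroup_of_index_eq_pow Nat.prime_two x1 hm)

end Cfsg.Agent.S3824
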