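import Cfsg.Statements.S3843
import Cfsg.Agent.H9.MSC
import Cfsg.Agent.H26.NEnd

set_option autoImplicit false
open Cfsg

namespace Cfsg.Agent.S3843

/-- A solvability criterion through pairs of elements of coprime prime power orders: a finite group G is solvable if and only if, for every pair of distinct primes p, q and every p-element x and q-element y of G, whenever ⟨x, y⟩ is solvable so is ⟨x, g y g⁻¹⟩ for every g ∈ G. -/
theorem result {G : Type*} [Group G] [Finite G] :
    Group.IsSolvable G ↔ ∀ p q : ℕ, p.Prime → q.Prime → p ≠ q → ∀ x y : G, (∃ k : ℕ, orderOf x = p ^ k) → (∃ k : ℕ, orderOf y = q ^ k) →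
      Group.IsSolvable ↥(Subgroup.closure ({x, y} : Set G)) → ∀ g : G, Group.IsSolvable ↥(Subgroup.closure ({x, g * y * g⁻¹} : Set G)) := by
  exact ⟨fun _ _ _ _ _ _ _ _ _ _ _ _ => inferInstance, H9.MSi.conj_crit⟩

end Cfsg.Agent.S3843
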