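import Cfsg.Statements.S3861
import Cfsg.Agent.H18.BG1
import Cfsg.Agent.H9.SylowBasic

set_option autoImplicit false
open Cfsg

namespace Cfsg.Agent.S3861

open H18 H1 Subgroup

theorem odd {H : Type*} [Group H] (x : H) : Odd (orderOf x) ↔ PiElt {2}ᶜ x := by
  rw [PiElt, piNat_compl_iff Nat.prime_two, ← even_iff_two_dvd, Nat.not_even_iff_odd]

/-- A finite group G has no non-identity element of odd order that is conjugate to its inverse if and only if the Sylow 2-subgroups of G are normal. -/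
theorem result {G : Type*} [Group G] [Finite G] (P : Sylow 2 G) : (∀ x : G, x ≠ 1 → Odd (orderOf x) → ¬ IsConj x x⁻¹) ↔ (P : Subgroup G).Normal := by
  have hP := hall_sylow_top Nat.prime_two P
  constructor
  · intro h
    set K := O[{2}]((⊤ : Subgroup G)) with hK
    have nK : K ⊴ ⊤ := pcore_nml
    suffices PiGrp {2}ᶜ (⊤ ⫽ K) by
      have hh : Hall {2} K ⊤ := ⟨le_top, pcore_pi, (piGrp_quo_iff nK.2).1 this⟩
      rw [hh.eq_of_nml nK.2 hP]; exact nK.normal
    have top : (⊤ : Subgroup G) ⫽ K = ⊤ := top_le_iff.1 (quo_N.ge.trans (mim_mono le_top))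
    refine piGrp_of_prime_elt fun t _ ht e => ?_
    have e : orderOf t = 2 := e
    obtain ⟨z, z1, z2, z3⟩ := H9.exists_odd_inverted e fun c => by
      have := le_pcore (H := ⊤) nml_top (piGrp_of_isPGroup Nat.prime_two c)
      rw [← top, pcore_quo_pcore] at this
      have := this (subset_normalClosure (Set.mem_singleton t))
      rw [mem_bot.1 this] at e; simp at e
    obtain ⟨x, -, hx, x2, rfl⟩ := exists_piElt_lift (f := coset K) (A := ⊤) (top ▸ mem_top z) ((odd z).1 z2)
    obtain ⟨g, -, rfl⟩ := (mem_quo nK.2).1 (top ▸ mem_top t)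
    have N : ∀ g, g ∈ N(K) := fun g => nK.2 (mem_top g)
    have e1 : g * x * g⁻¹ ∈ zpowers x ⊔ K := by
      refine mem_of_cs_mem (N _) (nK.of_le le_sup_right le_top) ?_
      rw [mfun_conj (N _) hx, z3, ← mfun_inv hx]
      exact mfun_mem_mim ((le_sup_left : _ ≤ zpowers x ⊔ K) (inv_mem (mem_zpowers x)))
    have hh : Hall {2}ᶜ (zpowers x) (zpowers x ⊔ K) :=
      hall_of_sup x2.zpowers pcore_pi.compl_compl (nK.nrm2' le_top)
    have sol : Solv (zpowers x ⊔ K : Subgroup G) := abel_zpowers.solv.sup_norm pcore_pi.solv (le_top.trans nK.2)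
    obtain ⟨c, hc, e2⟩ := H23.hall_le_cj sol hh (zpowers_le.2 e1) (x2.conj g).zpowers
    have e3 := e2 (conj_mem_cj (mem_zpowers _))
    refine h x (by rintro rfl; simp at z1) ((odd x).2 x2) (isConj_iff.2 ⟨c * g, ?_⟩)
    have e4 : c * (g * x * g⁻¹) * c⁻¹ * x ∈ zpowers x ⊓ K := by
      refine ⟨mul_mem e3 (mem_zpowers x), (cs_eq_one_iff (N _)).1 ?_⟩
      have : cs K c ∈ zpowers (cs K x) := by
        rw [← mim_zpowers hx, ← quo_sup_self (le_top.trans nK.2)]; exact mfun_mem_mim hc
      obtain ⟨k, hk⟩ := this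
      rw [mfun_mul (N _) (N _), mfun_conj (N _) (N _), mfun_conj (N _) (N _), z3, ← hk]
      simp only; group
    rw [x2.zpowers.inf_eq_bot' pcore_pi, mem_bot] at e4
    rw [← mul_eq_one_iff_eq_inv, ← e4]; group
  · intro hn x x1 x2 c
    obtain ⟨g, hg⟩ := isConj_iff.1 c
    have x2 := (odd x).1 x2
    have n1 : g ∈ N(zpowers x) := by
      rw [mem_N_iff_cj, cj_zpowers, hg, zpowers_inv]
    have c2 : g ^ 2 ∈ C1(x) := by
      have : g * (g * x * g⁻¹)⁻¹ * g⁻¹ = x⁻¹ := by rw [hg, inv_inv, hg]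
      rw [mem_C1, pow_two, ← inv_inj, mul_inv_rev x, ← this]; group
    have a1 : piPart {2}ᶜ g ∈ C1(x) := by
      have h1 : zpowers g ⊓ C1(x) ⊴ zpowers g := abel_zpowers.nml inf_le_left
      refine (piElt_piPart.mem_of_nml piPart_mem_zpowers h1 (PiNat.compl_compl ?_)).2
      refine (piNat_self Nat.prime_two).of_dvd ?_
      have : zpowers (g ^ 2) ≤ zpowers g ⊓ C1(x) := zpowers_le.2 ⟨pow_mem (mem_zpowers g) 2, c2⟩
      refine (relIndex_dvd_left this).trans ?_
      have := card_mul_relIndex (A := zpowers (g ^ 2)) (B := zpowers g) (this.trans inf_le_left)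
      rw [card_zpowers', card_zpowers', orderOf_pow] at this
      have h2 := Nat.div_mul_cancel (Nat.gcd_dvd_left (orderOf g) 2)
      rw [Nat.eq_of_mul_eq_mul_left (Nat.pos_of_ne_zero (by
        intro e; rw [e, zero_mul] at h2; exact (orderOf_pos g).ne h2)) (this.trans h2.symm)]
      exact Nat.gcd_dvd_right _ _
    have a2 : piPart {2} g ∈ C1(x) := by
      have : zpowers (piPart {2} g) ≤ C(zpowers x) := by
        refine comm_eq_bot_iff.1 (le_bot_iff.1 ((le_inf (comm_le_right (zpowers_le.2 (piPart_mem n1)))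
          ((comm_mono (zpowers_le.2 (hP.mem_of_nml norm_of_normal (mem_top _) piElt_piPart)) le_top).trans
          (comm_le_left norm_of_normal))).trans (x2.zpowers.inf_eq_bot' hP.2).le))
      rw [C_zpowers] at this
      exact this (mem_zpowers _)
    rw [conj_eq_self_of_C1 (mem_of_parts a2 a1)] at hg
    exact x1 (x2.eq_one' (PiNat.compl_compl (piElt_of_pow_eq_one Nat.prime_two (by
      rw [pow_two]; nth_rewrite 2 [hg]; simp))))

end Cfsg.Agent.S3861
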