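import Cfsg.Statements.S3862
import Cfsg.Agent.H21.MinAct
import Cfsg.Agent.H3.Frobenius

set_option autoImplicit false
open Cfsg

namespace Cfsg.Agent.S3862

open H18 H21 H1 Subgroup
open scoped commutatorElement

/-- If every 2-element of the finite group G that is conjugate to its inverse lies in the centre of G, then G has a normal 2-complement. -/
theorem result {G : Type*} [Group G] [Finite G] (h : ∀ x : G, (∃ j : ℕ, orderOf x = 2 ^ j) → IsConj x x⁻¹ → x ∈ Subgroup.center G) : Cfsg.HasNormalPComplement 2 G := by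
  refine H3.frobenius_iff'.2 fun Q hQ g hg hc => ?_
  by_contra nc
  have hp := Nat.prime_two
  obtain ⟨P, -, m⟩ := exists_minAct (B := zpowers g) (A := zpowers g) (piGrp_of_isPGroup hp hQ) (zpowers_le.2 hg) le_rfl
    le_N (piGrp_zpowers.2 ((piNat_compl_iff_coprime hp).2 hc)) fun e => nc (cent_symm e (mem_zpowers g))
  set A := zpowers g
  have real : ∀ x ∈ P, ∀ y, y * x * y⁻¹ = x⁻¹ → x ∈ Φ(P) := fun x hx y e => by
    rw [← m.cent_eq]
    exact ⟨hx, fun a _ => mem_center_iff.1 (h x ((m.pi.elt hx).eq_pow (orderOf_pos x).ne') (isConj_iff.2 ⟨y, e⟩)) a⟩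
  have pl : Φ(P) < P := phi_lt m.ne_bot
  obtain ⟨x, hx, nx⟩ := SetLike.exists_of_lt pl
  have sq : ∀ y ∈ P, y ^ 2 ∈ Φ(P) := fun y hy => m.pi.pow_mem_phi hp hy
  have cm : ∀ y ∈ P, ∀ z ∈ P, ⁅y, z⁆ ∈ Φ(P) := fun y hy z hz => m.pi.der_le_phi hp (commutator_mem_commutator hy hz)
  have cP : ∀ z ∈ Φ(P), ∀ y ∈ P, y * z = z * y := fun z hz y hy => m.phi_cent hz y hy
  -- the subgroup `[P, x]`
  let W : Subgroup G :=
    { carrier := {w | ∃ y ∈ P, w = ⁅y, x⁆}
      one_mem' := ⟨1, one_mem _, by simp⟩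
      mul_mem' := by
        rintro _ _ ⟨y, hy, rfl⟩ ⟨z, hz, rfl⟩
        refine ⟨y * z, mul_mem hy hz, ?_⟩
        have := cP _ (cm z hz x hx) y hy
        calc ⁅y, x⁆ * ⁅z, x⁆ = ⁅z, x⁆ * ⁅y, x⁆ := cP _ (cm z hz x hx) _ (phi_le (cm y hy x hx))
          _ = (⁅z, x⁆ * y) * x * y⁻¹ * x⁻¹ := by simp only [commutatorElement_def]; group
          _ = _ := by rw [← this]; simp only [commutatorElement_def]; group
      inv_mem' := by
        rintro _ ⟨y, hy, rfl⟩
        refine ⟨y⁻¹, inv_mem hy, ?_⟩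
        have := cP _ (inv_mem (cm y hy x hx)) y⁻¹ (inv_mem hy)
        calc ⁅y, x⁆⁻¹ = ⁅y, x⁆⁻¹ * y⁻¹ * y := by group
          _ = _ := by rw [← this]; simp only [commutatorElement_def]; group }
  have WP : W ≤ Φ(P) := by rintro _ ⟨y, hy, rfl⟩; exact cm y hy x hx
  have nW : x ^ 2 ∉ W := by
    rintro ⟨y, hy, e⟩
    have aΦ : Abel Φ(P) := m.phi_cent.trans (C_anti phi_le)
    have : Φ(P) ≤ Ω[2](Φ(P)) := by
      nth_rewrite 1 [m.phi_eq_der]
      refine commutator_le.2 fun a ha b hb => mem_omega (cm a ha b hb) ?_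
      have e1 := cP _ (cm a ha b hb) a ha
      have e2 := cP _ (sq a ha) b hb
      calc ⁅a, b⁆ ^ 2 = ⁅a, b⁆ * a * (b * a⁻¹ * b⁻¹) := by simp only [commutatorElement_def, pow_two]; group
        _ = (a ^ 2 * b) * (a ^ 2)⁻¹ * b⁻¹ := by rw [← e1]; simp only [commutatorElement_def, pow_two]; group
        _ = 1 := by rw [← e2]; group
    have h4 := (aΦ.mem_omega_iff.1 (this (sq x hx))).2
    refine nx (real x hx y ?_)
    calc y * x * y⁻¹ = ⁅y, x⁆ * x := by simp only [commutatorElement_def]; group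
      _ = (x ^ 2) ^ 2 * x⁻¹ := by rw [← e]; group
      _ = _ := by rw [h4, one_mul]
  have PW : P ≤ N(W) := cent_norm (cent_symm (WP.trans m.phi_cent))
  have AW : A ≤ N(W) := cent_norm (cent_symm (WP.trans m.phi_le_cent))
  have xR : x ∈ P ⊓ qpre W C(P ⫽ W) := by
    refine ⟨hx, mem_mpre.2 ⟨PW hx, fun z hz => ?_⟩⟩
    obtain ⟨w, hw, rfl⟩ := (mem_quo PW).1 hz
    rw [← commutatorElement_eq_one_iff_mul_comm, ← mfun_comm (PW hw) (PW hx)]
    exact cs_eq_one ⟨w, hw, rfl⟩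
  rcases m.irr (U := P ⊓ qpre W C(P ⫽ W))
    (le_inf phi_le ((mim_le_iff (phi_le.trans PW)).1 (mim_cent m.phi_cent))) inf_le_left
    (norm_inf m.norm (norm_mpre AW (norm_C (mim_norm m.norm)))) with e | e
  · exact nx (e ▸ xR)
  · have := (comm_le_iff_quo PW PW).2 ((mim_le_iff PW).2 (e.ge.trans inf_le_right))
    exact nW (this (m.phi_eq_der ▸ sq x hx))

end Cfsg.Agent.S3862
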