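import Cfsg.Statements.S3863
import Cfsg.Agent.H22.Basic

set_option autoImplicit false
open Cfsg

namespace Cfsg.Agent.S3863

/-- Let x be an element of the finite group G that is conjugate to its inverse. Then some 2-element conjugates x to its inverse; if the conjugacy class of x has odd size then x ^ 2 = 1; and x lies in, and is conjugate to its inverse inside, every normal subgroup of odd index. -/
theorem result {G : Type*} [Group G] [Finite G] (x : G) (hx : IsConj x x⁻¹) : (∃ t : G, (∃ j : ℕ, orderOf t = 2 ^ j) ∧ t * x * t⁻¹ = x⁻¹) ∧ (Odd (Subgroup.centralizer ({x} : Set G)).index → x ^ 2 = 1) ∧ ∀ (N : Subgroup G) [N.Normal], Odd N.index → ∃ hxN : x ∈ N, IsConj (⟨x, hxN⟩ : N) (⟨x, hxN⟩ : N)⁻¹ := by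
  obtain ⟨t, ht⟩ := isConj_iff.mp hx
  have key : ∀ (t : G), t * x * t⁻¹ = x⁻¹ → ∀ m : ℕ, Odd m → t ^ m * x * (t ^ m)⁻¹ = x⁻¹ := by
    rintro t ht _ ⟨k, rfl⟩
    induction k with
    | zero => simpa using ht
    | succ k ih =>
      calc t ^ (2 * (k + 1) + 1) * x * (t ^ (2 * (k + 1) + 1))⁻¹
          = t * (t * (t ^ (2 * k + 1) * x * (t ^ (2 * k + 1))⁻¹) * t⁻¹) * t⁻¹ := by group
        _ = x⁻¹ := by rw [ih, show t * x⁻¹ * t⁻¹ = (t * x * t⁻¹)⁻¹ by group, ht, inv_inv, ht]
  refine ⟨?_, fun h => ?_, fun N _ hN => ?_⟩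
  · obtain ⟨k, m, hm, e⟩ := Nat.exists_eq_two_pow_mul_odd (orderOf_pos t).ne'
    refine ⟨t ^ m, ⟨k, ?_⟩, key t ht m hm⟩
    rw [orderOf_pow, e, Nat.gcd_mul_left_left, Nat.mul_div_cancel _ hm.pos]
  · have hn : t ∈ Subgroup.normalizer (Subgroup.centralizer ({x} : Set G) : Set G) := by
      refine Subgroup.mem_normalizer_fintype fun g hg => ?_
      have hg' : Commute g x := Subgroup.mem_centralizer_singleton_iff.mp hg
      have h1 : Commute (t * g * t⁻¹) (t * x * t⁻¹) := hg'.conj t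
      rw [ht] at h1
      exact Subgroup.mem_centralizer_singleton_iff.mpr (Commute.inv_right_iff.mp h1)
    let C := Subgroup.centralizer ({x} : Set G)
    have hodd : Odd (C.relIndex (Subgroup.normalizer (C : Set G))) :=
      Odd.of_dvd_nat h (Subgroup.relIndex_dvd_index_of_le Subgroup.le_normalizer)
    have h2 := (C.subgroupOf (Subgroup.normalizer (C : Set G))).pow_index_mem ⟨t, hn⟩
    have h3 := key t ht _ hodd
    have h4 : t ^ C.relIndex (Subgroup.normalizer (C : Set G)) * x = x * t ^ C.relIndex (Subgroup.normalizer (C : Set G)) :=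
      Subgroup.mem_centralizer_singleton_iff.mp h2
    rw [h4, mul_inv_cancel_right] at h3
    rw [sq, ← eq_inv_iff_mul_eq_one]
    exact h3
  · have h1 := key t ht _ hN
    have h2 : t ^ N.index ∈ N := N.pow_index_mem t
    have h3 : x⁻¹ * x⁻¹ ∈ N := by
      have := mul_mem h2 (‹N.Normal›.conj_mem _ (inv_mem h2) x)
      rwa [← mul_assoc, ← mul_assoc, h1] at this
    have h4 : x ∈ N := by
      obtain ⟨k, hk⟩ := hN
      have := mul_mem (pow_mem h3 k) (N.pow_index_mem x)
      rwa [hk, show (x⁻¹ * x⁻¹) ^ k * x ^ (2 * k + 1) = x by rw [← sq, ← pow_mul]; group] at this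
    exact ⟨h4, isConj_iff.mpr ⟨⟨_, h2⟩, Subtype.ext h1⟩⟩

end Cfsg.Agent.S3863
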