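import Cfsg.Statements.S3869
import Cfsg.Agent.H21.PClosed

set_option autoImplicit false
open Cfsg

namespace Cfsg.Agent.S3869

open H18 H21 H1 Subgroup

/-- Let p and q be distinct primes and G a finite non-abelian group with a normal elementary abelian q-subgroup A that is a minimal normal subgroup of G and has index p. Then A has order q^e with e the multiplicative order of q modulo p, and G is minimal non-p-closed: its Sylow p-subgroups are not normal, while in every proper subgroup and in every proper quotient of G the Sylow p-subgroups are normal. -/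
theorem result {G : Type*} [Group G] [Finite G] {p q : ℕ} [Fact p.Prime] (hq : q.Prime) (hpq : q ≠ p)
    (hna : ¬ IsMulCommutative G) (A : Subgroup G) [A.Normal] (hA : Cfsg.IsElementaryAbelian q A) (hidx : A.index = p)
    (hmin : ∀ B : Subgroup G, B.Normal → B ≤ A → B = ⊥ ∨ B = A) :
    Nat.card ↥A = q ^ orderOf (q : ZMod p) ∧ ¬ Cfsg.IsPClosed p G ∧ (∀ H : Subgroup G, H ≠ ⊤ → Cfsg.IsPClosed p ↥H) ∧
      ∀ (N : Subgroup G) [N.Normal], N ≠ ⊥ → Cfsg.IsPClosed p (G ⧸ N) := by
  have hp : p.Prime := Fact.out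
  have eA : Elem q A := elem_iff.2 hA
  have A' : PiGrp {p}ᶜ A := (eA.pi hq).p'_of_ne hpq
  have nA : A ⊴ ⊤ := nml_top
  have hA' : Hall {p}ᶜ A ⊤ := ⟨le_top, A', by rw [relIndex_top_right, hidx]; exact (piNat_self hp).compl_compl⟩
  have card : ∀ X, Hall {p} X ⊤ → Nat.card X = p := fun X hX => by
    rw [← hidx, ← relIndex_top_right, hA'.relIndex_eq_compl (by simpa using hX)]
  have sup : ∀ X, Hall {p} X ⊤ → X ⊔ A = ⊤ := fun X hX => hX.sup_compl hA'
  have min : ∀ X, Hall {p} X ⊤ → ∀ B ≤ A, X ≤ N(B) → B = ⊥ ∨ B = A := fun X hX B h1 h2 =>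
    hmin B (norm_top_iff.1 (sup X hX ▸ sup_le h2 (eA.abel.norm h1))) h1
  have nc : ∀ X, Hall {p} X ⊤ → ¬ X ≤ C(A) := fun X hX c => hna <| by
    have := (abel_of_prime (card X hX ▸ hp)).sup eA.abel c
    rw [sup X hX] at this
    exact ⟨⟨fun a b => this (mem_top b) a (mem_top a)⟩⟩
  have nn : ∀ X, Hall {p} X ⊤ → ¬ ⊤ ≤ N(X) := fun X hX c =>
    nc X hX (cent_of_norm_coprime norm_of_normal (le_top.trans c) (hX.2.coprime A'))
  obtain ⟨X, hX⟩ := exists_sylow hp (⊤ : Subgroup G)
  refine ⟨card_eq_of_minNorm hp hq eA (card X hX) ⟨fun e => nc X hX (by simp [e]), norm_of_normal,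
    fun K h1 h2 h3 => (min X hX K h1 h3).resolve_left h2⟩ (nc X hX), fun c => ?_, fun H hH => ?_, fun N _ hN => ?_⟩
  · exact nn _ ((isPClosed_top_iff hp).1 c) pcore_nml.2
  · rw [isPClosed_iff hp]
    obtain ⟨Y, hY⟩ := exists_sylow hp H
    by_cases e : Y = ⊥
    · exact hY.pcore_hall (by simp [e])
    obtain ⟨Z, hZ, hYZ⟩ := exists_sylow_le hp hY.2 le_top
    obtain rfl : Y = Z := eq_of_prime (card Z hZ ▸ hp) hYZ e
    rcases min Y hZ (H ⊓ A) inf_le_right (norm_inf (le_norm hY.1) norm_of_normal) with c | c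
    · refine hY.pcore_hall (le_norm ?_)
      have := (nA.nrm2' (A := Y) le_top).modular hY.1
      rw [sup Y hZ, top_inf_eq, inf_comm, c, sup_bot_eq] at this
      exact this.le
    · exact (hH (top_le_iff.1 (sup Y hZ ▸ sup_le hY.1 (c.ge.trans inf_le_left)))).elim
  · rw [isPClosed_quo_iff hp hX]
    rcases hmin (N ⊓ A) inferInstance inf_le_right with c | c
    · have : Nat.card N ∣ p := by
        rw [← card_mul_relIndex' (A := A), inf_comm, c, card_bot, one_mul, ← hidx, ← relIndex_top_right]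
        exact nA.relIndex_dvd le_top
      have hN' : Nat.card N = p := ((Nat.dvd_prime hp).1 this).resolve_left (one_lt_card hN).ne'
      exact (nn N (hX.of_card le_top (hN'.trans (card X hX).symm)) norm_of_normal).elim
    · rw [top_le_iff.1 ((sup X hX).ge.trans (sup_le_sup_left (c.ge.trans inf_le_left) X))]
      exact Nml.rfl

end Cfsg.Agent.S3869
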