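import Cfsg.Statements.S3870
import Cfsg.Agent.H18.BG1

set_option autoImplicit false
open Cfsg

namespace Cfsg.Agent.S3870

open H18 H1 Subgroup

/-- Let G be a finite simple group whose Sylow p-subgroups are not normal but such that every proper subgroup of G has a normal Sylow p-subgroup. Then any two distinct Sylow p-subgroups of G intersect trivially, and for every Sylow p-subgroup P the normalizer of every non-identity subgroup of P lies in the normalizer of P. -/
theorem result {G : Type*} [Group G] [Finite G] [IsSimpleGroup G] {p : ℕ} [Fact p.Prime]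
    (hnc : ¬ Cfsg.IsPClosed p G) (hsub : ∀ H : Subgroup G, H ≠ ⊤ → Cfsg.IsPClosed p ↥H) :
    (∀ P Q : Sylow p G, P ≠ Q → (P : Subgroup G) ⊓ (Q : Subgroup G) = ⊥) ∧
      ∀ (P : Sylow p G) (R : Subgroup G), R ≤ P → R ≠ ⊥ →
        Subgroup.normalizer (R : Set G) ≤ Subgroup.normalizer ((P : Subgroup G) : Set G) := by
  have hp : p.Prime := Fact.out
  have cl : ∀ H : Subgroup G, H ≠ ⊤ → Hall {p} O[{p}](H) H := fun H hH => by
    obtain ⟨S⟩ : Nonempty (Sylow p H) := inferInstance
    have := hsub H hH S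
    exact (hall_map_sylow hp S).pcore_hall nml_map_subtype.2
  have nt : ∀ R : Subgroup G, PiGrp {p} R → R ≠ ⊥ → N(R) ≠ ⊤ := fun R hR h1 e => by
    rcases (norm_top_iff.1 e.ge).eq_bot_or_eq_top with c | c
    · exact h1 c
    · refine hnc fun P => ?_
      rw [(hall_sylow_top hp P).eq_self (c ▸ hR)]; infer_instance
  have ti : ∀ n, ∀ P Q : Subgroup G, Hall {p} P ⊤ → Hall {p} Q ⊤ → (P ⊓ Q).index = n → P ⊓ Q ≠ ⊥ → P = Q := by
    intro n
    induction n using Nat.strong_induction_on with
    | _ n ih =>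
    intro P Q hP hQ hn h1
    by_contra hne
    have hD : PiGrp {p} (P ⊓ Q) := hP.2.inf_left
    obtain ⟨T, hT, hT1⟩ := exists_sylow_le hp (pcore_pi (H := N(P ⊓ Q))) le_top
    have c := cl _ (nt _ hD h1)
    have key : ∀ S : Subgroup G, Hall {p} S ⊤ → P ⊓ Q < S → S = T := fun S hS lt => by
      have l := hS.2.nil.lt_norm lt
      have l2 : P ⊓ Q < S ⊓ T :=
        l.trans_le (le_inf inf_le_left ((c.le_pcore inf_le_right hS.2.inf_left).trans hT1))
      exact ih _ (hn ▸ index_strictAnti l2) S T hS hT rfl (ne_bot_of_gt l2)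
    exact hne ((key P hP (lt_of_le_of_ne inf_le_left fun e => hne (hP.eq_of_le' hQ (e.ge.trans inf_le_right)))).trans
      (key Q hQ (lt_of_le_of_ne inf_le_right fun e => hne (hQ.eq_of_le' hP (e.ge.trans inf_le_left)).symm)).symm)
  refine ⟨fun P Q hne => by_contra fun h1 => hne (Sylow.ext
    (ti _ _ _ (hall_sylow_top hp P) (hall_sylow_top hp Q) rfl h1)), fun P R hR h1 g hg => ?_⟩
  have hP := hall_sylow_top hp P
  refine mem_N_iff_cj.2 (ti _ _ _ (hP.cj_top g) hP rfl fun e => h1 (le_bot_iff.1 (e ▸ le_inf ?_ hR)))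
  rw [← cj_eq_self hg]; exact cj_mono hR

end Cfsg.Agent.S3870
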