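import Cfsg.Statements.S3872
import Cfsg.Agent.H3.Regular
import Cfsg.Agent.H18.BG1

set_option autoImplicit false
open Cfsg

namespace Cfsg.Agent.S3872

open H18 H1 H3 Subgroup

/-- Say that a finite group is p-exponent closed when its elements of order dividing p form a subgroup. Let G be a finite p-group that is not p-exponent closed, but all of whose proper subgroups and proper quotients are. Then G is generated by two elements, has nilpotency class at least p, has exponent p², has cyclic center, and has order at least p^(p+1). -/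
theorem result {G : Type*} [Group G] [Finite G] {p : ℕ} [Fact p.Prime] (hG : IsPGroup p G)
    (hnc : ¬ (∃ H : Subgroup G, (H : Set G) = {g : G | g ^ p = 1})) (hsub : ∀ K : Subgroup G, K ≠ ⊤ → (∃ H : Subgroup ↥K, (H : Set ↥K) = {g : ↥K | g ^ p = 1}))
    (hquo : ∀ (N : Subgroup G) [N.Normal], N ≠ ⊥ → (∃ H : Subgroup (G ⧸ N), (H : Set (G ⧸ N)) = {g : (G ⧸ N) | g ^ p = 1})) :
    (∃ x y : G, Subgroup.closure ({x, y} : Set G) = ⊤) ∧ (⊤ : Subgroup G).lowerCentralSeries (p - 1) ≠ ⊥ ∧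
      Monoid.exponent G = p ^ 2 ∧ IsCyclic ↥(Subgroup.center G) ∧ p ^ (p + 1) ≤ Nat.card G := by
  have hp : p.Prime := Fact.out
  have hP : PiGrp {p} (⊤ : Subgroup G) := piGrp_of_isPGroup hp (hG.to_subgroup _)
  obtain ⟨x, y, hx, hy, hxy⟩ : ∃ x y : G, x ^ p = 1 ∧ y ^ p = 1 ∧ (x * y) ^ p ≠ 1 := by
    by_contra! c
    exact hnc ⟨{ carrier := {g | g ^ p = 1}, one_mem' := one_pow p, mul_mem' := fun ha hb => c _ _ ha hb,
                 inv_mem' := fun ha => by simpa using ha }, rfl⟩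
  have gen : closure ({x, y} : Set G) = ⊤ := by_contra fun e => by
    obtain ⟨H, hH⟩ := hsub _ e
    have := hH.le (H.mul_mem (x := ⟨x, subset_closure (by simp)⟩) (y := ⟨y, subset_closure (by simp)⟩)
      (hH.ge (Subtype.ext hx)) (hH.ge (Subtype.ext hy)))
    exact hxy (congrArg Subtype.val this)
  have nr : ¬ Reg p (⊤ : Subgroup G) := fun r =>
    hxy (by simpa using r.mul_pow_eq_one (k := 1) hp hP (mem_top x) (mem_top y) (by simpa) (by simpa))
  have quo : ∀ (N : Subgroup G) [N.Normal], N ≠ ⊥ → ∀ g, g ^ p ∈ N := fun N _ hN g => by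
    obtain ⟨H, hH⟩ := hquo N hN
    have : closure ({x, y} : Set G) ≤ H.comap (QuotientGroup.mk' N) := by
      rw [closure_le]
      rintro _ (rfl | rfl) <;> exact hH.ge (show _ ^ p = 1 by rw [← map_pow]; simp [hx, hy])
    exact (QuotientGroup.eq_one_iff _).1 (hH.le (this (gen.ge (mem_top g))))
  have quo' : ∀ N ≤ Z((⊤ : Subgroup G)), N ≠ ⊥ → ∀ g, g ^ p ∈ N := fun N h =>
    have := (nml_of_le_Z h).normal
    quo N
  have G0 : (⊤ : Subgroup G) ≠ ⊥ := fun e => hxy (eq_one_of_eq_bot e (mem_top _))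
  refine ⟨⟨x, y, gen⟩, fun e => nr (reg_of_class_lt hp e), ?_, ?_, ?_⟩
  · obtain ⟨N, h1, h2⟩ := (hP.of_le (inf_le_left : Z(⊤) ≤ _)).exists_sub_card (hP.nil.Z_ne_bot G0)
    have : Monoid.exponent G ∣ p ^ 2 := Monoid.exponent_dvd_of_forall_pow_eq_one fun g => by
      rw [pow_two, pow_mul]; exact pow_eq_one_of_card h2 (quo' N h1 (ne_bot_of_prime (h2 ▸ hp)) g)
    obtain ⟨k, hk, e⟩ := (Nat.dvd_prime_pow hp).1 this
    rw [e]
    congr 1
    by_contra c
    refine hxy (orderOf_dvd_iff_pow_eq_one.1 ((Monoid.order_dvd_exponent _).trans ?_))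
    rw [e]
    exact (pow_dvd_pow p (by omega : k ≤ 1)).trans (by simp)
  · have : center G = Z((⊤ : Subgroup G)) := by simp [centralizer_univ]
    rw [this]
    by_contra c
    obtain ⟨A, hA⟩ := exists_pelem_of_lt hp (abel_Z.one_lt_prank hp (hP.of_le le_top) c)
    obtain ⟨X, hX⟩ := hA.exists_sub hp (m := 1) (by omega)
    obtain ⟨Y, hY, cY, ne⟩ := hA.exists_other hp hX.card_one
    exact hxy (eq_one_of_eq_bot (prime_inf_eq_bot hp cY hX.card_one ne)
      ⟨quo' Y (hY.trans hA.le) (ne_bot_of_prime (cY ▸ hp)) _, quo' X (hX.le.trans hA.le) (hX.ne_bot hp one_ne_zero) _⟩)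
  · obtain ⟨k, hk⟩ := hP.card_eq_pow
    rw [← card_top, hk]
    exact Nat.pow_le_pow_right hp.pos (by_contra fun c => nr (reg_of_card_le hp hP hk.le (by omega)))

end Cfsg.Agent.S3872
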