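import Cfsg.Statements.S3873
import Cfsg.Agent.S3868

set_option autoImplicit false
open Cfsg

namespace Cfsg.Agent.S3873

open H18 H21 H1 Subgroup

theorem clos {G : Type*} [Group G] [Finite G] {p : ℕ} (hp : p.Prime) (h : ∀ x : G, PiElt {p} x → x ^ p = 1) :
    IsPClosed p G ↔ ∃ H : Subgroup G, (H : Set G) = {g | g ^ p = 1} := by
  rw [isPClosed_top_iff hp]
  constructor
  · intro c
    refine ⟨O[{p}](⊤), Set.ext fun x => ⟨fun hx => h x (pcore_pi.elt hx), fun hx => ?_⟩⟩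
    exact c.mem_of_nml pcore_nml.2 (mem_top x) (piElt_of_pow_eq_one hp hx)
  · rintro ⟨H, hH⟩
    have m : ∀ x, x ∈ H ↔ x ^ p = 1 := fun x => Set.ext_iff.1 hH x
    have h1 : PiGrp {p} H := piGrp_of_elt fun x hx => piElt_of_pow_eq_one hp ((m x).1 hx)
    refine (sylow_of_max hp le_top h1 fun Q hQ _ _ x hx => (m x).2 (h x (hQ.elt hx))).pcore_hall
      (norm_iff.2 fun a _ b hb => (m _).2 ?_)
    rw [conj_pow, (m b).1 hb]; simp

/-- Say that a finite group is p-exponent closed when its elements of order dividing p form a subgroup. Let G be a finite group that is not p-exponent closed, but all of whose proper subgroups and proper quotients are, and suppose G is neither simple nor a p-group. Then there is a prime q ≠ p such that G has order p · q^e, where e is the multiplicative order of q modulo p, and G has a normal elementary abelian subgroup of order q^e that is a minimal normal subgroup of G. -/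
theorem result {G : Type*} [Group G] [Finite G] {p : ℕ} [Fact p.Prime]
    (hnc : ¬ (∃ H : Subgroup G, (H : Set G) = {g : G | g ^ p = 1})) (hsub : ∀ K : Subgroup G, K ≠ ⊤ → (∃ H : Subgroup ↥K, (H : Set ↥K) = {g : ↥K | g ^ p = 1}))
    (hquo : ∀ (N : Subgroup G) [N.Normal], N ≠ ⊥ → (∃ H : Subgroup (G ⧸ N), (H : Set (G ⧸ N)) = {g : (G ⧸ N) | g ^ p = 1}))
    (hns : ¬ IsSimpleGroup G) (hnp : ¬ IsPGroup p G) :
    ∃ q : ℕ, q.Prime ∧ q ≠ p ∧ Nat.card G = p * q ^ orderOf (q : ZMod p) ∧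
      ∃ A : Subgroup G, A.Normal ∧ Nat.card ↥A = q ^ orderOf (q : ZMod p) ∧ Cfsg.IsElementaryAbelian q A ∧
        ∀ B : Subgroup G, B.Normal → B ≤ A → B = ⊥ ∨ B = A := by
  have hp : p.Prime := Fact.out
  have sub : ∀ K : Subgroup G, K ≠ ⊤ → ∃ H : Subgroup G, ∀ x, x ∈ H ↔ x ∈ K ∧ x ^ p = 1 := fun K hK => by
    obtain ⟨H, hH⟩ := hsub K hK
    refine ⟨H.map K.subtype, fun x => ⟨?_, fun hx => ⟨⟨x, hx.1⟩, hH.ge (Subtype.ext hx.2), rfl⟩⟩⟩
    rintro ⟨y, hy, rfl⟩
    exact ⟨y.2, congrArg Subtype.val (hH.le hy)⟩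
  have all : ∀ K : Subgroup G, (∀ x, x ^ p = 1 → x ∈ K) → K = ⊤ := fun K h => by_contra fun e => by
    obtain ⟨H, hH⟩ := sub K e
    exact hnc ⟨H, Set.ext fun x => (hH x).trans ⟨fun a => a.2, fun a => ⟨h x a, a⟩⟩⟩
  have quo : ∀ (N : Subgroup G) [N.Normal], N ≠ ⊥ → ∀ x, x ^ p ∈ N := fun N _ hN x => by
    obtain ⟨H, hH⟩ := hquo N hN
    have := all (H.comap (QuotientGroup.mk' N)) fun y hy => hH.ge (show _ ^ p = 1 by rw [← map_pow, hy, map_one])
    have := hH.le (this.ge (mem_top x))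
    exact (QuotientGroup.eq_one_iff _).1 this
  obtain ⟨N, hN, N0, N1⟩ : ∃ N : Subgroup G, N.Normal ∧ N ≠ ⊥ ∧ N ≠ ⊤ := by
    by_contra! c
    have : Nontrivial G := by
      by_contra! e
      exact hnp (fun x => ⟨0, Subsingleton.elim _ _⟩)
    exact hns ⟨fun N hN => or_iff_not_imp_left.2 (c N hN)⟩
  obtain ⟨H, hH⟩ := sub N N1
  have nH : H.Normal := ⟨fun x hx g => (hH _).2 ⟨hN.1 x ((hH x).1 hx).1 g, by rw [conj_pow, ((hH x).1 hx).2]; simp⟩⟩
  have H0 : H = ⊥ := by_contra fun e => hnp fun x => ⟨2, by rw [pow_two, pow_mul]; exact ((hH _).1 (quo H e x)).2⟩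
  have N' : PiGrp {p}ᶜ N := piGrp_of_prime_elt fun x hx ho e => by
    have : x ∈ H := (hH x).2 ⟨hx, (show orderOf x = p from e) ▸ pow_orderOf_eq_one x⟩
    rw [H0, mem_bot] at this
    rw [this, orderOf_one] at ho; exact Nat.not_prime_one ho
  have ex : ∀ x : G, PiElt {p} x → x ^ p = 1 := fun x hx => (hx.pow' p).eq_one' (N'.elt (quo N N0 x))
  refine S3868.result (mt (clos hp ex).1 hnc) (fun K hK => (clos hp fun x hx => Subtype.ext (ex x ?_)).2 (hsub K hK))
    (fun M _ hM => (clos hp fun x _ => ?_).2 (hquo M hM)) hns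
  · rwa [PiElt, orderOf_coe]
  · obtain ⟨x, rfl⟩ := QuotientGroup.mk_surjective x
    exact (QuotientGroup.eq_one_iff _).2 (quo M hM x)

end Cfsg.Agent.S3873
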