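import Cfsg.Statements.S3888
import Cfsg.Agent.H3.R2c
import Cfsg.Agent.H3.MaxCl

set_option autoImplicit false
open Cfsg

namespace Cfsg.Agent.S3888

/-- The classification of the p-groups of rank at most two for odd p. Let p be an odd prime and G a group of order p^n with no elementary abelian subgroup of order p³. Then one of the following holds: G is metacyclic; n ≥ 3 and G is generated by elements x, y, z with x^p = y^p = z^(p^(n−2)) = 1, z commuting with x and y, and x⁻¹yx = y z^(p^(n−3)); n ≥ 4 and G is generated by elements x, y, z with x^p = y^p = z^(p^(n−2)) = 1, yz = zy, x⁻¹yx = y z^(s p^(n−3)) and x⁻¹zx = yz, where s = 1 or s is a quadratic non-residue modulo p; or p = 3 and G has maximal class (nilpotency class n − 1). -/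
theorem result {G : Type*} [Group G] [Finite G] {p : ℕ} [Fact p.Prime] (hp : p ≠ 2) (n : ℕ) (hG : Nat.card G = p ^ n)
    (hrk : Cfsg.PRankLE p 2 G) :
    Cfsg.IsMetacyclic G ∨
    (3 ≤ n ∧ ∃ x y z : G, Subgroup.closure ({x, y, z} : Set G) = ⊤ ∧ x ^ p = 1 ∧ y ^ p = 1 ∧ z ^ p ^ (n - 2) = 1 ∧
        x * z = z * x ∧ y * z = z * y ∧ x⁻¹ * y * x = y * z ^ p ^ (n - 3)) ∨
    (4 ≤ n ∧ ∃ (s : ℕ) (x y z : G), (s = 1 ∨ ¬ IsSquare (s : ZMod p)) ∧ Subgroup.closure ({x, y, z} : Set G) = ⊤ ∧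
        x ^ p = 1 ∧ y ^ p = 1 ∧ z ^ p ^ (n - 2) = 1 ∧ y * z = z * y ∧ x⁻¹ * y * x = y * z ^ (s * p ^ (n - 3)) ∧
        x⁻¹ * z * x = y * z) ∨
    (p = 3 ∧ 2 ≤ n ∧ (⊤ : Subgroup G).lowerCentralSeries (n - 2) ≠ ⊥) := by
  open Subgroup H18 H3 in
  have hq : p.Prime := Fact.out
  have c : Nat.card (⊤ : Subgroup G) = p ^ n := card_top.trans hG
  have hS := piGrp_of_card_pow hq c
  have hr := (H3.prank_top_le_iff hq).2 hrk
  refine or_iff_not_imp_left.2 fun hm => ?_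
  rw [← metacyc_top_iff] at hm
  have k : ∀ W, Rk2 p (⊤ : Subgroup G) W → _ := fun W h =>
    (em _).imp (h.fam1 c) (h.fam2 c)
  rw [← or_assoc]
  by_cases h3 : p = 3
  · refine (exists_rk2_or hq hp hS hr hm).imp (fun ⟨W, h⟩ => k W h) fun ⟨h1, s, h2⟩ => ?_
    rw [c, Nat.pow_le_pow_iff_right hq.one_lt] at h1
    rw [top_inf_eq] at h2
    exact ⟨h3, by omega, (mx_top hq h1 hG (class_of_cent hG h2)).ne⟩
  · have h4 : 3 < p := lt_of_le_of_ne (three_le hq hp) (Ne.symm h3)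
    exact Or.inl (k _ (r2_ohm hq h4 hS hr fun e => hm (p2_ohm_metacyc hq hS h4 e)))

end Cfsg.Agent.S3888
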