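import Cfsg.Statements.S3892
import Cfsg.Agent.H21.NCov
import Mathlib.NumberTheory.Bertrand
import Mathlib.Data.Nat.Multiplicity
import Mathlib.Algebra.Pointwise.Stabilizer

set_option autoImplicit false
open Cfsg

namespace Cfsg.Agent.S3892

open H18 H21 Subgroup Equiv MulAction
open scoped Pointwise

variable {G : Type*} [Group G] [Finite G] {𝓐 : Finset (Subgroup G)} {p n : ℕ}

theorem cyc (h : NC 𝓐) (hp : p.Prime) {c t : G} (o : orderOf c = p) (d : ¬ p ^ 2 ∣ Nat.card G) {M : Subgroup G}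
    (hM : M ≠ ⊤) (cM : C1(c) ≤ M) (ht : t ∈ M) : t * c * t⁻¹ ∈ zpowers c := by
  have e : Nat.card (zpowers c) = p := card_zpowers'.trans o
  have g : NCGood p (zpowers c) := ⟨hp, ⟨le_top, piGrp_of_prime hp e, (piNat_compl_iff hp).2 fun k => d (by
    rw [← card_top, ← card_mul_relIndex (le_top (a := zpowers c)), e, sq]; exact Nat.mul_dvd_mul_left p k)⟩,
    abel_zpowers, ne_bot_of_prime (e.symm ▸ hp), fun k => k.2.ne e.symm⟩
  exact conj_mem_N (h.le_N g hM (C_zpowers.le.trans cM) ht) (mem_zpowers c)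

theorem cyc' (h : NC 𝓐) (hp : p.Prime) {c t : G} (c1 : c ≠ 1) (o : c ^ p = 1) (d : ¬ p ^ 2 ∣ Nat.card G)
    {M : Subgroup G} {u : G} (hM : u ∉ M) (cM : ∀ g, g * c = c * g → g ∈ M) (ht : t ∈ M) :
    t * c * t⁻¹ * c = c * (t * c * t⁻¹) :=
  haveI := Fact.mk hp
  mem_C1.1 (zpowers_le.2 C1_self (cyc h hp (orderOf_eq_prime o c1) d (fun e => hM (e.ge (mem_top u)))
    (fun g hg => cM g (mem_C1.1 hg)) ht))

theorem big (φ : G →* Perm (Fin n)) (inj : Function.Injective φ) (r : ∀ σ, Perm.sign σ = 1 → ∃ g, φ g = σ)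
    (h : NC 𝓐) (hn : 6 ≤ n) : False := by
  obtain ⟨p, hp, p1, p2⟩ := Nat.bertrand (n / 2) (by omega)
  have p4 : p ≠ 4 := by rintro rfl; exact absurd hp (by decide)
  have pn : p ≠ n := by
    rintro rfl
    rcases hp.eq_two_or_odd with e | e <;> omega
  have p5 : 5 ≤ p := by omega
  haveI := Fact.mk hp
  haveI : Nontrivial (Fin n) := Fin.nontrivial_iff_two_le.2 (by omega)
  have dv : Nat.card G ∣ n.factorial := by
    simpa only [Nat.card_perm, Nat.card_fin] using card_dvd_of_injective φ inj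
  have d : ¬ p ^ 2 ∣ Nat.card G := fun k => by
    have := (hp.pow_dvd_factorial_iff (b := 2) (Nat.log_lt_of_lt_pow' two_ne_zero (by nlinarith [show n < 2 * p by omega]))).1 (k.trans dv)
    simp only [Nat.Ico_succ_singleton, Finset.sum_singleton, pow_one] at this
    have := (Nat.le_div_iff_mul_le hp.pos).1 this
    omega
  have d2 : p ∣ Nat.card (alternatingGroup (Fin n)) := by
    refine (Nat.Coprime.dvd_of_dvd_mul_left ((Nat.coprime_primes hp Nat.prime_two).2 (by omega))) ?_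
    rw [two_mul_nat_card_alternatingGroup, Nat.card_perm, Nat.card_fin]
    exact hp.dvd_factorial.2 (by omega)
  obtain ⟨σ, hσ, o⟩ := cauchy hp d2
  obtain ⟨c, hc⟩ := r σ (Perm.mem_alternatingGroup.1 hσ)
  have oc : orderOf c = p := by rw [← orderOf_injective φ inj, hc, o]
  have cy : σ.IsCycle := Perm.isCycle_of_prime_order' (o ▸ hp) (by rw [o, Fintype.card_fin]; omega)
  obtain ⟨w, -, hw⟩ : ∃ w ∈ Finset.univ, w ∉ σ.support := Finset.exists_mem_notMem_of_card_lt_card (by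
    rw [← cy.orderOf, o, Finset.card_fin]; omega)
  obtain ⟨b, hb, -⟩ := cy
  have L : ∀ κ ∈ zpowers σ, κ ≠ 1 → ∀ z, σ z ≠ z → κ z ≠ z := fun κ k1 k2 z hz e => hz (by
    have : σ ∈ zpowers κ := (zpowers_eq_of_prime (card_zpowers'.trans o ▸ hp) k1 k2).ge (mem_zpowers σ)
    exact (zpowers_le (H := stabilizer (Perm (Fin n)) z)).2 e this)
  have mv : ∀ z, σ z ≠ z → σ (σ z) ≠ σ z := fun z a e => a (σ.injective e)
  have D : ∀ k, 0 < k → k < 5 → ∀ z, σ z ≠ z → (σ ^ k) z ≠ z := fun k a1 a2 =>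
    L _ (npow_mem_zpowers σ k) (pow_ne_one_of_lt_orderOf a1.ne' (by omega))
  have D2 := D 2 (by omega) (by omega)
  have D3 := D 3 (by omega) (by omega)
  have D4 := D 4 (by omega) (by omega)
  simp only [pow_succ, pow_zero, one_mul, Perm.mul_apply] at D2 D3 D4
  have h1 := mv _ hb
  have h2 := mv _ h1
  have h3 := mv _ h2
  have h4 := mv _ h3
  have h5 := mv _ h4
  obtain ⟨s, hs⟩ := r (swap b w * swap b (σ b)) (by
    simp [Perm.sign_swap hb.symm, Perm.sign_swap (fun e : b = w => hw (e ▸ Perm.mem_support.2 hb))])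
  obtain ⟨t, ht⟩ := r (swap (σ b) (σ (σ b)) * swap (σ (σ b)) (σ (σ (σ b)))) (by
    simp [Perm.sign_swap h1.symm, Perm.sign_swap h2.symm])
  have := cyc h hp oc d (M := (stabilizer (Perm (Fin n)) {x | σ x ≠ x}).comap φ) (t := t)
    (fun e => hw (Perm.mem_support.2 (by
      have := (mem_stabilizer_set.1 (e.ge (mem_top s) :) (σ b)).2 h1
      simpa [hs] using this)))
    (fun g hg => mem_stabilizer_set.2 fun x => by
      have := congrArg (fun y => φ y x) (mem_C1.1 hg)
      simp only [map_mul, hc, Perm.mul_apply] at this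
      simp [← this])
    (by rw [mem_comap, ht]; exact mul_mem (swap_mem_stabilizer.2 (iff_of_true h1 h2))
          (swap_mem_stabilizer.2 (iff_of_true h2 h3)))
  have k : φ t * σ * (φ t)⁻¹ * σ⁻¹ ∈ zpowers σ := mul_mem (by
    simpa only [MonoidHom.map_zpowers, map_mul, map_inv, hc] using mem_map_of_mem φ this) (inv_mem (mem_zpowers σ))
  have fx : ∀ z, z ≠ σ b → z ≠ σ (σ b) → z ≠ σ (σ (σ b)) → φ t z = z := fun z a1 a2 a3 => by
    rw [ht, Perm.mul_apply, swap_apply_of_ne_of_ne a2 a3, swap_apply_of_ne_of_ne a1 a2]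
  have fx' : ∀ z, z ≠ σ b → z ≠ σ (σ b) → z ≠ σ (σ (σ b)) → (φ t)⁻¹ z = z := fun z a1 a2 a3 =>
    Perm.inv_eq_iff_eq.2 (fx z a1 a2 a3).symm
  refine L _ k (fun e => h1 ?_) _ h5 ?_
  · have := congrArg (· (σ b)) e
    simp only [Perm.mul_apply, Perm.coe_inv, symm_apply_apply, Perm.coe_one, id] at this
    rw [← Perm.coe_inv, fx' b hb.symm (D2 _ hb).symm (D3 _ hb).symm, ht, Perm.mul_apply,
      swap_apply_of_ne_of_ne h1.symm (D2 _ h1).symm, swap_apply_left] at this
    exact this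
  · simp only [Perm.mul_apply, Perm.coe_inv, symm_apply_apply]
    rw [← Perm.coe_inv, fx' _ (D3 _ h1) (D2 _ h2) h3, fx _ (D4 _ h1) (D3 _ h2) (D2 _ h3)]

theorem cen (hn : 3 ≤ n) : center (Perm (Fin n)) = ⊥ := eq_bot_iff.2 fun z hz => Equiv.ext fun a => by_contra fun e => by
  obtain ⟨w, -, hw⟩ : ∃ w ∈ Finset.univ, w ∉ ({a, z a} : Finset (Fin n)) :=
    Finset.exists_mem_notMem_of_card_lt_card (Finset.card_le_two.trans_lt (by rw [Finset.card_fin]; omega))
  simp only [Finset.mem_insert, Finset.mem_singleton, not_or] at hw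
  have := congrArg (· a) (mem_center_iff.1 hz (swap (z a) w))
  simp only [Perm.mul_apply, swap_apply_left] at this
  rw [swap_apply_of_ne_of_ne (Ne.symm e : a ≠ z a) (Ne.symm hw.1)] at this
  exact hw.2 this

/-- A cover of a group is a finite set of proper subgroups whose union is the whole group; it is minimal when no cover has fewer members, and nilpotent when all its members are nilpotent. The alternating groups of degree at least 5 and the symmetric groups of degree at least 4 have no nilpotent minimal cover. -/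
theorem result (n : ℕ) :
    (5 ≤ n → ¬ ∃ 𝓐 : Finset (Subgroup ↥(alternatingGroup (Fin n))), ((∀ A ∈ 𝓐, A ≠ ⊤) ∧ (∀ g : ↥(alternatingGroup (Fin n)), ∃ A ∈ 𝓐, g ∈ A)) ∧ (∀ 𝓑 : Finset (Subgroup ↥(alternatingGroup (Fin n))), (∀ A ∈ 𝓑, A ≠ ⊤) ∧ (∀ g : ↥(alternatingGroup (Fin n)), ∃ A ∈ 𝓑, g ∈ A) → 𝓐.card ≤ 𝓑.card) ∧ (∀ A ∈ 𝓐, Group.IsNilpotent ↥A)) ∧
    (4 ≤ n → ¬ ∃ 𝓐 : Finset (Subgroup (Equiv.Perm (Fin n))), ((∀ A ∈ 𝓐, A ≠ ⊤) ∧ (∀ g : (Equiv.Perm (Fin n)), ∃ A ∈ 𝓐, g ∈ A)) ∧ (∀ 𝓑 : Finset (Subgroup (Equiv.Perm (Fin n))), (∀ A ∈ 𝓑, A ≠ ⊤) ∧ (∀ g : (Equiv.Perm (Fin n)), ∃ A ∈ 𝓑, g ∈ A) → 𝓐.card ≤ 𝓑.card) ∧ (∀ A ∈ 𝓐, Group.IsNilpotent ↥A)) := by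
  refine ⟨fun hn ⟨𝓐, k⟩ => ?_, fun hn ⟨𝓐, k⟩ => ?_⟩
  · have h := NC.of_min (alternatingGroup.center_eq_bot (by simp; omega)) k
    rcases hn.eq_or_lt with rfl | hn
    · exact absurd (congrArg Subtype.val (cyc' h Nat.prime_three
        (c := ⟨swap 0 1 * swap 1 2, Perm.mem_alternatingGroup.2 (by decide)⟩)
        (t := ⟨swap 1 2 * swap 2 3, Perm.mem_alternatingGroup.2 (by decide)⟩)
        (fun e => absurd (congrArg Subtype.val e) (by decide)) (Subtype.ext (by decide))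
        (by rw [nat_card_alternatingGroup, Nat.card_fin]; decide)
        (M := (stabilizer (Perm (Fin 5)) (4 : Fin 5)).comap (alternatingGroup (Fin 5)).subtype)
        (u := ⟨swap 2 3 * swap 3 4, Perm.mem_alternatingGroup.2 (by decide)⟩)
        (show ¬ (swap 2 3 * swap 3 4 : Perm (Fin 5)) 4 = 4 by decide)
        (fun g hg => (by decide +kernel : ∀ g : Perm (Fin 5), Perm.sign g = 1 →
          g * (swap 0 1 * swap 1 2) = (swap 0 1 * swap 1 2) * g → g 4 = 4) g.1 g.2 (congrArg Subtype.val hg))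
        (show (swap 1 2 * swap 2 3 : Perm (Fin 5)) 4 = 4 by decide))) (by decide)
    · exact big (alternatingGroup (Fin n)).subtype Subtype.val_injective (fun σ a => ⟨⟨σ, a⟩, rfl⟩) h hn
  · have h := NC.of_min (cen (by omega)) k
    rcases hn.eq_or_lt with rfl | hn
    · exact absurd (cyc' h Nat.prime_three (c := swap 0 1 * swap 1 2) (t := swap 1 2 * swap 2 3)
        (by decide) (by decide) (by rw [Nat.card_perm, Nat.card_fin]; decide) (M := alternatingGroup (Fin 4))
        (u := swap 0 1) (mt Perm.mem_alternatingGroup.1 (by decide))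
        (by simp only [Perm.mem_alternatingGroup]; decide +kernel) (Perm.mem_alternatingGroup.2 (by decide))) (by decide)
    rcases (Nat.succ_le_of_lt hn).eq_or_lt with rfl | hn
    · exact absurd (cyc' h Nat.prime_five (c := finRotate 5) (t := swap 1 2 * swap 2 3)
        (by decide) (by decide) (by rw [Nat.card_perm, Nat.card_fin]; decide) (M := alternatingGroup (Fin 5))
        (u := swap 0 1) (mt Perm.mem_alternatingGroup.1 (by decide))
        (by simp only [Perm.mem_alternatingGroup]; decide +kernel) (Perm.mem_alternatingGroup.2 (by decide))) (by decide)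
    · exact big (MonoidHom.id _) Function.injective_id (fun σ _ => ⟨σ, rfl⟩) h hn

end Cfsg.Agent.S3892
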