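import Cfsg.Statements.S3893
import Cfsg.Agent.H13.SzModel
import Cfsg.Agent.H13.SzLocal

set_option autoImplicit false
open Cfsg

namespace Cfsg.Agent.S3893

open H13 H13.Sz in
theorem aux {F : Type*} [Field F] [Fintype F] {m : ℕ} [IsSz F m] {G : Type*} [Group G]
    (e : Cfsg.Sz F m ≃* G) :
    ¬ ∃ 𝓐 : Finset (Subgroup G), ((∀ A ∈ 𝓐, A ≠ ⊤) ∧ (∀ g : G, ∃ A ∈ 𝓐, g ∈ A)) ∧
      (∀ 𝓑 : Finset (Subgroup G), (∀ A ∈ 𝓑, A ≠ ⊤) ∧ (∀ g : G, ∃ A ∈ 𝓑, g ∈ A) →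
        𝓐.card ≤ 𝓑.card) ∧ (∀ A ∈ 𝓐, Group.IsNilpotent ↥A) := by
  classical
  rintro ⟨𝓐, ⟨h1, h2⟩, h3, h4⟩
  have key : ∀ A ∈ 𝓐, ∀ x : Cfsg.Sz F m, x ≠ 1 → e x ∈ A → ∃ z : Cfsg.Sz F m, z ≠ 1 ∧
      z ∈ Subgroup.centralizer {x} ∧ ∀ y, e y ∈ A → y ∈ Subgroup.centralizer {z} := by
    intro A hA x hx hxA
    have := h4 A hA
    have : Nontrivial A := ⟨⟨⟨e x, hxA⟩, 1, fun h => hx (by simpa using congrArg Subtype.val h)⟩⟩
    have := (Subgroup.nontrivial_iff_ne_bot _).mpr (Group.IsNilpotent.center_ne_bot A)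
    obtain ⟨⟨⟨z, hzA⟩, hz⟩, hz1⟩ := exists_ne (1 : Subgroup.center A)
    have hc : ∀ y, e y ∈ A → y * e.symm z = e.symm z * y := by
      intro y hy
      apply e.injective
      simpa using congrArg Subtype.val (Subgroup.mem_center_iff.mp hz ⟨e y, hy⟩)
    refine ⟨e.symm z, fun h => hz1 ?_, ?_, fun y hy => ?_⟩
    · have : z = 1 := by simpa using h
      subst this
      rfl
    · exact Subgroup.mem_centralizer_singleton_iff.mpr (hc x hxA).symm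
    · exact Subgroup.mem_centralizer_singleton_iff.mpr (hc y hy)
  obtain ⟨s, hs⟩ := exists_unit_ne_one (F := F)
  have hs1 : h m s ≠ 1 := fun h0 => hs (h_mem_U_iff.mp (h0 ▸ (U F m).one_mem))
  obtain ⟨A, hA, hxA⟩ := h2 (e (u m 1 0))
  obtain ⟨A', hA', hxA'⟩ := h2 (e (h m s))
  obtain ⟨z, hz1, hz, hAz⟩ := key A hA _ u_one_zero_ne_one hxA
  obtain ⟨z', hz1', hz', hAz'⟩ := key A' hA' _ hs1 hxA'
  have hU : ∀ y, e y ∈ A → y ∈ U F m := fun y hy =>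
    centralizer_u_le (centralizer_u_le (u_mem_U _ _) u_one_zero_ne_one hz) hz1 (hAz y hy)
  have hH : ∀ y, e y ∈ A' → y ∈ H F m := by
    intro y hy
    rw [centralizer_h hs] at hz'
    obtain ⟨t, rfl⟩ := hz'
    have ht : t ≠ 1 := by
      rintro rfl
      exact hz1' (map_one _)
    have := hAz' y hy
    rwa [hHom_apply, centralizer_h ht] at this
  have hne : A ≠ A' := by
    rintro rfl
    exact hs (h_mem_U_iff.mp (hU _ hxA'))
  have h5 := h3 (insert ((B F m).map e.toMonoidHom) ((𝓐.erase A).erase A')) ⟨?_, ?_⟩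
  · have h6 := Finset.card_insert_le ((B F m).map e.toMonoidHom) ((𝓐.erase A).erase A')
    rw [Finset.card_erase_of_mem (Finset.mem_erase.mpr ⟨hne.symm, hA'⟩),
      Finset.card_erase_of_mem hA] at h6
    have := Finset.one_lt_card.mpr ⟨A, hA, A', hA', hne⟩
    omega
  · intro C hC
    rcases Finset.mem_insert.mp hC with rfl | hC
    · intro h0
      have : e (w F m) ∈ (B F m).map e.toMonoidHom := h0 ▸ Subgroup.mem_top _
      rw [Subgroup.mem_map_equiv, e.symm_apply_apply] at this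
      exact w_not_mem_B this
    · exact h1 C (Finset.mem_of_mem_erase (Finset.mem_of_mem_erase hC))
  · intro g
    obtain ⟨g, rfl⟩ := e.surjective g
    obtain ⟨C, hC, hg⟩ := h2 (e g)
    by_cases hCA : C = A
    · subst hCA
      exact ⟨_, Finset.mem_insert_self _ _, g, U_le_B (hU g hg), rfl⟩
    by_cases hCA' : C = A'
    · subst hCA'
      exact ⟨_, Finset.mem_insert_self _ _, g, H_le_B (hH g hg), rfl⟩
    exact ⟨C, Finset.mem_insert_of_mem (Finset.mem_erase.mpr ⟨hCA', Finset.mem_erase.mpr ⟨hCA, hC⟩⟩), hg⟩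


/-- A cover of a group is a finite set of proper subgroups whose union is the whole group; it is minimal when no cover has fewer members, and nilpotent when all its members are nilpotent. The Suzuki groups Sz(q), q = 2^(2m+1) with m ≥ 1, have no nilpotent minimal cover. -/
theorem result {F : Type*} [Field F] [Fintype F] (m : ℕ) (hm : 1 ≤ m) (hF : Fintype.card F = 2 ^ (2 * m + 1)) :
    ¬ ∃ 𝓐 : Finset (Subgroup ↥(Cfsg.Lie.Sz F (2 ^ (m + 1)))), ((∀ A ∈ 𝓐, A ≠ ⊤) ∧ (∀ g : ↥(Cfsg.Lie.Sz F (2 ^ (m + 1))), ∃ A ∈ 𝓐, g ∈ A)) ∧ (∀ 𝓑 : Finset (Subgroup ↥(Cfsg.Lie.Sz F (2 ^ (m + 1)))), (∀ A ∈ 𝓑, A ≠ ⊤) ∧ (∀ g : ↥(Cfsg.Lie.Sz F (2 ^ (m + 1))), ∃ A ∈ 𝓑, g ∈ A) → 𝓐.card ≤ 𝓑.card) ∧ (∀ A ∈ 𝓐, Group.IsNilpotent ↥A) := by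
  have : H13.Sz.IsSz F m := ⟨hm, hF⟩
  exact aux (H13.Sz.lieEquiv F m)

end Cfsg.Agent.S3893
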