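import Cfsg.Statements.S3908
import Cfsg.Agent.S4020

set_option autoImplicit false
open Cfsg

namespace Cfsg.Agent.S3908

open H18 H22 H1 Subgroup

section
variable {G : Type*} [Group G] [Finite G] {E T : Subgroup G} {p : ℕ} {x : G}

/-- abelian subgroups of the same order are conjugate -/
def AA (G : Type*) [Group G] : Prop :=
  ∀ H K : Subgroup G, Abel H → Abel K → Nat.card H = Nat.card K → ∃ g, K = cj g H

theorem expo (hp : p.Prime) (h : AA G) (hE : PElem p 2 E ⊤) (hx : PiElt {p} x) : x ^ p = 1 := by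
  by_contra h1
  obtain ⟨k, hk⟩ := hx.eq_pow (orderOf_pos x).ne'
  have h2 : 2 ≤ k := by
    by_contra h3
    exact h1 (orderOf_dvd_iff_pow_eq_one.1 (hk ▸ (pow_dvd_pow p (by omega : k ≤ 1)).trans (by simp)))
  obtain ⟨K, hK, e⟩ := exists_sub_card_pow (H := zpowers x) hp (n := 2)
    (by rw [card_zpowers', hk]; exact pow_dvd_pow p h2)
  obtain ⟨g, rfl⟩ := h K E (Abel.mono abel_zpowers hK) hE.elem.abel (e.trans hE.card.symm)
  exact hE.not_cyc hp le_rfl ((cyc_zpowers.of_le hK).cj g)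

theorem two (h : AA G) (hT : PiGrp {2} T) : Cyc T ∨ Elem 2 T ∨ ∃ n x y, H9.QData T (2 ^ (n + 1)) x y := by
  by_cases hu : ∀ v ∈ T, ∀ w ∈ T, orderOf v = 2 → orderOf w = 2 → v = w
  · exact (H9.isCyclic_or_qData hT.isPGroup hu).imp id Or.inr
  push Not at hu
  obtain ⟨v, hv, w, hw, v2, w2, ne⟩ := hu
  obtain ⟨z, hz, z2⟩ := exists_inv (hT.inf_left.dvd_card (hT.nil.Z_ne_bot (ne_bot_of_mem hv (ne1 v2))))
  obtain ⟨s, hs, s2, sz⟩ : ∃ s ∈ T, orderOf s = 2 ∧ s ≠ z := by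
    by_cases e : v = z
    exacts [⟨w, hw, w2, fun e' => ne (e.trans e'.symm)⟩, ⟨v, hv, v2, e⟩]
  have c := (mem_C.1 hz.2 s hs).symm
  have h1 : PElem 2 2 (V4 z s) ⊤ := ⟨le_top, ⟨V4_abel c, fun a ha =>
    (sq a).trans (sq_of_mem_V4 (sq1 z2) (sq1 s2) c ha)⟩, card_V4 z2 s2 c sz⟩
  have h2 : ∀ a ∈ T, a * a = 1 := fun a ha => (sq a).symm.trans (expo Nat.prime_two h h1 (hT.elt ha))
  refine Or.inr (Or.inl ⟨cent_iff.2 fun a ha b hb => ?_, fun a ha => (sq a).trans (h2 a ha)⟩)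
  rw [← inv_of_sq (h2 _ (mul_mem ha hb)), mul_inv_rev, inv_of_sq (h2 a ha), inv_of_sq (h2 b hb)]

end

/-- Let G be a finite group in which any two abelian subgroups of the same order are conjugate. Then a Sylow 2-subgroup of G is cyclic, elementary abelian or generalized quaternion, and for an odd prime p a Sylow p-subgroup of G is cyclic or has exponent dividing p. -/
theorem result {G : Type*} [Group G] [Finite G] (hB : ∀ A B : Subgroup G, IsMulCommutative ↥A → IsMulCommutative ↥B → Nat.card ↥A = Nat.card ↥B → ∃ g : G, B = A.map (MulAut.conj g).toMonoidHom) :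
    (∀ P : Sylow 2 G, IsCyclic ↥(P : Subgroup G) ∨ Cfsg.IsElementaryAbelian 2 (P : Subgroup G) ∨ ∃ k : ℕ, Nonempty (↥(P : Subgroup G) ≃* QuaternionGroup (2 ^ k))) ∧
    ∀ (p : ℕ) [Fact p.Prime], p ≠ 2 → ∀ P : Sylow p G, IsCyclic ↥(P : Subgroup G) ∨ ∀ x ∈ (P : Subgroup G), x ^ p = 1 := by
  have d : AA G := fun H K h1 h2 e => hB H K h1.comm h2.comm e
  refine ⟨fun P => ?_, fun p _ h2 P => or_iff_not_imp_left.2 fun hc => ?_⟩
  · rcases two d (hall_sylow_top Nat.prime_two P).pi with e | e | ⟨n, x, y, q⟩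
    exacts [Or.inl e, Or.inr (Or.inl e.isElem), Or.inr (Or.inr ⟨_, q.nonempty_equiv⟩)]
  have hp : p.Prime := Fact.out
  have hP := (hall_sylow_top hp P).pi
  obtain ⟨E, hE⟩ : ∃ E, PElem p 2 E (P : Subgroup G) := by
    by_contra h1
    exact hc (odd_pgroup_cyc hp (hp.odd_of_ne_two h2) _ hP fun E e => h1 ⟨E, e⟩)
  exact fun x hx => expo hp d hE.top (hP.elt hx)

end Cfsg.Agent.S3908
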