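import Cfsg.Statements.S4073
import Cfsg.Agent.H1.Wa
import Cfsg.Agent.H21.AbSyl
import Cfsg.Agent.H9.Hv1
import Cfsg.Agent.H13.CitJ
import Cfsg.Agent.H21.Crit

set_option autoImplicit false
open Cfsg

namespace Cfsg.Agent.S4073

open H18 H13 Subgroup MulAction
open scoped MatrixGroups commutatorElement

section
variable {G : Type*} [Group G] [Finite G] {H K S T U : Subgroup G} {t : G}

abbrev Cen (G : Type*) [Group G] : Prop := ∀ t : G, t * t = 1 → t ≠ 1 → ∀ c ∈ C1(t), c * c = 1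

theorem cen_psl {F : Type*} [Field F] [Fintype F] {k : ℕ} (hk : 2 ≤ k) (hF : Fintype.card F = 2 ^ k)
    (e : G ≃* PSL(2, F)) : Cen G := fun t t2 t1 c hc => by
  have s := fun n => (sp_congr (n := n) e).trans (sp_psl_even hk hF)
  have o : ∀ n, n ∣ 2 ^ k + 1 ∨ n ∣ 2 ^ k - 1 → Odd n := fun n h => by
    have h1 : Even (2 ^ k) := (Nat.even_pow' (by omega)).2 even_two
    exact h.elim h1.add_one.of_dvd_nat (Nat.Even.sub_odd Nat.one_le_two_pow h1 odd_one).of_dvd_nat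
  have ot := H9.ord2.2 ⟨t2, t1⟩
  rw [← pow_two, ← orderOf_dvd_iff_pow_eq_one]
  refine ((s _).1 ⟨c, rfl⟩).elim id fun h => ?_
  rcases (s _).1 (sp_mul (mem_C1.1 hc) (ot ▸ (o _ h).coprime_two_right)) with h1 | h1
  · exact (dvd_mul_right _ _).trans h1
  · exact absurd (o _ h1) (by rw [ot]; simp)

theorem abel2 (h : Cen G) (hU : PiGrp {2} U) : Abel U := cent_iff.2 fun a ha b hb =>
  H9.comm_of_sq (H9.sq_of_two h hU ha) (H9.sq_of_two h hU hb) (H9.sq_of_two h hU (mul_mem ha hb))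

theorem reg (h : Cen G) (hU : PiGrp {2} U) (hK : PiGrp {2}ᶜ K) : Semireg U K := fun k hk k1 => eq_bot_iff.2
  fun u hu => by_contra fun u1 => k1 (H5.eq_one_of_odd (H5.piNat_two_compl.1 (hK.elt hk))
    (h u (H9.sq_of_two h hU hu.1) u1 k (mem_C1_comm.1 hu.2)))

theorem top_of_not_normal (h : Cen G) (hH : H ⊴ ⊤) (hA : ¬ Abel H) (hU : Hall {2} U ⊤) (hn : N(U) ≠ ⊤) :
    H = ⊤ := by
  by_cases hc : Cyc U
  swap
  · obtain ⟨F, _, _, hF, ⟨e⟩⟩ := H9.EA.psl ⟨hU, hc, hn, h⟩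
    have h4 := H9.EA.one_lt ⟨hU, hc, hn, h⟩
    obtain ⟨k, hk⟩ := hU.pi.card_eq_pow
    have : 4 ≤ Fintype.card F := by
      rw [hk] at h4
      rw [hF, hk]
      refine four_le (by_contra fun c => ?_)
      interval_cases k <;> omega
    have := psl_simple this
    have := e.isSimpleGroup
    exact hH.normal.eq_bot_or_eq_top.resolve_left (ne_bot_of_not_abel hA)
  have hK := H21.pnil_of_cyc hU hc
  have ho : Odd (Nat.card O[{2}ᶜ]((⊤ : Subgroup G))) := H5.piNat_two_compl.1 pcore_pi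
  have inv : ∀ s, s * s = 1 → s ≠ 1 → ∀ k ∈ O[{2}ᶜ]((⊤ : Subgroup G)), s * k * s = k⁻¹ := fun s s2 s1 k hk => by
    obtain ⟨v, hv, w, -, e1, e2, rfl⟩ := H5.exists_cent_mul_inv s2 ho (fun x hx => by
      simpa [inv_eq_of_mul_eq_one_right s2] using conj_mem pcore_nml.norm (mem_top s) hx) hk
    rwa [H5.eq_one_of_odd (H5.odd_order_of_mem ho hv) (h s s2 s1 v ((H9.mem_C1_inv s2).2 e1)), one_mul]
  obtain ⟨g, rfl⟩ := hc.gen
  have g1 : g ≠ 1 := by rintro rfl; simp at hn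
  have g2 := H9.sq_of_two h hU.pi (mem_zpowers g)
  have hg : zpowers g ≤ H := prime_le_of_inf_ne_bot (by
    rw [card_zpowers', H9.ord2.2 ⟨g2, g1⟩]; exact Nat.prime_two) fun e => by
      have h1 := hU.inf_nml hH
      rw [e] at h1
      exact hA ((H5.abel_of_inverted g2 (inv g g2 g1)).mono (hK.le_pcore le_top h1.compl_of_eq_bot))
  rw [eq_top_iff, ← hU.sup_compl hK]
  refine sup_le hg fun k hk => ?_
  obtain ⟨n, hn⟩ := H5.exists_sqrt (H5.odd_order_of_mem ho hk)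
  have h1 := inv g g2 g1 _ (pow_mem hk n)
  have h2 := mul_mem (conj_mem hH.norm (mem_top (k ^ n)) (hg (mem_zpowers g))) (hg (mem_zpowers g))
  rwa [mul_assoc, mul_assoc, ← mul_assoc g, H5.inverts_inv h1 g2, inv_inv, hn] at h2

theorem norm_le_of_nml (h : Cen G) (hT : Hall {2} T ⊤) (hp : (Nat.card T - 1).Prime) (hA : ¬ Abel H)
    (hU : Hall {2} U N(H)) (U1 : U ≠ ⊥) (hn : N(H) ≤ N(U)) : N(H) ≤ H := by
  obtain ⟨K, hK⟩ := hU.exists_compl hn
  obtain ⟨T', hT', hUT⟩ := exists_sylow_le Nat.prime_two hU.pi le_top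
  rw [hT.card_eq hT'] at hp
  have c1 : ∀ u ∈ U, u ≠ 1 → C1(u) = T' := fun u hu u1 => hT'.eq_of_le ((abel2 h hT'.pi).trans (C_le_C1 (hUT hu)))
    le_top (piGrp_of_elt fun c hc => piElt_of_pow_eq_one Nat.prime_two (by
      rw [sq]; exact h u (H9.sq_of_two h hU.pi hu) u1 c hc))
  obtain ⟨u, hu, u1⟩ := exists_mem_ne_one' U1
  have nT : N(H) ≤ N(T') := fun g hg => mem_N_iff_cj.2 (by
    rw [← c1 u hu u1, cj_C1, c1 _ (conj_mem hn hg hu) (by simpa), c1 u hu u1])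
  have d1 := (reg h hT'.pi hK.pi).dvd_pred (hK.le.trans nT)
  have hL := hK.inf_nml nml_N
  have hV := hU.inf_nml nml_N
  have L1 : K ⊓ H ≠ ⊥ := fun e => by
    rw [e] at hL
    exact hA (abel2 h hL.compl_of_eq_bot.of_compl_compl)
  have K1 : K ≠ ⊥ := fun e => L1 (by rw [e, bot_inf_eq])
  have cK : Nat.card K = Nat.card T' - 1 := ((Nat.dvd_prime hp).1 d1).resolve_left (mt card_eq_one.1 K1)
  have KH : K ≤ H := prime_le_of_inf_ne_bot (cK ▸ hp) L1
  have V1 : U ⊓ H ≠ ⊥ := fun e => hA (((abel2 h hT'.pi).mono (c1 u hu u1).le).mono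
    ((cent_of_inf_eq_bot (le_N.trans hn) hU.le (by rwa [inf_comm])).trans (C_le_C1 hu)))
  have d2 := (reg h hV.pi hK.pi).dvd_pred (norm_inf (hK.le.trans hn) hK.le)
  have v2 := (one_lt_card_iff_ne_bot _).2 V1
  have d3 := Nat.le_of_dvd (by omega) d2
  have := card_le hUT
  have e : U ⊓ H = U := eq_of_le_of_card_ge inf_le_left (by omega)
  rw [← hU.sup_compl hK]
  exact sup_le (e ▸ inf_le_right) KH

theorem cyc_of_odd {F : Type*} [Field F] [Fintype F] {k : ℕ} (hk : 2 ≤ k) (hF : Fintype.card F = 2 ^ k)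
    (hp : (2 ^ k - 1).Prime) (H : Subgroup PSL(2, F)) (ho : Odd (Nat.card H)) : IsCyclic H := by
  classical
  have ev : ∀ {Y : Type _} [Group Y], H ≃* Y → ¬ Even (Nat.card Y) := fun e h =>
    Nat.not_even_iff_odd.2 ho (Nat.card_congr e.toEquiv ▸ h)
  have ev' : ∀ {Y : Type} [Group Y], H ≃* Y → ¬ Even (Nat.card Y) := fun e h =>
    Nat.not_even_iff_odd.2 ho (Nat.card_congr e.toEquiv ▸ h)
  obtain ⟨k, rfl⟩ := Nat.exists_eq_add_of_le' hk
  rcases H10.dickson_PSL H with ⟨x, h⟩ | ⟨m, -, h | ⟨⟨e⟩⟩⟩ | ⟨⟨e⟩⟩ | ⟨⟨e⟩⟩ | ⟨⟨e⟩⟩ | ⟨R, -, h⟩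
  · have h1 := H10.index_stabilizer_PSL2 x
    have h2 := ((stabilizer PGL(2, F) x).comap (H10.ι F)).card_mul_index
    have h3 := H10.card_PSL2 (F := F)
    rw [gcd_even hF, one_mul, ← h2, h1, Nat.card_eq_fintype_card (α := F), Nat.mul_left_inj (by omega), hF] at h3
    have h4 := card_dvd_of_le (show H ≤ (stabilizer PGL(2, F) x).comap (H10.ι F) from h)
    rw [h3] at h4
    haveI := Fact.mk hp
    exact isCyclic_of_card_dvd_prime ((ho.coprime_two_right.pow_right _).dvd_of_dvd_mul_left h4)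
  · exact h.1
  · exact absurd (by rw [DihedralGroup.nat_card]; simp) (ev' e)
  · exact absurd (by rw [nat_card_alternatingGroup]; simp; decide) (ev' e)
  · exact absurd (by rw [Nat.card_perm]; simp; decide) (ev' e)
  · exact absurd (by rw [nat_card_alternatingGroup]; simp; decide) (ev' e)
  have := charP_of_dvd (F := F) Nat.prime_two (hF ▸ dvd_pow_self 2 (by omega))
  have := Fintype.ofFinite R
  obtain ⟨⟨j, hj⟩, -, hR⟩ := FiniteField.card R 2
  obtain ⟨j, rfl⟩ := Nat.exists_eq_add_of_le' hj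
  have hR : Fintype.card R = 2 ^ (j + 1) := hR
  have h2 : Even (Fintype.card R * (Fintype.card R - 1) * (Fintype.card R + 1)) :=
    (Even.mul_right (by rw [hR]; exact (Nat.even_pow' (by omega)).2 even_two) _).mul_right _
  rcases h with ⟨⟨e⟩⟩ | ⟨⟨e⟩⟩
  · exact absurd (by rwa [← H10.card_PSL2, gcd_even hR, one_mul] at h2) (ev e)
  · exact absurd (by rwa [← H10.card_PGL2] at h2) (ev e)

variable [IsSimpleGroup G] (hG : ¬ IsMulCommutative G) (h : ∀ H : Subgroup G, ¬ Abel H → N(H) ≤ H)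
  (hS : Hall {2} S ⊤)
include hG h hS

theorem abel_sylow : Abel S := by
  by_contra hA
  refine H1.not_solv_top hG (H21.frob_centric Nat.prime_two hS fun D hD hc x hx ho => by_contra fun e => ?_).solv_two
  have all : ∀ X ≤ S, ¬ Abel X → X = S := fun X hX h1 => hS.pi.nil.eq_of_norm_le hX (inf_le_right.trans (h X h1))
  have DS : D < S := lt_of_le_of_ne hD fun e' => by
    subst e'
    exact e ((hS.pi.elt (h _ hA hx)).eq_one' ho ▸ one_mem _)
  have na : ∀ X ≤ S, D < X → X = S := fun X hX h1 => all X hX fun h2 =>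
    h1.not_ge ((le_inf hX (h2.trans (C_anti h1.le))).trans hc)
  have SN : S ≤ N(D) := (na _ inf_le_left (hS.pi.nil.lt_norm DS)).ge.trans inf_le_right
  obtain ⟨s, hs, sD⟩ := SetLike.exists_of_lt DS
  have e1 := na (D ⊔ zpowers s) (sup_le hD (zpowers_le.2 hs)) (left_lt_sup.2 (mt zpowers_le.1 sD))
  have h1 : Hall {2} (S ⫽ D) (N(D) ⫽ D) := (hS.of_le SN le_top).mim le_rfl
  have h2 := H21.pnil_of_cyc h1 (by
    rw [← e1, quo_self_sup (zpowers_le.2 (SN hs))]; exact cyc_zpowers.mim)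
  have hK : qpre D O[{2}ᶜ](N(D) ⫽ D) ⊴ N(D) := qpre_pcore_nml nml_N
  have xK : x ∈ qpre D O[{2}ᶜ](N(D) ⫽ D) :=
    mem_mpre.2 ⟨hx, zpowers_le.1 (h2.le_pcore (zpowers_le.2 (mfun_mem_mim hx)) (ho.mfun hx).zpowers)⟩
  have h3 := SN.trans (hK.norm.trans (h _ fun h3 => e (C_anti le_qpre (h3 xK))))
  have h4 : S ⫽ D ≤ O[{2}ᶜ](N(D) ⫽ D) := (mim_le_iff SN).2 h3
  exact DS.not_ge ((quo_eq_bot_iff SN).1 (h1.pi.eq_bot (pcore_pi.of_le h4)))

theorem abel_cen (ht : t ∈ S) (t1 : t ≠ 1) : Abel C1(t) := by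
  have hA := abel_sylow hG h hS
  have SC : S ≤ C1(t) := hA.trans (C_le_C1 ht)
  have hC := hS.of_le SC le_top
  by_cases c : C1(t) ⊓ N(S) ≤ C(S)
  · have hK := Burnside_normal_complement Nat.prime_two hC c
    have nK : S ≤ N(O[{2}ᶜ](C1(t))) := SC.trans pcore_nml.norm
    have key : ∀ s ∈ S, Abel (O[{2}ᶜ](C1(t)) ⊔ zpowers s) := fun s hs => by_contra fun e => by
      have h1 := hall_of_sup' (hS.pi.elt hs).zpowers (pcore_pi (π := {2}ᶜ) (H := C1(t)))
        (.inl ((zpowers_le.2 hs).trans nK))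
      have h2 := h1.eq_of_le (zpowers_le.2 hs) ((norm_sup nK (hA.norm (zpowers_le.2 hs))).trans (h _ e)) hS.pi
      exact H1.not_solv_top hG (H21.solv_of_cyc_two hS (h2 ▸ cyc_zpowers))
    rw [← hC.sup_compl hK]
    exact hA.sup ((key 1 (one_mem _)).mono le_sup_left) fun s hs =>
      C_anti le_sup_left (key s hs (mem_sup_right (mem_zpowers s)))
  obtain ⟨x, hx, e⟩ := SetLike.not_le_iff_exists.1 c
  have h1 : piPart {2} x ∈ S := (hS.of_le le_N le_top).mem_of_nml le_rfl (piPart_mem hx.2) piElt_piPart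
  have h2 : piPart {2}ᶜ x ∉ C(S) := fun e' => e (mem_of_parts (hA h1) e')
  have h3 := piPart_mem (π := {2}ᶜ) hx
  have h4 : PiGrp {2}ᶜ (zpowers (piPart {2}ᶜ x)) := piElt_piPart.zpowers
  generalize piPart {2}ᶜ x = y at *
  have hc : H1.Cop (zpowers y) S := ⟨zpowers_le.2 h3.2, (hS.pi.coprime h4).symm, .inr hS.pi.solv⟩
  have l : ⁅S, zpowers y⁆ ≤ S := comm_le_left hc.norm
  have h5 : S ≤ ⁅S, zpowers y⁆ ⊔ zpowers y := (norm_iff_comm_le.2 (comm_sup_le'
    ((comm_le_right (hA.norm l)).trans le_sup_left) le_sup_left (le_norm le_sup_left) (le_norm le_sup_right))).trans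
      (h _ fun h5 => h2 (zpowers_le.1 (cent_symm (hc.cent_of_comm_cent (cent_mono h5 le_sup_left le_sup_right)))))
  have h6 := (hall_of_sup (hS.pi.of_le l) h4 (.inr norm_comm_right)).eq_of_le l h5 hS.pi
  have := hc.cent_le_of_comm_eq h6.symm ⟨ht, by rw [C_zpowers]; exact mem_C1_comm.1 h3.1⟩
  rw [hA.der] at this
  exact absurd (mem_bot.1 this) t1

end

/-- Let G be a finite non-abelian simple group. Every non-abelian subgroup of G is self-normalizing if and only if G is isomorphic to PSL₂(2ⁿ) for some n ≥ 2 with 2ⁿ − 1 prime (this includes the alternating group of degree 5 as PSL₂(4)). -/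
theorem result {G : Type*} [Group G] [Finite G] [IsSimpleGroup G]
    (hna : ¬ IsMulCommutative G) :
    (∀ H : Subgroup G, ¬ IsMulCommutative H → Subgroup.normalizer (H : Set G) = H) ↔
    ∃ n : ℕ, 2 ≤ n ∧ (2 ^ n - 1).Prime ∧ Nonempty (G ≃* Matrix.ProjectiveSpecialLinearGroup (Fin 2) (GaloisField 2 n)) := by
  obtain ⟨S, hS⟩ := exists_sylow Nat.prime_two (⊤ : Subgroup G)
  have hns := H1.not_solv_top hna
  refine ⟨fun h => ?_, fun ⟨n, hn, hp, ⟨e⟩⟩ H hH => le_antisymm ?_ le_N⟩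
  · have h : ∀ H : Subgroup G, ¬ Abel H → N(H) ≤ H := fun H hH => (h H (mt abel_iff.2 hH)).le
    have hA := abel_sylow hna h hS
    have hc : ¬ Cyc S := fun c => hns (H21.solv_of_cyc_two hS c)
    have hn := H1.N_ne_top_solv hna (ne_bot_of_not_cyc hc) hS.pi.solv
    obtain ⟨-, F, _, _, ⟨n, n2, hF⟩, hF', ⟨e⟩⟩ := H21.psl_of_abel_se (H1.AbS.se ⟨hS, hA⟩ (ne_bot_of_not_cyc hc) hn le_rfl
      fun y hy h2 => (abel_cen hna h hS hy (H9.ord2.1 h2).2).norm (hA.trans (C_le_C1 hy))) hS hA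
    have := Fintype.ofFinite (GaloisField 2 n)
    refine ⟨n, n2, ?_, (psl_congr (by rw [hF, ← Nat.card_eq_fintype_card, GaloisField.card 2 n (by omega)])).map e.trans⟩
    have hE : H9.EA S := ⟨hS, hc, hn, cen_psl n2 hF e⟩
    obtain ⟨u, hu⟩ : ∃ u, u ∉ N(S) := by_contra fun e => hn (eq_top_iff.2 fun u _ => by_contra fun e' => e ⟨u, e'⟩)
    have hab := H9.one_ne_mk hu
    have h1 := hE.act.card_D (c := ((1 : G) : G ⧸ N(S))) hab
    obtain ⟨w, w2, hw⟩ := hE.act.swap hab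
    have h2 := H5.abel_of_inverted w2 fun x hx => hE.act.inverts w2 hw hab hx
    have h3 := H5.piNat_two_compl.2 (hE.act.odd_D hab)
    obtain ⟨X, hX, hp⟩ := exists_prime_sub (hE.D_ne hab)
    have h4 : (stabilizer G ((1 : G) : G ⧸ N(S)) ⊓ stabilizer G (u : G ⧸ N(S))) ≤ N(S) := fun x hx => H9.fix_one.1 hx.1
    rw [hE.ncard_Inv, ← hF', hF] at h1
    rw [← h1]
    generalize stabilizer G ((1 : G) : G ⧸ N(S)) ⊓ stabilizer G (u : G ⧸ N(S)) = D at *
    have h5 : PiGrp {2}ᶜ X := PiGrp.of_le h3 hX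
    rwa [(hall_of_sup h5 hS.pi.compl_compl (.inl (hX.trans h4))).eq_of_le hX
      ((norm_sup (h2.norm hX) h4).trans (h _ fun h6 => ?_)) h3]
    obtain ⟨s, hs, s1⟩ := exists_mem_ne_one' hE.ne_bot
    exact ne_bot_of_prime hp ((hS.pi.of_le ((cent_mono h6 le_sup_left le_sup_right).trans
      ((C_le_C1 hs).trans (hE.C1_eq hs s1).le))).eq_bot h5)
  have := Fintype.ofFinite (GaloisField 2 n)
  have hF : Fintype.card (GaloisField 2 n) = 2 ^ n := by
    rw [← Nat.card_eq_fintype_card, GaloisField.card 2 n (by omega)]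
  have hc := cen_psl hn hF e
  have hA : ¬ Abel H := mt abel_iff.1 hH
  obtain ⟨U, hU⟩ := exists_sylow Nat.prime_two N(H)
  by_cases U1 : U = ⊥
  · rw [U1] at hU
    have := cyc_of_odd hn hF hp ((N(H) : Subgroup G).map (e : G →* _)) (by
      rw [card_map_of_injective e.injective]; exact H5.piNat_two_compl.1 hU.compl_of_eq_bot)
    exact absurd ((Cyc.of_le (isCyclic_of_surjective _ (e.subgroupMap N(H)).symm.surjective) le_N).abel) hA
  by_cases h1 : N(H) ≤ N(U)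
  · refine norm_le_of_nml hc hS ?_ hA hU U1 h1
    obtain ⟨k, rfl⟩ := Nat.exists_eq_add_of_le' hn
    have h2 := H10.card_PSL2 (F := GaloisField 2 (k + 2))
    rw [gcd_even hF, one_mul, ← Nat.card_congr e.toEquiv, hF, mul_assoc, ← card_top] at h2
    obtain ⟨X, -, hX⟩ := exists_sub_card_pow Nat.prime_two (Dvd.intro _ h2.symm)
    have h3 : Even (2 ^ (k + 2)) := (Nat.even_pow' (by omega)).2 even_two
    rwa [hS.card_eq (hall_of_card_mul le_top (piGrp_of_card_pow Nat.prime_two hX) (H5.piNat_two_compl.2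
      ((Nat.Even.sub_odd Nat.one_le_two_pow h3 odd_one).mul h3.add_one)) (by rw [h2, hX])), hX]
  refine subgroupOf_eq_top.1 (top_of_not_normal (U := U.subgroupOf N(H))
    (fun t t2 t1 c hc' => Subtype.ext (hc t (congrArg Subtype.val t2) (fun e => t1 (Subtype.ext e)) c
      (mem_C1.2 (congrArg Subtype.val (mem_C1.1 hc'))))) nml_top (fun h2 => hA ?_) ?_ fun h2 => h1 ?_)
  · exact cent_iff.2 fun a ha b hb => congrArg Subtype.val (cent_iff.1 h2 ⟨a, le_N ha⟩ ha ⟨b, le_N hb⟩ hb)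
  · simpa using H1.hall_subgroupOf hU le_rfl
  · exact norm_iff.2 fun a ha b hb => conj_mem_N (h2.ge (mem_top (⟨a, ha⟩ : N(H)))) (y := ⟨b, hU.le hb⟩) hb

end Cfsg.Agent.S4073
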