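import Cfsg.Statements.S3921
import Cfsg.Agent.S4073
import Cfsg.Agent.H1.Wc
import Cfsg.Agent.H11.Spec
import Cfsg.Agent.H3.PG

set_option autoImplicit false
open Cfsg

namespace Cfsg.Agent.S3921

open H18 H13 Subgroup MulAction
open scoped MatrixGroups commutatorElement

theorem core {X : Type*} [Group X] [Finite X] {t v : X} (t2 : t * t = 1) (t1 : t ≠ 1) (v2 : v * v = 1) (v1 : v ≠ 1)
    (ht : C1(t) = ⊤) (ne : v ≠ t) (hc : Nat.card C1(v) ≤ 4) (hv : IsPGroup 2 (normalClosure ({v} : Set X))) :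
    PiGrp {2} (⊤ : Subgroup X) := by
  set Q := O[{2}]((⊤ : Subgroup X))
  have vQ : v ∈ Q := le_pcore nml_top (piGrp_of_isPGroup Nat.prime_two hv) (subset_normalClosure rfl)
  have tQ : t ∈ Q := zpowers_le.1 (le_pcore ⟨le_top, ht ▸ C1_le_N_zpowers⟩
    (piElt_of_pow_eq_one Nat.prime_two (by rwa [sq])).zpowers)
  let A : Set X := {y | y ∈ Q ∧ y * y = 1}
  have h1 : C1(v).index + 2 ≤ A.ncard := by
    rw [← H21.ncard_class, ← Set.ncard_pair t1, ← Set.ncard_union_eq]
    · refine Set.ncard_le_ncard (Set.union_subset (fun y hy => ?_) (Set.pair_subset ⟨tQ, t2⟩ ⟨one_mem _, one_mul 1⟩))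
      obtain ⟨g, rfl⟩ := isConj_iff.1 (ConjClasses.mk_eq_mk_iff_isConj.1 (ConjClasses.mem_carrier_iff_mk_eq.1 hy)).symm
      exact ⟨conj_mem pcore_nml.norm (mem_top g) vQ, by rw [conj_mul, v2]; simp⟩
    refine Set.disjoint_left.2 fun y hy h => ?_
    obtain ⟨g, rfl⟩ := isConj_iff.1 (ConjClasses.mk_eq_mk_iff_isConj.1 (ConjClasses.mem_carrier_iff_mk_eq.1 hy)).symm
    rcases h with h | h
    · rw [← conj_eq_self_of_C1 (ht.ge (mem_top g))] at h
      exact ne (by simpa using h)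
    · exact v1 (by simpa using h)
  have h2 := Set.ncard_union_add_ncard_inter A ((v * ·) '' A)
  rw [Set.ncard_image_of_injective _ (mul_right_injective v)] at h2
  have h3 : (A ∪ (v * ·) '' A).ncard ≤ Nat.card Q := Set.ncard_le_ncard (t := (Q : Set X))
    (Set.union_subset (fun y hy => hy.1) (by rintro _ ⟨y, hy, rfl⟩; exact mul_mem vQ hy.1))
  have h4 : (A ∩ (v * ·) '' A).ncard ≤ Nat.card C1(v) := Set.ncard_le_ncard (t := (C1(v) : Set X)) (by
    rintro _ ⟨h, y, hy, rfl⟩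
    exact mul_mem C1_self (mem_C1.2 (H9.comm_of_sq v2 hy.2 h.2).symm))
  have h5 := C1(v).card_mul_index
  have h6 := Q.card_mul_index
  have h7 : Nat.card C1(v) * C1(v).index ≤ 4 * C1(v).index := Nat.mul_le_mul_right _ hc
  have h8 : Q.index ≤ 2 := by
    by_contra c
    have : Nat.card Q * 3 ≤ Nat.card Q * Q.index := Nat.mul_le_mul_left _ (by omega)
    have : 0 < Nat.card Q := Nat.card_pos
    omega
  refine piGrp_of_relIndex (le_top (a := Q)) pcore_pi fun p hp hd => ?_
  rw [relIndex_top_right] at hd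
  have := Nat.le_of_dvd (Nat.pos_of_ne_zero index_ne_zero_of_finite) hd
  have := hp.two_le
  show p = 2
  omega

theorem dih {n j : ℕ} (hn : n = 2 ^ j) (H : Subgroup (DihedralGroup n)) (hH : ¬ IsCyclic H) : C(H) ≤ H := by
  open DihedralGroup in
  have n0 : NeZero n := ⟨by rw [hn]; positivity⟩
  obtain ⟨i, hi⟩ : ∃ i, sr i ∈ H := by
    by_contra! c
    refine hH (Cyc.of_le (cyc_zpowers (x := r 1)) ?_)
    rintro (k | k) hk
    · exact ⟨(k.val : ℤ), by simp⟩
    · exact absurd hk (c k)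
  obtain ⟨k, k0, hk⟩ : ∃ k ≠ 0, r k ∈ H := by
    by_contra! c
    refine hH (Cyc.of_le (cyc_zpowers (x := sr i)) ?_)
    rintro (k | k) hk
    · obtain rfl : k = 0 := by_contra fun e => c k e hk
      exact one_mem _
    · obtain rfl : k = i := by_contra fun e => c (k - i) (sub_ne_zero.2 e) (by simpa using mul_mem hi hk)
      exact mem_zpowers _
  have key : ∀ l : ZMod n, -l = l → r l ∈ H := fun l hl => by
    obtain ⟨y, hy, hp⟩ := exists_prime_pow_elt (x := r k) fun e => k0 (r.inj e)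
    obtain ⟨m, rfl⟩ := hy
    simp only [r_zpow] at hp
    have h1 : orderOf (r (k * (m : ZMod n))) ∣ 2 ^ (j + 1) := by
      rw [pow_succ', ← hn, ← nat_card]; exact orderOf_dvd_natCard _
    have h2 := H9.ord2.1 ((Nat.prime_dvd_prime_iff_eq hp Nat.prime_two).1 (hp.dvd_of_dvd_pow h1))
    have h3 : -(k * (m : ZMod n)) = k * m := neg_eq_iff_add_eq_zero.2 (r.inj h2.1)
    rcases (ZMod.neg_eq_self_iff _).1 hl with rfl | e
    · exact one_mem _
    rcases (ZMod.neg_eq_self_iff _).1 h3 with e' | e'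
    · exact absurd (by rw [e']; rfl) h2.2
    rw [ZMod.val_injective n (show l.val = (k * (m : ZMod n)).val by omega), ← r_zpow]
    exact zpow_mem hk m
  rintro (l | l) hl
  · have := mem_C.1 hl _ hi
    simp only [sr_mul_r, r_mul_sr, sr.injEq] at this
    exact key l (by linear_combination -this)
  · have := mem_C.1 hl _ hi
    simp only [sr_mul_sr, r.injEq] at this
    simpa using mul_mem hi (key (l - i) (by linear_combination -this))

theorem cyc_of_odd {F : Type*} [Field F] [Fintype F] {p : ℕ} (hp : p.Prime) [CharP F p] (H : Subgroup PSL(2, F))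
    (ho : Odd (Nat.card H)) (hd : ¬ p ∣ Nat.card H) : IsCyclic H := by
  classical
  have ev : ∀ {Y : Type _} [Group Y], H ≃* Y → ¬ Even (Nat.card Y) := fun e h =>
    Nat.not_even_iff_odd.2 ho (Nat.card_congr e.toEquiv ▸ h)
  have ev' : ∀ {Y : Type} [Group Y], H ≃* Y → ¬ Even (Nat.card Y) := fun e h =>
    Nat.not_even_iff_odd.2 ho (Nat.card_congr e.toEquiv ▸ h)
  rcases H10.dickson_PSL H with ⟨x, h⟩ | ⟨m, -, h | ⟨⟨e⟩⟩⟩ | ⟨⟨e⟩⟩ | ⟨⟨e⟩⟩ | ⟨⟨e⟩⟩ | ⟨R, -, h⟩
  · obtain ⟨μ, -, -, h3⟩ := H10.exists_multiplier x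
    let f : H →* stabilizer PGL(2, F) x := ((H10.ι F).comp H.subtype).codRestrict _ fun g => h g g.2
    have hf : Function.Injective f := fun a b e => Subtype.ext (H10.ι_injective (congrArg Subtype.val e))
    refine isCyclic_of_injective (μ.comp f) ((injective_iff_map_eq_one _).2 fun g hg => by_contra fun g1 => hd ?_)
    rw [← CharP.cast_eq_zero_iff F p, ← h3 _ hg fun e => g1 (hf (e.trans (map_one f).symm)), ← map_pow,
      pow_card_eq_one', map_one]
  · exact h.1
  · exact absurd (by rw [DihedralGroup.nat_card]; simp) (ev' e)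
  · exact absurd (by rw [nat_card_alternatingGroup]; simp; decide) (ev' e)
  · exact absurd (by rw [Nat.card_perm]; simp; decide) (ev' e)
  · exact absurd (by rw [nat_card_alternatingGroup]; simp; decide) (ev' e)
  have := Fintype.ofFinite R
  have h2 := H10.card_PSL2 (F := R)
  have h3 : Even (Nat.card PSL(2, R)) := by
    rcases H10.gcd_two_cases (Fintype.card_pos (α := R)) with ⟨h4, h5⟩ | ⟨h4, h5⟩ <;> rw [h5] at h2
    · rw [one_mul] at h2
      exact h2 ▸ ((Nat.even_iff.2 h4).mul_right _).mul_right _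
    · obtain ⟨k, hk⟩ := Nat.odd_iff.2 h4
      rw [hk, show (2 * k + 1) * (2 * k + 1 - 1) * (2 * k + 1 + 1) = 2 * (2 * ((2 * k + 1) * k * (k + 1))) by
        simp; ring] at h2
      exact even_iff_two_dvd.2 ⟨_, Nat.eq_of_mul_eq_mul_left two_pos h2⟩
  rcases h with ⟨⟨e⟩⟩ | ⟨⟨e⟩⟩
  · exact absurd h3 (ev e)
  · exact absurd (by rw [H10.card_PGL2, ← h2]; exact h3.mul_left _) (ev e)

theorem back {F : Type*} [Field F] [Fintype F] {p : ℕ} (hp : p.Prime) (h4 : 4 ≤ Fintype.card F)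
    (hq : Fintype.card F = p ∨ Fintype.card F = p ^ 2)
    (h2 : p = 2 ∨ ∃ j, Fintype.card F + 1 = 2 ^ (j + 1) ∨ Fintype.card F - 1 = 2 ^ (j + 1))
    (H : Subgroup PSL(2, F)) (hH : ¬ IsCyclic H) : C(H) ≤ H := fun c hc => by_contra fun cH => by
  classical
  have pd : p ∣ Fintype.card F := hq.elim (· ▸ dvd_rfl) (· ▸ dvd_pow_self _ two_ne_zero)
  have := charP_of_dvd hp pd
  have := Fact.mk hp
  have c1 : ¬ p ∣ Fintype.card F + 1 := fun h => hp.not_dvd_one ((Nat.dvd_add_right pd).1 h)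
  have c2 : ¬ p ∣ Fintype.card F - 1 := fun h => hp.not_dvd_one ((Nat.dvd_add_right h).1 (by
    rwa [Nat.sub_add_cancel (by omega)]))
  have sp : ∀ n, Sp PSL(2, F) n → n ∣ p ∨ n ∣ Fintype.card F + 1 ∨ n ∣ Fintype.card F - 1 := fun n h => by
    rcases H10.gcd_two_cases (Fintype.card_pos (α := F)) with ⟨h4, h5⟩ | ⟨h4, h5⟩ <;> have := h.psl_dvd p <;>
      rw [h5] at this
    · simpa using this
    · exact this.imp_right (.imp (·.trans ⟨2, by omega⟩) (·.trans ⟨2, by omega⟩))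
  obtain ⟨y, hy, hr⟩ := exists_prime_pow_elt (x := c) (by rintro rfl; exact cH (one_mem _))
  have l1 : H ≤ C1(y) := (le_C1_iff.2 hc).trans (C1_le_of_mem_zpowers hy)
  have l2 : c ∈ C1(y) := C1_le_of_mem_zpowers hy C1_self
  have mul : ∀ s, s.Prime → s ∣ Nat.card C1(y) → s ≠ orderOf y → Sp PSL(2, F) (s * orderOf y) := fun s hs hd ne => by
    obtain ⟨x, hx, rfl⟩ := cauchy hs hd
    exact sp_mul (mem_C1.1 hx) ((Nat.coprime_primes hs hr).2 ne)
  have np : ∀ s, s.Prime → ¬ Sp PSL(2, F) (p * s) := fun s hs h => by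
    rcases sp _ h with h | h | h
    · exact hs.not_dvd_one ((Nat.mul_dvd_mul_iff_left hp.pos).1 (by rwa [mul_one]))
    · exact c1 ((dvd_mul_right _ _).trans h)
    · exact c2 ((dvd_mul_right _ _).trans h)
  have hG := H10.card_PSL2 (F := F)
  by_cases e : orderOf y = p
  · have h5 : PiGrp {p} C1(y) := fun s hs hd => by_contra fun ne => np s hs (by
      rw [mul_comm, ← e]; exact mul s hs hd (e ▸ ne))
    obtain ⟨k, hk⟩ := h5.card_eq_pow
    have h6 : Nat.card C1(y) ∣ Fintype.card F := by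
      have := (card_subgroup_dvd_card C1(y)).mul_left (Nat.gcd 2 (Fintype.card F - 1))
      rw [hG, hk] at this
      rw [hk]
      exact (((Nat.Prime.coprime_iff_not_dvd hp).2 c2).pow_left _).dvd_of_dvd_mul_right
        ((((Nat.Prime.coprime_iff_not_dvd hp).2 c1).pow_left _).dvd_of_dvd_mul_right this)
    have h7 := (card_dvd l1).trans h6
    rcases hq with hq | hq <;> rw [hq] at h6 h7
    · exact hH (isCyclic_of_card_dvd_prime h7)
    obtain ⟨i, hi, h8⟩ := (Nat.dvd_prime_pow hp).1 h7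
    obtain rfl : i = 2 := by_contra fun c => hH (isCyclic_of_card_dvd_prime (p := p)
      (h8 ▸ (pow_dvd_pow p (by omega : i ≤ 1)).trans (by simp)))
    exact cH ((eq_of_le_of_card_ge l1 (h8 ▸ Nat.le_of_dvd (by positivity [hp.pos]) h6)).ge l2)
  have h5 : ¬ p ∣ Nat.card C1(y) := fun h => np _ hr (mul p hp h (Ne.symm e))
  by_cases ho : Odd (Nat.card C1(y))
  · exact hH (Cyc.of_le (cyc_of_odd hp _ ho h5) l1)
  have h6 := even_iff_two_dvd.1 (Nat.not_odd_iff_even.1 ho)
  obtain ⟨j, hj⟩ := h2.resolve_left (by rintro rfl; exact h5 h6)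
  have qo : Fintype.card F % 2 = 1 := by rw [pow_succ] at hj; omega
  have n2 : ∀ s, s.Prime → s ≠ 2 → ¬ Sp PSL(2, F) (2 * s) := fun s hs s2 h => by
    have a : ¬ 2 * s ∣ 2 ^ j := fun h => s2 ((Nat.prime_dvd_prime_iff_eq hs Nat.prime_two).1
      (hs.dvd_of_dvd_pow ((dvd_mul_left _ _).trans h)))
    have j0 : 2 ∣ 2 ^ j := dvd_pow_self _ (by rintro rfl; omega)
    rw [sp_psl_odd hp pd h4 (Nat.odd_iff.2 qo)] at h
    rw [pow_succ] at hj
    rcases h with h | h | h
    · exact Nat.not_prime_mul (by decide) hs.ne_one (((Nat.dvd_prime hp).1 h).resolve_left (by omega) ▸ hp)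
    all_goals
      have := (dvd_mul_right 2 s).trans h
      rcases hj with hj | hj <;> first | omega | exact a (by convert h; omega)
  have y2 : orderOf y = 2 := by_contra fun ne => n2 _ hr ne (mul 2 Nat.prime_two h6 (Ne.symm ne))
  have h7 : PiGrp {2} C1(y) := fun s hs hd => by_contra fun ne => n2 s hs ne (by
    have := mul s hs hd fun e => ne (e.trans y2)
    rwa [y2, mul_comm] at this)
  obtain ⟨D, ⟨f⟩, hD⟩ : ∃ D : Subgroup PSL(2, F), Nonempty (D ≃* DihedralGroup (2 ^ j)) ∧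
      ∃ m, Odd m ∧ Nat.card PSL(2, F) = 2 * 2 ^ j * m := by
    have j0 : 2 ∣ 2 ^ j := dvd_pow_self _ (by rintro rfl; omega)
    rw [gcd_odd (Nat.odd_iff.2 qo)] at hG
    rw [pow_succ] at hj
    rcases hj with hj | hj
    · obtain ⟨D, -, -, -, -, f⟩ := H10.exists_dihedral_nonsplit (F := F)
      rw [gcd_odd (Nat.odd_iff.2 qo), hj, Nat.mul_div_cancel _ two_pos] at f
      refine ⟨D, f, Fintype.card F * (2 ^ j - 1), (Nat.odd_iff.2 qo).mul (Nat.odd_iff.2 (by omega)), ?_⟩
      rw [hj, show Fintype.card F - 1 = 2 * (2 ^ j - 1) by omega] at hG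
      linarith
    · obtain ⟨D, -, -, -, -, f⟩ := H10.exists_dihedral_split (F := F) h4
      rw [gcd_odd (Nat.odd_iff.2 qo), hj, Nat.mul_div_cancel _ two_pos] at f
      refine ⟨D, f, Fintype.card F * (2 ^ j + 1), (Nat.odd_iff.2 qo).mul (Nat.odd_iff.2 (by omega)), ?_⟩
      rw [hj, show Fintype.card F + 1 = 2 * (2 ^ j + 1) by omega] at hG
      linarith
  obtain ⟨m, hm, h8⟩ := hD
  have cD : Nat.card D = 2 * 2 ^ j := by rw [Nat.card_congr f.toEquiv, DihedralGroup.nat_card]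
  obtain ⟨g, -, hg⟩ := sylow_le_cj' Nat.prime_two (hall_of_card_mul le_top (piGrp_of_card_pow Nat.prime_two
    (cD.trans (pow_succ' 2 j).symm)) (H5.piNat_two_compl.2 hm) (by rw [card_top, h8, cD])) h7 le_top
  let φ := (cjEquiv g D).symm.trans f
  have h9 := dih rfl ((H.subgroupOf (cj g D)).map (φ : _ →* _)) (fun h => hH ((cyc_subgroupOf (l1.trans hg)).1
    (isCyclic_of_surjective _ (φ.subgroupMap _).symm.surjective))) (x := φ ⟨c, hg l2⟩) (mem_C.2 (by
      rintro _ ⟨x, hx, rfl⟩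
      simp only [MonoidHom.coe_coe, ← map_mul]
      exact congrArg φ (Subtype.ext (mem_C.1 hc x hx))))
  obtain ⟨x, hx, e⟩ := h9
  rw [φ.injective e] at hx
  exact cH hx

variable {G : Type*} [Group G] [Finite G] (h : ∀ H : Subgroup G, ¬ IsCyclic H → C(H) ≤ H)
include h

theorem cit [IsSimpleGroup G] (hG : ¬ IsMulCommutative G) : CIT G := fun x t ho t2 e => by
  by_contra! c
  have ht := H9.ord2.2 ⟨t2, c.2⟩
  obtain ⟨g, hc, ne⟩ : ∃ g, t * (g * t * g⁻¹) = (g * t * g⁻¹) * t ∧ g * t * g⁻¹ ≠ t := by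
    by_contra! k
    have := H1.zstar_in (mem_top t) ht fun g _ => k g
    rw [H1.O_top hG, le_bot_iff, comm_eq_bot_iff, C_zpowers] at this
    exact H1.C1_ne_top' hG c.2 (top_le_iff.1 this)
  have hv : orderOf (g * t * g⁻¹) = 2 := orderOf_conj.trans ht
  generalize g * t * g⁻¹ = v at *
  have v2 := H9.ord2.1 hv
  have := core (X := C1(t)) (t := ⟨t, C1_self⟩) (v := ⟨v, mem_C1.2 hc.symm⟩) (Subtype.ext t2)
    (fun e => c.2 (congrArg Subtype.val e)) (Subtype.ext v2.1) (fun e => v2.2 (congrArg Subtype.val e))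
    (eq_top_iff.2 fun y _ => mem_C1.2 (Subtype.ext (mem_C1.1 y.2))) (fun e => ne (congrArg Subtype.val e)) (by
      rw [← card_map_of_injective C1(t).subtype_injective, H1.map_C1, ← H22.C_V4, ← H22.card_V4 ht hv hc ne]
      exact card_le (h _ (H22.V4_not_cyc ht hv hc ne))) (by
      by_contra k
      obtain ⟨⟨y, hy⟩, y1, yo, e⟩ := H9.exists_odd_inverted (by simpa using hv) k
      have e : v * y * v⁻¹ = y⁻¹ := congrArg Subtype.val e
      rw [Subgroup.orderOf_mk] at yo
      have n : zpowers v ≤ N(zpowers y) := zpowers_le.2 (mem_N_iff_cj.2 (by rw [cj_zpowers, e, zpowers_inv]))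
      have hH := hall_of_sup (piElt_of_pow_eq_one Nat.prime_two (by rw [sq]; exact v2.1)).zpowers
        (PiElt.zpowers (H5.piNat_two_compl.2 yo)) (.inl n)
      have h1 : t ∈ zpowers v ⊔ zpowers y := h _ (fun c => y1 (Subtype.ext (H5.eq_one_of_odd yo (by
          rw [← comm_of_cent (Cyc.abel c) (mem_sup_right (mem_zpowers y)) (mem_sup_left (mem_zpowers v)),
            mul_inv_cancel_right] at e
          exact mul_eq_one_iff_eq_inv.2 e))))
        (by rw [C_sup, C_zpowers, C_zpowers]; exact ⟨mem_C1.2 hc, mem_C1_comm.1 hy⟩)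
      have h2 := hH.le_of_norm (zpowers_le.2 h1) (piElt_of_pow_eq_one Nat.prime_two (by rwa [sq])).zpowers
        (.inl ((zpowers_le.2 (mem_C1.2 hc)).trans C1_le_N_zpowers))
      have h3 := eq_of_le_of_card_ge h2 (by rw [card_zpowers', card_zpowers', ht, hv])
      have h4 := H22.card_V4 ht hv hc ne
      rw [H22.V4, ← h3, sup_idem, card_zpowers', ht] at h4
      omega)
  have h1 : PiElt {2} (⟨x, mem_C1.2 e⟩ : C1(t)) := this.elt (mem_top _)
  rw [PiElt, Subgroup.orderOf_mk] at h1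
  exact c.1 (PiElt.eq_one' h1 (H5.piNat_two_compl.2 ho))

theorem four {A : Subgroup G} (hA : Abel A) (h2 : PiGrp {2} A) (hc : ¬ Cyc A) : Nat.card A = 4 := by
  obtain ⟨p, hp, B, hB⟩ := hA.exists_pelem_two hc
  have c := hB.card
  obtain rfl : p = 2 := h2 p hp ((c ▸ dvd_pow_self p two_ne_zero).trans (card_dvd hB.le))
  refine (congrArg (fun X : Subgroup G => Nat.card X) (le_antisymm ((hA.trans (C_anti hB.le)).trans (h _ fun e => ?_)) hB.le)).trans c
  obtain ⟨x, rfl⟩ := Cyc.gen e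
  have := orderOf_dvd_of_pow_eq_one (hB.elem.pow x (mem_zpowers x))
  rw [← card_zpowers', c] at this
  omega

theorem not_dvd (h8 : ¬ Sp G 8) : ¬ 64 ∣ Nat.card G := fun hd => by
  obtain ⟨S, -, hS⟩ := exists_sub_card_pow (H := (⊤ : Subgroup G)) (n := 6) Nat.prime_two (by rwa [card_top])
  have h2 := piGrp_of_card_pow Nat.prime_two hS
  obtain ⟨A, -, hA⟩ := H3.exists_SCN Nat.prime_two h2 Nml.bot abel_bot
  have h3 := H21.relIndex_C_dvd_factorial hA.nml.norm
  have h4 : Nat.card A ≤ 4 := by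
    by_cases c : Cyc A
    · obtain ⟨x, rfl⟩ := c.gen
      obtain ⟨k, hk⟩ := (h2.of_le hA.le).card_eq_pow
      rw [hk]
      refine Nat.pow_le_pow_right two_pos (show k ≤ 2 from by_contra fun c => h8 ?_)
      exact Sp.of_dvd ⟨x, card_zpowers'.symm.trans hk⟩ (pow_dvd_pow 2 (by omega : 3 ≤ k))
    · exact (four h hA.abel (h2.of_le hA.le) c).le
  have h5 := (C(A).subgroupOf S).card_mul_index
  rw [← inf_subgroupOf_left, hA.cent, Nat.card_congr (subgroupOfEquivOfLe hA.le).toEquiv, hS] at h5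
  rw [← inf_relIndex_left, hA.cent] at h3
  have h6 := h3.trans (Nat.factorial_dvd_factorial h4)
  change _ * A.relIndex S = _ at h5
  have := Nat.le_of_dvd (by decide) (Nat.dvd_gcd h6 (Dvd.intro_left _ h5))
  have : Nat.card A * A.relIndex S ≤ 4 * 8 := Nat.mul_le_mul h4 this
  omega

omit h

/-- Say that a group has self-centralizing non-cyclic subgroups when every non-cyclic subgroup H satisfies C_G(H) ≤ H. A non-abelian finite simple group has self-centralizing non-cyclic subgroups if and only if it is isomorphic to PSL₂(q) with q = 4, q = 9, or q a prime of the form 2^k + 1 or 2^k − 1. -/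
theorem result {G : Type*} [Group G] [Finite G] [IsSimpleGroup G] (hna : ¬ IsMulCommutative G) :
    (∀ H : Subgroup G, ¬ IsCyclic ↥H → Subgroup.centralizer (H : Set G) ≤ H) ↔ ∃ (F : Type) (_ : Field F) (_ : Fintype F),
      (Fintype.card F = 4 ∨ Fintype.card F = 9 ∨ ((Fintype.card F).Prime ∧ ∃ k : ℕ, Fintype.card F = 2 ^ k + 1 ∨ Fintype.card F = 2 ^ k - 1)) ∧
      Nonempty (G ≃* Matrix.ProjectiveSpecialLinearGroup (Fin 2) F) := by
  have hns := H1.not_solv_top hna
  refine ⟨fun h => ?_, fun ⟨F, _, _, hF, ⟨e⟩⟩ H hH c hc => ?_⟩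
  · rcases (cit h hna).classify_simple hns with (⟨F, i1, i2, ⟨n, hn, hF⟩, ⟨e⟩⟩ | ⟨F, _, _, m, hm, hF, ⟨e⟩⟩) |
      ⟨F, _, _, h7, h1, ⟨k, h2⟩, e⟩ | hL
    · refine ⟨F, i1, i2, .inl ?_, ⟨e⟩⟩
      obtain ⟨S, hS⟩ := exists_sylow Nat.prime_two (⊤ : Subgroup G)
      have h1 := four h (S4073.abel2 (S4073.cen_psl hn hF e) hS.pi) hS.pi fun c => hns (H21.solv_of_cyc_two hS c)
      obtain ⟨k, rfl⟩ := Nat.exists_eq_add_of_le' hn
      have h2 := H10.card_PSL2 (F := F)
      rw [gcd_even hF, one_mul, ← Nat.card_congr e.toEquiv, mul_assoc, ← card_top] at h2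
      have h3 := hS.dvd_of_piNat (by rw [hF]; exact ((piNat_prime Nat.prime_two).2 (Set.mem_singleton 2)).pow _) (Dvd.intro _ h2.symm)
      have := four_le hn
      have := Nat.le_of_dvd (by omega) h3
      omega
    · refine absurd ?_ (not_dvd h fun c => ?_)
      · rw [Nat.card_congr e.toEquiv, card_sz hm hF, mul_assoc, ← pow_mul]
        exact (pow_dvd_pow 2 (by omega : 6 ≤ _)).mul_right _
      have a1 : 2 ^ (m + 1 + 1) ≤ 2 ^ (2 * m + 1) := Nat.pow_le_pow_right (by decide) (by omega)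
      have := (sp_sz hm hF).1 (c.of_equiv e)
      simp only [pow_succ] at this a1
      have := Nat.two_pow_pos m
      omega
    · exact ⟨F, _, _, .inr (h1.imp_right fun hp => ⟨hp, k, by omega⟩), e⟩
    · refine absurd (hL.card ▸ by decide) (not_dvd h fun c => ?_)
      obtain ⟨F, _, _, hF, ⟨e⟩⟩ := hL
      have := charP_of_dvd (F := F) Nat.prime_two (hF ▸ by decide)
      have h1 := H11.lu_psl (ι := Fin 3) (F := F) 2
      rw [Nat.card_eq_fintype_card, hF, Fintype.card_fin] at h1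
      exact absurd ((h1.three (A := 21) (B := 15) (C := 3) (by decide) (by decide) (by decide) (by decide) 8).1
        (c.of_equiv e)) (by decide)
  have h4 : 4 ≤ Fintype.card F := by
    by_contra c
    have := Fintype.one_lt_card (α := F)
    refine hns (solv_top_iff.2 (H10.isSolvable_of_card_dvd_24 ?_))
    rw [Nat.card_congr e.toEquiv]
    rcases (by omega : Fintype.card F = 2 ∨ Fintype.card F = 3) with h | h
    · rw [card_psl 6 h rfl]; decide
    · rw [card_psl 12 h rfl]; decide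
  have key : ∀ K : Subgroup PSL(2, F), ¬ IsCyclic K → C(K) ≤ K := by
    rcases hF with h | h | ⟨hp, k, h⟩
    · exact back Nat.prime_two h4 (.inr h) (.inl rfl)
    · exact back Nat.prime_three h4 (.inr h) (.inr ⟨2, by omega⟩)
    · obtain _ | k := k
      · omega
      have := Nat.two_pow_pos (k + 1)
      exact back hp h4 (.inl rfl) (.inr ⟨k, by omega⟩)
  obtain ⟨x, hx, e1⟩ := key (H.map (e : G →* _)) (fun h => hH
    (isCyclic_of_surjective _ (e.subgroupMap _).symm.surjective)) (x := e c) (mem_C.2 (by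
      rintro _ ⟨x, hx, rfl⟩
      simp only [MonoidHom.coe_coe, ← map_mul]
      exact congrArg e (mem_C.1 hc x hx)))
  rwa [← e.injective e1]

end Cfsg.Agent.S3921
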