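import Cfsg.Statements.S3940
import Cfsg.Agent.H9.MSD
import Cfsg.Agent.H26.NEnd

set_option autoImplicit false
open Cfsg

namespace Cfsg.Agent.S3940

/-- Let p > 3 be a prime and G a finite group in which every subgroup of order prime to p is nilpotent. Then G is solvable. -/
theorem result {G : Type*} [Group G] [Finite G] (p : ℕ) (hp : p.Prime) (hp3 : 3 < p)
    (h : ∀ H : Subgroup G, (Nat.card ↥H).Coprime p → Group.IsNilpotent ↥H) : Group.IsSolvable G := by
  by_contra c
  obtain ⟨K, -, h1, h2⟩ := H9.MSi.nn_of_not_solv c hp hp3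
  exact h2 (h K ((Nat.coprime_comm.1 (hp.coprime_iff_not_dvd.2 h1))))

end Cfsg.Agent.S3940
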