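import Cfsg.Statements.S4419
import Cfsg.Agent.H1.Harv2

set_option autoImplicit false
open Cfsg

namespace Cfsg.Agent.S4419

open H18 Subgroup

/-- Let p be a prime and G a finite group whose Sylow p-subgroups are metacyclic (a cyclic normal subgroup with cyclic quotient). Then G has a normal p-complement if and only if the order of G/O_{p′,p}(G) is coprime to p² − 1. -/
theorem result {G : Type*} [Group G] [Finite G] (p : ℕ) [Fact p.Prime] (S : Sylow p G) (hS : Cfsg.IsMetacyclic ↥(S : Subgroup G)) : Cfsg.HasNormalPComplement p G ↔ Nat.Coprime (Nat.card (G ⧸ Cfsg.pPrimePCore p G)) (p ^ 2 - 1) := by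
  have hp : p.Prime := Fact.out
  rw [← index_eq_card, pPrimePCore_eq hp, ← relIndex_top_right]
  refine ⟨fun h => ?_, fun h => by_contra fun e => ?_⟩
  · rw [relIndex_eq_one_iff.2 (le_pcore2 .rfl ((hasNormalPComplement_top_iff' hp).1 h).idx.of_compl_compl)]; simp
  obtain ⟨Q, a, q, g, hq, hqp, ⟨k, hk⟩, b, c⟩ := H3.exists_prime_pow_normalizing_of_not_hasNormalPComplement S e
  have hQ := (hall_sylow_top hp S).pi.of_le a
  have hg : PiElt {q} g := by rw [PiElt, hk]; exact piNat_pow_self hq k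
  have n : zpowers g ≤ N(Q) := zpowers_le.2 b
  have n' := norm_phi n
  have d : q ∣ p ^ 2 - 1 := by
    obtain ⟨l, hl⟩ := (hg.mfun (f := coset Φ(Q)) (n' (mem_zpowers g))).eq_pow (orderOf_pos _).ne'
    obtain ⟨j, h1, h2, h3⟩ := H3.exists_dvd_pow_sub_one_of_not_mem_centralizer (Q := Q ⫽ Φ(Q)) (n := 2)
      (by rw [card_quo phi_nml.norm]; exact H1.relIndex_phi_dvd_of_metacyclic hp hS hQ a) hq hqp hl
      (mim_norm n (mfun_mem_mim (mem_zpowers g))) fun f => c (H1.cent_of_comm_le_phi n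
        ((hg.zpowers.p'_of_ne hqp).coprime' hQ) ((comm_le_iff_quo phi_nml.norm n').2 (cent_symm (by
          rw [mim_zpowers (n' (mem_zpowers g))]; exact zpowers_le.2 f))) (mem_zpowers g))
    obtain rfl | rfl : j = 1 ∨ j = 2 := by omega
    · exact h3.trans (by simpa using Nat.sub_dvd_pow_sub_pow p 1 2)
    · exact h3
  have h1 : g ∈ O2[{p}ᶜ,{p}]((⊤ : Subgroup G)) := hg.mem_of_nml (mem_top g) pcore2_nml
    ((piNat_compl_iff hq).2 fun f => hq.one_lt.ne' (Nat.eq_one_of_dvd_coprimes h f d))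
  have h2 : g ∈ O[{p}ᶜ]((⊤ : Subgroup G)) := pcore_hall_pcore2.mem_of_nml pcore_nml_pcore2.norm h1 (hg.p'_of_ne hqp)
  refine c (comm_eq_bot_iff.1 (eq_bot_iff.2 ?_) (mem_zpowers g))
  rw [← hQ.inf_eq_bot (pcore_pi (H := ⊤))]
  exact le_inf (comm_le_right n) ((comm_mono (zpowers_le.2 h2) le_top).trans (comm_le_left pcore_nml.norm))

end Cfsg.Agent.S4419
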