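import Cfsg.Statements.S3971
import Cfsg.Agent.H1.Harv4
import Cfsg.Agent.S4419

set_option autoImplicit false
open Cfsg

namespace Cfsg.Agent.S3971

open H18 Subgroup H1

/-- Let `G` be a finite group of order `2 ^ a * n` with `n` odd and not divisible by `3`, and suppose `G` has an element of order `2 ^ (a - 1)` (so a Sylow `2`-subgroup has a cyclic subgroup of index at most `2`). Then `G` has a normal subgroup of order `n`. -/
theorem result {G : Type*} [Group G] [Finite G] (a n : ℕ) (hG : Nat.card G = 2 ^ a * n) (hn : Odd n) (h3 : ¬ 3 ∣ n) (hx : ∃ x : G, orderOf x = 2 ^ (a - 1)) : ∃ N : Subgroup G, N.Normal ∧ Nat.card N = n := by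
  obtain ⟨x, hx⟩ := hx
  have h2 : PiNat {2}ᶜ n := (piNat_compl_iff Nat.prime_two).2 (Odd.not_two_dvd_nat hn)
  obtain ⟨S, hS, h⟩ := exists_sylow_le Nat.prime_two (PiElt.zpowers (hx.symm ▸ piNat_pow_self Nat.prime_two _ :
    PiNat {2} (orderOf x))) le_top
  obtain ⟨P, rfl⟩ := hS.exists_sylow_top Nat.prime_two
  have c : Nat.card P = 2 ^ a := by
    obtain ⟨T, -, hT⟩ := exists_sub_card_pow (H := (⊤ : Subgroup G)) Nat.prime_two (n := a) (by rw [card_top, hG]; simp)
    exact hT ▸ hS.card_eq (hall_of_card_mul le_top (piGrp_of_card_pow Nat.prime_two hT) h2 (by rw [card_top, hG, hT]))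
  have i : (zpowers x).relIndex P ∣ 2 := by
    have := H18.card_mul_relIndex h
    rw [card_zpowers', hx, c] at this
    exact Nat.dvd_of_mul_dvd_mul_left (pow_pos two_pos (a - 1)) (this ▸ pow_succ 2 (a - 1) ▸ pow_dvd_pow 2 (by omega))
  have nn : ((zpowers x).subgroupOf P).Normal := by
    rcases (Nat.dvd_prime Nat.prime_two).1 i with e | e
    · rw [index_eq_one.1 e]; infer_instance
    · exact normal_of_index_eq_two e
  obtain ⟨T, N, a1, a2⟩ := (S4419.result 2 P ⟨_, nn, (cyc_subgroupOf h).2 cyc_zpowers, isCyclic_of_card_dvd_prime i⟩).2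
    (((Nat.prime_three.coprime_iff_not_dvd.2 fun e => ((Nat.prime_three.dvd_mul).1 (hG ▸ e)).elim
      (fun e => by simpa using Nat.prime_three.dvd_of_dvd_pow e) h3).symm).coprime_dvd_left (card_quotient_dvd_card _))
  refine ⟨N, a1, Nat.eq_of_mul_eq_mul_right (pow_pos two_pos a) ?_⟩
  rw [mul_comm n, ← hG, ← c, hS.card_eq (hall_sylow_top Nat.prime_two T), a2.card_mul]

end Cfsg.Agent.S3971
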