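import Cfsg.Statements.S4018
import Cfsg.Agent.H21.Crit
import Cfsg.Agent.S3282
import Cfsg.Agent.H2.BSWCor
import Cfsg.Agent.H23.FrobCompl

set_option autoImplicit false
open Cfsg

namespace Cfsg.Agent.S4018

open H18 H21 Subgroup H1
theorem aux {G : Type*} [Group G] [Finite G] {P : Subgroup G} (hP : Hall {3} P ⊤) (hab : Abel P)
    (hN : Nat.card N(P) = 4 * Nat.card P) (hC : Nat.card C(P) = 2 * Nat.card P)
    (hTI : Cfsg.IsTISubset (C(P) : Set G))
    (heven : ∀ H : Subgroup G, H ≠ ⊤ → 2 ∣ Nat.card H → Nat.card H ∣ 4 * Nat.card P) (hs : IsSimpleGroup G) :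
    False := by
  have nml : ∀ W : Subgroup G, ⊤ ≤ N(W) → W = ⊥ ∨ W = ⊤ := fun W h => (norm_top_iff.1 h).eq_bot_or_eq_top
  have n0 := card_pos' (H := P)
  have P1 : P ≠ ⊥ := by rintro rfl; simp at hN hC; omega
  have d3 : 3 ∣ Nat.card (⊤ : Subgroup G) := (hP.pi.dvd_card P1).trans (card_dvd le_top)
  have d4 : 4 ∣ Nat.card (⊤ : Subgroup G) := (Dvd.intro _ hN.symm).trans (card_dvd le_top)
  have n2 : ∀ S : Subgroup G, PiGrp {2} S → S ≠ ⊤ := by
    rintro _ h rfl; exact absurd (h.eq_of_dvd Nat.prime_three d3) (by decide)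
  obtain ⟨t, tC, ht⟩ := cauchy Nat.prime_two (H := C(P)) (Dvd.intro _ hC.symm)
  have t2 : PiGrp {2} (zpowers t) := piGrp_of_prime Nat.prime_two (by rw [card_zpowers', ht])
  have P2 : PiGrp {2}ᶜ P := hP.pi.p'_of_ne (by decide)
  have eC : P ⊔ zpowers t = C(P) := eq_of_card_eq (sup_le hab (zpowers_le.2 tC)) (by
    rw [card_sup_of_cent (cent_symm (zpowers_le.2 tC)) (P2.inf_eq_bot' t2), card_zpowers', ht, hC, mul_comm])
  have aC : Abel C(P) := eC ▸ hab.sup abel_zpowers (cent_symm (zpowers_le.2 tC))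
  have hT : Hall {2} (zpowers t) C(P) := eC ▸ hall_of_sup' t2 P2 (Or.inl (cent_norm (zpowers_le.2 tC)))
  have u1 : ∀ x ∈ C(P), x ^ 2 = 1 → x ∈ zpowers t := fun x hx h =>
    hT.mem_of_nml (aC.norm hT.le) hx (piElt_of_pow_eq_one Nat.prime_two h)
  have tt : t * t = 1 := by rw [← pow_two, ← ht, pow_orderOf_eq_one]
  have u2 : ∀ x ∈ zpowers t, orderOf x = 2 → x = t := fun x hx h =>
    (H2.eq_of_mul_self_of_cyc cyc_zpowers ht (mem_zpowers t) hx
      (by rw [← pow_two, ← h, pow_orderOf_eq_one])).resolve_left (by rintro rfl; simp at h)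
  have NC : N(C(P)) ≤ C1(t) := fun g hg => mem_C1.2 (mul_inv_eq_iff_eq_mul.1 (u2 _ (u1 _ (conj_mem_N hg tC)
    (by rw [conj_pow, ← ht, pow_orderOf_eq_one]; simp)) (by rw [orderOf_conj, ht])))
  have Ct : C1(t) ≠ ⊤ := fun e => (nml _ (e ▸ C1_le_N_zpowers)).elim (fun e => by rw [zpowers_eq_bot.1 e] at ht; simp at ht) (n2 _ t2)
  have eN : N(P) = C1(t) := eq_of_card_ge (N_le_N_C.trans NC) (hN ▸ Nat.le_of_dvd (by omega)
    (heven _ Ct (ht ▸ H18.orderOf_dvd_card C1_self)))
  obtain ⟨S, hS, tS⟩ := exists_sylow_le Nat.prime_two t2 le_top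
  have c4 : Nat.card S = 4 := Nat.dvd_antisymm (hS.pi.dvd_of_dvd_mul P2 (heven S (n2 S hS.pi)
    ((by decide : 2 ∣ 4).trans (hS.dvd_of_piNat (piNat_pow_self Nat.prime_two 2) d4))))
    (hS.dvd_of_piNat (piNat_pow_self Nat.prime_two 2) d4)
  have aS : Abel S := abel_of_card_sq Nat.prime_two c4
  have nc : ¬ Cyc S := fun c => (nml _ (pcore_nml (π := {2}ᶜ) (H := ⊤)).2).elim
    (fun e => n2 ⊤ (Hall.compl_of_eq_bot (e ▸ pnil_of_cyc hS c)).of_compl_compl rfl)
    fun e => (piNat_compl_iff Nat.prime_two).1 (pcore_pi (H := (⊤ : Subgroup G))) (e.symm ▸ (by decide : 2 ∣ 4).trans d4)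
  obtain ⟨s, sS, st⟩ : ∃ s ∈ S, s ∉ zpowers t := by_contra fun c => by
    push Not at c; exact nc (cyc_zpowers.of_le c)
  have hs2 : orderOf s = 2 := by
    obtain ⟨i, hi, e⟩ := (Nat.dvd_prime_pow Nat.prime_two).1 ((H18.orderOf_dvd_card sS).trans (c4.trans (by norm_num : 4 = 2 ^ 2)).dvd)
    interval_cases i
    · exact absurd (orderOf_eq_one_iff.1 e ▸ one_mem _) st
    · exact e
    · exact absurd (eq_of_card_eq (zpowers_le.2 sS) (by rw [card_zpowers', e, c4]; rfl) ▸ cyc_zpowers) nc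
  have ss : s * s = 1 := by rw [← pow_two, ← hs2, pow_orderOf_eq_one]
  have sN : s ∈ C1(t) := C_le_C1 (zpowers_le.1 tS) (aS sS)
  have sC : s ∉ C(P) := fun c => st (u1 s c (by rw [pow_two, ss]))
  have cn : ∀ u, orderOf u = 2 → ∃ g, g * u * g⁻¹ = t := fun u hu => by
    obtain ⟨g, hg⟩ := H2.isConj_of_no_index_two hS (relIndex_eq_of_mul tS (by rw [card_zpowers', ht, c4]))
      (fun M hM => (nml M (norm_top_iff.2 (normal_of_index_eq_two hM))).elim
        (by rintro rfl; rw [index_bot, ← card_top] at hM; omega) (by rintro rfl; simp at hM)) hu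
    exact ⟨g, u2 _ hg (by rw [orderOf_conj, hu])⟩
  have fp : P ⊓ C1(s) = ⊥ := eq_bot_iff.2 fun x hx => by
    obtain ⟨g, hg⟩ := cn s hs2
    refine hTI g (fun c => st ?_) x (hab hx.1) (hab ((hP.of_le le_N le_top).mem_of_nml le_rfl ?_
      ((hP.pi.elt hx.1).conj g)))
    · have := conj_eq_self_of_C1 (NC c)
      rw [mul_left_cancel (mul_right_cancel (hg.trans this.symm))]; exact mem_zpowers t
    · rw [eN, ← hg, ← cj_C1]; exact conj_mem_cj hx.2
  have inv : ∀ x ∈ C(P), s * x * s⁻¹ = x⁻¹ := fun x hx => by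
    obtain ⟨a, ha, b, hb, rfl⟩ := (mem_sup_of_cent (cent_symm (zpowers_le.2 tC))).1 (eC.ge hx)
    have h1 : b * b = 1 := by
      rw [← pow_two, ← ht, ← card_zpowers']; exact pow_card_eq_one_of_mem hb
    rw [← conj_mul, H23.inverts_of_reg (eN ▸ sN) fp ss ha, conj_eq_self_of_C1 (C1_le_of_mem_zpowers hb sN),
      comm_of_cent (cent_symm (zpowers_le.2 tC)) ha hb, mul_inv_rev, inv_eq_of_mul_eq_one_left h1]
  have CN : C(P) ≤ C1(t) := eN ▸ C_le_N
  obtain ⟨Q, D, h1, h2, h3, h4, h5, h6, h7⟩ := Cfsg.Agent.S3282.result t ht C(P) aC.comm CN tC s hs2 sN sC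
    ((eq_or_eq_of_prime_relIndex (by
        rw [relIndex_eq_of_mul CN (n := 2) (by rw [← eN, hN, hC]; ring)]; exact Nat.prime_two) le_sup_left
      (sup_le CN (zpowers_le.2 sN))).resolve_left fun e => sC (e.le (mem_sup_right (mem_zpowers s))))
    (le_antisymm (fun x hx => u1 x hx.1 (by
      rw [pow_two, mul_eq_one_iff_eq_inv, ← inv x hx.1, conj_eq_self_of_C1 (mem_C1_comm.1 hx.2)]))
      (zpowers_le.2 ⟨tC, mem_C1_comm.1 sN⟩)) inv
    (fun g hg => eq_bot_iff.2 fun x hx => by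
      obtain ⟨y, hy, rfl⟩ := mem_cj'.1 hx.2
      rw [hTI g (fun c => hg (NC c)) y hy hx.1]; simp)
    fun x y hx hy => by
      obtain ⟨a, ha⟩ := cn x hx
      obtain ⟨b, hb⟩ := cn y hy
      exact (isConj_iff.2 ⟨a, ha⟩).trans (isConj_iff.2 ⟨b, hb⟩).symm
  have d0 := card_pos' (H := D)
  have aD : Abel D := abel_of_comm h3
  obtain ⟨a, ha⟩ := hP.pi.card_eq_pow
  have hm : Nat.card (⊤ : Subgroup G) = 2 * Nat.card D * (Nat.card D + 1) * (2 * Nat.card D + 1) := by
    rw [← h4, Nat.add_sub_cancel, ← card_top] at h1; linarith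
  have nT : Nat.card N(P) ≠ Nat.card (⊤ : Subgroup G) := fun e => Ct (eN ▸ eq_of_card_eq le_top e)
  have D1 : D ≠ ⊥ := by
    rintro rfl
    have := card_dvd (le_top : N(P) ≤ ⊤)
    have h8 := hP.pi.dvd_card P1
    rw [card_bot] at hm
    rw [hm, hN] at this nT
    have := Nat.le_of_dvd (by norm_num) this
    omega
  have prp : ∀ X : Subgroup G, X ≠ ⊥ → Abel X → N(X) ≠ ⊤ := fun X h h' e => nc (by
    have := (nml X e.ge).resolve_left h
    subst this
    exact (cyc_of_prime (by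
      rw [card_top]; exact H5.card_prime_of_isSimpleGroup_of_comm
        fun a b => comm_of_cent h' (mem_top a) (mem_top b))).of_le le_top)
  obtain ⟨-, u, hu, uD, -, hD⟩ := h7 D le_rfl D1
  have cD : Nat.card N(D) = Nat.card D * 2 := by
    rw [hD, Nrm2.card_sup_of_disj (Or.inr (hD ▸ le_sup_right)) (inf_comm D _ ▸ prime_TI
      (by rw [card_zpowers', hu]; exact Nat.prime_two) (by simpa using uD)), card_zpowers', hu]
  have e1 := heven _ (prp D D1 aD) (cD ▸ Dvd.intro_left _ rfl)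
  rw [cD, ha] at e1
  rcases Nat.even_or_odd (Nat.card D) with c | c
  · have cQ : Nat.card N(Q) = (2 * Nat.card D + 1) * Nat.card D := by
      rw [h6, Nrm2.card_sup_of_disj (Or.inr (h6 ▸ le_sup_right)) h5, h4]
    have e2 := heven _ (prp Q (by rintro rfl; simp at h4; omega) fun x hx => by
      by_cases x1 : x = 1
      · exact x1 ▸ one_mem _
      · exact le_C1_iff.1 (h2 x hx x1).ge) (cQ ▸ c.two_dvd.mul_left _)
    rw [cQ, ha] at e2
    have e3 : 2 * Nat.card D + 1 ∣ 3 ^ a := (Nat.Coprime.pow_right 2 (Nat.coprime_two_right.2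
      (odd_two_mul_add_one _))).dvd_of_dvd_mul_left ((Dvd.intro _ rfl).trans e2)
    obtain ⟨i, -, e4⟩ := (Nat.dvd_prime_pow Nat.prime_three).1 e3
    have e5 : 3 ∣ 2 * Nat.card D + 1 := e4 ▸ dvd_pow_self 3 (by rintro rfl; omega)
    have e6 : Nat.card D * 2 ∣ 4 := (Nat.Coprime.pow_right a ((Nat.coprime_comm.1
      ((Nat.Prime.coprime_iff_not_dvd Nat.prime_three).2 (by omega))))).dvd_of_dvd_mul_right e1
    have := Nat.le_of_dvd (by norm_num) e6
    obtain ⟨k, hk⟩ := c
    omega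
  · have e3 : Nat.card D ∣ 3 ^ a := (Nat.Coprime.pow_right 2 (Nat.coprime_two_right.2 c)).dvd_of_dvd_mul_left
      ((Dvd.intro _ rfl).trans e1)
    have D3 : PiGrp {3} D := (piNat_pow_self Nat.prime_three a).of_dvd e3
    have e5 := D3.dvd_card D1
    have hD3 : Hall {3} D ⊤ := hall_of_card_mul le_top D3 (n := 2 * (Nat.card D + 1) * (2 * Nat.card D + 1))
      ((piNat_compl_iff Nat.prime_three).2 fun d => by
        rcases (Nat.Prime.dvd_mul Nat.prime_three).1 d with d | d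
        · rcases (Nat.Prime.dvd_mul Nat.prime_three).1 d with d | d <;> omega
        · omega) (by rw [hm]; ring)
    obtain ⟨g, -, rfl⟩ := sylow_conj Nat.prime_three hP hD3
    rw [← cj_N, card_cj, card_cj, hN] at cD
    omega

/-- Let G be a finite group with an abelian Sylow 3-subgroup P such that the normalizer of P has order 4·#P, the centralizer C of P has order 2·#P, C meets each of its conjugates by elements outside its normalizer trivially, and every proper subgroup of G of even order has order dividing 4·#P. Then G is not simple. -/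
theorem result {G : Type*} [Group G] [Finite G]
    (P : Sylow 3 G) (hab : IsMulCommutative P)
    (hN : Nat.card (Subgroup.normalizer ((P : Subgroup G) : Set G)) = 4 * Nat.card P)
    (hC : Nat.card (Subgroup.centralizer (P : Set G)) = 2 * Nat.card P)
    (hTI : Cfsg.IsTISubset (Subgroup.centralizer (P : Set G) : Set G))
    (heven : ∀ H : Subgroup G, H ≠ ⊤ → 2 ∣ Nat.card H → Nat.card H ∣ 4 * Nat.card P) :
    ¬ IsSimpleGroup G := by
  exact aux (hall_sylow_top Nat.prime_three P) (abel_of_comm hab) hN hC hTI heven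

end Cfsg.Agent.S4018
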