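import Cfsg.Statements.S4027
import Cfsg.Agent.S3861
import Cfsg.Agent.H18.Basic

set_option autoImplicit false
open Cfsg

namespace Cfsg.Agent.S4027

open H18 Subgroup

/-- Let G be a finite group in which every element x of odd order satisfies N_G(⟨x⟩) = C_G(x). Then the Sylow 2-subgroups of G are normal. -/
theorem result {G : Type*} [Group G] [Finite G]
    (hirr : ∀ x : G, (∀ r : ℕ, r.Prime → r ∣ orderOf x → r ≠ 2) →
      Subgroup.normalizer ((Subgroup.zpowers x : Subgroup G) : Set G) ≤ Subgroup.centralizer {x}) (P : Sylow 2 G) :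
    (P : Subgroup G).Normal := by
  refine (S3861.result P).1 fun x h1 ho hc => ?_
  obtain ⟨g, hg⟩ := isConj_iff.1 hc
  have := mem_C1.1 (hirr x (fun r _ hr e => ho.not_two_dvd_nat (e ▸ hr))
    (mem_N_iff_cj.2 (by rw [cj_zpowers, hg, zpowers_inv])))
  rw [this, mul_inv_cancel_right] at hg
  have : orderOf x ∣ 2 := orderOf_dvd_of_pow_eq_one (by rw [sq]; exact mul_eq_one_iff_eq_inv.2 hg)
  exact h1 (orderOf_eq_one_iff.1 (Nat.eq_one_of_dvd_coprimes (Nat.coprime_two_right.2 ho) dvd_rfl this))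

end Cfsg.Agent.S4027
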