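import Cfsg.Statements.S4045
import Cfsg.Agent.H29.Hom
import Cfsg.Agent.H29.Three

set_option autoImplicit false
open Cfsg

namespace Cfsg.Agent.S4045

open H18 Subgroup H1 H29

/-- Let π be a set of odd primes and G a finite group of order prime to 3 that is π-homogeneous: N_G(H)/C_G(H) is a π-group for every nontrivial π-subgroup H of G. Then the π'-elements of G (elements whose order is divisible by no prime of π) form a subgroup. -/
theorem result {G : Type*} [Group G] [Finite G] (π : Set ℕ)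
    (hodd : ∀ p ∈ π, p.Prime ∧ p ≠ 2) (h3 : ¬ 3 ∣ Nat.card G)
    (hhom : (∀ H : Subgroup G, H ≠ ⊥ → (∀ p : ℕ, p.Prime → p ∣ Nat.card ↥H → p ∈ π) →
        ∀ p : ℕ, p.Prime → p ∣ (Subgroup.centralizer (H : Set G)).relIndex (Subgroup.normalizer (H : Set G)) → p ∈ π)) :
    (∃ K : Subgroup G, ∀ x : G, x ∈ K ↔ ∀ p : ℕ, p.Prime → p ∣ orderOf x → p ∉ π) := by
  refine (closed_iff (π := πᶜ)).2 (closed_ind (σ := πᶜ) (by rw [Homog, compl_compl]; exact hhom) (fun _ => True)
    (fun _ _ _ _ => trivial) (fun D S _ _ _ f _ hf _ hh na => .inl fun r hr hd rπ => ?_) ⊤ trivial)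
  have : Fact r.Prime := ⟨hr⟩
  obtain ⟨x, hx⟩ := exists_prime_orderOf_dvd_card' r hd
  have d : Nat.card S ∣ Nat.card G := by
    rw [← card_top, ← hf]; exact card_mim_dvd.trans (card_subgroup_dvd_card D)
  have r2 := (hodd r rπ).2
  obtain ⟨t, t2, ht⟩ := sz_real (sz_of_three S na fun a => h3 (a.trans d)) (x := x)
    (by rintro rfl; exact hr.ne_one (by simpa using hx.symm)) (hx ▸ hr.odd_of_ne_two r2)
  have := H29.Homog.not_real hh (x := x) (by rw [PiElt, hx, compl_compl]; exact (piNat_prime hr).2 rπ)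
    ((piElt_of_pow_eq_one Nat.prime_two (by rwa [pow_two])).of_p fun a => (hodd 2 a).2 rfl) ht
  refine r2 ((Nat.prime_dvd_prime_iff_eq hr Nat.prime_two).1 (hx ▸ orderOf_dvd_of_pow_eq_one ?_))
  rw [pow_two]; nth_rw 1 [← this]; exact inv_mul_cancel x

end Cfsg.Agent.S4045
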