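import Cfsg.Statements.S4048
import Cfsg.Agent.H21.PiHom
import Cfsg.Agent.H26.NEnd

set_option autoImplicit false
open Cfsg

namespace Cfsg.Agent.S4048

/-- Let π be a set of odd primes and G a finite group whose order has exactly four distinct prime divisors. Then the π'-elements of G form a subgroup if and only if N_G(H)/C_G(H) is a π-group for every nontrivial π-subgroup H of G. -/
theorem result {G : Type*} [Group G] [Finite G] (π : Set ℕ)
    (hodd : ∀ p ∈ π, p.Prime ∧ p ≠ 2) (h4 : (Nat.card G).primeFactors.card = 4) :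
    (∃ K : Subgroup G, ∀ x : G, x ∈ K ↔ ∀ p : ℕ, p.Prime → p ∣ orderOf x → p ∉ π) ↔ (∀ H : Subgroup G, H ≠ ⊥ → (∀ p : ℕ, p.Prime → p ∣ Nat.card ↥H → p ∈ π) →
        ∀ p : ℕ, p.Prime → p ∣ (Subgroup.centralizer (H : Set G)).relIndex (Subgroup.normalizer (H : Set G)) → p ∈ π) := by
  exact ⟨fun ⟨_, h⟩ => H21.phom_iff.1 (H21.phom_of_closed h),
    fun h => H21.s4048 (fun h => (hodd 2 h).2 rfl) h4 (H21.phom_iff.2 h)⟩

end Cfsg.Agent.S4048
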