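import Cfsg.Statements.S4049
import Cfsg.Agent.S3861
import Cfsg.Agent.H18.Pi
import Cfsg.Agent.H17.Syl

set_option autoImplicit false
open Cfsg

namespace Cfsg.Agent.S4049

open H18 Subgroup

/-- Let G be a finite group such that N_G(H)/C_G(H) has odd order for every nontrivial subgroup H of odd order. Then the Sylow 2-subgroups of G are normal. -/
theorem result {G : Type*} [Group G] [Finite G]
    (hhom : ∀ H : Subgroup G, H ≠ ⊥ → ¬ 2 ∣ Nat.card ↥H →
        ¬ 2 ∣ (Subgroup.centralizer (H : Set G)).relIndex (Subgroup.normalizer (H : Set G))) (P : Sylow 2 G) :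
    (P : Subgroup G).Normal := by
  refine (S3861.result P).1 fun x h1 ho hc => ?_
  obtain ⟨g, hg⟩ := isConj_iff.1 hc
  have hn : g ∈ N(zpowers x) := mem_N_iff_cj.2 (by rw [cj_zpowers, hg, zpowers_inv])
  have h2 := hhom (zpowers x) (by simpa using h1) (by rw [card_zpowers']; exact ho.not_two_dvd_nat)
  have h3 := H17.pow_relIndex_mem_of_le_normalizer N_le_N_C hn
  obtain ⟨k, hk⟩ := Nat.odd_iff.2 (Nat.two_dvd_ne_zero.1 h2)
  have h4 : g ^ 2 ∈ C(zpowers x) := by
    rw [C_zpowers, mem_C1, sq, ← mul_inv_eq_iff_eq_mul]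
    calc g * g * x * (g * g)⁻¹ = g * (g * x * g⁻¹) * g⁻¹ := by group
      _ = (g * x * g⁻¹)⁻¹ := by conv_lhs => rw [hg]
                                group
      _ = x := by rw [hg, inv_inv]
  rw [hk, pow_succ, pow_mul, mul_mem_cancel_left (pow_mem h4 k), C_zpowers, mem_C1] at h3
  rw [h3, mul_inv_cancel_right] at hg
  have : orderOf x ∣ 2 := orderOf_dvd_of_pow_eq_one (by rw [sq]; exact mul_eq_one_iff_eq_inv.2 hg)
  exact h1 (orderOf_eq_one_iff.1 (Nat.eq_one_of_dvd_coprimes (Nat.coprime_two_right.2 ho) dvd_rfl this))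

end Cfsg.Agent.S4049
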