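import Cfsg.Statements.S4052
import Cfsg.Agent.H29.Hom2
import Cfsg.Agent.H29.Three

set_option autoImplicit false
open Cfsg

namespace Cfsg.Agent.S4052

open H18 Subgroup H1 H29

theorem real {X : Type*} [Group X] [Finite X] {σ : Set ℕ} (hX : Lie.IsoSuzuki X) (hh : Homog σ X) (h2 : 2 ∈ σ) :
    PiNat σ (Nat.card X) := fun r hr hd => by
  by_contra rπ
  have : Fact r.Prime := ⟨hr⟩
  obtain ⟨x, hx⟩ := exists_prime_orderOf_dvd_card' r hd
  have r2 : r ≠ 2 := fun e => rπ (e ▸ h2)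
  obtain ⟨t, t2, ht⟩ := sz_real hX (x := x)
    (by rintro rfl; exact hr.ne_one (by simpa using hx.symm)) (hx ▸ hr.odd_of_ne_two r2)
  have := H29.Homog.not_real hh (x := x) (by rw [PiElt, hx]; exact (piNat_prime hr).2 rπ)
    ((piElt_of_pow_eq_one Nat.prime_two (by rwa [pow_two])).of_p h2) ht
  refine r2 ((Nat.prime_dvd_prime_iff_eq hr Nat.prime_two).1 (hx ▸ orderOf_dvd_of_pow_eq_one ?_))
  rw [pow_two]; nth_rw 1 [← this]; exact inv_mul_cancel x

open H13.Sz MulAction in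
theorem sz {F : Type} [Field F] [Fintype F] {m : ℕ} [IsSz F m] {σ : Set ℕ} (hh : Homog σ (Cfsg.Sz F m)) (h2 : 2 ∉ σ)
    (hs : ∀ V : Subgroup (Cfsg.Sz F m), PiGrp σᶜ V → ∃ M, Hall σᶜ M ⊤ ∧ V ≤ M) :
    PiNat σᶜ (Nat.card (Cfsg.Sz F m)) := by
  have hU : Hall {2} (U F m) ⊤ := hall_sylow_top Nat.prime_two (sylowU F m)
  have hH : PiGrp σᶜ (H F m) := piGrp_of_prime_elt fun x hx hp a => by
    obtain ⟨s, rfl⟩ := mem_H.1 hx
    have := H29.Homog.cent hh (hU.pi.of_p h2) ((piNat_prime hp).2 a) (normalizer_U.ge (H_le_B hx))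
    rw [h_mem_U_iff.1 (centralizer_u_le (u_mem_U 1 0) u_one_zero_ne_one (C_le_C1 (u_mem_U 1 0) this))] at hp
    simp [Nat.not_prime_one] at hp
  obtain ⟨M, hM, l⟩ := hs (H13.Sz.N F m) (by
    rw [PiGrp, card_N, ← card_H (m := m)]; exact ((piNat_prime Nat.prime_two).2 h2).mul hH)
  by_contra k
  obtain ⟨P, hP⟩ := exists_sylow Nat.prime_two M
  obtain ⟨g, -, rfl⟩ := sylow_conj Nat.prime_two hU (hP.trans_p hM h2)
  have b := H27.le_B_of_U_le (cj_le_iff.1 hP.le) fun e => k (by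
    rw [H18.cj_eq_top] at e; rw [← card_top, ← e]; exact hM.pi)
  replace b : H13.Sz.N F m ≤ stabilizer _ (g • ptInf F m) := l.trans (stabilizer_eq_cj g ▸ le_cj_iff.2 b)
  obtain ⟨s, hs⟩ := exists_unit_ne_one (F := F)
  have := b w_mem_N
  rw [mem_stabilizer_iff] at this
  obtain e | e := fix_of_h hs (b (H_le_N (h_mem_H s))) <;> rw [e] at this
  · exact w_not_mem_B this
  · exact pt_ne_ptInf 0 0 (this.symm.trans (by rw [← w_smul_ptInf, smul_smul, w_mul_w, one_smul]))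

/-- Let π be a set of primes and G a finite group whose maximal π-subgroups are pairwise conjugate (so Hall π-subgroups exist, any two are conjugate, and every π-subgroup lies in one of them), and suppose N_G(H)/C_G(H) is a π-group for every nontrivial π-subgroup H. If either 3 does not divide the order of G, or the π'-elements of every proper subgroup of G form a subgroup, then the π'-elements of G form a subgroup. -/
theorem result {G : Type*} [Group G] [Finite G] (π : Set ℕ)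
    (hπ : ∀ p ∈ π, p.Prime) (hD : Cfsg.IsDPiGroup π G) (hhom : (∀ H : Subgroup G, H ≠ ⊥ → (∀ p : ℕ, p.Prime → p ∣ Nat.card ↥H → p ∈ π) →
        ∀ p : ℕ, p.Prime → p ∣ (Subgroup.centralizer (H : Set G)).relIndex (Subgroup.normalizer (H : Set G)) → p ∈ π))
    (hcase : ¬ 3 ∣ Nat.card G ∨ ∀ M : Subgroup G, M ≠ ⊤ →
      ∃ L : Subgroup ↥M, ∀ x : ↥M, x ∈ L ↔ ∀ p : ℕ, p.Prime → p ∣ orderOf x → p ∉ π) :
    (∃ K : Subgroup G, ∀ x : G, x ∈ K ↔ ∀ p : ℕ, p.Prime → p ∣ orderOf x → p ∉ π) := by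
  obtain ⟨σ, rfl⟩ : ∃ σ, π = σᶜ := ⟨πᶜ, (compl_compl π).symm⟩
  simp only [Set.mem_compl_iff, not_not] at hcase ⊢
  obtain ⟨H, -, hH, mx⟩ := exists_maximal_sub (PiGrp σᶜ) (A := (⊥ : Subgroup G)) .bot
  have hs : ∀ U : Subgroup G, PiGrp σᶜ U → ∃ g, U ≤ cj g H := fun U hU =>
    let ⟨_, a, b, c⟩ := exists_maximal_sub (PiGrp σᶜ) hU
    let ⟨g, e⟩ := hD H _ ⟨hH, fun _ x y => (mx _ x y).le⟩ ⟨b, fun _ x y => (c _ x y).le⟩
    ⟨g, a.trans e.le⟩
  have ha : Hall σᶜ H ⊤ := hall_of_sylows le_top hH fun p hp a _ =>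
    let ⟨P, b⟩ := exists_sylow hp (⊤ : Subgroup G); let ⟨g, e⟩ := hs P (b.pi.of_p a); ⟨_, b.cj_top g⁻¹, le_cj_iff.1 e⟩
  refine (closed_iff (π := σ)).2 (closed_ind (σ := σ) hhom (fun D => ∀ g, Hall σᶜ (cj g H ⊓ D) D)
    (fun K M a n g => by simpa [inf_assoc, inf_eq_right.2 n.le] using (a g).inf_nml n)
    (fun D S _ _ _ f hP hf hk hh na => ?_) ⊤ fun g => by simpa using ha.cj_top g)
  rcases hcase with h3 | hc
  · have d : Nat.card S ∣ Nat.card G := by
      rw [← card_top, ← hf]; exact card_mim_dvd.trans (card_subgroup_dvd_card D)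
    have hS := sz_of_three S na fun a => h3 (a.trans d)
    by_cases h2 : 2 ∈ σ
    · exact .inl (real hS hh h2)
    obtain ⟨F, _, _, m, _, ⟨e⟩⟩ := H27.isoSuzuki_iff.1 hS
    have hf' : mim (e.toMonoidHom.comp f) D = ⊤ := by
      rw [mim, ← map_map, ← mim, hf, map_top_of_surjective _ e.surjective]
    have hk' : Clo σ (mker (e.toMonoidHom.comp f)) := by
      rwa [mker, mpre, ← comap_comap, MonoidHom.comap_bot, (MonoidHom.ker_eq_bot_iff _).2 e.injective]
    refine .inr (Nat.card_congr e.toEquiv ▸ sz (H29.Homog.sec hhom hf' hk') h2 fun V hV => ?_)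
    obtain ⟨L, hL, rfl⟩ := lift_pi hf' hk' hV
    obtain ⟨g, l⟩ := hs L hL.pi
    exact ⟨_, hf' ▸ (hP g).mim le_rfl, mim_mono (le_inf l (hL.le.trans mpre_le))⟩
  have hc' : ∀ M : Subgroup G, M ≠ ⊤ → M ≤ D → Clo σ (mim f M) := fun M a b =>
    (((closed_sub_iff (π := σ)).1 (hc M a)).mim b).pcore_hall pcore_nml.mim.norm
  by_cases e : D = ⊤
  · subst e
    refine pi_of_simple hh (hf ▸ ha.mim le_rfl) (fun V hV => ?_) fun M a => ?_
    · obtain ⟨L, hL, rfl⟩ := lift_pi hf hk hV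
      obtain ⟨g, l⟩ := hs L hL.pi
      exact ⟨_, mim_cj (f := f) (mem_top g) ▸ mim_mono l⟩
    · exact mim_mpre (f := f) (hf ▸ le_top : M ≤ _) ▸ hc' _ (fun b => a (by
        rw [← mim_mpre (f := f) (hf ▸ le_top : M ≤ _), b, hf])) le_top
  · have := hf ▸ hc' D e le_rfl
    rw [← card_top]
    obtain a | a := (pcore_nml (π := σ) (H := (⊤ : Subgroup S))).normal.eq_bot_or_eq_top <;> rw [Clo, a] at this
    exacts [.inr this.compl_of_eq_bot, .inl this.pi]

end Cfsg.Agent.S4052
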