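import Cfsg.Statements.S4079
import Cfsg.Agent.H3.R2d

set_option autoImplicit false
open Cfsg

namespace Cfsg.Agent.S4079

/-- Let p be an odd prime and L a finite metacyclic p-group with no cyclic subgroup of index p, and let a be an automorphism of L of order p. Then a moves some element of order p of L if and only if p = 3 and the semidirect product L ⋊ ⟨a⟩ (of order 3·#L) has maximal class, i.e. nilpotency class m where #L = 3^m. -/
theorem result {L : Type*} [Group L] [Finite L] {p : ℕ} [Fact p.Prime]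
    (hp : p ≠ 2) (hL : IsPGroup p L) (hmc : Cfsg.IsMetacyclic L) (hnc : ∀ C : Subgroup L, IsCyclic C → C.index ≠ p)
    (a : MulAut L) (ha : orderOf a = p) (m : ℕ) (hm : Nat.card L = p ^ m) :
    (∃ x : L, orderOf x = p ∧ a x ≠ x) ↔
    (p = 3 ∧ Group.nilpotencyClass (SemidirectProduct L ↥(Subgroup.zpowers a) (Subgroup.zpowers a).subtype) = m) := by
  open Subgroup H18 H3 SemidirectProduct in
  have hp' : p.Prime := Fact.out
  have : Finite (L ⋊[(zpowers a).subtype] zpowers a) := Finite.of_equiv _ equivProd.symm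
  have cG : Nat.card (L ⋊[(zpowers a).subtype] zpowers a) = p ^ (m + 1) := by
    rw [SemidirectProduct.card, hm, Nat.card_zpowers, ha, pow_succ]
  have e := inlE (zpowers a).subtype
  have a1 : a ≠ 1 := fun e => hp'.ne_one (by rw [← ha, e, orderOf_one])
  refine Iff.trans ?_ (mc_aut_iff (s := inr ⟨a, Subgroup.mem_zpowers a⟩) hp' hp cG ((Nat.card_congr e.toEquiv).symm.trans hm)
    (metacyc_inl hmc) (fun C hC c i => ?_) (fun h => ?_) ?_ fun ⟨x, hx⟩ => ?_)
  · have k : ∀ x : L, (inl x : L ⋊[(zpowers a).subtype] zpowers a) ∈ C1(inr ⟨a, Subgroup.mem_zpowers a⟩) ↔ a x = x :=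
      fun x => by
        rw [mem_C1, eq_comm, ← mul_inv_eq_iff_eq_mul, ← map_inv, ← inl_aut, inl_inj]; rfl
    rw [ohm_le_iff]
    push Not
    constructor
    · rintro ⟨x, o, h⟩
      exact ⟨inl x, ⟨x, rfl⟩, by rw [← map_pow, ← o, pow_orderOf_eq_one, map_one], mt (k x).1 h⟩
    · rintro ⟨_, ⟨x, rfl⟩, o, h⟩
      exact ⟨x, orderOf_eq_prime (inl_injective (by rwa [map_pow, map_one])) fun e => h ((k x).2 (e ▸ map_one a)),
        mt (k x).2 h⟩
  · exact hnc (C.comap inl) (isCyclic_of_injective (inl.subgroupComap C) fun x y e =>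
      Subtype.ext (inl_injective (congrArg Subtype.val e))) ((index_comap _ _).trans i)
  · have t : ∀ x : L, x = 1 := fun x => inl_injective ((mem_bot.1 (h.le ⟨x, rfl⟩)).trans (map_one _).symm)
    exact a1 (MulEquiv.ext fun x => (t _).trans (t _).symm)
  · rw [← map_pow, ← map_one inr]; congr 1; exact Subtype.ext (ha ▸ pow_orderOf_eq_one a)
  · exact a1 (by simpa using congrArg rightHom hx.symm)

end Cfsg.Agent.S4079
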