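import Cfsg.Statements.S4085
import Mathlib.GroupTheory.Perm.Cycle.Type
import Mathlib.GroupTheory.SpecificGroups.Cyclic
import Mathlib.Data.Nat.Totient
import Mathlib.NumberTheory.Padics.PadicVal.Basic


set_option autoImplicit false
open Cfsg

namespace Cfsg.Agent.S4085

open Subgroup

section
variable {G H : Type*} [Group G] [Finite G] [Group H] [Finite H]

theorem mem_of_dvd {x c d : G} (hc : c ∈ zpowers x) (hd : d ∈ zpowers x) (h : orderOf c ∣ orderOf d) :
    c ∈ zpowers d := by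
  classical
  have := Fintype.ofFinite (zpowers x)
  have h1 := IsCyclic.card_pow_eq_one_le (α := zpowers x) (orderOf_pos d)
  have h2 : (Finset.univ.filter fun a : zpowers x => a ∈ zpowers (⟨d, hd⟩ : zpowers x)) =
      Finset.univ.filter fun a : zpowers x => a ^ orderOf d = 1 := Finset.eq_of_subset_of_card_le (fun a ha => by
    simp only [Finset.mem_filter, Finset.mem_univ, true_and] at ha ⊢
    exact orderOf_dvd_iff_pow_eq_one.1 ((orderOf_dvd_of_mem_zpowers ha).trans (by simp))) (by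
    refine h1.trans ?_
    rw [← Fintype.card_subtype, ← Nat.card_eq_fintype_card, Nat.card_zpowers, orderOf_mk])
  have h3 : (⟨c, hc⟩ : zpowers x) ∈ zpowers (⟨d, hd⟩ : zpowers x) := by
    have := Finset.ext_iff.1 h2 ⟨c, hc⟩
    simp only [Finset.mem_filter, Finset.mem_univ, true_and] at this
    exact this.2 (Subtype.ext (orderOf_dvd_iff_pow_eq_one.1 h))
  obtain ⟨k, hk⟩ := h3
  exact ⟨k, congrArg Subtype.val hk⟩

theorem ex_ord (x : G) {d : ℕ} (h : d ∣ orderOf x) : ∃ c ∈ zpowers x, orderOf c = d :=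
  ⟨x ^ (orderOf x / d), npow_mem_zpowers _ _, by
    rw [orderOf_pow_of_dvd (Nat.div_pos (Nat.le_of_dvd (orderOf_pos x) h) (Nat.pos_of_dvd_of_pos h (orderOf_pos x))).ne'
      (Nat.div_dvd_of_dvd h), Nat.div_div_self h (orderOf_pos x).ne']⟩

theorem tot_lt {f : G → H} (hf : f.Injective) {x : G} {y : H}
    (h : ∀ c ∈ zpowers x, x ∈ zpowers c → f c ∈ zpowers y ∧ f c ≠ 1) : (orderOf x).totient < orderOf y := by
  classical
  have := Fintype.ofFinite H
  have h1 : (Finset.univ.filter fun a : H => a ∈ zpowers y).card = orderOf y := by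
    rw [← Fintype.card_subtype, ← Nat.card_eq_fintype_card, Nat.card_zpowers]
  rw [← h1]
  refine lt_of_le_of_lt ?_ (Finset.card_erase_lt_of_mem (a := 1) (by simp))
  refine Finset.card_le_card_of_injOn (fun j => f (x ^ j)) (fun j hj => ?_) fun i hi j hj e => ?_
  · simp only [Finset.coe_filter, Finset.mem_range, Set.mem_ofPred_eq] at hj
    have := h _ (npow_mem_zpowers x j) (mem_zpowers_pow_iff.2 hj.2.symm)
    simpa using this
  · simp only [Finset.coe_filter, Finset.mem_range, Set.mem_ofPred_eq] at hi hj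
    exact pow_injOn_Iio_orderOf hi.1 hj.1 (hf e)

theorem dom {z : H} (h1 : z ≠ 1) (h : ∀ y, y ∈ zpowers z ∨ z ∈ zpowers y) {p q : ℕ} (hp : p.Prime) (hq : q.Prime)
    (hpq : p ≠ q) (h2 : p * q ∣ Nat.card H) : ∃ h : H, orderOf h = p * q := by
  have key : ∀ {p q : ℕ}, p.Prime → q.Prime → p ≠ q → p * q ∣ Nat.card H → p ∣ orderOf z := fun {p q} hp hq hpq h2 => by
    have := Fact.mk hp
    have := Fact.mk hq
    obtain ⟨a, ha⟩ := exists_prime_orderOf_dvd_card' (G := H) p ((dvd_mul_right _ _).trans h2)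
    obtain ⟨b, hb⟩ := exists_prime_orderOf_dvd_card' (G := H) q ((dvd_mul_left _ _).trans h2)
    rcases h a with h3 | h3
    · exact ha ▸ orderOf_dvd_of_mem_zpowers h3
    · exact ((Nat.dvd_prime hp).1 (ha ▸ orderOf_dvd_of_mem_zpowers h3)).elim (fun e => absurd (orderOf_eq_one_iff.1 e) h1)
        fun e => e ▸ dvd_rfl
  obtain ⟨c, -, hc⟩ := ex_ord z (((Nat.coprime_primes hp hq).2 hpq).mul_dvd_of_dvd_of_dvd (key hp hq hpq h2)
    (key hq hp hpq.symm (mul_comm p q ▸ h2)))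
  exact ⟨c, hc⟩

theorem aux (e : G ≃ H) (he : ∀ x y : G, (x ∈ zpowers y ∨ y ∈ zpowers x) ↔ (e x ∈ zpowers (e y) ∨ e y ∈ zpowers (e x)))
    {p q : ℕ} (hp : p.Prime) (hq : q.Prime) (hpq : p < q) {g : G} (hg : orderOf g = p * q) :
    ∃ h : H, orderOf h = p * q := by
  by_cases h1 : e 1 = 1
  swap
  · exact dom h1 (fun y => by simpa using (he (e.symm y) 1).1 (.inr (one_mem _))) hp hq hpq.ne
      (Nat.card_congr e ▸ hg ▸ orderOf_dvd_natCard g)
  obtain ⟨x₀, hx₀, h2⟩ := (Set.toFinite {x | g ∈ zpowers x}).exists_maximalFor orderOf _ ⟨g, mem_zpowers g⟩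
  obtain ⟨x, ⟨hx, hx'⟩, h3⟩ := (Set.toFinite {x | x ∈ zpowers x₀ ∧ x₀ ∈ zpowers x}).exists_maximalFor
    (fun x => orderOf (e x)) _ ⟨x₀, mem_zpowers _, mem_zpowers _⟩
  have hgx : g ∈ zpowers x := zpowers_le.2 hx' hx₀
  have hn : p * q ∣ orderOf x := hg ▸ orderOf_dvd_of_mem_zpowers hgx
  have up : ∀ {K : Type _} [Group K] [Finite K] {a b : K}, a ∈ zpowers b → orderOf b ≤ orderOf a → b ∈ zpowers a :=
    fun h h' => mem_of_dvd (mem_zpowers _) h (Nat.le_antisymm h'
      (Nat.le_of_dvd (orderOf_pos _) (orderOf_dvd_of_mem_zpowers h)) ▸ dvd_rfl)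
  have h4 : ∀ c, x ∈ zpowers c → c ∈ zpowers x := fun c hc => zpowers_le.2 (zpowers_le.2 hc hx' |> fun h => up h
    (h2 (zpowers_le.2 hc hgx) (Nat.le_of_dvd (orderOf_pos _) (orderOf_dvd_of_mem_zpowers h)))) (mem_zpowers c) |>
      fun h => zpowers_le.2 hx' h
  have hN : ∀ c, c ∈ zpowers x ↔ e c ∈ zpowers (e x) ∨ e x ∈ zpowers (e c) := fun c =>
    ⟨fun h => (he c x).1 (.inl h), fun h => ((he c x).2 h).elim id (h4 c)⟩
  have hT : ∀ c ∈ zpowers x, x ∈ zpowers c → e c ∈ zpowers (e x) := fun c hc hc' => ((hN c).1 hc).elim id fun h =>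
    mem_of_dvd (mem_zpowers _) h (dvd_of_eq (Nat.le_antisymm (h3 ⟨zpowers_le.2 hx hc, zpowers_le.2 hc' hx'⟩
      (Nat.le_of_dvd (orderOf_pos _) (orderOf_dvd_of_mem_zpowers h)))
      (Nat.le_of_dvd (orderOf_pos _) (orderOf_dvd_of_mem_zpowers h))))
  have hcop := (Nat.coprime_primes hp hq).2 hpq.ne
  have hx1 : x ≠ 1 := by
    rintro rfl
    exact hp.ne_one (Nat.dvd_one.1 ((dvd_mul_right p q).trans (by simpa using hn)))
  have h5 := tot_lt e.injective (y := e x) fun c hc hc' => ⟨hT c hc hc', fun h => hx1 (by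
    rwa [e.injective (h.trans h1.symm), zpowers_one_eq_bot, mem_bot] at hc')⟩
  obtain ⟨k, m, hm, hkm⟩ := Nat.exists_eq_pow_mul_and_not_dvd (orderOf_pos x).ne' p hp.ne_one
  have hc := ((Nat.Prime.coprime_iff_not_dvd hp).2 hm).pow_left k
  obtain ⟨u, hu, hu'⟩ := ex_ord x (d := p ^ k) ⟨m, hkm⟩
  obtain ⟨v, hv, hv'⟩ := ex_ord x (d := m) ⟨p ^ k, hkm.trans (mul_comm _ _)⟩
  have hpk : p ∣ p ^ k := ((Nat.Prime.coprime_iff_not_dvd hp).2 hm).dvd_of_dvd_mul_right
    (hkm ▸ (dvd_mul_right p q).trans hn)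
  have hqm : q ∣ m := (hcop.symm.pow_right k).dvd_of_dvd_mul_left (hkm ▸ (dvd_mul_left q p).trans hn)
  have h6 : ¬ m ∣ p ^ k := fun h => hq.ne_one (Nat.eq_one_of_dvd_coprimes hc (hqm.trans h) hqm)
  have h7 : ¬ p ^ k ∣ m := fun h => hm (hpk.trans h)
  have h8 : ∀ c ∈ zpowers x, (e c ∈ zpowers (e u) ∨ e u ∈ zpowers (e c)) → (e c ∈ zpowers (e v) ∨ e v ∈ zpowers (e c)) →
      c = 1 ∨ x ∈ zpowers c := fun c hc' a b => by
    rcases (he c u).2 a with a | a <;> rcases (he c v).2 b with b | b <;>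
      have a := orderOf_dvd_of_mem_zpowers a <;> have b := orderOf_dvd_of_mem_zpowers b <;> rw [hu'] at a <;>
      rw [hv'] at b
    · exact .inl (orderOf_eq_one_iff.1 (Nat.eq_one_of_dvd_coprimes hc a b))
    · exact absurd (b.trans a) h6
    · exact absurd (a.trans b) h7
    · exact .inr (mem_of_dvd (mem_zpowers x) hc' (hkm ▸ hc.mul_dvd_of_dvd_of_dvd a b))
  have h9 : ¬ (e u ∈ zpowers (e v) ∨ e v ∈ zpowers (e u)) := fun h => ((he u v).2 h).elim
    (fun h => h7 (hu' ▸ hv' ▸ orderOf_dvd_of_mem_zpowers h)) fun h => h6 (hu' ▸ hv' ▸ orderOf_dvd_of_mem_zpowers h)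
  rcases (hN u).1 hu with a | a <;> rcases (hN v).1 hv with b | b
  · have h10 : ∀ c ∈ zpowers x, e c ∈ zpowers (e x) := fun c hc' => ((hN c).1 hc').elim id fun h =>
      (h8 c hc' (.inr (zpowers_le.2 h a)) (.inr (zpowers_le.2 h b))).elim (fun h => by rw [h, h1]; exact one_mem _)
        (hT c hc')
    have h11 : orderOf x = orderOf (e x) := by
      rw [← Nat.card_zpowers, ← Nat.card_zpowers]
      exact Nat.card_congr (e.subtypeEquiv fun c => ⟨h10 c, fun h => (hN c).2 (.inl h)⟩)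
    obtain ⟨c, -, h12⟩ := ex_ord (e x) (h11 ▸ hn)
    exact ⟨c, h12⟩
  · exact absurd (.inl (zpowers_le.2 b a)) h9
  · exact absurd (.inr (zpowers_le.2 a b)) h9
  exfalso
  have h10 : ∀ c, e c ∈ zpowers (e x) → c = 1 ∨ c ∈ zpowers x ∧ x ∈ zpowers c := fun c h =>
    (h8 c ((hN c).2 (.inl h)) (.inl (zpowers_le.2 a h)) (.inl (zpowers_le.2 b h))).imp_right
      fun h' => ⟨(hN c).2 (.inl h), h'⟩
  have h11 : orderOf (e x) ≤ 2 * (orderOf (e x)).totient := by
    have hy : orderOf (e x) ≠ 1 := fun h => hx1 (e.injective ((orderOf_eq_one_iff.1 h).trans h1.symm))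
    have hl := Nat.minFac_prime hy
    rw [Nat.eq_prime_pow_of_unique_prime_dvd (orderOf_pos _).ne' (p := (orderOf (e x)).minFac) fun {d} hd h => ?_]
    · generalize (orderOf (e x)).minFac = l at hl
      generalize (orderOf (e x)).primeFactorsList.length = j
      rcases j with _ | j
      · simp
      · rw [Nat.totient_prime_pow_succ hl, pow_succ, mul_left_comm]
        exact Nat.mul_le_mul_left _ (by have := hl.two_le; omega)
    · obtain ⟨s, s1, s2⟩ := ex_ord (e x) h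
      obtain ⟨t, t1, t2⟩ := ex_ord (e x) (Nat.minFac_dvd _)
      obtain ⟨s, rfl⟩ := e.surjective s
      obtain ⟨t, rfl⟩ := e.surjective t
      have s3 := (h10 s s1).resolve_left (by rintro rfl; rw [h1, orderOf_one] at s2; exact hd.ne_one s2.symm)
      have t3 := (h10 t t1).resolve_left (by rintro rfl; rw [h1, orderOf_one] at t2; exact hl.ne_one t2.symm)
      rcases (he s t).1 (.inl (zpowers_le.2 t3.2 s3.1)) with h | h <;> have h := orderOf_dvd_of_mem_zpowers h <;>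
        rw [s2, t2] at h
      · exact (Nat.prime_dvd_prime_iff_eq hd hl).1 h
      · exact ((Nat.prime_dvd_prime_iff_eq hl hd).1 h).symm
  obtain ⟨z, z1, z2⟩ := ex_ord x ((dvd_mul_right p q).trans hn)
  obtain ⟨b, b1, b2⟩ := ex_ord x ((dvd_mul_left q p).trans hn)
  have hz1 : z ≠ 1 := by rintro rfl; exact hp.ne_one (by simpa using z2.symm)
  have hpq' : ¬ p * q ∣ p := fun h => hq.ne_one (Nat.dvd_one.1 (Nat.dvd_of_mul_dvd_mul_left hp.pos (by simpa using h)))
  have h12 : e x ∈ zpowers (e z) := ((hN z).1 z1).resolve_left fun h => (h10 z h).elim hz1 fun h =>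
    hpq' (hn.trans (z2 ▸ orderOf_dvd_of_mem_zpowers h.2))
  have h13 := tot_lt e.symm.injective (x := e z) (y := z) fun c c1 c2 => by
    obtain ⟨c, rfl⟩ := e.surjective c
    have c3 : ∀ w, (w ∈ zpowers c ∨ c ∈ zpowers w) ↔ (w ∈ zpowers z ∨ z ∈ zpowers w) := fun w => by
      rw [he, he, le_antisymm (zpowers_le.2 c1) (zpowers_le.2 c2)]
      exact or_congr_right ⟨fun h => zpowers_le.2 h c2, fun h => zpowers_le.2 h c1⟩
    have c4 : c ∈ zpowers x := ((c3 x).2 (.inr z1)).elim (h4 c) id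
    have c5 : ¬ (b ∈ zpowers c ∨ c ∈ zpowers b) := fun h => ((c3 b).1 h).elim
      (fun h => hpq.ne' ((Nat.prime_dvd_prime_iff_eq hq hp).1 (z2 ▸ b2 ▸ orderOf_dvd_of_mem_zpowers h)))
      fun h => hpq.ne ((Nat.prime_dvd_prime_iff_eq hp hq).1 (z2 ▸ b2 ▸ orderOf_dvd_of_mem_zpowers h))
    rw [e.symm_apply_apply]
    refine ⟨((c3 z).2 (.inl (mem_zpowers z))).elim (fun h => ?_) id, fun h => c5 (.inr (h ▸ one_mem _))⟩
    rcases (c3 g).2 (.inr (mem_of_dvd z1 hgx (by rw [z2, hg]; exact dvd_mul_right p q))) with h' | h'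
    · exact absurd (.inl (zpowers_le.2 h' (mem_of_dvd b1 hgx (by rw [b2, hg]; exact dvd_mul_left q p)))) c5
    · have h' := orderOf_dvd_of_mem_zpowers h'
      rw [hg] at h'
      refine mem_of_dvd c4 z1 (z2 ▸ Nat.Coprime.dvd_of_dvd_mul_right (Nat.Coprime.symm ((Nat.Prime.coprime_iff_not_dvd hq).2
        fun h'' => c5 (.inl (mem_of_dvd b1 c4 (b2 ▸ h''))))) h')
  have h14 := Nat.le_of_dvd (Nat.totient_pos.2 (orderOf_pos _)) (Nat.totient_dvd_of_dvd (orderOf_dvd_of_mem_zpowers h12))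
  have h15 := Nat.le_of_dvd (Nat.totient_pos.2 (orderOf_pos _)) (Nat.totient_dvd_of_dvd hn)
  rw [Nat.totient_mul hcop, Nat.totient_prime hp, Nat.totient_prime hq] at h15
  have h16 : (p - 1) * 2 ≤ (p - 1) * (q - 1) := Nat.mul_le_mul_left _ (by have := hp.two_le; omega)
  omega

end

/-- Let G and H be finite groups whose power graphs are isomorphic: there is a bijection e : G → H such that, for all x, y, one of x, y is a power of the other exactly when one of e(x), e(y) is a power of the other. Then G and H have the same prime graph: for distinct primes p, q, G has an element of order pq if and only if H does. -/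
theorem result {G H : Type*} [Group G] [Finite G] [Group H] [Finite H] (e : G ≃ H)
    (he : ∀ x y : G, (x ∈ Subgroup.zpowers y ∨ y ∈ Subgroup.zpowers x) ↔
      (e x ∈ Subgroup.zpowers (e y) ∨ e y ∈ Subgroup.zpowers (e x)))
    {p q : ℕ} (hp : p.Prime) (hq : q.Prime) (hpq : p ≠ q) :
    (∃ g : G, orderOf g = p * q) ↔ (∃ h : H, orderOf h = p * q) := by
  have he' : ∀ x y : H, (x ∈ zpowers y ∨ y ∈ zpowers x) ↔ (e.symm x ∈ zpowers (e.symm y) ∨ e.symm y ∈ zpowers (e.symm x)) :=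
    fun x y => by rw [he, e.apply_symm_apply, e.apply_symm_apply]
  rcases lt_or_gt_of_ne hpq with h | h
  · exact ⟨fun ⟨_, hg⟩ => aux e he hp hq h hg, fun ⟨_, hg⟩ => aux e.symm he' hp hq h hg⟩
  · rw [mul_comm]
    exact ⟨fun ⟨_, hg⟩ => aux e he hq hp h hg, fun ⟨_, hg⟩ => aux e.symm he' hq hp h hg⟩

end Cfsg.Agent.S4085
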