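import Cfsg.Statements.S4082
import Cfsg.Agent.H10.DicksonCount
import Cfsg.Agent.S4085

set_option autoImplicit false
open Cfsg

namespace Cfsg.Agent.S4082

open Subgroup
open scoped Pointwise commutatorElement

section
variable {G : Type*} [Group G] [Finite G] {p : ℕ} [Fact p.Prime]

theorem sylR (A : Subgroup G) [A.Normal] (hA : IsPGroup p A) (x : G) (h : A ⊔ zpowers x = ⊤) :
    (∀ S : Sylow p G, (S : Subgroup G).Normal) ∧
      ∀ (S : Sylow p G) [(S : Subgroup G).Normal], IsCyclic (G ⧸ (S : Subgroup G)) := by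
  have h1 : ∀ (B : Subgroup G) [B.Normal], A ≤ B → IsCyclic (G ⧸ B) := fun B _ hB =>
    ⟨⟨(x : G ⧸ B), fun y => by
      obtain ⟨y, rfl⟩ := QuotientGroup.mk_surjective y
      obtain ⟨a, ha, _, ⟨k, rfl⟩, rfl⟩ := mem_sup_of_normal_left.1 (h ▸ mem_top y)
      exact ⟨k, by simp [(QuotientGroup.eq_one_iff a).2 (hB ha)]⟩⟩⟩
  refine ⟨fun S => ⟨fun s hs g => ?_⟩, fun S _ => h1 _ (hA.le_sylow_of_normal S)⟩
  have := h1 A le_rfl
  have h2 : g * s * g⁻¹ * s⁻¹ ∈ A := (QuotientGroup.eq_one_iff _).1 (by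
    simp [(IsCyclic.isMulCommutative.is_comm.comm (g : G ⧸ A) s :)])
  simpa using mul_mem (hA.le_sylow_of_normal S h2) hs

theorem dih_inv {n : ℕ} (e : G ≃* DihedralGroup n) {a x : G} (ha : Odd (orderOf a)) (h : x * a ≠ a * x) : x * x = 1 := by
  refine e.injective ?_
  rw [← e.orderOf_eq] at ha
  have h' : e x * e a ≠ e a * e x := fun h' => h (e.injective (by simpa using h'))
  rw [map_mul, map_one]
  generalize e x = x, e a = a at ha h' ⊢
  rcases x with i | i
  · rcases a with j | j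
    · exact absurd (by simp [add_comm]) h'
    · exact absurd ha (by simp)
  · exact DihedralGroup.sr_mul_self i

theorem cyc (S : Sylow p G) [(S : Subgroup G).Normal] [IsCyclic S] [IsCyclic (G ⧸ (S : Subgroup G))]
    (h : (S : Subgroup G) ≤ center G) : IsCyclic G := by
  letI := commGroupOfCyclicCenterQuotient (QuotientGroup.mk' (S : Subgroup G)) (by rwa [QuotientGroup.ker_mk'])
  refine IsCyclic.of_exponent_eq_card (Nat.dvd_antisymm Group.exponent_dvd_nat_card ?_)
  rw [← (S : Subgroup G).card_mul_index]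
  refine S.card_coprime_index.mul_dvd_of_dvd_of_dvd ?_ ?_
  · rw [← IsCyclic.exponent_eq_card]
    exact Monoid.exponent_dvd_of_monoidHom _ (S : Subgroup G).subtype_injective
  · rw [index, ← IsCyclic.exponent_eq_card]
    exact MonoidHom.exponent_dvd (QuotientGroup.mk'_surjective _)

theorem cm {A : Subgroup G} [IsCyclic A] {a b : G} (ha : a ∈ A) (hb : b ∈ A) : a * b = b * a :=
  congrArg Subtype.val (IsCyclic.isMulCommutative.is_comm.comm (⟨a, ha⟩ : A) ⟨b, hb⟩)

end

/-- Let p be an odd prime and G a finite group with Sylow p-subgroup P. Say that G has restricted p-by-cyclic subgroups when every subgroup H of G whose Sylow p-subgroup is normal in H with cyclic quotient is itself cyclic or dihedral of order 2pⁿ for some n. Then G has restricted p-by-cyclic subgroups if and only if P is cyclic and one of the following holds: (1) N_G(P) = C_G(P); or (2) N_G(P)/C_G(P) has order 2 and, for the subgroup Q of order p of P, the centralizer C_G(Q) is abelian and every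 element of N_G(Q) outside C_G(Q) is an involution inverting every element of C_G(Q). -/
theorem result {G : Type*} [Group G] [Finite G] {p : ℕ}
    [Fact p.Prime] (hp : p ≠ 2) (P : Sylow p G) :
    (∀ H : Subgroup G, (∀ S : Sylow p ↥H, (S : Subgroup ↥H).Normal) →
        (∀ (S : Sylow p ↥H) [(S : Subgroup ↥H).Normal], IsCyclic (↥H ⧸ (S : Subgroup ↥H))) →
        IsCyclic H ∨ (∃ n : ℕ, Nonempty (H ≃* DihedralGroup (p ^ n)))) ↔
    (IsCyclic P ∧
      (Subgroup.normalizer ((P : Subgroup G) : Set G) = Subgroup.centralizer ((P : Subgroup G) : Set G) ∨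
       ((Subgroup.centralizer ((P : Subgroup G) : Set G)).relIndex (Subgroup.normalizer ((P : Subgroup G) : Set G)) = 2 ∧
        ∀ Q : Subgroup G, Q ≤ P → Nat.card Q = p →
          IsMulCommutative ↥(Subgroup.centralizer (Q : Set G)) ∧
          ∀ x : G, x ∈ Subgroup.normalizer (Q : Set G) → x ∉ Subgroup.centralizer (Q : Set G) →
            orderOf x = 2 ∧ ∀ c : G, c ∈ Subgroup.centralizer (Q : Set G) → x * c * x⁻¹ = c⁻¹))) := by
  have hp' : p.Prime := Fact.out
  have hodd : ∀ {A : Subgroup G}, IsPGroup p A → ∀ a ∈ A, Odd (orderOf a) := fun hA a ha => by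
    obtain ⟨k, hk⟩ := hA.exists_orderOf_eq_pow ⟨a, ha⟩
    rw [orderOf_mk] at hk
    exact hk ▸ (hp'.odd_of_ne_two hp).pow
  constructor
  · intro H
    have key : ∀ A : Subgroup G, IsPGroup p A → ∀ x ∈ normalizer (A : Set G),
        IsCyclic ↥(A ⊔ zpowers x) ∨ ∃ n : ℕ, Nonempty (↥(A ⊔ zpowers x) ≃* DihedralGroup (p ^ n)) := fun A hA x hx => by
      have := (normal_subgroupOf_iff_le_normalizer (le_sup_left : A ≤ A ⊔ zpowers x)).2
        (sup_le le_normalizer (zpowers_le.2 hx))
      obtain ⟨h1, h2⟩ := sylR (A.subgroupOf (A ⊔ zpowers x)) hA.comap_subtype ⟨x, mem_sup_right (mem_zpowers x)⟩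
        (map_injective (subtype_injective _) (by
          rw [Subgroup.map_sup, subgroupOf_map_subtype, MonoidHom.map_zpowers, inf_eq_left.2 le_sup_left, ← MonoidHom.range_eq_map,
            range_subtype]; rfl))
      exact H _ h1 h2
    have inv : ∀ A : Subgroup G, IsPGroup p A → ∀ x ∈ normalizer (A : Set G), x ∉ centralizer (A : Set G) → x * x = 1 :=
      fun A hA x hx h => by
        obtain ⟨a, ha, h⟩ : ∃ a ∈ A, a * x ≠ x * a := by simpa [mem_centralizer_iff] using h
        rcases key A hA x hx with h1 | ⟨n, ⟨e⟩⟩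
        · exact absurd (cm (mem_sup_left ha) (mem_sup_right (mem_zpowers x))) h
        · exact congrArg Subtype.val (dih_inv e (a := ⟨a, mem_sup_left ha⟩) (x := ⟨x, mem_sup_right (mem_zpowers x)⟩)
            (by rw [orderOf_mk]; exact hodd hA a ha) fun e => h (congrArg Subtype.val e).symm)
    have inv' : ∀ A : Subgroup G, IsPGroup p A → ∀ x ∈ normalizer (A : Set G), x ∉ centralizer (A : Set G) →
        ∀ c ∈ centralizer (A : Set G), x * c * x⁻¹ = c⁻¹ := fun A hA x hx h c hc => by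
      have := inv A hA (x * c) (mul_mem hx (centralizer_le_normalizer _ hc)) fun h' => h ((mul_mem_cancel_right hc).1 h')
      rw [inv_eq_of_mul_eq_one_right (inv A hA x hx h), eq_inv_iff_mul_eq_one, ← this]; group
    have hP : IsCyclic P := by
      have := key P P.isPGroup' 1 (one_mem _)
      rw [zpowers_one_eq_bot, sup_bot_eq] at this
      refine this.elim id fun ⟨n, ⟨e⟩⟩ => absurd (hodd P.isPGroup' _ (e.symm (.sr 0)).2) ?_
      rw [orderOf_coe, e.symm.orderOf_eq]; simp
    have hc : (P : Subgroup G) ≤ centralizer (P : Set G) := fun a ha b hb => cm hb ha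
    refine ⟨hP, or_iff_not_imp_left.2 fun hne => ?_⟩
    obtain ⟨x, hx, hx'⟩ := SetLike.exists_of_lt (lt_of_le_of_ne (centralizer_le_normalizer _) (Ne.symm hne))
    have h1 := fun a ha => inv' _ P.isPGroup' x hx hx' a (hc ha)
    refine ⟨relIndex_eq_two_iff.2 ⟨x, hx, fun b hb => ?_⟩, fun Q hQ hQp => ?_⟩
    · by_cases h2 : b ∈ centralizer ((P : Subgroup G) : Set G)
      · exact .inr ⟨h2, fun h => hx' ((mul_mem_cancel_left h2).1 h)⟩
      · refine .inl ⟨fun a ha => ?_, h2⟩
        have h3 := inv' _ P.isPGroup' b hb h2 a⁻¹ (hc (inv_mem ha))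
        rw [inv_inv, ← h1 a ha] at h3
        nth_rewrite 1 [← h3]; group
    · have hQ' : IsPGroup p Q := P.isPGroup'.to_le hQ
      have h2 : x ∉ centralizer (Q : Set G) := fun h => by
        obtain ⟨⟨a, ha⟩, h3⟩ := ne_bot_iff_exists_ne_one.1 (show Q ≠ ⊥ by rintro rfl; exact hp'.ne_one (by simpa using hQp.symm))
        have h4 := h1 a (hQ ha)
        rw [← h a ha, mul_inv_cancel_right, eq_inv_iff_mul_eq_one, ← pow_two] at h4
        have h5 := Nat.dvd_gcd (orderOf_dvd_of_pow_eq_one h4) (dvd_refl (orderOf a))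
        rw [(Nat.coprime_two_left.2 (hodd hQ' a ha)).gcd_eq_one, Nat.dvd_one, orderOf_eq_one_iff] at h5
        exact h3 (Subtype.ext h5)
      have h3 := inv' Q hQ' x (mem_normalizer_fintype fun a ha => (h1 a (hQ ha)).symm ▸ inv_mem ha) h2
      refine ⟨⟨⟨fun a b => Subtype.ext (inv_injective ?_)⟩⟩, fun y hy hy' => ⟨orderOf_eq_prime
        (by rw [pow_two]; exact inv Q hQ' y hy hy') fun e => hy' (e ▸ one_mem _), inv' Q hQ' y hy hy'⟩⟩
      rw [← h3 _ (a * b).2, coe_mul, coe_mul, mul_inv_rev, ← h3 _ a.2, ← h3 _ b.2]; group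
  rintro ⟨hP, h⟩ H h1 h2
  obtain ⟨S⟩ : Nonempty (Sylow p H) := inferInstance
  have := h1 S
  have := h2 S
  have hcj : ∀ A : Subgroup G, IsPGroup p A → ∃ g : G, ∀ a ∈ A, g * a * g⁻¹ ∈ P := fun A hA => by
    obtain ⟨Q, hQ⟩ := hA.exists_le_sylow
    obtain ⟨g, rfl⟩ := MulAction.exists_smul_eq G Q P
    exact ⟨g, fun a ha => smul_mem_pointwise_smul a (MulAut.conj g) _ (hQ ha)⟩
  have hS := S.isPGroup'.map H.subtype
  obtain ⟨g, hg⟩ := hcj _ hS
  have : IsCyclic S := isCyclic_of_injective (((MulAut.conj g).toMonoidHom.comp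
    (H.subtype.comp (S : Subgroup H).subtype)).codRestrict (P : Subgroup G) fun a => hg _ ⟨a, a.2, rfl⟩)
    fun a b e => Subtype.ext (Subtype.ext ((MulAut.conj g).injective (congrArg Subtype.val e)))
  by_cases hc : (S : Subgroup H) ≤ center H
  · exact .inl (cyc S hc)
  rcases h with h | ⟨-, h⟩
  · refine absurd (fun s hs => mem_center_iff.2 fun y => commutatorElement_eq_one_iff_mul_comm.1 (Subtype.ext ?_)) hc
    refine disjoint_def.1 (MonoidHom.ker_transferSylow_disjoint P h.le _ hS) ?_ ⟨⁅y, s⁆, ?_, rfl⟩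
    · rw [MonoidHom.mem_ker]
      exact (map_commutatorElement ((MonoidHom.transferSylow P h.le).comp H.subtype) y s).trans
        (commutatorElement_eq_one_iff_mul_comm.2 (IsCyclic.isMulCommutative.is_comm.comm _ _))
    · exact mul_mem (Normal.conj_mem ‹_› s hs y) (inv_mem hs)
  obtain ⟨n, hn⟩ := S.isPGroup'.exists_card_eq
  obtain ⟨⟨a, ha⟩, ha'⟩ := exists_prime_orderOf_dvd_card' (G := S) p (hn ▸ dvd_pow_self p (by
    rintro rfl
    exact hc (card_eq_one.1 hn ▸ bot_le)))
  rw [orderOf_mk] at ha'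
  have h3 := h (zpowers (g * a * g⁻¹)) (zpowers_le.2 (hg _ ⟨a, ha, rfl⟩)) (by
    rw [Nat.card_zpowers, ← MulAut.conj_apply, MulEquiv.orderOf_eq, orderOf_coe, ha'])
  have h4 : ∀ y : H, g * y * g⁻¹ ∈ centralizer (zpowers (g * a * g⁻¹) : Set G) ↔ a * y = y * a := fun y => by
    rw [zpowers_eq_closure, centralizer_closure, mem_centralizer_singleton_iff, conj_mul, conj_mul, mul_left_inj,
      mul_right_inj, eq_comm]
    exact ⟨fun e => Subtype.ext e, fun e => congrArg Subtype.val e⟩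
  have h5 : ∀ y : H, a * y ≠ y * a → y * y = 1 := fun y hy => by
    obtain ⟨s, hs⟩ := (Subgroup.isCyclic_iff_exists_zpowers_eq_top (S : Subgroup H)).1 ‹IsCyclic S›
    have h6 : y * a * y⁻¹ ∈ zpowers a := S4085.mem_of_dvd (hs.ge (Normal.conj_mem ‹_› a ha y)) (hs.ge ha)
      (by rw [← MulAut.conj_apply, MulEquiv.orderOf_eq])
    have h7 := (h3.2 (g * y * g⁻¹) (mem_normalizer_fintype ?_) (mt (h4 y).1 hy)).1
    · rw [← MulAut.conj_apply, MulEquiv.orderOf_eq, orderOf_coe] at h7
      rw [← pow_two, ← h7, pow_orderOf_eq_one]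
    · rintro _ ⟨k, rfl⟩
      obtain ⟨j, hj⟩ := h6
      refine ⟨j * k, ?_⟩
      have hj' : (a : G) ^ j = y * a * (y : G)⁻¹ := congrArg Subtype.val hj
      simp only [zpow_mul, conj_zpow, hj']
      group
  obtain ⟨y, hy⟩ := IsCyclic.exists_generator (α := H ⧸ (S : Subgroup H))
  obtain ⟨y, rfl⟩ := QuotientGroup.mk_surjective y
  have h6 : ∀ z : H, ∃ k : ℤ, ∃ s ∈ (S : Subgroup H), z = y ^ k * s := fun z => by
    obtain ⟨k, hk⟩ := hy z
    exact ⟨k, (y ^ k)⁻¹ * z, QuotientGroup.eq.1 hk, by group⟩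
  have h7 : a * y ≠ y * a := fun e => hc fun s hs => mem_center_iff.2 fun z => by
    have h8 : ∀ z : H, a * z = z * a := fun z => by
      obtain ⟨k, s, hs, rfl⟩ := h6 z
      exact (Commute.zpow_right e k).mul_right (cm ha hs)
    have := congrArg Subtype.val (h3.1.is_comm.comm ⟨_, (h4 z).2 (h8 z)⟩ ⟨_, (h4 s).2 (h8 s)⟩)
    simp only [coe_mul, conj_mul, mul_left_inj, mul_right_inj] at this
    exact Subtype.ext this
  have h8 : ∀ z : H, z ∉ (S : Subgroup H) → z * y ∈ (S : Subgroup H) := fun z hz => by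
    obtain ⟨k, s, hs, rfl⟩ := h6 z
    have h9 : y ^ (2 : ℤ) = 1 := by rw [zpow_two, h5 y h7]
    rcases Int.even_or_odd' k with ⟨j, rfl | rfl⟩
    · exact absurd (by simpa [zpow_mul, h9] using hs) hz
    · have := Normal.conj_mem ‹_› s hs y
      rw [inv_eq_of_mul_eq_one_right (h5 y h7)] at this
      simpa [zpow_add, zpow_mul, h9] using this
  have h9 : y ∉ (S : Subgroup H) := fun h => h7 (cm ha h)
  refine .inr ⟨n, hn ▸ H10.equiv_dihedral_of_index_two (S : Subgroup H) (index_eq_two_iff.2 ⟨y, fun z => ?_⟩)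
    fun z hz => h5 z fun e => h7 ?_⟩
  · by_cases hz : z ∈ (S : Subgroup H)
    · exact .inr ⟨hz, fun h => h9 ((mul_mem_cancel_left hz).1 h)⟩
    · exact .inl ⟨h8 z hz, hz⟩
  · have := cm ha (h8 z hz)
    rwa [← mul_assoc, e, mul_assoc, mul_assoc, mul_right_inj] at this

end Cfsg.Agent.S4082
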