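import Cfsg.Statements.S4103
import Cfsg.Agent.H9.MSC
import Cfsg.Agent.H26.NEnd

set_option autoImplicit false
open Cfsg

namespace Cfsg.Agent.S4103

/-- A finite group G is solvable if and only if for every x ∈ G of odd prime-power order and every y ∈ G of 2-power order the subgroup generated by x and yxy⁻¹ is solvable. -/
theorem result {G : Type*} [Group G] [Finite G] :
    Group.IsSolvable G ↔ ∀ x y : G, (∃ p k : ℕ, p.Prime ∧ p ≠ 2 ∧ orderOf x = p ^ k) → (∃ k : ℕ, orderOf y = 2 ^ k) →
      Group.IsSolvable (Subgroup.closure ({x, y * x * y⁻¹} : Set G)) := by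
  exact ⟨fun _ _ _ _ _ => inferInstance, H9.MSi.odd_two⟩

end Cfsg.Agent.S4103
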