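import Cfsg.Statements.S4105
import Cfsg.Agent.H13.PiCl

set_option autoImplicit false
open Cfsg

namespace Cfsg.Agent.S4105

/-- Let G be a finite group, π a set of primes with least member p, m the π-part of the order of G and k the number of conjugacy classes of G consisting of π-elements. If k > m·(p² + p − 1)/p³, then G has an abelian Hall π-subgroup (an abelian subgroup of order m). -/
theorem result {G : Type*} [Group G] [Finite G]
    (π : Set ℕ) (hπ : ∀ q ∈ π, q.Prime) (p : ℕ) (hp : p ∈ π) (hmin : ∀ q ∈ π, p ≤ q)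
    (m : ℕ) (hm : m ∣ Nat.card G) (hmπ : ∀ q : ℕ, q.Prime → q ∣ m → q ∈ π)
    (hm' : ∀ q ∈ π, ¬ q ∣ Nat.card G / m)
    (k : ℕ) (hk : k = Nat.card {C : ConjClasses G // ∀ q : ℕ, q.Prime → (∃ g : G, ConjClasses.mk g = C ∧ q ∣ orderOf g) → q ∈ π})
    (hmany : m * (p ^ 2 + p - 1) < p ^ 3 * k) :
    ∃ H : Subgroup G, Nat.card H = m ∧ IsMulCommutative H := by
  rw [H22.card_pi_classes] at hk
  change k = H21.kpi π G at hk
  have h2 := (hπ p hp).two_le
  obtain ⟨s, rfl⟩ := Nat.exists_eq_add_of_le' h2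
  rw [show (s + 2) ^ 2 + (s + 2) - 1 = (s + 2) ^ 2 + (s + 1) by omega] at hmany
  obtain ⟨H, h1, -, h3, h4⟩ := H13.nil_hall_of_kpi hπ h2 hmin hm hmπ hm' (by
    rw [← hk]
    by_contra! c
    nlinarith [Nat.mul_le_mul_left ((s + 2) ^ 2) c])
  refine ⟨H, h1, ?_⟩
  rw [← hk] at h4
  have h5 := H13.classes_ineq (G := H) (p := s + 2) fun r hr hd => hmin r (h3 r hr hd)
  have h6 := (commutator H).card_mul_index
  by_contra c
  have h7 : Nat.card (commutator H) ≠ 1 := fun e => c ⟨⟨fun a b => by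
    rw [← commutatorElement_eq_one_iff_mul_comm, ← Subgroup.mem_bot, ← Subgroup.card_eq_one.1 e]
    exact Subgroup.commutator_mem_commutator (Subgroup.mem_top a) (Subgroup.mem_top b)⟩⟩
  have h8 := (hmin _ (h3 _ (Nat.minFac_prime h7) ((Nat.minFac_dvd _).trans (Subgroup.card_subgroup_dvd_card _)))).trans
    (Nat.minFac_le Nat.card_pos)
  rw [h1] at h5 h6
  generalize (commutator H).index = l at *
  have e1 : (s + 2) * l ≤ m := h6 ▸ Nat.mul_le_mul_right _ h8
  have e2 := Nat.mul_le_mul_left (s + 2) h5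
  have e3 := Nat.mul_le_mul_left ((s + 2) ^ 3) h4
  have e4 := Nat.mul_le_mul_left ((s + 1) * (s + 3)) e1
  nlinarith

end Cfsg.Agent.S4105
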