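import Cfsg.Statements.S4112
import Cfsg.Agent.H22.Misc2
import Cfsg.Agent.S0065

set_option autoImplicit false
open Cfsg

namespace Cfsg.Agent.S4112

/-- Let G be a finite group and M ≤ N non-trivial proper normal subgroups such that for every g outside N the conjugacy class of g is a union of cosets of M (equivalently gm is conjugate to g for every m ∈ M). Then (1) and (2) below are equivalent, and they imply (3): (1) every g outside N acts fixed-point-freely on M, that is C_G(x) ≤ N for every x ∈ M, x ≠ 1; (2) the index of N in G is coprime to the order of M; (3) there is a subgroup H of G with HN = G and H ∩ M = 1. -/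
theorem result {G : Type*} [Group G] [Finite G] (N M : Subgroup G) [N.Normal] [M.Normal] (hMN : M ≤ N) (hM1 : M ≠ ⊥) (hN2 : N ≠ ⊤)
    (hcam : ∀ g : G, g ∉ N → ∀ m ∈ M, ∃ x : G, x * g * x⁻¹ = g * m) :
    ((∀ x ∈ M, x ≠ 1 → Subgroup.centralizer ({x} : Set G) ≤ N) ↔ N.index.Coprime (Nat.card M)) ∧
    ((∀ x ∈ M, x ≠ 1 → Subgroup.centralizer ({x} : Set G) ≤ N) → ∃ H : Subgroup G, H ⊔ N = ⊤ ∧ H ⊓ M = ⊥) := by
  have h12 : (∀ x ∈ M, x ≠ 1 → Subgroup.centralizer ({x} : Set G) ≤ N) →
      N.index.Coprime (Nat.card M) := by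
    intro h
    apply Nat.coprime_of_dvd
    intro p hp h1 h2
    have := Fact.mk hp
    obtain ⟨P⟩ : Nonempty (Sylow p G) := inferInstance
    have hS := (H2.sylIn_top P).inf_of_normal (N := M) le_top Subgroup.le_normalizer_of_normal
    have hne : ((P : Subgroup G) ⊓ M).subgroupOf (P : Subgroup G) ≠ ⊥ := by
      rw [Ne, Subgroup.subgroupOf_eq_bot, disjoint_iff, inf_eq_left.mpr inf_le_left, hS.eq_bot_iff]
      exact not_not.mpr h2
    rw [Subgroup.inf_subgroupOf_left] at hne
    have := P.isPGroup'.isNilpotent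
    obtain ⟨x, hx, hx1⟩ := (Subgroup.bot_or_exists_ne_one _).resolve_left
      (Cfsg.Agent.S0065.result (M.subgroupOf (P : Subgroup G)) hne)
    obtain ⟨hxM, hxZ⟩ := Subgroup.mem_inf.mp hx
    refine H22.not_dvd_index_of_sylow_le (P := P) (fun a ha => h x hxM
      (fun e => hx1 (Subtype.ext e)) ?_) h1
    exact Subgroup.mem_centralizer_singleton_iff.mpr
      (congrArg Subtype.val (Subgroup.mem_center_iff.mp hxZ ⟨a, ha⟩))
  refine ⟨⟨h12, fun hc x hx hx1 g hg => ?_⟩, fun h => ?_⟩
  · obtain ⟨a, b, ha, hb, rfl, -, hao, hbo⟩ := H22.exists_pi_decomp_elt {q | q ∣ Nat.card M} g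
    have haN : a ∈ N := by
      rw [← Subgroup.zpowers_le]
      apply H1.le_of_coprime_index
      rw [Nat.card_zpowers]
      exact Nat.coprime_of_dvd fun q hq h1 h2 =>
        hq.one_lt.ne' (Nat.eq_one_of_dvd_coprimes hc h2 (hao q hq h1))
    refine N.mul_mem haN ?_
    by_contra hbN
    obtain ⟨c, hc1⟩ := hcam b hbN x hx
    have h1 := H22.orderOf_conj c b
    have hcomm : Commute b x :=
      Subgroup.mem_centralizer_singleton_iff.mp (Subgroup.zpowers_le.mpr hg hb)
    rw [hc1, hcomm.orderOf_mul_eq_mul_orderOf_of_coprime (Nat.coprime_of_dvd fun q hq h1 h2 =>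
      hbo q hq h1 (h2.trans (Subgroup.orderOf_dvd_natCard _ hx))), mul_right_eq_self₀] at h1
    exact hx1 (orderOf_eq_one_iff.mp (h1.resolve_right (orderOf_pos _).ne'))
  · obtain ⟨H, h1, h2⟩ := H22.exists_supplement_primes N
    refine ⟨H, h1, Subgroup.inf_eq_bot_of_coprime (Nat.coprime_of_dvd fun q hq h3 h4 => ?_)⟩
    exact hq.one_lt.ne' (Nat.eq_one_of_dvd_coprimes (h12 h) (h2 q hq h3) h4)

end Cfsg.Agent.S4112
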