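import Cfsg.Statements.S4113


set_option autoImplicit false
open Cfsg

namespace Cfsg.Agent.S4113


/-- Let G be a finite group, M ≤ N non-trivial proper normal subgroups, and H a subgroup with HM = G and H ∩ M = 1. Then every element of G outside N acts fixed-point-freely on M (C_G(x) ≤ N for every x ∈ M, x ≠ 1) if and only if H ∩ gHg⁻¹ ≤ H ∩ N for every g outside H, with H proper and non-trivial and H ∩ N proper in H. -/
theorem result {G : Type*} [Group G] [Finite G] (N M : Subgroup G) [N.Normal] [M.Normal] (hMN : M ≤ N) (hM1 : M ≠ ⊥) (hN2 : N ≠ ⊤)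
    (H : Subgroup G) (hHM : H ⊔ M = ⊤) (hHM' : H ⊓ M = ⊥) :
    (∀ x ∈ M, x ≠ 1 → Subgroup.centralizer ({x} : Set G) ≤ N) ↔
      (H ≠ ⊥ ∧ H ≠ ⊤ ∧ H ⊓ N < H ∧ ∀ g : G, g ∉ H → H ⊓ H.map (MulAut.conj g).toMonoidHom ≤ N) := by
  have z : ∀ x ∈ H, x ∈ M → x = 1 := fun x h1 h2 => hHM'.le ⟨h1, h2⟩
  have d : ∀ g : G, ∃ m ∈ M, ∃ h ∈ H, m * h = g := fun g =>
    Subgroup.mem_sup_of_normal_left.1 (((sup_comm M H).trans hHM).ge (Subgroup.mem_top g))
  refine ⟨fun h => ⟨fun e => hN2 (eq_top_iff.2 (hHM.ge.trans (sup_le (e.le.trans bot_le) hMN))),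
    fun e => hM1 (by rwa [e, top_inf_eq] at hHM'), inf_lt_left.2 fun e => hN2 (eq_top_iff.2
      (hHM.ge.trans (sup_le e hMN))), fun g hg => ?_⟩, fun ⟨_, _, _, h⟩ x hx x1 c hc => by_contra fun hn => ?_⟩
  · rintro _ ⟨h1, y, hy, rfl⟩
    obtain ⟨m, hm, k, hk, rfl⟩ := d g
    have h2 := mul_mem (mul_mem hk hy) (inv_mem hk)
    have h3 := z _ (mul_mem h1 (inv_mem h2)) (by
      simpa [mul_assoc] using mul_mem hm (Subgroup.Normal.conj_mem inferInstance _ (inv_mem hm) (k * y * k⁻¹)))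
    refine h m hm (fun e => hg (by simpa [e] using hk)) (Subgroup.mem_centralizer_singleton_iff.2 ?_)
    have h4 := mul_inv_eq_one.1 h3
    rw [← mul_left_inj m⁻¹, mul_inv_cancel_right, h4]
    nth_rewrite 1 [← h4]
    simp [mul_assoc]
  obtain ⟨m, hm, k, hk, rfl⟩ := d c
  have kN : k ∉ N := fun e => hn (mul_mem (hMN hm) e)
  have key : ∀ u ∈ M, k * u = u * k → u = 1 := fun u hu e => z u (by_contra fun h' =>
    kN (h u h' ⟨hk, k, hk, by simp [← e]⟩)) hu
  obtain ⟨u, hu⟩ := Finite.injective_iff_surjective.1 (show Function.Injective fun u : M => (⟨u * (k * (u : G)⁻¹ * k⁻¹),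
      mul_mem u.2 (Subgroup.Normal.conj_mem inferInstance _ (inv_mem u.2) k)⟩ : M) from fun u v e => by
    have e : (u : G) * (k * (u : G)⁻¹ * k⁻¹) = v * (k * (v : G)⁻¹ * k⁻¹) := congrArg Subtype.val e
    refine Subtype.ext (inv_mul_eq_one.1 (key _ (mul_mem (inv_mem u.2) v.2) ?_))
    calc _ = (u : G)⁻¹ * (u * (k * (u : G)⁻¹ * k⁻¹)) * (k * v) := by group
      _ = _ := by rw [e]; group) ⟨m, hm⟩
  have hu : (u : G) * (k * (u : G)⁻¹ * k⁻¹) = m := congrArg Subtype.val hu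
  have := key _ (Subgroup.Normal.conj_mem inferInstance x hx (u : G)⁻¹) (by
    have := Subgroup.mem_centralizer_singleton_iff.1 hc
    rw [← hu] at this
    calc _ = (u : G)⁻¹ * (u * (k * (u : G)⁻¹ * k⁻¹) * k * x) * u := by group
      _ = _ := by rw [this]; group)
  exact x1 (conj_eq_one_iff.1 this)

end Cfsg.Agent.S4113
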