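import Cfsg.Statements.S4126
import Cfsg.Agent.H18.BG1
import Cfsg.Agent.S1946

set_option autoImplicit false
open Cfsg

namespace Cfsg.Agent.S4126
open H18 Subgroup

/-- Let G be a finite group and p a prime. Suppose every element of order p, and when p = 2 also every element of order 4, has a conjugacy class of p-power size. Then G has a normal p-complement. -/
theorem result {G : Type*} [Group G] [Finite G] (p : ℕ) [Fact p.Prime]
    (h : ∀ x : G, (orderOf x = p ∨ (p = 2 ∧ orderOf x = 4)) → ∃ a : ℕ, (Subgroup.centralizer ({x} : Set G)).index = p ^ a) :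
    Cfsg.HasNormalPComplement p G := by
  have hp : p.Prime := Fact.out
  obtain ⟨P⟩ : Nonempty (Sylow p G) := inferInstance
  refine (Cfsg.Agent.S1946.result P).2 fun a ha hs g _ => ?_
  by_cases h1 : a = 1
  · exact ⟨1, one_mem _, by simp [h1]⟩
  obtain ⟨k, hk⟩ : ∃ k : ℕ, (C1(a)).index = p ^ k := by
    refine h a ?_
    rcases hs with e | ⟨rfl, e⟩
    · exact Or.inl (orderOf_eq_prime e h1)
    · by_cases e2 : a ^ 2 = 1
      · exact Or.inl (orderOf_eq_prime e2 h1)
      · exact Or.inr ⟨rfl, orderOf_eq_prime_pow (p := 2) (n := 1) (by simpa using e2) (by simpa using e)⟩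
  obtain ⟨x, hx, c, hc, rfl⟩ := exists_mul_of_coprime_relIndex (A := C1(a)) (B := (P : Subgroup G)) (H := ⊤) le_top le_top
    (PiNat.coprime (π := {p}) (by rw [relIndex_top_right, hk]; exact piNat_pow_self hp k) (hall_sylow_top hp P).idx) (mem_top g)
  refine ⟨x, hx, ?_⟩
  conv_rhs => rw [← conj_eq_self_of_C1 hc]
  group

end Cfsg.Agent.S4126
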