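import Cfsg.Statements.S4137
import Cfsg.Agent.H17.R3c
import Cfsg.Agent.H10.PSL2Sub

set_option autoImplicit false
open Cfsg

namespace Cfsg.Agent.S4137

open Subgroup Cfsg H18 H1 H117

/-- Let G be a finite group with trivial centre and at most three distinct sizes of conjugacy classes other than 1. Then G is solvable or G is isomorphic to PSL₂(2^a) for some a ≥ 1. -/
theorem result {G : Type*} [Group G] [Finite G]
    (hZ : Subgroup.center G = ⊥) (h : Nat.card {n : ℕ | 1 < n ∧ ∃ x : G, (Subgroup.centralizer ({x} : Set G)).index = n} ≤ 3) :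
    Group.IsSolvable G ∨ ∃ a : ℕ, 0 < a ∧ Nonempty (G ≃* Matrix.ProjectiveSpecialLinearGroup (Fin 2) (GaloisField 2 a)) := by
  refine (em _).imp_right fun ns => ?_
  obtain ⟨F, _, _, ⟨n, h1, h2⟩, ⟨e⟩⟩ := r3_main (G := G) (by rw [coe_top, centralizer_univ, hZ]) (mt solv_top_iff.1 ns)
    (by rwa [← Nat.card_coe_set_eq])
  have : CharP F 2 := charP_of_card_eq_prime_pow h2
  let _ := ZMod.algebra F 2
  obtain ⟨f⟩ := H10.PSL2_congr (GaloisField.algEquivGaloisFieldOfFintype 2 n h2).toRingEquiv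
  exact ⟨n, by omega, ⟨e.trans f⟩⟩

end Cfsg.Agent.S4137
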