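import Cfsg.Statements.S4558
import Cfsg.Agent.H8.Deg

set_option autoImplicit false
open Cfsg

namespace Cfsg.Agent.S4558



/-- Let χ be a character of the finite group G and g an element of p-power order for the prime p. If χ g = 0, then p divides the degree of χ. -/
theorem result {G : Type*} [Group G] [Finite G] (p : ℕ) [Fact p.Prime] (χ : G → ℂ) (hχ : Cfsg.IsCharacter G χ) (g : G) (hg : ∃ j : ℕ, orderOf g = p ^ j) (h0 : χ g = 0) : p ∣ Cfsg.charDegree χ := by
  have hp : p.Prime := Fact.out
  obtain ⟨j, hj⟩ := hg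
  obtain ⟨w, hw, h⟩ := H8.exists_pow_sub_eq_mul hχ hp g j
  rw [h0, zero_pow (pow_ne_zero _ hp.ne_zero), ← hj, pow_orderOf_eq_one, ← H8.coe_charDegree hχ] at h
  have := H19.int_dvd_of_eq_mul_integral (a := (charDegree χ : ℤ)) (b := p) hw.neg
    (by push_cast; linear_combination -h)
  exact_mod_cast this

end Cfsg.Agent.S4558
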