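import Cfsg.Statements.S4140
import Cfsg.Agent.H23.Cls2
import Cfsg.Agent.S4456
import Cfsg.Agent.S4558
import Cfsg.Agent.S4112
import Cfsg.Agent.H8.Van
import Cfsg.Agent.H5.FS
import Cfsg.Agent.H5.Ind

set_option autoImplicit false
open Cfsg

namespace Cfsg.Agent.S4140

open H18 H23.Cls H117 Subgroup H5

section
variable {G : Type*} [Group G] [Finite G] {N : Subgroup G} [N.Normal] {p : ℕ} {x : G}

theorem elt (h : ∀ g ∉ N, ∀ n ∈ N, ∃ x : G, x * g * x⁻¹ = g * n) (hx : x ∉ N) (px : PiElt {p} x) {V : Subgroup G} (hV : V ≤ N)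
    (pV : PiGrp {p}ᶜ V) : V ⊓ C1(x) = ⊥ := (eq_bot_iff_forall _).2 fun n hn => by
  obtain ⟨g, e⟩ := h x hx n (hV hn.1)
  exact ((e ▸ px.conj g :).of_mem_zpowers (mem_zpowers_mul_right (mem_C1.1 hn.2).symm px (pV.elt hn.1))).eq_one' (pV.elt hn.1)

theorem pgrp (h : ∀ g ∉ N, ∀ n ∈ N, ∃ x : G, x * g * x⁻¹ = g * n) (nil : Nil N) (hp : p.Prime) (h1 : p ∣ Nat.card N)
    (h2 : p ∣ N.index) : PiGrp {p} N := by
  obtain ⟨y, -, py, yN⟩ := exists_pElt_not_mem hp (B := N) (H := ⊤) (by rwa [relIndex_top_right])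
  obtain ⟨_, -, ⟨x, px, xN, rfl⟩, mx⟩ := exists_maximal_sub (fun E => ∃ x, PiElt {p} x ∧ x ∉ N ∧ E = zpowers x ⊔ N) ⟨y, py, yN, rfl⟩
  let f := QuotientGroup.mk' N
  have e : ∀ {x}, f x = 1 ↔ x ∈ N := QuotientGroup.eq_one_iff _
  have a : C1(x).relIndex (C1(f x).comap f) = Nat.card N := by
    rw [← ncard_conj', ← SetLike.coe_sort_coe, Nat.card_coe_set_eq, ← Set.ncard_image_of_injective (N : Set G) (mul_right_injective x)]
    refine congrArg _ (Set.ext fun z => ⟨?_, ?_⟩)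
    · rintro ⟨o, ho, rfl⟩
      exact ⟨x⁻¹ * (o * x * o⁻¹), e.1 (by rw [map_mul, map_mul, map_mul, mem_C1.1 ho]; simp), by simp⟩
    · rintro ⟨n, hn, rfl⟩
      obtain ⟨o, ho⟩ := h x xN n hn
      exact ⟨o, mem_C1.2 (by rw [← mul_inv_eq_iff_eq_mul, ← map_inv, ← map_mul, ← map_mul, ho, map_mul, e.2 hn, mul_one]), ho⟩
  have b : C1(x) ≤ C1(f x).comap f := fun g hg => mem_C1.2 (by rw [← map_mul, mem_C1.1 hg, map_mul])
  have n : ∀ π, O[π](N) ⊴ ⊤ := fun π => nml_top.pcore
  obtain ⟨d, d1, d2, d3⟩ := exists_pElt_not_mem hp (B := C1(x) ⊔ N) (H := C1(f x).comap f) (by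
    rw [relIndex_eq_of_mul (sup_le b fun g hg => mem_C1.2 (by simp [e.2 hg])) ((card_mul_relIndex b).symm.trans
      (by rw [a]; exact (nml_top.nrm2' le_top).card_sup.symm))]
    have := px.zpowers.meet_cent pcore_pi (le_top.trans (n {p}).norm) (nil.pcore_hall.ne_bot_p hp h1)
    exact ((pcore_pi.inf_left).dvd_card this).trans (card_dvd (le_inf (inf_le_right.trans C_zpowers.le) (inf_le_left.trans pcore_le))))
  set E := zpowers d ⊔ zpowers x
  have c : Abel (E.map f) := by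
    rw [Subgroup.map_sup, MonoidHom.map_zpowers, MonoidHom.map_zpowers]
    exact abel_zpowers.sup abel_zpowers (zpowers_le.2 (C_zpowers.ge d1))
  have i : PiNat {p} (N.relIndex (E ⊔ N)) := by
    rw [relIndex_sup_right, ← QuotientGroup.ker_mk' N, relIndex_ker, Subgroup.map_sup, MonoidHom.map_zpowers, MonoidHom.map_zpowers]
    exact PiGrp.sup_norm (PiElt.zpowers (d2.of_dvd (orderOf_map_dvd f d))) (PiElt.zpowers (px.of_dvd (orderOf_map_dvd f x)))
      (cent_norm (zpowers_le.2 (C_zpowers.ge d1)))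
  obtain ⟨A, hA⟩ := exists_sylow hp (E ⊔ N)
  have s := hA.sup_of_idx le_sup_right i
  have z : A ⊓ N ⊴ A := nml_inf_of_norm norm_of_normal
  rw [← nil.pcore_sup (π := {p}), eq_bot_iff.2 (H2.le_of_cent1_quo z (le_inf der_le ?_) (fun c => d3 ?_) (le_top.trans (n _).norm)
    (nil.cent_pi pcore_le inf_le_right pcore_pi hA.pi.inf_left.compl_compl) (hA.pi.coprime pcore_pi) fun u hu j =>
      (elt h (fun k => j ⟨hu, k⟩) (hA.pi.elt hu) pcore_le pcore_pi).le), sup_bot_eq]
  · exact pcore_pi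
  · refine ((Subgroup.map_eq_bot_iff _ (f := f)).1 ?_).trans_eq (QuotientGroup.ker_mk' N)
    rw [map_commutator]
    refine Abel.der (c.mono ((map_mono hA.le).trans_eq ?_))
    rw [Subgroup.map_sup, (Subgroup.map_eq_bot_iff N).2 (QuotientGroup.ker_mk' N).ge, sup_bot_eq]
  obtain ⟨u, hu, j⟩ := exists_gen_of_cyc_mim z.norm c
  have k : E ⊔ N ≤ zpowers u ⊔ N := s.ge.trans (sup_le (j.trans (sup_le_sup_left (by simp) _)) le_sup_right)
  have := mx _ ⟨u, hA.pi.elt hu, fun a => xN ((sup_le (zpowers_le.2 a) le_rfl) (k (mem_sup_left (mem_sup_right (mem_zpowers x))))), rfl⟩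
    ((sup_le_sup_right le_sup_right N).trans k)
  exact sup_le_sup_right (zpowers_le.2 C1_self) N (this.le (k (mem_sup_left (mem_sup_left (mem_zpowers d)))))

theorem pnil (h : ∀ g ∉ N, ∀ n ∈ N, ∃ x : G, x * g * x⁻¹ = g * n) (hp : p.Prime) (h2 : p ∣ N.index) : H21.PNil p N := by
  classical
  have := Fintype.ofFinite G
  have := Fact.mk hp
  obtain ⟨x, -, px, xN⟩ := exists_pElt_not_mem hp (B := N) (H := ⊤) (by rwa [relIndex_top_right])
  obtain ⟨P, hP⟩ := exists_sylow hp (⊤ : Subgroup G)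
  obtain ⟨M, n, c, k, i⟩ := S4456.result (G := ↥(P ⊔ N)) p hp fun χ h1 => by
    by_cases e : N.subgroupOf (P ⊔ N) ≤ charKer χ.1
    · have : PiNat {p} (charDegree χ.1) := (hP.pi.relIndex (A := N)).of_dvd
        ((H8.deg_dvd_index_ker χ.2).trans ((index_dvd_of_le e).trans (relIndex_sup_right _ _).dvd))
      obtain ⟨k, d⟩ := this.eq_pow (H8.deg_pos χ).ne'
      exact d ▸ dvd_pow_self p fun a => h1 (by rw [d, a, pow_zero])
    have a : ∀ y : G, ∑ n : N, extendByZero (P ⊔ N) χ.1 (n * y) = 0 := fun y => by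
      by_cases d : y ∈ P ⊔ N
      · rw [← χ.2.sum_coset_eq_zero _ e ⟨y, d⟩]
        exact (Fintype.sum_equiv (subgroupOfEquivOfLe le_sup_right).toEquiv _ _ fun n => extendByZero_coe _ _ _ |>.symm).symm
      · exact Finset.sum_eq_zero fun n _ => extendByZero_of_not_mem _ _ (mt (mul_mem_cancel_left (mem_sup_right n.2)).1 d)
    have b : ∑ n : N, indFun (P ⊔ N) χ.1 (n * x) = 0 := by
      simp only [indFun_apply']
      rw [← Finset.mul_sum, Finset.sum_comm, Finset.sum_eq_zero fun g _ => ?_, mul_zero]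
      rw [← a (g * x * g⁻¹)]
      exact Fintype.sum_equiv (MulAut.conjNormal g).toEquiv _ _ fun n => by simp [mul_assoc]
    rw [Finset.sum_congr rfl (g := fun _ => indFun (P ⊔ N) χ.1 x) fun n _ => by
      obtain ⟨g, d⟩ := h x xN (x⁻¹ * n * x) (conj_mem' norm_of_normal (mem_top x) n.2)
      rw [show n * x = g * x * g⁻¹ by rw [d]; group, isClassFunction_indFun]] at b
    have := S4558.result p _ χ.2.isCharacter.indFun x (px.eq_pow (orderOf_pos x).ne') (by simpa using b)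
    rw [H8.charDegree_of_eq (n := (P ⊔ N).index * charDegree χ.1) (by rw [indFun_apply_one, Nat.cast_mul, H8.coe_deg])] at this
    exact (hp.dvd_mul.1 this).resolve_left (by simpa using (hP.idx_of_le le_sup_left).not_dvd' hp rfl)
  refine H21.PNil.of_le hp (Hall.pcore_hall (K := M.map (P ⊔ N).subtype) ⟨map_subtype_le _, ?_, ?_⟩ nml_map_subtype.norm) le_sup_right
  · rw [PiGrp, card_map_subtype]; exact (piNat_compl_iff_coprime hp).2 c
  · rw [relIndex, subgroupOf, comap_map_eq_self_of_injective (subtype_injective _), i]; exact (piNat_pow_self hp k).compl_compl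
end

/-- Let G be a finite group and N a proper non-trivial normal subgroup such that for every g outside N the conjugacy class of g is a union of cosets of N (equivalently gn is conjugate to g for every n ∈ N). Then either every element of G outside N acts fixed-point-freely on N (C_G(x) ≤ N for all x ∈ N, x ≠ 1, so G is a Frobenius group with kernel N), or N has prime-power order, or G/N has prime-power order. -/
theorem result {G : Type*} [Group G] [Finite G] (N : Subgroup G) [N.Normal] (hN1 : N ≠ ⊥) (hN2 : N ≠ ⊤)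
    (hcam : ∀ g : G, g ∉ N → ∀ n ∈ N, ∃ x : G, x * g * x⁻¹ = g * n) :
    (∀ x ∈ N, x ≠ 1 → Subgroup.centralizer ({x} : Set G) ≤ N) ∨ IsPrimePow (Nat.card N) ∨ IsPrimePow N.index := by
  by_contra! e
  obtain ⟨e1, e2, e3⟩ := e
  obtain ⟨p, hp, h1, h2⟩ := Nat.Prime.not_coprime_iff_dvd.1 (mt (S4112.result N N le_rfl hN1 hN2 hcam).1.2 (by push Not; exact e1))
  have pp : ∀ {n}, n ≠ 0 → p ∣ n → PiNat {p} n → IsPrimePow n := fun a b c => by
    obtain ⟨k, rfl⟩ := c.eq_pow a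
    exact hp.isPrimePow.pow fun d => hp.not_dvd_one (by simpa [d] using b)
  obtain ⟨q, hq, h3, h4⟩ := exists_prime_not_mem (mt (pp FiniteIndex.index_ne_zero h1) e3)
  by_cases d : q ∣ Nat.card N; swap
  · obtain ⟨y, hy⟩ := exists_prime_orderOf_dvd_card' (hp := ⟨hq⟩) q (h3.trans N.index_dvd_card)
    have a := piGrp_of_prime hq (card_zpowers'.trans hy)
    have b : PiGrp {q}ᶜ N := (piNat_compl_iff hq).2 d
    exact e2 (pp card_ne_zero' h2 (pgrp hcam (H23.nil_of_semireg norm_of_normal (ne_bot_of_prime_dvd hq (card_zpowers'.trans hy).symm.dvd)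
      fun u hu u1 => elt hcam (fun c => u1 ((a.elt hu).eq_one' (b.elt c))) (a.elt hu) le_rfl b) hp h2 h1))
  have a := pnil hcam hp h1
  have b := pnil hcam hq h3
  have n : ∀ π, O[π](N).Normal := fun π => (nml_top.pcore).normal
  let f := QuotientGroup.mk' (O[{p}ᶜ](N) ⊓ O[{q}ᶜ](N))
  have s : Function.Surjective f := QuotientGroup.mk'_surjective _
  have c : ∀ K : Subgroup G, Nat.card (K.map f) = (O[{p}ᶜ](N) ⊓ O[{q}ᶜ](N)).relIndex K := fun K => by
    rw [← relIndex_ker, QuotientGroup.ker_mk']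
  have i : ∀ {p}, p.Prime → p ∣ Nat.card N → H21.PNil p N → p ∣ O[{p}ᶜ](N).relIndex N := fun hp a b =>
    (hp.dvd_mul.1 (card_mul_relIndex b.le ▸ a)).resolve_left (b.pi.not_dvd' hp rfl)
  haveI := Normal.map ‹N.Normal› f s
  have k : f.ker ≤ N := by rw [QuotientGroup.ker_mk']; exact inf_le_left.trans pcore_le
  refine h4 (pgrp (N := N.map f) (fun g hg => ?_) ?_ hp (c N ▸ (i hp h2 a).trans (relIndex_dvd_left inf_le_left))
    (by rwa [index_map_eq _ s k]) q hq (c N ▸ (i hq d b).trans (relIndex_dvd_left inf_le_right)))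
  · obtain ⟨g, rfl⟩ := s g
    rintro _ ⟨n, hn, rfl⟩
    obtain ⟨x, e⟩ := hcam g (fun e => hg ⟨g, e, rfl⟩) n hn
    exact ⟨f x, by simpa using congrArg f e⟩
  refine (Nil.sup_nml (H := ⊤) (PiGrp.nil (p := q) ?_) (PiGrp.nil (p := p) ?_) (nml_top_iff.2 ((n _).map f s))
    (nml_top_iff.2 ((n _).map f s))).of_le ((map_mono (sup_eq_of_coprime_relIndex a.le b.le (a.idx.of_compl_compl.coprime
    (b.idx.of_compl_compl.p'_of_ne h4))).ge).trans_eq (Subgroup.map_sup _ _ _))
  · rw [PiGrp, c, relIndex_inf_left]; exact b.idx.of_compl_compl.of_dvd (pcore_nml.relIndex_dvd pcore_le)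
  · rw [PiGrp, c, relIndex_inf_right]; exact a.idx.of_compl_compl.of_dvd (pcore_nml.relIndex_dvd pcore_le)

end Cfsg.Agent.S4140
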