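import Cfsg.Statements.S4145
import Cfsg.Agent.H1.Harv3
import Cfsg.Agent.S0081

set_option autoImplicit false
open Cfsg

namespace Cfsg.Agent.S4145

open H18 Subgroup H1

/-- Let G be a finite group with a cyclic Sylow p-subgroup and H a normal subgroup such that p divides both the order of H and the index of H. Then H has a normal p-complement and G is p-solvable. -/
theorem result {G : Type*} [Group G] [Finite G] (p : ℕ) [Fact p.Prime]
    (P : Sylow p G) (hP : IsCyclic (P : Subgroup G)) (H : Subgroup G) [H.Normal] (h1 : p ∣ Nat.card H) (h2 : p ∣ H.index) :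
    Cfsg.HasNormalPComplement p H ∧ Cfsg.IsPSolvable p G := by
  have hp : p.Prime := Fact.out
  have hS := hall_sylow_top hp P
  have a := S0081.result P H (cyc_le_phi hP hS.pi (inf_lt_right.2 fun e => P.not_dvd_index (h2.trans (index_dvd_of_le e))))
  refine ⟨a, (isPSolvable_iff_piSep hp).2 ?_⟩
  rw [hasNormalPComplement_iff hp] at a
  have n : O[{p}ᶜ](H) ⊴ ⊤ := (nml_top (K := H)).pcore
  refine piSep_of_quo n.norm (cyc_piSep hp (hS.mim n.norm) (Cyc.mim hP) (nml_top (K := H)).mim
    ((piGrp_quo_iff pcore_nml.norm).2 a.idx.of_compl_compl) fun e => ?_) (piSep_of_pi' pcore_pi)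
  exact (piNat_compl_iff hp).1 (pcore_pi.of_le ((quo_eq_bot_iff pcore_nml.norm).1 e)) h1

end Cfsg.Agent.S4145
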