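import Cfsg.Statements.S4155
import Cfsg.Agent.H23.Cls2
import Cfsg.Agent.S0040

set_option autoImplicit false
open Cfsg

namespace Cfsg.Agent.S4155

open H18 H23.Cls H117 Subgroup

/-- Let G be a finite group and N a proper non-trivial normal nilpotent subgroup whose order is not a prime power, such that for every x outside N all elements of the coset xN have the same order as x. Then N is the Fitting subgroup of G, and for every prime q every Sylow q-subgroup of G/N is cyclic or generalized quaternion. -/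
theorem result {G : Type*} [Group G] [Finite G] (N : Subgroup G) [N.Normal] (hN1 : N ≠ ⊥) (hN2 : N ≠ ⊤)
    (heq : ∀ x : G, x ∉ N → ∀ n ∈ N, orderOf (x * n) = orderOf x)
    (hnil : Group.IsNilpotent N) (hnpp : ¬ IsPrimePow (Nat.card N)) :
    N = Cfsg.fittingSubgroup G ∧
    ∀ (q : ℕ) [Fact q.Prime] (Q : Sylow q (G ⧸ N)), IsCyclic (Q : Subgroup (G ⧸ N)) ∨ ∃ n : ℕ, Nonempty ((Q : Subgroup (G ⧸ N)) ≃* QuaternionGroup (2 ^ n)) := by
  have key : ∀ q, q.Prime → O[{q}ᶜ](N) ≠ ⊥ ∧ ∀ x ∉ N, PiElt {q} x → O[{q}ᶜ](N) ⊓ C1(x) = ⊥ := fun q hq => by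
    refine ⟨fun e => hnpp ?_, fun x hx px => (eq_bot_iff_forall _).2 fun n hn => ?_⟩
    · have : PiGrp {q} N := by rw [← Nil.pcore_sup hnil (π := {q}), e, sup_bot_eq]; exact pcore_pi
      obtain ⟨k, a⟩ := this.card_eq_pow
      exact ⟨q, k, hq.prime, Nat.pos_of_ne_zero fun d => hN1 (by simpa [d] using a), a.symm⟩
    have a : PiElt {q} (x * n) := by rw [PiElt, heq x hx n (pcore_le hn.1)]; exact px
    exact (a.of_mem_zpowers (mem_zpowers_mul_right (mem_C1.1 hn.2).symm px (pcore_pi.elt hn.1))).eq_one' (pcore_pi.elt hn.1)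
  have n := fun q : ℕ => (nml_top.pcore (K := N) (π := {q}ᶜ))
  refine ⟨le_antisymm ((le_fit nml_top hnil).trans fit_top.le) (fit_top.ge.trans <| le_of_pElts fun q hq x hx px => by_contra fun e =>
    (key q hq).1 ?_), fun q hq Q => ?_⟩
  · rw [← (key q hq).2 x e px, eq_comm, inf_eq_left, ← C_zpowers]
    exact cent_symm (fit_nil.cent_pi (zpowers_le.2 hx) (pcore_le.trans (le_fit nml_top hnil)) px.zpowers pcore_pi)
  obtain ⟨P, rfl⟩ := Sylow.mapSurjective_surjective (QuotientGroup.mk'_surjective N) q Q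
  have hP := hall_sylow_top hq.out P
  haveI := (nml_top.pcore (K := N) (π := {q})).normal
  haveI := (n q).normal
  let f := QuotientGroup.mk' O[{q}](N)
  have s : Function.Surjective f := QuotientGroup.mk'_surjective _
  have e : ∀ {x}, f x = 1 ↔ x ∈ O[{q}](N) := QuotientGroup.eq_one_iff _
  have a : ∀ x ∈ (P : Subgroup G), f x = 1 ↔ x ∈ N := fun x hx => e.trans ⟨fun d => pcore_le d, fun d =>
    Nil.le_pcore hnil (zpowers_le.2 d) (hP.pi.elt hx).zpowers (mem_zpowers x)⟩
  have b : ∀ x ∈ O[{q}ᶜ](N), f x = 1 → x = 1 := fun x hx d => eq_one_of_eq_bot pcore_inf_compl ⟨e.1 d, hx⟩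
  have i : (P : Subgroup G).map f ≃* (P : Subgroup G).map (QuotientGroup.mk' N) :=
    (MulEquiv.subgroupCongr (f.domRestrict_range _)).symm.trans ((QuotientGroup.quotientKerEquivRange _).symm.trans
      ((QuotientGroup.quotientMulEquivOfEq (Subgroup.ext fun x : (P : Subgroup G) => (a x x.2).trans
        (QuotientGroup.eq_one_iff _).symm)).trans ((QuotientGroup.quotientKerEquivRange ((QuotientGroup.mk' N).domRestrict
        (P : Subgroup G))).trans (MulEquiv.subgroupCongr (MonoidHom.domRestrict_range _ _)))))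
  haveI := (n q).normal.map f s
  obtain ⟨v, v1, v2⟩ := exists_mem_ne_one' (key q hq.out).1
  rcases H23.semireg_pgroup hq.out (piGrp_of_isPGroup hq.out (P.2.map f)) (K := O[{q}ᶜ](N).map f) norm_of_normal
    (ne_bot_of_mem ⟨v, v1, rfl⟩ (mt (b v v1) v2)) (by
      rintro _ ⟨x, hx, rfl⟩ x1
      refine (eq_bot_iff_forall _).2 ?_
      rintro _ ⟨⟨y, hy, rfl⟩, c⟩
      rw [eq_one_of_eq_bot ((key q hq.out).2 x (mt (a x hx).2 x1) (hP.pi.elt hx)) ⟨hy, mem_C1.2
        (commutatorElement_eq_one_iff_mul_comm.1 (b _ (comm_le_left (n q).norm (commutator_mem_commutator hy (mem_top x))) (by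
          rw [map_commutatorElement]; exact commutatorElement_eq_one_iff_mul_comm.2 (mem_C1.1 c))))⟩, map_one]) with h | ⟨n, x, y, h⟩
  · exact Or.inl (isCyclic_of_surjective i i.surjective)
  · exact Or.inr ⟨n + 1, h.nonempty_equiv.map i.symm.trans⟩

end Cfsg.Agent.S4155
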