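import Cfsg.Statements.S4157
import Cfsg.Agent.H3.K2

set_option autoImplicit false
open Cfsg

namespace Cfsg.Agent.S4157

/-- Let G be a finite p-group of order p^m that is not cyclic and, when p = 2, not of maximal class (nilpotency class m − 1). Then for every 1 ≤ k < m the number of subgroups of G of order p^k is congruent to 1 + p modulo p². -/
theorem result {G : Type*} [Group G] [Finite G] {p : ℕ} [Fact p.Prime] (m : ℕ)
    (hG : Nat.card G = p ^ m) (hnc : ¬ IsCyclic G) (h2 : p = 2 → Group.nilpotencyClass G ≠ m - 1)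
    (k : ℕ) (hk1 : 1 ≤ k) (hk2 : k < m) :
    Nat.card {H : Subgroup G // Nat.card H = p ^ k} ≡ 1 + p [MOD p ^ 2] := by
  have hp : p.Prime := Fact.out
  rw [← H3.Kul.sc_top]
  refine (H3.Kul.kulakoff hk1 G (IsPGroup.of_card hG) (hG ▸ pow_dvd_pow p hk2)).2 ?_
  rintro (h | ⟨rfl, ⟨j, x, h⟩, -⟩)
  · exact hnc (Subgroup.topEquiv.isCyclic.1 h)
  · have h1 := (H3.mx_of_mc h).class_eq
    have h3 := h.card_eq
    rw [Subgroup.card_top, hG] at h3
    exact h2 rfl (by rw [h1, Nat.pow_right_injective le_rfl h3])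

end Cfsg.Agent.S4157
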