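import Cfsg.Statements.S4172
import Cfsg.Agent.H18.BG1
import Cfsg.Agent.H3.PG
import Cfsg.Agent.H3.Tate
import Cfsg.Agent.H17.Comp

set_option autoImplicit false
open Cfsg

namespace Cfsg.Agent.S4172

open Subgroup H18 H1
open H17 (IsComp lay gfit)

section
variable {G : Type*} [Group G] [Finite G] {p : ℕ} [hp : Fact p.Prime] {S A B E M Q : Subgroup G}

theorem tate (P : Sylow p G) (hn : (P : Subgroup G) ≤ N(A)) (h : A ⊓ P ≤ Φ((P : Subgroup G))) :
    Hall {p}ᶜ O[{p}ᶜ](A) A := by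
  let H : Subgroup G := A ⊔ (P : Subgroup G)
  have hPH : (P : Subgroup G) ≤ H := le_sup_right
  refine (hasNormalPComplement_iff hp.out).1 (H3.hasNormalPComplement_of_le (le_sup_left : A ≤ H)
    (H3.hasNormalPComplement_of_le_frattini (P.subtype hPH) ?_))
  have : (A.subgroupOf H).Normal := (Nml.mk le_sup_left (sup_le le_N hn)).subgroupOf_normal
  have hq : pResidual p H ≤ A.subgroupOf H := by
    apply H3.pResidual_le_of_isPGroup_quotient
    refine P.2.of_surjective ((QuotientGroup.mk' _).comp (Subgroup.inclusion hPH)) ?_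
    intro y
    obtain ⟨⟨y, hy⟩, rfl⟩ := QuotientGroup.mk_surjective y
    obtain ⟨x, hx, n, hn, rfl⟩ := (mem_sup_of_norm hn).1 ((sup_comm A (P : Subgroup G)).le hy)
    refine ⟨⟨x, hx⟩, QuotientGroup.eq.mpr ?_⟩
    show x⁻¹ * (x * n) ∈ A
    simpa using hn
  rintro x ⟨hx, hxP⟩
  obtain ⟨y, hy, e⟩ := h ⟨hq hx, hxP⟩
  let e' := (Subgroup.subgroupOfEquivOfLe hPH).symm
  exact ⟨e' y, frattini_le_comap_frattini_of_surjective (φ := e'.toMonoidHom) e'.surjective hy,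
    Subtype.ext e⟩

theorem cyc_quo (hS : PiGrp {p} S) (hi : Φ(S).relIndex S = p ^ 2) (hn : S ≤ N(A)) (h : ¬ A ⊓ S ≤ Φ(S)) :
    Cyc (S ⫽ A) := by
  have l1 : A ⊓ S ⊔ Φ(S) ≤ S := sup_le inf_le_right H3.phi_le
  rcases l1.eq_or_lt with e | lt
  · rw [quo_eq_bot ((H3.eq_of_le_sup_phi inf_le_right e.ge).ge.trans inf_le_left)]
    infer_instance
  have t := relIndex_tower (le_sup_right : Φ(S) ≤ A ⊓ S ⊔ Φ(S)) l1
  obtain ⟨a, ha⟩ := H3.dvd_relIndex_of_not_le (hS.of_le l1) (K := Φ(S)) fun e => h (le_sup_left.trans e)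
  have : (A ⊓ S ⊔ Φ(S)).relIndex S = p := H3.relIndex_eq_prime_of_le hS lt.not_ge (by
    rw [hi, ha, sq, mul_assoc] at t
    exact Nat.le_of_dvd hp.out.pos (Dvd.intro_left _ (Nat.eq_of_mul_eq_mul_left hp.out.pos t)))
  obtain ⟨x, hx, -, e⟩ := H3.exists_sup_zpowers_of_prime (this ▸ hp.out) l1
  have := H3.eq_of_le_sup_phi (sup_le inf_le_right (zpowers_le.2 hx) : A ⊓ S ⊔ zpowers x ≤ S)
    (e.ge.trans (by rw [sup_right_comm]))
  exact H3.cyc_quo_of_le_sup hn (hn hx) (this.ge.trans (sup_le_sup_right inf_le_left _))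

theorem transfer (hQ : Hall {p} Q E) (ha : Abel Q) : Q ⊓ C(E) ⊓ ⁅E, E⁆ = ⊥ := by
  obtain ⟨T, rfl⟩ := hQ.exists_sylow hp.out
  refine le_bot_iff.1 fun z hz => ?_
  obtain ⟨⟨⟨z, h1, rfl⟩, h2⟩, h3⟩ := hz
  rw [← ha.der, ← map_commutator]
  refine mem_map_of_mem _ (H3.sylow_inf_center_inf_commutator_le T ⟨⟨h1, mem_center_iff.2 fun y =>
    Subtype.ext (mem_centralizer_iff.1 h2 y y.2)⟩, ?_⟩)
  rw [← map_subtype_commutator] at h3
  obtain ⟨w, hw, e⟩ := h3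
  rwa [← Subtype.ext e]

theorem abel_case (hS : Hall {p} S ⊤) (na : ¬ Abel S) (h0 : O[{p}ᶜ]((⊤ : Subgroup G)) = ⊥)
    (hc : ∀ K, K ⊴ ⊤ → K ≤ Φ(S) → K = ⊥) (hM : M ⊴ ⊤) (m0 : M ≠ ⊥) (cy : Cyc (S ⫽ M))
    (un : ∀ K, K ⊴ ⊤ → K ≠ ⊥ → M ≤ K) (ab : Abel M) : gfit (⊤ : Subgroup G) ≤ M := by
  have ef := fit_eq_pcore h0
  have MF : M ≤ F((⊤ : Subgroup G)) := le_fit hM ab.nil
  have MO : M ≤ O[{p}]((⊤ : Subgroup G)) := ef ▸ MF
  have OS : O[{p}]((⊤ : Subgroup G)) ≤ S := hS.pcore_le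
  have nM : ∀ X : Subgroup G, X ≤ N(M) := fun X => le_top.trans hM.norm
  have l0 : lay (⊤ : Subgroup G) = ⊥ := by
    by_contra e0
    have nE : lay (⊤ : Subgroup G) ⊴ ⊤ := ⟨le_top, H17.le_normalizer_lay ⊤⟩
    have c1 : M ≤ C(lay (⊤ : Subgroup G)) :=
      MF.trans (cent_symm (comm_eq_bot_iff.1 (H17.commutator_lay_fit ⊤)))
    have := transfer (hS.inf_nml nE) (abel_of_cyc_quo (cent_mono c1 le_rfl inf_le_right)
      (cy.of_le (mim_mono inf_le_left)))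
    rw [H17.lay_perfect] at this
    exact m0 (le_bot_iff.1 (this ▸ le_inf (le_inf (le_inf (MO.trans OS) (un _ nE e0)) c1) (un _ nE e0)))
  have cO : ⊤ ⊓ C(F((⊤ : Subgroup G))) ≤ F((⊤ : Subgroup G)) := H17.centralizer_fit_le_of_lay_eq_bot l0
  rw [H17.gfit_eq, l0, bot_sup_eq]
  change F((⊤ : Subgroup G)) ≤ M
  rw [ef] at cO ⊢
  generalize hO : O[{p}]((⊤ : Subgroup G)) = O at *
  have nO : O ⊴ ⊤ := hO ▸ pcore_nml
  have pO : PiGrp {p} O := hS.pi.of_le OS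
  have aO : Abel O := ((H3.phi_eq_bot_iff hp.out pO).1
    (hc _ (H3.phi_nml nO) (H3.phi_mono hp.out hS.pi OS))).abel
  by_contra hn
  have nD : ⊤ ⫽ M ⊓ C(O ⫽ M) ⊴ ⊤ ⫽ M := nO.mim.cent
  generalize hD : ⊤ ⫽ M ⊓ C(O ⫽ M) = D at nD
  have DO : D ≤ C(O ⫽ M) := hD ▸ inf_le_right
  have SD : S ⫽ M ≤ D := hD ▸ le_inf (mim_mono le_top) (cent_mono cy.abel le_rfl (mim_mono OS))
  have hS' : Hall {p} (S ⫽ M) D := (hS.mim (nM _)).of_le SD nD.le
  have t := transfer hS' cy.abel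
  have z : S ⫽ M ⊓ ⁅D, D⁆ = ⊥ := by
    by_contra e
    refine cy.inf_ne_bot hS'.pi (mim_mono OS) inf_le_left (fun e => hn ((quo_eq_bot_iff (nM _)).1 e)) e ?_
    exact le_bot_iff.1 (t ▸ le_inf (le_inf (inf_le_left.trans (mim_mono OS)) (inf_le_left.trans (cent_symm DO)))
      (inf_le_right.trans inf_le_right))
  have p' : PiGrp {p}ᶜ ⁅D, D⁆ := (z ▸ hS'.inf_nml Nml.rfl.der).compl_of_eq_bot
  have nK : qpre M ⁅D, D⁆ ⊴ ⊤ := nml_qpre hM nD.der
  have hK : Hall {p} M (qpre M ⁅D, D⁆) := ⟨le_qpre, pO.of_le MO, by rw [relIndex_le_qpre]; exact p'⟩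
  obtain ⟨T, hT⟩ := hK.exists_compl (nM _)
  have cop : Cop T O := cop_of_pi' (le_top.trans nO.norm) hT.pi pO (Or.inr pO.solv)
  have c1 : ⁅O, T⁆ ≤ M := (comm_le_iff_quo (nM _) (nM _)).2
    (cent_symm (((mim_mono hT.le).trans (quo_qpre.le.trans der_le)).trans DO))
  have c2 : M ≤ O ⊓ C(T) := by
    have e : O ⊓ (⊤ ⊓ C(qpre M ⁅D, D⁆)) = O ⊓ C(T) := by
      rw [top_inf_eq, ← hK.sup_compl hT, C_sup, ← inf_assoc, inf_eq_left.2 (cent_mono aO le_rfl MO)]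
    refine e ▸ un _ (nO.inf nK.cent) fun e0 => hn ?_
    have := cop.le_sup_of_comm_le c1
    rwa [← e, e0, sup_bot_eq] at this
  have T0 : T = ⊥ := by
    have : T ≤ O := (le_inf le_top (cent_symm (cop.cent_of_comm_cent (c1.trans (c2.trans inf_le_right))))).trans cO
    rw [← pO.inf_eq_bot hT.pi, inf_eq_right.2 this]
  have aD : Abel D := by
    rw [abel_iff_der, ← quo_qpre (K := M) (U := ⁅D, D⁆), ← hK.sup_compl hT, T0, sup_bot_eq, quo_self]
  have nS : S ⊴ ⊤ := nml_of_quo (nM _) le_top (MO.trans OS) (hS'.eq_pcore (aD.norm SD) ▸ nD.pcore)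
  exact na (aO.mono (hO ▸ le_pcore nS hS.pi))
end

/-- Let p be a prime and G a finite group with a non-commutative Sylow p-subgroup P whose Frattini subgroup has index p² in P (P is generated by two elements). Suppose G has no nontrivial normal subgroup of order prime to p and the Frattini subgroup of P contains no nontrivial normal subgroup of G. Then the generalized Fitting subgroup F*(G) is the unique minimal normal subgroup of G, the image of P in G/F*(G) is cyclic, and if F*(G) is not commutative then P permutes the components of G transitively by conjugation. -/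
theorem result {G : Type*} [Group G] [Finite G] (p : ℕ) [Fact p.Prime] (P : Sylow p G) (hna : ¬ IsMulCommutative (P : Subgroup G)) (hgen : (frattini ↥(P : Subgroup G)).index = p ^ 2) (hcore : Cfsg.pPrimeCore p G = ⊥) (hfrat : ((frattini ↥(P : Subgroup G)).map (P : Subgroup G).subtype).normalCore = ⊥) [hFn : (Cfsg.generalizedFittingSubgroup G).Normal] :
    (Cfsg.generalizedFittingSubgroup G ≠ ⊥ ∧ ∀ K : Subgroup G, K.Normal → K ≠ ⊥ → Cfsg.generalizedFittingSubgroup G ≤ K) ∧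
      IsCyclic ↥((P : Subgroup G).map (QuotientGroup.mk' (Cfsg.generalizedFittingSubgroup G))) ∧
      (¬ IsMulCommutative (Cfsg.generalizedFittingSubgroup G) → ∀ K L : Subgroup G, Cfsg.IsComponent K → Cfsg.IsComponent L → ∃ x ∈ (P : Subgroup G), L = K.map (MulAut.conj x).toMonoidHom) := by
  have pp : p.Prime := Fact.out
  have hS := hall_sylow_top pp P
  have na : ¬ Abel (P : Subgroup G) := fun h => hna h.comm
  have h0 : O[{p}ᶜ]((⊤ : Subgroup G)) = ⊥ := pPrimeCore_eq (G := G) pp ▸ hcore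
  have hi : Φ((P : Subgroup G)).relIndex P = p ^ 2 := by
    rw [← hgen, phi, relIndex, subgroupOf, comap_map_eq_self_of_injective (subtype_injective _)]
  have hc : ∀ K : Subgroup G, K ⊴ ⊤ → K ≤ Φ((P : Subgroup G)) → K = ⊥ := fun K h1 h2 => by
    have := h1.normal
    exact le_bot_iff.1 (hfrat ▸ normal_le_normalCore.2 h2)
  have pg : ∀ A E : Subgroup G, A ⊴ E → E ⊴ ⊤ → (P : Subgroup G) ≤ N(A) → A ⊓ P ≤ Φ((P : Subgroup G)) →
      PiGrp {p} A := fun A E h1 h2 hn h => by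
    have := tate P hn h
    rw [le_bot_iff.1 (h1.pcore_le_pcore.trans (h2.pcore_le_pcore.trans h0.le))] at this
    exact this.compl_of_eq_bot.of_compl_compl
  have cy : ∀ K : Subgroup G, K ⊴ ⊤ → K ≠ ⊥ → Cyc ((P : Subgroup G) ⫽ K) := fun K h1 h2 =>
    cyc_quo hS.pi hi (le_top.trans h1.norm) fun h => h2 (hc K h1 ((le_inf le_rfl
      (hS.nml_le h1 (pg K ⊤ h1 Nml.rfl (le_top.trans h1.norm) h))).trans h))
  have dl : ∀ K : Subgroup G, (P : Subgroup G) ≤ N(K) → Cyc ((P : Subgroup G) ⫽ K) →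
      ⁅(P : Subgroup G), (P : Subgroup G)⁆ ≤ K := fun K h1 h2 => (abel_quo_iff h1).1 h2.abel
  have t0 : (⊤ : Subgroup G) ≠ ⊥ := fun e => na (by rw [le_bot_iff.1 (le_top.trans e.le : (P : Subgroup G) ≤ ⊥)]; exact bot_le)
  obtain ⟨M, -, hM⟩ := exists_minNorm t0 (le_N : (⊤ : Subgroup G) ≤ _)
  have nM : M ⊴ ⊤ := ⟨le_top, hM.norm⟩
  have un : ∀ K : Subgroup G, K ⊴ ⊤ → K ≠ ⊥ → M ≤ K := fun K h1 h2 => hM.le_of_inf_ne_bot h1.norm fun e =>
    na (abel_iff_der.2 (le_bot_iff.1 (e ▸ le_inf (dl _ (le_top.trans nM.norm) (cy _ nM hM.ne_bot))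
      (dl _ (le_top.trans h1.norm) (cy _ h1 h2)))))
  have f0 : ¬ Abel M → H17.fit (⊤ : Subgroup G) = ⊥ := fun h => by_contra fun e =>
    h (hM.abel ((fit_nil (H := ⊤)).of_le (un _ fit_nml e)).solv)
  have le : gfit (⊤ : Subgroup G) ≤ M := by
    by_cases ab : Abel M
    · exact abel_case hS na h0 hc nM hM.ne_bot (cy _ nM hM.ne_bot) un ab
    · rw [H17.gfit_eq, f0 ab, sup_bot_eq]
      refine H17.lay_le_iff.2 fun K hK => (hK.le_or_commutator le_top (le_top.trans nM.norm)).resolve_right fun e => ?_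
      exact ab ((un _ nM.cent fun e0 => hK.ne_bot (le_bot_iff.1 (e0 ▸ le_inf le_top
        (cent_symm (comm_eq_bot_iff.1 e))))).trans inf_le_right)
  have g0 : gfit (⊤ : Subgroup G) ≠ ⊥ := fun e => t0 (H17.gfit_eq_bot_iff.1 e)
  rw [H17.gfit_top] at le g0
  obtain rfl : M = generalizedFittingSubgroup G := le_antisymm (un _ nml_top g0) le
  refine ⟨⟨g0, fun K h1 h2 => un K nml_top h2⟩, ?_, fun ab K L hK hL => ?_⟩
  · obtain ⟨x, hx, h⟩ := H3.exists_gen_of_cyc_quo (le_top.trans nM.norm) (cy _ nM g0)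
    refine Cyc.of_le (H := zpowers (QuotientGroup.mk' _ x)) inferInstance ((map_mono h).trans ?_)
    rw [Subgroup.map_sup, (Subgroup.map_eq_bot_iff _).2 (QuotientGroup.ker_mk' _).ge, bot_sup_eq, MonoidHom.map_zpowers]
  · by_contra hne
    rw [← H17.isComp_top_iff] at hK hL
    have nE : lay (⊤ : Subgroup G) ⊴ ⊤ := ⟨le_top, H17.le_normalizer_lay ⊤⟩
    let 𝒮 : Set (Subgroup G) := {X | ∃ x ∈ (P : Subgroup G), X = cj x K}
    have c𝒮 : ∀ X ∈ 𝒮, IsComp X ⊤ := by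
      rintro _ ⟨x, -, rfl⟩
      exact hK.cj_of_mem_normalizer (le_N (mem_top x))
    have sA := H17.subn_sSup_comp c𝒮
    have nA : sSup 𝒮 ⊴ lay ⊤ := ⟨sSup_le fun X hX => (c𝒮 X hX).le_lay, H17.lay_le_normalizer_subn sA⟩
    have PA : (P : Subgroup G) ≤ N(sSup 𝒮) := fun g hg => mem_N_of_cj_le (by
      rw [cj, map_le_iff_le_comap]
      refine sSup_le ?_
      rintro _ ⟨x, hx, rfl⟩
      rw [← map_le_iff_le_comap]
      exact le_sSup ⟨g * x, mul_mem hg hx, cj_mul.symm⟩)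
    have PB : (P : Subgroup G) ≤ N(lay ⊤ ⊓ C(sSup 𝒮)) := norm_inf (le_top.trans nE.norm) (norm_C PA)
    have d1 := dl _ PA (cyc_quo hS.pi hi PA fun h => H17.qs_not_solvable hK.qs
      ((pg _ _ nA nE PA h).of_le (le_sSup ⟨1, one_mem _, cj_one.symm⟩)).solv)
    have d2 := dl _ PB (cyc_quo hS.pi hi PB fun h => H17.qs_not_solvable hL.qs
      ((pg _ _ nA.cent nE PB h).of_le (le_inf hL.le_lay (cent_sSup fun X hX => comm_eq_bot_iff.1
        ((hL.eq_or_commutator (c𝒮 X hX)).resolve_left fun e => hne (e ▸ hX))))).solv)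
    exact na (abel_iff_der.2 (le_bot_iff.1 (((le_inf d1 (d2.trans inf_le_right)).trans
      sA.inf_centralizer_le_fit).trans (f0 fun h => ab h.comm).le)))

end Cfsg.Agent.S4172
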