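import Cfsg.Statements.S4193
import Cfsg.Agent.S3861
import Cfsg.Agent.S3862
import Cfsg.Agent.S3863
import Cfsg.Agent.H16.OddOrder

set_option autoImplicit false
open Cfsg

namespace Cfsg.Agent.S4193

open Subgroup

theorem solv {G : Type*} [Group G] [Finite G] (N : Subgroup G) [N.Normal] (h1 : Group.IsSolvable N)
    (h2 : Group.IsSolvable (G ⧸ N)) : Group.IsSolvable G :=
  Group.isSolvable_of_ker_le_range N.subtype (QuotientGroup.mk' N) (by simp)

theorem mem_of_normal {G : Type*} [Group G] [Finite G] (S : Sylow 2 G) (hn : (S : Subgroup G).Normal) {x : G} {j : ℕ}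
    (hx : orderOf x = 2 ^ j) : x ∈ (S : Subgroup G) := by
  have hp : IsPGroup 2 (zpowers x) := IsPGroup.of_card (by rw [Nat.card_zpowers, hx])
  obtain ⟨T, hT⟩ := hp.exists_le_sylow
  have := Sylow.unique_of_normal S hn
  rw [Subsingleton.elim S T]; exact hT (mem_zpowers x)

/-- a real 2-element is conjugate to a central element of `S` -/
theorem central {G : Type*} [Group G] [Finite G] (S : Sylow 2 G)
    (hS : ∀ s : ↥(S : Subgroup G), IsConj s s⁻¹ → s ∈ Subgroup.center ↥(S : Subgroup G)) {x : G} {j : ℕ}
    (hx : orderOf x = 2 ^ j) (hr : IsConj x x⁻¹) :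
    ∃ T : Sylow 2 G, x ∈ (T : Subgroup G) ∧ (T : Subgroup G) ≤ centralizer {x} := by
  obtain ⟨t, ⟨k, hk⟩, ht⟩ := (S3863.result x hr).1
  have hp : IsPGroup 2 (zpowers x) := IsPGroup.of_card (by rw [Nat.card_zpowers, hx])
  have hq : IsPGroup 2 (zpowers t) := IsPGroup.of_card (by rw [Nat.card_zpowers, hk])
  have hn : zpowers t ≤ normalizer (zpowers x : Set G) := by
    rw [zpowers_le]
    refine mem_normalizer_fintype fun y hy => ?_
    obtain ⟨i, rfl⟩ := mem_zpowers_iff.1 hy
    rw [← conj_zpow, ht]; exact zpow_mem (inv_mem (mem_zpowers x)) _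
  obtain ⟨T, hT⟩ := (hp.to_sup_of_normal_left' hq hn).exists_le_sylow
  obtain ⟨g, rfl⟩ := MulAction.exists_smul_eq G S T
  have mem : ∀ y, y ∈ ((g • S : Sylow 2 G) : Subgroup G) ↔ g⁻¹ * y * g ∈ (S : Subgroup G) := fun y => by
    rw [Sylow.coe_subgroup_smul, mem_pointwise_smul_iff_inv_smul_mem]; simp [MulAut.smul_def]
  have hxT := hT (mem_sup_left (mem_zpowers x))
  have htT := hT (mem_sup_right (mem_zpowers t))
  refine ⟨g • S, hxT, fun y hy => ?_⟩
  have := mem_center_iff.1 (hS ⟨_, (mem x).1 hxT⟩ (isConj_iff.2 ⟨⟨_, (mem t).1 htT⟩, Subtype.ext (by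
    simp only [coe_mul, coe_inv]
    rw [show g⁻¹ * t * g * (g⁻¹ * x * g) * (g⁻¹ * t * g)⁻¹ = g⁻¹ * (t * x * t⁻¹) * g by group, ht]; group)⟩))
    ⟨_, (mem y).1 hy⟩
  have := congrArg Subtype.val this
  simp only [coe_mul] at this
  rw [mem_centralizer_singleton_iff]
  calc y * x = g * (g⁻¹ * y * g * (g⁻¹ * x * g)) * g⁻¹ := by group
    _ = x * y := by rw [this]; group

/-- Let G be a finite group in which the conjugacy classes of all non-central real elements (elements conjugate to their inverses) have sizes with the same 2-part, and suppose G has a Sylow 2-subgroup S such that every element of S that is conjugate in S to its inverse lies in the centre of S. Then G is solvable and the subgroup generated by the 2-elements of G (the smallest normal subgroup of odd index) has a normal 2-complement. -/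
theorem result {G : Type*} [Group G] [Finite G] (a : ℕ) (h : ∀ x : G, IsConj x x⁻¹ → x ∉ Subgroup.center G → ((Subgroup.centralizer ({x} : Set G)).index).factorization 2 = a) (S : Sylow 2 G) (hS : ∀ s : ↥(S : Subgroup G), IsConj s s⁻¹ → s ∈ Subgroup.center ↥(S : Subgroup G)) : Group.IsSolvable G ∧ Cfsg.HasNormalPComplement 2 ↥(Subgroup.closure {g : G | ∃ k : ℕ, orderOf g = 2 ^ k}) := by
  set K := Subgroup.closure {g : G | ∃ k : ℕ, orderOf g = 2 ^ k} with hK
  have up : ∀ x : K, IsConj x x⁻¹ → IsConj (x : G) (x : G)⁻¹ := fun x hx => by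
    simpa using K.subtype.map_isConj hx
  by_cases hc : ∀ x : G, (∃ j : ℕ, orderOf x = 2 ^ j) → IsConj x x⁻¹ → x ∈ Subgroup.center G
  · constructor
    · obtain ⟨P, N, hN, hNP⟩ := S3862.result hc
      refine solv N (H16.odd_order _ ?_) ?_
      · rw [← hNP.index_eq_card, ← Nat.not_even_iff_odd, even_iff_two_dvd]; exact P.not_dvd_index
      · obtain ⟨k, hk⟩ := P.isPGroup'.exists_card_eq
        have : IsPGroup 2 (G ⧸ N) := IsPGroup.of_card (by rw [← index_eq_card, hNP.symm.index_eq_card, hk])
        have := this.isNilpotent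
        infer_instance
    · refine S3862.result fun x hx hr => mem_center_iff.2 fun y => Subtype.ext ?_
      exact mem_center_iff.1 (hc x (by simpa using hx) (up x hr)) y
  · push Not at hc
    obtain ⟨x, ⟨j, hx⟩, hr, hz⟩ := hc
    obtain ⟨T, -, hT⟩ := central S hS hx hr
    have a0 : a = 0 := by
      rw [← h x hr hz]
      exact Nat.factorization_eq_zero_of_not_dvd fun e => T.not_dvd_index (e.trans (index_dvd_of_le hT))
    have hn : (S : Subgroup G).Normal := (S3861.result S).1 fun y h1 ho hy => by
      have sq : y ^ 2 = 1 → False := fun e => h1 (by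
        have := Nat.dvd_gcd (orderOf_dvd_of_pow_eq_one e) dvd_rfl
        rw [(Nat.coprime_two_left.2 ho).gcd_eq_one] at this
        exact orderOf_eq_one_iff.1 (Nat.dvd_one.1 this))
      by_cases hyz : y ∈ center G
      · obtain ⟨c, hc⟩ := isConj_iff.1 hy
        refine sq ?_
        rw [mem_center_iff.1 hyz c, mul_inv_cancel_right] at hc
        rw [pow_two]; nth_rewrite 2 [hc]; exact mul_inv_cancel y
      · refine sq ((S3863.result y hy).2.1 ?_)
        rw [← Nat.not_even_iff_odd, even_iff_two_dvd]
        intro e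
        have := (Nat.prime_two.factorization_pos_of_dvd index_ne_zero_of_finite e).ne'
        exact this ((h y hy hyz).trans a0)
    constructor
    · refine solv (S : Subgroup G) (by have := S.isPGroup'.isNilpotent; infer_instance) (H16.odd_order _ ?_)
      rw [← index_eq_card, ← Nat.not_even_iff_odd, even_iff_two_dvd]; exact S.not_dvd_index
    · have KS : K ≤ S := (closure_le _).2 fun y ⟨k, hk⟩ => mem_of_normal S hn hk
      refine S3862.result fun y ⟨k, hk⟩ hr => mem_center_iff.2 fun w => Subtype.ext ?_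
      obtain ⟨T, -, hT⟩ := central S hS (x := (y : G)) (j := k) (by simpa using hk) (up y hr)
      have := Sylow.unique_of_normal S hn
      rw [Subsingleton.elim T S] at hT
      exact mem_centralizer_singleton_iff.1 (hT (KS w.2))

end Cfsg.Agent.S4193
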