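import Cfsg.Statements.S4355
import Cfsg.Agent.H21.Crit

set_option autoImplicit false
open Cfsg

namespace Cfsg.Agent.S4355

open H18 H21 Subgroup
open scoped commutatorElement
universe u
theorem aux (n : ℕ) : ∀ {G : Type u} [Group G] [Finite G] {K S : Subgroup G}, Nat.card K = n →
    (∀ x ∈ K, PiElt {2} x → ∃ S, Hall {2} S K ∧ S ≤ C1(x)) → Hall {2} S K → Abel S := by
  induction n using Nat.strong_induction_on with
  | _ n ih =>
  intro G _ _ K S hn h hS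
  have p2 := Nat.prime_two
  have sup : ∀ x ∈ K, PiElt {2} x → ∀ D, D ≤ K ⊓ C1(x) → PiGrp {2} D → ∃ S, Hall {2} S K ∧ S ≤ C1(x) ∧ D ≤ S :=
    fun x hx x2 D h1 h2 => by
      obtain ⟨T, hT, h3⟩ := h x hx x2
      obtain ⟨R, hR, h4⟩ := exists_sylow_le p2 h2 h1
      exact ⟨R, hR.of_idx inf_le_left (relIndex_inf_left (A := C1(x)) ▸ relIndex_inf_left (A := C1(x)) ▸
        hT.idx_of_le (le_inf hT.le h3)), hR.le.trans inf_le_right, h4⟩
  have cm : ∀ R, R ≤ K → PiGrp {2} R → ∀ a ∈ R, ∀ b ∈ R, a ^ 2 = 1 → b ^ 2 = 1 → a * b = b * a :=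
    fun R h1 h2 a ha b hb a2 b2 => by
      obtain ⟨T, hT, h3⟩ := h _ (h1 (mul_mem ha hb)) (h2.elt (mul_mem ha hb))
      have ai := inv_eq_of_mul_eq_one_left (pow_two a ▸ a2)
      have bi := inv_eq_of_mul_eq_one_left (pow_two b ▸ b2)
      have e : a * (a * b) * a⁻¹ = (a * b)⁻¹ := by rw [← mul_assoc, ← pow_two, a2, mul_inv_rev, bi, one_mul]
      have n1 : a ∈ K ⊓ N(zpowers (a * b)) := ⟨h1 ha, mem_N_iff_cj.2 (by rw [cj_zpowers, e, zpowers_inv])⟩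
      have := (h2.elt ha).mem_of_nml n1 (nml_cent inf_le_right) ((hT.of_le (le_inf hT.le
        (h3.trans C1_le_N_zpowers)) inf_le_left).idx_of_le (le_inf (le_inf hT.le (h3.trans C1_le_N_zpowers))
          (C_zpowers (x := a * b) ▸ h3)))
      have := conj_eq_self_of_C1 (C_zpowers (x := a * b) ▸ this.2)
      rwa [e, mul_inv_rev, ai, bi, eq_comm] at this
  have el : ∀ R, R ≤ K → PiGrp {2} R → Abel Ω[2](R) := fun R h1 h2 =>
    omega_le_iff.2 fun a ha a2 => le_C1_iff.1 (omega_le_iff.2 fun b hb b2 => mem_C1.2 (cm R h1 h2 b hb a ha b2 a2))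
  have mo : ∀ R, R ≤ K → PiGrp {2} R → ∀ a ∈ Ω[2](R), a ^ 2 = 1 := fun R h1 h2 a ha =>
    (omega_omega (H := R) ▸ (el R h1 h2).omega_elem).pow a ha
  have wk : ∀ T R, Hall {2} T K → Hall {2} R K → Ω[2](T) ≤ R → Ω[2](T) = Ω[2](R) := fun T R hT hR h1 => by
    obtain ⟨g, -, rfl⟩ := sylow_conj p2 hT hR
    exact eq_of_card_eq (omega_omega (H := T) ▸ omega_mono h1) (by rw [← cj_omega, card_cj])
  have cen : ∀ T, Hall {2} T K → T ≤ C(Ω[2](T)) := fun T hT t ht => le_C1_iff.1 (by_contra fun c => by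
    have tA : zpowers t ≤ N(Ω[2](T)) := zpowers_le.2 (omega_nml.2 ht)
    have DT : Ω[2](T) ⊓ C1(t) ⊔ zpowers t ≤ T := sup_le (inf_le_left.trans omega_le) (zpowers_le.2 ht)
    have Dt : Ω[2](T) ⊓ C1(t) ⊔ zpowers t ≤ C1(t) := sup_le inf_le_right (zpowers_le.2 C1_self)
    obtain ⟨g, ⟨g1, g2⟩, g3⟩ := SetLike.exists_of_lt ((hT.pi.of_le (sup_le omega_le (zpowers_le.2 ht))).nil.lt_norm
      (lt_of_le_of_ne (sup_le_sup_right inf_le_left _) fun e => c (le_sup_left.trans (e.ge.trans Dt))))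
    obtain ⟨a, ha, s, hs, rfl⟩ := (mem_sup_of_norm' tA).1 g1
    have aN := (mul_mem_cancel_right (le_N (mem_sup_right hs))).1 g2
    obtain ⟨S1, h1, h2, h3⟩ := sup t (hT.le ht) (hT.pi.elt ht) _ (le_inf (DT.trans hT.le) Dt) (hT.pi.of_le DT)
    have h4 : Ω[2](S1) ≤ C(Ω[2](T) ⊓ C1(t) ⊔ zpowers t) := cent_sup (le_trans (el S1 h1.le h1.pi) (C_anti fun x hx =>
      mem_omega (h3 (mem_sup_left hx)) (mo T hT.le hT.pi x hx.1))) (C_zpowers (x := t) ▸ omega_le.trans h2)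
    obtain ⟨R, hR, h5⟩ := exists_sylow_le p2 (h1.pi.of_le omega_le) (le_inf (omega_le.trans h1.le) (h4.trans C_le_N))
    obtain ⟨S2, h6, h7⟩ := exists_sylow_le p2 hR.pi (hR.le.trans inf_le_left)
    obtain ⟨g, hg, h8⟩ := sylow_le_cj p2 hR (hT.pi.elt (omega_le ha)).zpowers
      (zpowers_le.2 (mem_inf.2 ⟨hT.le (omega_le ha), aN⟩))
    have h9 := h4 ((wk S1 S2 h1 h6 (h5.trans h7)).ge (mem_omega (h7 (h8 (conj_mem_cj (mem_zpowers a))))
      (by rw [conj_pow, mo T hT.le hT.pi a ha]; simp)))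
    have := conj_mem_N' (N_le_N_C hg.2) h9
    rw [show g⁻¹ * (g * a * g⁻¹) * g = a by group] at this
    exact g3 (mul_mem (mem_sup_left ⟨ha, C_le_C1 (mem_sup_right (mem_zpowers t)) this⟩) (mem_sup_right hs)))
  by_cases h0 : S = ⊥
  · exact h0 ▸ abel_bot
  set A := Ω[2](S)
  have nA : A ⊴ K ⊓ N(A) := ⟨le_inf (omega_le.trans hS.le) le_N, inf_le_right⟩
  have SN : S ≤ K ⊓ N(A) := le_inf hS.le omega_nml.2
  have hSN := hS.of_le SN inf_le_left
  have nC : K ⊓ N(A) ⊓ C(A) ⊴ K ⊓ N(A) := nml_cent inf_le_right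
  have SC : S ≤ K ⊓ N(A) ⊓ C(A) := le_inf SN (cen S hS)
  have h2 : ∀ x ∈ K ⊓ N(A), PiElt {2} x → ∃ T, Hall {2} T (K ⊓ N(A)) ∧ T ≤ C1(x) := fun x hx x2 => by
    have xC := (x2.mem_of_nml hx nC (hSN.idx_of_le SC)).2
    obtain ⟨T, h1, h2, h3⟩ := sup x hx.1 x2 A (le_inf (omega_le.trans hS.le) (le_C1_iff.2 xC)) (hS.pi.of_le omega_le)
    exact ⟨T, h1.of_le (le_inf h1.le (by rw [show A = Ω[2](T) from wk S T hS h1 h3]; exact omega_nml.2))
      inf_le_left, h2⟩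
  have h3 := (abel_quo_iff omega_nml.2).1 (ih _ (lt_of_lt_of_le (card_quo_lt nA (hS.pi.omega_ne_bot h0))
    (hn ▸ card_le inf_le_left)) rfl (fun z hz z2 => by
      obtain ⟨x, hx, xN, x2, rfl⟩ := exists_piElt_lift hz z2
      obtain ⟨T, h1, h3⟩ := h2 x hx x2
      exact ⟨_, h1.mim nA.2, mim_C1 xN h3⟩) (hSN.mim nA.2))
  intro x hx
  obtain ⟨T, h4, h5⟩ := h2 x (SN hx) (hS.pi.elt hx)
  have TC := h4.pi.le_of_nml h4.le nC (hSN.idx_of_le SC)
  set D := K ⊓ N(A) ⊓ C(A) ⊓ C1(x)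
  have TD : T ≤ D := le_inf TC h5
  have DN : D ≤ K ⊓ N(A) := inf_le_left.trans inf_le_left
  have SD : S ≤ N(D) := fun s hs => mem_N_of_finite fun d hd => ⟨conj_mem (le_norm SC) hs hd.1, by
    have h6 := mem_C.1 hd.1.2 _ (h3 (commutator_mem_commutator (inv_mem hs) hx))
    have h7 := mem_C1.1 hd.2
    rw [commutatorElement_def] at h6
    refine mem_C1.2 ?_
    calc _ = s * (d * (s⁻¹ * x * s⁻¹⁻¹ * x⁻¹) * x) * s⁻¹ := by group
      _ = s * (s⁻¹ * x * s⁻¹⁻¹ * x⁻¹ * (d * x)) * s⁻¹ := by rw [← h6]; group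
      _ = _ := by rw [h7]; group⟩
  exact le_C1_iff.1 ((hS.pi.le_of_nml le_sup_left (nml_sup_right SD)
    ((h4.of_le (TD.trans le_sup_right) (sup_le SN DN)).idx_of_le TD)).trans inf_le_right)

/-- If every element of 2-power order of a finite group has a conjugacy class of odd size, then the Sylow 2-subgroups of the group are abelian. -/
theorem result {G : Type*} [Group G] [Finite G]
    (h : ∀ x : G, (∃ k : ℕ, orderOf x = 2 ^ k) → ¬ 2 ∣ (Subgroup.centralizer ({x} : Set G)).index) (P : Sylow 2 G) :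
    IsMulCommutative P := by
  refine (aux _ rfl (fun x _ hx => ?_) (hall_sylow_top Nat.prime_two P)).comm
  obtain ⟨S, hS⟩ := exists_sylow Nat.prime_two C1(x)
  exact ⟨S, hS.of_idx le_top (relIndex_top_right C1(x) ▸ (piNat_compl_iff Nat.prime_two).2
    (h x ((pElt_iff Nat.prime_two).2 hx))), hS.le⟩

end Cfsg.Agent.S4355
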