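import Cfsg.Statements.S4237
import Cfsg.Agent.H3.K2

set_option autoImplicit false
open Cfsg

namespace Cfsg.Agent.S4237

/-- Let G be a finite group, p a prime and a a natural number such that p^(a+1) divides the order of G. Then the number of subgroups of G of order p^a is congruent to 1 or to 1 + p modulo p². -/
theorem result {G : Type*} [Group G] [Finite G] (p a : ℕ) (hp : p.Prime) (hdvd : p ^ (a + 1) ∣ Nat.card G) :
    Nat.card {H : Subgroup G // Nat.card H = p ^ a} ≡ 1 [MOD p ^ 2] ∨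
      Nat.card {H : Subgroup G // Nat.card H = p ^ a} ≡ 1 + p [MOD p ^ 2] := by
  have := Fact.mk hp
  rcases Nat.eq_zero_or_pos a with rfl | ha
  · left
    rw [Nat.card_eq_one_iff_exists.2 ⟨⟨⊥, by simp⟩, fun H => Subtype.ext
      (Subgroup.card_eq_one.1 (H.2.trans (pow_zero p)))⟩]
  obtain ⟨P⟩ : Nonempty (Sylow p G) := inferInstance
  have h1 := H3.Kul.sc_sylow P hdvd
  have h2 := H3.Kul.kulakoff ha P P.isPGroup' (P.pow_dvd_card_of_pow_dvd_card hdvd)
  rw [H3.Kul.sc_top, ← H3.Kul.sc_eq] at h2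
  rw [H3.Kul.sc_top] at h1
  exact (em _).imp (fun h => h1.trans (h2.1 h)) fun h => h1.trans (h2.2 h)

end Cfsg.Agent.S4237
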