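import Cfsg.Statements.S4281
import Cfsg.Agent.H12.Ref
import Cfsg.Agent.H9.InvCount

set_option autoImplicit false
open scoped BigOperators
open Cfsg

namespace Cfsg.Agent.S4281
open H12 H13 Cfsg.Lie

/-- In the Chevalley group of type E₈ over a finite field of odd order q there are exactly two conjugacy classes of involutions; the centralizer of an involution in one class has order q⁵⁶(q⁸ − 1)·∏_{i=1}^{7}(q^{2i} − 1), and in the other class q⁶⁴(q² − 1)²(q⁶ − 1)(q⁸ − 1)(q¹⁰ − 1)(q¹² − 1)(q¹⁴ − 1)(q¹⁸ − 1). -/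
theorem result {F : Type*} [Field F] [Fintype F] (hF : Odd (Fintype.card F)) : ∃ s t : ↥(Cfsg.Lie.chevE8.group F), orderOf s = 2 ∧ orderOf t = 2 ∧ ¬ IsConj s t ∧ (∀ u : ↥(Cfsg.Lie.chevE8.group F), orderOf u = 2 → IsConj u s ∨ IsConj u t) ∧ Nat.card (Subgroup.centralizer ({s} : Set ↥(Cfsg.Lie.chevE8.group F))) = Fintype.card F ^ 56 * (Fintype.card F ^ 8 - 1) * ∏ i ∈ Finset.Icc 1 7, (Fintype.card F ^ (2 * i) - 1) ∧ Nat.card (Subgroup.centralizer ({t} : Set ↥(Cfsg.Lie.chevE8.group F))) = Fintype.card F ^ 64 * (Fintype.card F ^ 2 - 1) ^ 2 * (Fintype.card F ^ 6 - 1) * (Fintype.card F ^ 8 - 1) * (Fintype.card F ^ 10 - 1) * (Fintype.card F ^ 12 - 1) * (Fintype.card F ^ 14 - 1) * (Fintype.card F ^ 18 - 1) := by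
  have h : InvT (tab chevE8) 239 [2, 3, 4, 6, 5, 4, 3, 2] [[0, 1, 1, 0, 0, 0, 0, 0], [0, 1, 0, 0, 1, 0, 1, 0]] := by rw [tabE8_eq]; decide +kernel
  obtain ⟨a1, -, a2⟩ := card_cent_sg smithE8 (by decide) hF (n := [0, 1, 1, 0, 0, 0, 0, 0])
    (L := [120, 121, 122, 123, 124, 125, 126, 127, 128, 129, 130, 131, 132, 133, 134, 135, 136, 137, 138, 139, 140, 141, 142, 143, 144, 145, 146, 147, 148, 149, 150, 151, 152, 153, 154, 155, 156, 157, 158, 159, 160, 161, 226, 227, 228, 229, 230, 231, 232, 233, 234, 235, 236, 237, 238, 239])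
    (Os := [[[1, 0, 0, 0, 0, 0, 0, 0], [-1, 0, 0, 0, 0, 0, 0, 2], [-1, 0, 0, 0, 0, 0, 2, -2], [-1, 0, 0, 0, 0, 2, -2, 0], [-1, 0, 0, 0, 2, -2, 0, 0], [-1, 0, 0, 2, -2, 0, 0, 0], [-1, 2, 2, -2, 0, 0, 0, 0], [1, 2, -2, 0, 0, 0, 0, 0], [-1, -2, 2, 0, 0, 0, 0, 0], [1, -2, -2, 2, 0, 0, 0, 0], [1, 0, 0, -2, 2, 0, 0, 0], [1, 0, 0, 0, -2, 2, 0, 0], [1, 0, 0, 0, 0, -2, 2, 0], [1, 0, 0, 0, 0, 0, -2, 2], [1, 0, 0, 0, 0, 0, 0, -2], [-1, 0, 0, 0, 0, 0, 0, 0]], [[0, 0, 0, 0, 0, 0, 0, 1], [0, 0, 0, 0, 0, 0, 1, -1], [0, 0, 0, 0, 0, 1, -1, 0], [0, 0, 0, 0, 1, -1, 0, 0], [0, 0, 0, 1, -1, 0, 0, 0], [0, 1, 1, -1, 0, 0, 0, 0], [1, 1, -1, 0, 0, 0, 0, 0], [0, -1, 1, 0, 0, 0, 0, 0], [1, -1, -1, 1, 0, 0, 0, 0], [1, 0, 0, -1, 1, 0, 0, 0], [1, 0, 0, 0, -1, 1, 0, 0], [1, 0, 0, 0, 0, -1, 1, 0],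 [1, 0, 0, 0, 0, 0, -1, 1], [1, 0, 0, 0, 0, 0, 0, -1]], [[0, 0, 0, 0, 0, 0, 1, 0], [0, 0, 0, 0, 0, 1, -1, 1], [0, 0, 0, 0, 1, -1, 0, 1], [0, 0, 0, 1, -1, 0, 0, 1], [0, 1, 1, -1, 0, 0, 0, 1], [1, 1, -1, 0, 0, 0, 0, 1], [0, -1, 1, 0, 0, 0, 0, 1], [1, -1, -1, 1, 0, 0, 0, 1], [1, 0, 0, -1, 1, 0, 0, 1], [1, 0, 0, 0, -1, 1, 0, 1], [1, 0, 0, 0, 0, -1, 1, 1], [1, 0, 0, 0, 0, 0, -1, 2]], [[0, 0, 0, 0, 0, 1, 0, 0], [0, 0, 0, 0, 1, -1, 1, 0], [0, 0, 0, 1, -1, 0, 1, 0], [0, 1, 1, -1, 0, 0, 1, 0], [1, 1, -1, 0, 0, 0, 1, 0], [0, -1, 1, 0, 0, 0, 1, 0], [1, -1, -1, 1, 0, 0, 1, 0], [1, 0, 0, -1, 1, 0, 1, 0], [1, 0, 0, 0, -1, 1, 1, 0], [1, 0, 0, 0, 0, -1, 2, 0]], [[0, 1, 0, 0, 0, 0, 0, 0], [0, -1, 0, 1, 0, 0, 0, 0], [0, 0, 1, -1, 1, 0, 0, 0], [0, 0, 1, 0, -1, 1, 0, 0], [1, 0, -1, 0,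 1, 0, 0, 0], [1, 0, -1, 1, -1, 1, 0, 0], [1, 1, 0, -1, 0, 1, 0, 0], [1, -1, 0, 0, 0, 1, 0, 0]], [[0, 0, 1, 0, 0, 0, 0, 0], [1, 0, -1, 1, 0, 0, 0, 0], [1, 1, 0, -1, 1, 0, 0, 0], [1, 1, 0, 0, -1, 1, 0, 0]], [[0, 0, 0, 1, 0, 0, 0, 0], [0, 1, 1, -1, 1, 0, 0, 0], [0, 1, 1, 0, -1, 1, 0, 0]], [[0, 0, 0, 0, 1, 0, 0, 0], [0, 0, 0, 1, -1, 1, 0, 0]]])
    (E := [[0, 1, 2, 3, 4, 5, 6, 7, 7, 8, 9, 10, 11, 12, 13, 14], [0, 1, 2, 3, 4, 5, 6, 6, 7, 8, 9, 10, 11, 12], [0, 1, 2, 3, 4, 5, 5, 6, 7, 8, 9, 10], [0, 1, 2, 3, 4, 4, 5, 6, 7, 8], [0, 1, 2, 3, 3, 4, 5, 6], [0, 1, 2, 3], [0, 1, 2], [0, 1]]) (by rw [tabE8_eq]; decide +kernel)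
  obtain ⟨b1, -, b2⟩ := card_cent_sg smithE8 (by decide) hF (n := [0, 1, 0, 0, 1, 0, 1, 0])
    (L := [121, 123, 124, 126, 127, 128, 130, 131, 132, 133, 135, 136, 137, 138, 139, 141, 142, 143, 144, 145, 147, 148, 149, 150, 152, 153, 154, 156, 157, 159, 162, 163, 164, 165, 166, 167, 169, 170, 171, 172, 174, 175, 176, 178, 179, 181, 184, 185, 186, 188, 189, 191, 194, 195, 197, 200, 204, 205, 207, 210, 214, 219, 226, 239])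
    (Os := [[[0, 0, 0, 0, 0, 0, 0, 1], [0, 0, 0, 0, 0, 0, 0, -1]], [[0, 0, 0, 0, 0, 0, 1, 0], [0, 0, 0, 0, 0, 1, -1, 1], [0, 0, 0, 0, 1, -1, 0, 1], [0, 0, 0, 1, -1, 0, 0, 1], [0, 1, 1, -1, 0, 0, 0, 1], [1, 1, -1, 0, 0, 0, 0, 1], [0, -1, 1, 0, 0, 0, 0, 1], [1, -1, -1, 1, 0, 0, 0, 1], [1, 0, 0, -1, 1, 0, 0, 1], [1, 0, 0, 0, -1, 1, 0, 1], [1, 0, 0, 0, 0, -1, 1, 1], [-1, 1, 0, 0, 0, 0, 0, 1], [-1, -1, 0, 1, 0, 0, 0, 1], [-1, 0, 1, -1, 1, 0, 0, 1], [-1, 0, 1, 0, -1, 1, 0, 1], [-1, 0, 1, 0, 0, -1, 1, 1], [0, 0, -1, 0, 1, 0, 0, 1], [0, 0, -1, 1, -1, 1, 0, 1], [0, 0, -1, 1, 0, -1, 1, 1], [0, 1, 0, -1, 0, 1, 0, 1], [0, 1, 0, -1, 1, -1, 1, 1], [0, 1, 0, 0, -1, 0, 1, 1], [0, -1, 0, 0, 0, 1, 0, 1], [0, -1, 0, 0, 1, -1, 1, 1], [0, -1, 0, 1, -1, 0, 1, 1], [0, 0, 1, -1, 0, 0, 1,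 1], [1, 0, -1, 0, 0, 0, 1, 1], [-1, 0, 0, 0, 0, 0, 1, 1], [1, 0, 0, 0, 0, 0, -1, 2], [-1, 0, 1, 0, 0, 0, -1, 2], [0, 0, -1, 1, 0, 0, -1, 2], [0, 1, 0, -1, 1, 0, -1, 2], [0, 1, 0, 0, -1, 1, -1, 2], [0, -1, 0, 0, 1, 0, -1, 2], [0, -1, 0, 1, -1, 1, -1, 2], [0, 0, 1, -1, 0, 1, -1, 2], [1, 0, -1, 0, 0, 1, -1, 2], [-1, 0, 0, 0, 0, 1, -1, 2], [0, 1, 0, 0, 0, -1, 0, 2], [0, -1, 0, 1, 0, -1, 0, 2], [0, 0, 1, -1, 1, -1, 0, 2], [1, 0, -1, 0, 1, -1, 0, 2], [-1, 0, 0, 0, 1, -1, 0, 2], [0, 0, 1, 0, -1, 0, 0, 2], [1, 0, -1, 1, -1, 0, 0, 2], [-1, 0, 0, 1, -1, 0, 0, 2], [1, 1, 0, -1, 0, 0, 0, 2], [-1, 1, 1, -1, 0, 0, 0, 2], [0, 1, -1, 0, 0, 0, 0, 2], [1, -1, 0, 0, 0, 0, 0, 2], [-1, -1, 1, 0, 0, 0, 0, 2], [0, -1, -1, 1, 0, 0, 0, 2], [0, 0, 0, -1, 1, 0, 0, 2], [0, 0, 0, 0, -1, 1, 0,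 2], [0, 0, 0, 0, 0, -1, 1, 2], [0, 0, 0, 0, 0, 0, -1, 3]], [[1, 0, 0, 0, 0, 0, 0, 0], [-1, 0, 1, 0, 0, 0, 0, 0], [0, 0, -1, 1, 0, 0, 0, 0], [0, 1, 0, -1, 1, 0, 0, 0], [0, 1, 0, 0, -1, 1, 0, 0], [0, 1, 0, 0, 0, -1, 1, 0], [0, -1, 0, 0, 1, 0, 0, 0], [0, -1, 0, 1, -1, 1, 0, 0], [0, -1, 0, 1, 0, -1, 1, 0], [0, 0, 1, -1, 0, 1, 0, 0], [0, 0, 1, -1, 1, -1, 1, 0], [0, 0, 1, 0, -1, 0, 1, 0], [1, 0, -1, 0, 0, 1, 0, 0], [1, 0, -1, 0, 1, -1, 1, 0], [1, 0, -1, 1, -1, 0, 1, 0], [1, 1, 0, -1, 0, 0, 1, 0], [1, -1, 0, 0, 0, 0, 1, 0], [-1, 0, 0, 0, 0, 1, 0, 0], [-1, 0, 0, 0, 1, -1, 1, 0], [-1, 0, 0, 1, -1, 0, 1, 0], [-1, 1, 1, -1, 0, 0, 1, 0], [-1, -1, 1, 0, 0, 0, 1, 0], [0, 1, -1, 0, 0, 0, 1, 0], [0, -1, -1, 1, 0, 0, 1, 0], [0, 0, 0, -1, 1, 0, 1, 0], [0, 0, 0, 0, -1, 1, 1, 0], [0,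 0, 0, 0, 0, -1, 2, 0]], [[0, 0, 0, 0, 0, 1, 0, 0], [0, 0, 0, 0, 1, -1, 1, 0], [0, 0, 0, 1, -1, 0, 1, 0], [0, 1, 1, -1, 0, 0, 1, 0], [1, 1, -1, 0, 0, 0, 1, 0], [0, -1, 1, 0, 0, 0, 1, 0], [1, -1, -1, 1, 0, 0, 1, 0], [1, 0, 0, -1, 1, 0, 1, 0], [1, 0, 0, 0, -1, 1, 1, 0], [1, 0, 0, 0, 0, -1, 2, 0]], [[0, 1, 0, 0, 0, 0, 0, 0], [0, -1, 0, 1, 0, 0, 0, 0], [0, 0, 1, -1, 1, 0, 0, 0], [0, 0, 1, 0, -1, 1, 0, 0], [1, 0, -1, 0, 1, 0, 0, 0], [1, 0, -1, 1, -1, 1, 0, 0], [1, 1, 0, -1, 0, 1, 0, 0], [1, -1, 0, 0, 0, 1, 0, 0]], [[0, 0, 1, 0, 0, 0, 0, 0], [1, 0, -1, 1, 0, 0, 0, 0], [1, 1, 0, -1, 1, 0, 0, 0], [1, 1, 0, 0, -1, 1, 0, 0]], [[0, 0, 0, 1, 0, 0, 0, 0], [0, 1, 1, -1, 1, 0, 0, 0], [0, 1, 1, 0, -1, 1, 0, 0]], [[0, 0, 0, 0, 1, 0, 0, 0], [0, 0, 0, 1, -1, 1, 0, 0]]])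
    (E := [[0, 1], [0, 1, 2, 3, 4, 5, 5, 6, 7, 8, 9, 6, 7, 8, 9, 10, 9, 10, 11, 11, 12, 13, 12, 13, 14, 15, 16, 17, 10, 11, 12, 13, 14, 14, 15, 16, 17, 18, 15, 16, 17, 18, 19, 18, 19, 20, 20, 21, 22, 21, 22, 23, 24, 25, 26, 27], [0, 1, 2, 3, 4, 5, 4, 5, 6, 6, 7, 8, 7, 8, 9, 10, 11, 8, 9, 10, 11, 12, 12, 13, 14, 15, 16], [0, 1, 2, 3, 4, 4, 5, 6, 7, 8], [0, 1, 2, 3, 3, 4, 5, 6], [0, 1, 2, 3], [0, 1, 2], [0, 1]]) (by rw [tabE8_eq]; decide +kernel)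
  have hq : 1 < Fintype.card F := Fintype.one_lt_card
  have c : ∀ n, ((Fintype.card F ^ n - 1 : ℕ) : ℤ) = Fintype.card F ^ n - 1 := fun n => by rw [Nat.cast_sub (Nat.one_le_pow _ _ hq.le)]; simp
  have d : ∀ n ≠ 0, (Fintype.card F).Coprime (Fintype.card F ^ n - 1) := fun n hn =>
    ((Nat.coprime_self_sub_right (Nat.one_le_pow _ _ hq.le)).2 (Nat.coprime_one_right _)).coprime_dvd_left (dvd_pow_self _ hn)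
  have c1 := c 1
  rw [pow_one, pow_one] at c1
  replace a2 := a2.trans (show _ = Fintype.card F ^ 56 * (Fintype.card F ^ 8 - 1) * ∏ i ∈ Finset.Icc 1 7, (Fintype.card F ^ (2 * i) - 1) by
    simp only [List.map_cons, List.map_nil, List.sum_cons, List.sum_nil, List.prod_cons, List.prod_nil, List.length_cons, List.length_nil]; zify; simp only [c, c1, show chevE8.rank = 8 from rfl, show Finset.Icc 1 7 = {1, 2, 3, 4, 5, 6, 7} from by decide]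
    simp; ring)
  replace b2 := b2.trans (show _ = Fintype.card F ^ 64 * (Fintype.card F ^ 2 - 1) ^ 2 * (Fintype.card F ^ 6 - 1) * (Fintype.card F ^ 8 - 1) * (Fintype.card F ^ 10 - 1) * (Fintype.card F ^ 12 - 1) * (Fintype.card F ^ 14 - 1) * (Fintype.card F ^ 18 - 1) by
    simp only [List.map_cons, List.map_nil, List.sum_cons, List.sum_nil, List.prod_cons, List.prod_nil, List.length_cons, List.length_nil]; zify; simp only [c, c1, show chevE8.rank = 8 from rfl]; ring)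
  refine ⟨_, _, a1, b1, fun e => ?_, fun u hu => by simpa using h.exists_conj smithE8 (by decide) hF hu, a2, b2⟩
  have := H9.card_centralizer_of_isConj e
  simp only [a2, b2, mul_assoc] at this
  rw [show 64 = 56 + (1 + 7) from rfl, pow_add, mul_assoc, Nat.mul_right_inj (by positivity), pow_add, pow_one, mul_assoc] at this
  exact hq.ne' (Nat.Coprime.eq_one_of_dvd ((d 8 (by simp)).mul_right (Nat.Coprime.prod_right fun i hi => d _ (by simp at hi; omega))) ⟨_, this⟩)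

end Cfsg.Agent.S4281
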