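import Cfsg.Statements.S4284
import Cfsg.Agent.H17.DJ2

set_option autoImplicit false
open Cfsg

namespace Cfsg.Agent.S4284

open Subgroup Cfsg H18 H1 H117

/-- Let G be a finite group with no nontrivial abelian direct factor whose conjugacy class sizes are exactly 1, m and m·n with m, n > 1 coprime. Then m is a prime p dividing n − 1; the elements whose class has size 1 or p form an abelian normal subgroup of index p; G has a normal p-complement; and the commutator subgroup of a Sylow p-subgroup of G has order p. -/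
theorem result {G : Type*} [Group G] [Finite G] (hnodf : ∀ A B : Subgroup G, A.Normal → B.Normal → A ⊓ B = ⊥ → A ⊔ B = ⊤ → IsMulCommutative A → A = ⊥) (m n : ℕ) (hm : 1 < m) (hn : 1 < n) (hcop : m.Coprime n) (h : Set.range (fun x : G => (Subgroup.centralizer ({x} : Set G)).index) = ({1, m, m * n} : Set ℕ)) : m.Prime ∧ m ∣ n - 1 ∧ (∃ M : Subgroup G, M.Normal ∧ (M : Set G) = {x : G | (Subgroup.centralizer ({x} : Set G)).index = 1 ∨ (Subgroup.centralizer ({x} : Set G)).index = m} ∧ M.index = m ∧ IsMulCommutative M) ∧ (∃ N : Subgroup G, N.Normal ∧ (Nat.card N).Coprime m ∧ ∃ a : ℕ, N.index = m ^ a) ∧ ∀ P : Sylow m G, Nat.card (commutator (P : Subgroup G)) = m := by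
  have mem : ∀ x : G, C1(x).index = 1 ∨ C1(x).index = m ∨ C1(x).index = m * n := fun x => by
    have : C1(x).index ∈ ({1, m, m * n} : Set ℕ) := h ▸ Set.mem_range_self x
    simpa using this
  have dj : DJ G m n := ⟨hm, hn, hcop, fun x x1 => (mem x).resolve_left (mt C1_index_eq_one.1 x1),
    (h.symm ▸ (by simp) : m ∈ Set.range _), (h.symm ▸ (by simp) : m * n ∈ Set.range _)⟩
  obtain ⟨L, hL, -⟩ := H23.hall_superset (π := primes m) (H := (⊤ : Subgroup G)) dj.solv bot_le PiGrp.bot
  have dk : ∀ L, Hall (primes m) L ⊤ → DK m n O[(primes m)ᶜ]((⊤ : Subgroup G)) L := fun L hL =>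
    ⟨dj, dj.hallK, pcore_nml.norm, hL⟩
  have k := dk L hL
  have pp := k.prime
  have cg : ∀ t : ℕ, t.Prime → (t ∈ ({m} : Set ℕ) ↔ t ∈ primes m) := fun t pt =>
    ⟨fun k => ⟨pt, by rw [k]⟩, fun k => (Nat.prime_dvd_prime_iff_eq pt pp).1 k.2⟩
  refine ⟨pp, k.dvd_pred, ⟨_, norm_top_iff.1 (norm_C k.nK), Set.ext fun x => k.mem_C_iff, k.idx_C, k.abel_C.comm⟩,
    ⟨_, norm_top_iff.1 k.nK, (piNat_primes.coprime k.hK.pi).symm, ?_⟩, fun P => ?_⟩
  · rw [← relIndex_top_right, k.sd.relIndex]
    exact PiGrp.card_eq_pow ((piNat_congr cg).2 hL.pi)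
  · rw [← card_map_subtype, map_subtype_commutator]
    exact (dk P ((hall_sylow_top pp P).congr fun t pt _ => cg t pt)).card_der

end Cfsg.Agent.S4284
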