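import Cfsg.Statements.S4334
import Cfsg.Agent.H18.BG1
import Cfsg.Agent.H2.Factor
import Cfsg.Agent.H3.Frobenius

set_option autoImplicit false
open Cfsg

namespace Cfsg.Agent.S4334
open H18 Subgroup
open H1 (Cop cop_of_pi cop_of_pi')

/-- Let σ and τ be disjoint sets of primes with union π. Suppose a finite group G has a Hall π-subgroup H which is the direct product of a nilpotent σ-subgroup and a τ-subgroup (two elementwise-commuting subgroups generating H), and that the maximal τ-subgroups of G are pairwise conjugate. Then the maximal π-subgroups of G are pairwise conjugate. -/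
theorem result {G : Type*} [Group G] [Finite G]
    (σ τ π : Set ℕ) (hπ : π = σ ∪ τ) (hd : Disjoint σ τ) (H Hs Ht : Subgroup G) (hH : Cfsg.IsPiHall π H)
    (hs : Cfsg.IsPiSubgroup σ Hs) (ht : Cfsg.IsPiSubgroup τ Ht) (hsn : Group.IsNilpotent Hs)
    (hjoin : Hs ⊔ Ht = H) (hcomm : ∀ a ∈ Hs, ∀ b ∈ Ht, a * b = b * a) (hD : Cfsg.IsDPiGroup τ G) :
    Cfsg.IsDPiGroup π G := by
  have hH' : Hall π H ⊤ := hall_top_iff.2 hH
  have hc : Hs ≤ C(Ht) := cent_iff.2 hcomm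
  have hσ : ∀ p, p ∈ σ → p ∉ τ := fun p h1 h2 => Set.disjoint_left.1 hd h1 h2
  have hs' : PiGrp σ Hs := hs
  have ht' : PiGrp τ Ht := ht
  have h1 : Hall σ Hs ⊤ := (hjoin ▸ hall_of_sup hs' (ht'.sub fun p h2 h1 => hσ p h1 h2) (Or.inl (cent_norm hc))).trans hH'
    fun p _ h => hπ ▸ Or.inl h
  have h2 : Hall τ Ht ⊤ := (hjoin ▸ hall_of_sup' ht' (hs'.sub hσ) (Or.inr (cent_norm hc))).trans hH'
    fun p _ h => hπ ▸ Or.inr h
  have hsn' : Nil Hs := hsn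
  have A : ∀ p q, p.Prime → q.Prime → p ∈ σ → q ∈ π → q ≠ p → ∀ R Q : Subgroup G, PiGrp {p} R → PiGrp {q} Q → Nrm2 R Q →
      R ≤ C(Q) := by
    intro p q hp hq hpσ hqπ hne R Q hR hQ hn
    have hP : Hall {p} O[{p}](Hs) ⊤ := hsn'.pcore_hall.trans_p h1 hpσ
    obtain ⟨Q₀, hQ₀, hc₀⟩ : ∃ Q₀, Hall {q} Q₀ ⊤ ∧ O[{p}](Hs) ≤ C(Q₀) := by
      rw [hπ] at hqπ
      rcases hqπ with h | h
      · exact ⟨_, hsn'.pcore_hall.trans_p h1 h, hsn'.cent_pi pcore_le pcore_le pcore_pi (pcore_pi.p'_of_ne hne)⟩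
      · obtain ⟨Q₀, hQ₀⟩ := exists_sylow hq Ht
        exact ⟨Q₀, hQ₀.trans_p h2 h, cent_mono hc pcore_le hQ₀.le⟩
    have hpq : Hall {p, q} (O[{p}](Hs) ⊔ Q₀) ⊤ := hall_of_sylows le_top
      (PiGrp.sup_norm (hP.pi.of_p (by simp)) (hQ₀.pi.of_p (by simp)) (cent_norm hc₀)) (by
        rintro r - (rfl | rfl) -
        · exact ⟨_, hP, le_sup_left⟩
        · exact ⟨_, hQ₀, le_sup_right⟩)
    obtain ⟨g, -, hg⟩ := H2.nil_hall_le_cj hpq (hP.pi.nil.sup_cent hQ₀.pi.nil hc₀) (K := R ⊔ Q) le_top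
      (PiGrp.sup (hR.of_p (by simp)) (hQ.of_p (by simp)) hn)
    exact (((hP.pi.nil.sup_cent hQ₀.pi.nil hc₀).cj g).of_le hg).cent_pi le_sup_left le_sup_right hR (hQ.p'_of_ne hne)
  have B : ∀ K : Subgroup G, PiGrp π K → ∀ p, p.Prime → p ∈ σ → ∀ R, Hall {p} R K →
      Hall {p}ᶜ O[{p}ᶜ](K) K ∧ O[{p}ᶜ](K) ≤ C(R) := by
    intro K hK p hp hpσ R hR
    haveI := Fact.mk hp
    have hN : Hall {p}ᶜ O[{p}ᶜ](K) K := (hasNormalPComplement_iff hp).1 ((H3.frobenius_iff' (p := p)).2 fun Q hQ g hg hgp => by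
      refine le_of_pElts (H := zpowers g) (K := C(Q)) (fun q hq x hx hxq => ?_) (mem_zpowers g)
      by_cases hx1 : x = 1
      · rw [hx1]; exact one_mem _
      have hxp : PiElt {p}ᶜ x := PiElt.of_mem_zpowers ((piNat_compl_iff_coprime hp).2 hgp) hx
      obtain ⟨r, hr, hd, e⟩ := hxq.exists_mem hx1
      obtain rfl : r = q := e
      have hQ' : PiGrp {p} (Q.map K.subtype) := by rw [PiGrp, card_map_subtype]; exact piGrp_of_isPGroup hp hQ
      have := A p r hp hr hpσ (hK r hr (hd.trans (by rw [← card_top (G := K)]; exact orderOf_dvd_card (mem_top x))))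
        (hxp r hr hd) (Q.map K.subtype) (zpowers (x : G)) hQ' (PiElt.zpowers (by rw [PiElt, orderOf_coe]; exact hxq))
        (Or.inr (zpowers_le.2 (mem_N_of_finite (by
          rintro _ ⟨y, hy, rfl⟩
          exact ⟨_, conj_mem_N (zpowers_le.2 hg hx) hy, rfl⟩))))
      exact mem_C.2 fun y hy => Subtype.ext (comm_of_cent this (mem_map_of_mem _ hy) (mem_zpowers _)))
    refine ⟨hN, le_of_sylows fun q hq hd => ?_⟩
    obtain ⟨Q, hQ, hn⟩ := (cop_p'core hR.le hR.pi).exists_sylow hq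
    exact ⟨Q, hQ, cent_symm (A p q hp hq hpσ (hK q hq (hd.trans (card_dvd pcore_le))) (hN.pi q hq hd) R Q hR.pi hQ.pi (Or.inl hn))⟩
  have main : ∀ K : Subgroup G, PiGrp π K → ∃ g, K ≤ cj g H := by
    intro K hK
    have hO : Hall σ O[σ](K) K := hall_of_sylows pcore_le pcore_pi fun p hp hpσ _ => by
      obtain ⟨R, hR⟩ := exists_sylow hp K
      obtain ⟨b1, b2⟩ := B K hK p hp hpσ R hR
      exact ⟨R, hR, le_pcore ⟨hR.le, by rw [← hR.sup_compl b1]; exact sup_le le_N (cent_norm b2)⟩ (hR.pi.of_p hpσ)⟩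
    obtain ⟨L, hL⟩ := hO.exists_compl pcore_nml.norm
    have hOL : O[σ](K) ≤ C(L) := le_of_sylows fun p hp hd => by
      obtain ⟨R, hR⟩ := exists_sylow hp O[σ](K)
      have hpσ := hO.pi p hp hd
      obtain ⟨b1, b2⟩ := B K hK p hp hpσ R (hR.trans_p hO hpσ)
      exact ⟨R, hR, cent_mono (cent_symm b2) le_rfl (b1.le_pcore hL.le (hL.pi.p'' hpσ))⟩
    have hLτ : PiGrp τ L := ((hK.of_le hL.le).inter hL.pi).sub fun p hp => by
      rw [hπ] at hp; exact hp.1.resolve_left hp.2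
    obtain ⟨L', hL', hL1, hL2⟩ := exists_maximal_sub (PiGrp τ) hLτ
    obtain ⟨g, hg⟩ := hD Ht L' ⟨ht, fun Y hY e => (h2.eq_of_le e le_top hY).le⟩ ⟨hL1, fun Y hY e => (hL2 Y hY e).le⟩
    have hLg : L ≤ cj g Ht := hL'.trans hg.le
    obtain ⟨c, hc1, hc2⟩ := H2.nil_hall_le_cj ((h1.cj_top g).of_le (cent_mono (cj_cent_iff.2 hc) le_rfl hLg) le_top)
      (hsn'.cj g) hOL hO.pi
    refine ⟨c * g, ?_⟩
    rw [← hO.sup_compl hL, cj_mul, ← hjoin, cj_sup, cj_sup]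
    exact sup_le_sup hc2 (cj_eq_self_of_cent hc1 ▸ cj_mono hLg)
  intro K₁ K₂ m1 m2
  obtain ⟨g₁, e1⟩ := main K₁ m1.1
  obtain ⟨g₂, e2⟩ := main K₂ m2.1
  refine ⟨g₂ * g₁⁻¹, ?_⟩
  rw [← cj_def, le_antisymm e1 (m1.2 (hH'.pi.cj g₁) e1), le_antisymm e2 (m2.2 (hH'.pi.cj g₂) e2), cj_cj, inv_mul_cancel_right]

end Cfsg.Agent.S4334
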