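import Cfsg.Statements.S4347
import Cfsg.Agent.H22.Basic

set_option autoImplicit false
open Cfsg

namespace Cfsg.Agent.S4347

/-- Let G be a finite group and p a prime. Say a Sylow p-subgroup Q is redundant when every element of p-power order lies in some Sylow p-subgroup other than Q. Then G has no redundant Sylow p-subgroup if and only if some element of p-power order lies in exactly one Sylow p-subgroup. -/
theorem result {G : Type*} [Group G] [Finite G]
    (p : ℕ) [Fact p.Prime] :
    (¬ ∃ Q : Sylow p G, ∀ x : G, (∃ k : ℕ, orderOf x = p ^ k) → ∃ P : Sylow p G, P ≠ Q ∧ x ∈ P) ↔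
      ∃ x : G, (∃ k : ℕ, orderOf x = p ^ k) ∧ ∃! P : Sylow p G, x ∈ P := by
  constructor
  · intro h
    obtain ⟨Q⟩ : Nonempty (Sylow p G) := inferInstance
    push Not at h
    obtain ⟨x, hx, hQ⟩ := h Q
    obtain ⟨R, hR⟩ := H22.exists_sylow_mem hx
    have : ∀ P : Sylow p G, x ∈ P → P = Q := fun P hP => by
      by_contra hne; exact hQ P hne hP
    exact ⟨x, hx, R, hR, fun P hP => (this P hP).trans (this R hR).symm⟩
  · rintro ⟨x, ⟨k, hk⟩, P, hP, huniq⟩ ⟨Q, hQ⟩
    obtain ⟨g, rfl⟩ := MulAction.exists_smul_eq G P Q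
    obtain ⟨R, hR, hxR⟩ := hQ (g * x * g⁻¹) ⟨k, by rw [H22.orderOf_conj, hk]⟩
    apply hR
    have : g⁻¹ • R = P := huniq _ (by
      change x ∈ ((g⁻¹ • R : Sylow p G) : Subgroup G)
      rw [H22.mem_smul_sylow_iff, inv_inv]; exact hxR)
    rw [← this, smul_inv_smul]

end Cfsg.Agent.S4347
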