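import Cfsg.Statements.S4349
import Cfsg.Agent.H23.Wr4

set_option autoImplicit false
open Cfsg

namespace Cfsg.Agent.S4349

open H23 H23.Wr H20 Equiv Equiv.Perm Subgroup MulAction Sum

section
variable {Ω : Type*} [Fintype Ω] [DecidableEq Ω] {x w w' : Perm Ω} {a b : Ω}

def Cnd (x : Perm Ω) : Prop := (∀ a b c, x a = a → x b = b → x c = c → a = b ∨ a = c ∨ b = c) ∧
  ∀ a b, x a ≠ a → (∀ i : ℤ, (x ^ i) a = a ↔ (x ^ i) b = b) → x.SameCycle a b

theorem per (x : Perm Ω) (a : Ω) (i : ℤ) : (x ^ i) a = a ↔ (period x a : ℤ) ∣ i := zpow_smul_eq_iff_period_dvd (g := x)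

theorem card_cycleOf (h : x a ≠ a) : (x.cycleOf a).support.card = period x a := by
  have c := isCycle_cycleOf x h
  refine Nat.dvd_right_iff_eq.1 fun i => ?_
  rw [← c.orderOf, orderOf_dvd_iff_pow_eq_one, c.pow_eq_one_iff' (x := a) (by simpa), cycleOf_pow_apply_self,
    ← pow_smul_eq_iff_period_dvd]; rfl

theorem cnd_iff : Cnd x ↔ Fintype.card Ω ≤ x.support.card + 2 ∧ x.cycleType.Nodup := by
  refine and_congr ?_ ?_
  · have := Finset.card_add_card_compl x.support
    have h := Finset.two_lt_card (s := x.supportᶜ)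
    simp only [Finset.mem_compl, notMem_support] at h
    refine ⟨fun e => by_contra fun d => ?_, fun e a b c h1 h2 h3 => by_contra fun d => ?_⟩
    · obtain ⟨a, h1, b, h2, c, h3, h4⟩ := h.1 (by omega)
      have := e a b c h1 h2 h3
      tauto
    · have := h.2 ⟨a, h1, b, h2, c, h3, by tauto⟩
      omega
  rw [cycleType_def, Multiset.nodup_map_iff_inj_on x.cycleFactorsFinset.2]
  refine ⟨fun h c hc d hd e => ?_, fun h a b h1 h2 => ?_⟩
  · obtain ⟨a, ha, -⟩ := (mem_cycleFactorsFinset_iff.1 hc).1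
    obtain ⟨b, hb, -⟩ := (mem_cycleFactorsFinset_iff.1 hd).1
    have h1 := mem_support.1 (mem_cycleFactorsFinset_support_le hc (mem_support.2 ha))
    have h2 := mem_support.1 (mem_cycleFactorsFinset_support_le hd (mem_support.2 hb))
    rw [cycle_is_cycleOf (mem_support.2 ha) hc, cycle_is_cycleOf (mem_support.2 hb) hd] at e ⊢
    exact (h a b h1 fun i => by
      rw [per, per, ← card_cycleOf h1, ← card_cycleOf h2, show (x.cycleOf a).support.card = _ from e]; rfl).cycleOf_eq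
  · have h3 : x b ≠ b := fun e => h1 (by simpa [e] using h2 1)
    refine (sameCycle_iff_cycleOf_eq_of_mem_support (mem_support.2 h1) (mem_support.2 h3)).2 (h _
      (cycleOf_mem_cycleFactorsFinset_iff.2 (mem_support.2 h1)) _ (cycleOf_mem_cycleFactorsFinset_iff.2 (mem_support.2 h3)) ?_)
    exact (card_cycleOf h1).trans ((Nat.cast_inj (R := ℤ)).1 (Int.dvd_antisymm (by simp) (by simp)
      ((per x a _).1 ((h2 _).2 ((per x b _).2 dvd_rfl))) ((per x b _).1 ((h2 _).1 ((per x a _).2 dvd_rfl)))) |>.trans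
      (card_cycleOf h3).symm)

theorem swap_mem (hx : IsPGroup 2 (zpowers x)) {P : Sylow 2 (Perm Ω)} (hP : ∀ Q : Sylow 2 (Perm Ω), x ∈ Q → Q = P)
    (h : ∀ i : ℤ, ((x ^ i) a = a ↔ (x ^ i) b = b) ∧ ((x ^ i) a = b ↔ (x ^ i) b = a)) : swap a b ∈ P := by
  have h1 : ∀ g ∈ zpowers x, Commute (g * swap a b * g⁻¹) (swap a b) := by
    rintro _ ⟨i, rfl⟩
    obtain ⟨h1, h2⟩ := h i
    rw [← swap_apply_apply]
    by_cases e : (x ^ i) a = a
    · rw [e, h1.1 e]
    by_cases d : (x ^ i) a = b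
    · rw [d, h2.1 d, swap_comm]
    refine Perm.Disjoint.commute fun y => ?_
    by_cases f : y = a ∨ y = b
    · refine Or.inl (swap_apply_of_ne_of_ne ?_ ?_) <;> rcases f with rfl | rfl
      exacts [Ne.symm e, Ne.symm d, Ne.symm (mt h2.2 d), Ne.symm (mt h1.2 e)]
    · exact Or.inr (swap_apply_of_ne_of_ne (not_or.1 f).1 (not_or.1 f).2)
  haveI := isMulCommutative_closure (k := {s | ∃ g ∈ zpowers x, s = g * swap a b * g⁻¹}) (by
    rintro _ ⟨g, c, rfl⟩ _ ⟨k, d, rfl⟩
    have := congrArg (k * · * k⁻¹) (h1 _ (mul_mem (inv_mem d) c)).eq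
    simpa [mul_assoc] using this)
  obtain ⟨Q, hQ⟩ := (pgroup_sup hx (K := closure {s | ∃ g ∈ zpowers x, s = g * swap a b * g⁻¹}) (fun g => ⟨1, Subtype.ext (by
    obtain ⟨g, c⟩ := g
    induction c using closure_induction with
    | mem s d => obtain ⟨g, -, rfl⟩ := d; simp [sq, mul_assoc]
    | one => simp
    | mul s t d e f i => simp at f i; simp [Commute.mul_pow (setLike_mul_comm d e), f, i]
    | inv s d e => simpa using e)⟩) (le_normalizer_closure_iff.2 (by
      rintro g c _ ⟨k, d, rfl⟩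
      exact subset_closure ⟨g * k, mul_mem c d, by group⟩))).exists_le_sylow
  exact hP Q (hQ (mem_sup_left (mem_zpowers x))) ▸ hQ (mem_sup_right (subset_closure ⟨1, one_mem _, by simp⟩))

theorem cnd_of (hx : IsPGroup 2 (zpowers x)) {P : Sylow 2 (Perm Ω)} (hP : ∀ Q : Sylow 2 (Perm Ω), x ∈ Q → Q = P) : Cnd x := by
  have key : ∀ a b c, swap a b ∈ P → swap a c ∈ P → a = b ∨ a = c ∨ b = c := fun a b c h1 h2 => by
    by_contra! e
    obtain ⟨k, d⟩ := P.2 ⟨_, mul_mem h1 h2⟩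
    have := orderOf_dvd_of_pow_eq_one (congrArg Subtype.val d)
    rw [(isThreeCycle_swap_mul_swap_same e.1 e.2.1 e.2.2).orderOf] at this
    exact absurd (Nat.prime_three.dvd_of_dvd_pow this) (by decide)
  refine ⟨fun a b c h1 h2 h3 => key a b c (swap_mem hx hP fun i => ?_) (swap_mem hx hP fun i => ?_), fun a b h1 h2 => by_contra fun e => ?_⟩
  · simp [zpow_apply_eq_self_of_apply_eq_self, h1, h2, eq_comm]
  · simp [zpow_apply_eq_self_of_apply_eq_self, h1, h3, eq_comm]
  obtain ⟨k, d⟩ := hx ⟨x, mem_zpowers x⟩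
  have h3 : ∃ j, (x ^ 2 ^ j) a = a := ⟨k, congrArg (fun g : zpowers x => g.1 a) d⟩
  obtain ⟨j, hj⟩ := Nat.exists_eq_succ_of_ne_zero (n := Nat.find h3) fun f => h1 (by simpa [f] using Nat.find_spec h3)
  have h4 := Nat.find_spec h3
  have h5 := Nat.find_min h3 (hj ▸ Nat.lt_succ_self j)
  rw [hj, pow_succ, pow_mul, sq, Perm.mul_apply] at h4
  have h6 : ∀ (i : ℤ) u, (x ^ i) ((x ^ 2 ^ j) u) = (x ^ 2 ^ j) ((x ^ i) u) := fun i u =>
    congrArg (· u) ((Commute.refl x).zpow_left i |>.pow_right _).eq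
  have h7 : x.SameCycle a ((x ^ 2 ^ j) a) := ⟨(2 ^ j : ℕ), by rw [zpow_natCast]⟩
  generalize x ^ 2 ^ j = y at h4 h5 h6 h7
  rcases key a b (y a) (swap_mem hx hP fun i => ⟨h2 i, iff_of_false (fun d => e ⟨i, d⟩) fun d => e (SameCycle.symm ⟨i, d⟩)⟩)
    (swap_mem hx hP fun i => ⟨by rw [h6, y.injective.eq_iff], by rw [h6, ← y.injective.eq_iff, h4]⟩) with f | f | f
  exacts [e (f ▸ SameCycle.rfl), h5 f.symm, e (f ▸ h7)]

theorem uniq_w (h : Cnd x) (h1 : Commute w x) (h2 : ∀ a, w (w a) = a) (h3 : ∀ a b, w a = a → w b = b → a = b) (h4 : x a ≠ a) :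
    ∃ i : ℤ, (x ^ i) a = w a ∧ (period x a : ℤ) = 2 * i := by
  have h5 : ∀ (i : ℤ) u, (x ^ i) (w u) = w ((x ^ i) u) := fun i u => congrArg (· u) (h1.zpow_right i).eq.symm
  obtain ⟨i, e⟩ := h.2 a (w a) h4 fun i => by rw [h5, w.injective.eq_iff]
  have h6 : 0 < period x a := period_pos_of_orderOf_pos (orderOf_pos x) a
  rw [← show (x ^ (i % period x a)) a = (x ^ i) a from zpow_mod_period_smul (g := x) i] at e
  have h7 := Int.emod_nonneg i (show (period x a : ℤ) ≠ 0 by omega)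
  have h8 := Int.emod_lt_of_pos i (show (0 : ℤ) < period x a by omega)
  generalize i % period x a = j at *
  refine ⟨j, e, ?_⟩
  obtain ⟨k, d⟩ := (per x a (2 * j)).1 (by rw [two_mul, zpow_add, Perm.mul_apply, e, h5, e, h2])
  have : j ≠ 0 := by
    rintro rfl
    exact h4 (h3 _ _ (by simpa [← show a = w a from e] using (h5 1 a).symm) e.symm)
  have : 0 < k := lt_of_mul_lt_mul_left (a := (period x a : ℤ)) (by omega) (by omega)
  have : k < 2 := lt_of_mul_lt_mul_left (a := (period x a : ℤ)) (by omega) (by omega)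
  obtain rfl : k = 1 := by omega
  omega

theorem eq_w (h : Cnd x) (h1 : Commute w x) (h2 : ∀ a, w (w a) = a) (h3 : ∀ a b, w a = a → w b = b → a = b)
    (h1' : Commute w' x) (h2' : ∀ a, w' (w' a) = a) (h3' : ∀ a b, w' a = a → w' b = b → a = b) : w = w' := by
  ext a
  by_cases e : x a = a
  · have key : ∀ {w w' : Perm Ω}, Commute w x → (∀ a, w (w a) = a) → (∀ a b, w a = a → w b = b → a = b) → Commute w' x →
        w a = a → w' a = a := fun {w w'} c1 c2 c3 c4 d => by
      have d1 : x (w' a) = w' a := (congrArg (· a) c4.eq).symm.trans (congrArg w' e)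
      rcases h.1 a (w' a) (w (w' a)) e d1 ((congrArg (· (w' a)) c1.eq).symm.trans (congrArg w d1)) with f | f | f
      · exact f.symm
      · rw [← c2 (w' a), ← f, d]
      · exact c3 _ _ f.symm d
    rcases h.1 a (w a) (w' a) e ((congrArg (· a) h1.eq).symm.trans (congrArg w e))
      ((congrArg (· a) h1'.eq).symm.trans (congrArg w' e)) with f | f | f
    · rw [← f, key h1 h2 h3 h1' f.symm]
    · rw [← f, key h1' h2' h3' h1 f.symm]
    · exact f
  obtain ⟨i, c1, c2⟩ := uniq_w h h1 h2 h3 e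
  obtain ⟨j, d1, d2⟩ := uniq_w h h1' h2' h3' e
  rw [← c1, ← d1, show i = j by omega]
end

section
variable {α β : Type*} [Fintype α] [DecidableEq α] [Fintype β] [DecidableEq β] [Subsingleton β] {σ : Perm α} {v : α → ZMod 2}

theorem w_sq (a : α × ZMod 2 ⊕ β) : el β 1 (el β 1 a) = a := congrArg (· a) ((sq _).symm.trans (el_pow_p (p := 2)))

theorem w_fix (a b : α × ZMod 2 ⊕ β) (h1 : el β 1 a = a) (h2 : el β 1 b = b) : a = b := by
  rcases a with ⟨p, z⟩ | c
  · simp at h1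
  rcases b with ⟨p, z⟩ | d
  · simp at h2
  exact congrArg _ (Subsingleton.elim _ _)

theorem w_comm : Commute (el β 1) (mon β σ 1 v) := (mul_inv_eq_iff_eq_mul.1 (mon_conj_el.trans (by simp; rfl))).symm

theorem mon_zpow (i : ℤ) : ∃ u, mon β σ 1 v ^ i = mon β (σ ^ i) 1 u := by
  induction i with
  | zero => exact ⟨0, mon_one.symm⟩
  | succ i ih => exact ih.elim fun u e => ⟨_, by rw [zpow_add_one, zpow_add_one, e, mon_mul]; congr 1⟩
  | pred i ih => exact ih.elim fun u e => ⟨_, by rw [zpow_sub_one, zpow_sub_one, e, mon_inv, mon_mul]; congr 1⟩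

theorem cnd_mon (h : Cnd (mon β σ 1 v)) : Cnd σ := by
  have proj : ∀ p q, (mon β σ 1 v).SameCycle (inl (p, 0)) (inl (q, 0)) → σ.SameCycle p q := fun p q ⟨i, e⟩ =>
    (mon_zpow (β := β) (σ := σ) (v := v) i).elim fun u d => ⟨i, by simp [d] at e; exact e.1⟩
  have key : ∀ p, mon β σ 1 v (inl (p, 0)) ≠ inl (p, 0) → period (mon β σ 1 v) (inl (p, 0) : α × ZMod 2 ⊕ β) = 2 * period σ p :=
    fun p e => by
    obtain ⟨i, c1, c2⟩ := uniq_w h w_comm w_sq w_fix e
    obtain ⟨u, d1⟩ := mon_zpow (β := β) (σ := σ) (v := v) i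
    obtain ⟨t, d2⟩ := mon_zpow (β := β) (σ := σ) (v := v) (period σ p)
    have d3 := (per (mon β σ 1 v) (inl (p, 0)) (2 * period σ p)).1 (by
      rw [two_mul, zpow_add, d2]; simp [(per σ p _).2 dvd_rfl, -zpow_natCast, CharTwo.add_self_eq_zero])
    rw [c2, mul_dvd_mul_iff_left two_ne_zero] at d3
    have := Int.dvd_antisymm (by omega) (by omega) d3 ((per σ p i).1 (by simp [d1] at c1; exact c1.1))
    omega
  refine ⟨fun p q r h1 h2 h3 => ?_, fun p q h1 h2 => proj p q (h.2 _ _ (by simp [h1]) fun i => ?_)⟩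
  · have : ∀ p q, σ p = p → σ q = q → v p = v q → p = q := fun p q c1 c2 c3 => by
      rcases zmod_two_cases (v q) with d | d
      · simpa using h.1 (inl (p, 0)) (inl (p, 1)) (inl (q, 0)) (by simp [*]) (by simp [*]) (by simp [*])
      · refine (proj p q (h.2 _ _ (by simp [*]) fun i => ?_)).eq_of_left c1
        rw [per, per, key p (by simp [*]), key q (by simp [*]), period_eq_one_iff.2 c1, period_eq_one_iff.2 c2]
    rcases zmod_two_cases (v p) with a | a <;> rcases zmod_two_cases (v q) with b | b <;>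
      rcases zmod_two_cases (v r) with c | c <;>
      first | exact Or.inl (this p q h1 h2 (a.trans b.symm)) | exact Or.inr (Or.inl (this p r h1 h3 (a.trans c.symm))) |
        exact Or.inr (Or.inr (this q r h2 h3 (b.trans c.symm)))
  · have h3 : σ q ≠ q := fun e => h1 (by simpa [e] using h2 1)
    rw [per, per, key p (by simp [h1]), key q (by simp [h3]), (Nat.cast_inj (R := ℤ)).1 (Int.dvd_antisymm (by simp) (by simp)
      ((per σ p _).1 ((h2 _).2 ((per σ q _).2 dvd_rfl))) ((per σ q _).1 ((h2 _).1 ((per σ p _).2 dvd_rfl))))]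
end

theorem uniq (n : ℕ) : ∀ (Ω : Type) [Fintype Ω] [DecidableEq Ω], Fintype.card Ω = n → ∀ (x : Perm Ω) (P Q : Subgroup (Perm Ω)),
    Syl 2 P ⊤ → Syl 2 Q ⊤ → x ∈ P → x ∈ Q → Cnd x → Q ≤ P := by
  induction n using Nat.strong_induction_on with
  | _ n ih =>
  intro Ω _ _ hn x P Q hP hQ h1 h2 h
  rcases n.eq_zero_or_pos with rfl | h0
  · haveI := Fintype.card_eq_zero_iff.1 hn
    exact fun g _ => Subsingleton.elim 1 g ▸ one_mem _
  obtain ⟨A, hA⟩ := exists_good 2 (n / 2) (Fin (n / 2)) (by simp)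
  have hβ : Fintype.card (Fin (n % 2)) < 2 := by simp; omega
  haveI : Subsingleton (Fin (n % 2)) := Fintype.card_le_one_iff_subsingleton.1 (by omega)
  obtain ⟨e, he⟩ := exists_model hP.pgroup hβ hA (by rw [card_model, hn])
  have a1 := hP.map e.permCongrHom.toMonoidHom
  have a2 := hQ.map e.permCongrHom.toMonoidHom
  rw [map_top_of_surjective _ e.permCongrHom.surjective] at a1 a2
  have a0 : P.map e.permCongrHom.toMonoidHom ≤ T 2 _ A := map_le_iff_le_comap.2 he
  refine (map_le_map_iff_of_injective e.permCongrHom.injective).1 (le_trans ?_ (a1.2.2 _ a0 le_top (hA.T hβ).syl.pgroup))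
  have a3 : Cnd (e.permCongr x) := by
    have f : ∀ (i : ℤ) a, (e.permCongr x ^ i) (e a) = e ((x ^ i) a) := fun i a => by
      rw [show e.permCongr x ^ i = _ from (map_zpow e.permCongrHom x i).symm]; simp
    simp only [Cnd, e.surjective.forall, SameCycle, f, permCongr_apply, symm_apply_apply, e.injective.eq_iff, ne_eq]
    exact h
  have a4 := mem_map_of_mem e.permCongrHom.toMonoidHom h2
  obtain ⟨σ, b1, v, b2⟩ := he x h1
  rw [show e.permCongrHom.toMonoidHom x = _ from b2] at a4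
  rw [b2] at a3
  generalize Q.map e.permCongrHom.toMonoidHom = R at *
  obtain ⟨c, -, b3⟩ := (hA.T hβ).syl.exists_conj le_top a2.pgroup
  have b4 : c⁻¹ * el _ 1 * c = el _ 1 := eq_w a3 (by
    obtain ⟨τ, -, u, d⟩ := b3 _ a4
    have f := (w_comm (β := Fin (n % 2)) (σ := τ) (v := u)).eq
    rw [← d] at f
    simpa [Commute, SemiconjBy, mul_assoc] using congrArg (c⁻¹ * · * c) f)
    (fun a => by simp [w_sq]) (fun a b d f => c.injective (w_fix _ _ (by simpa [symm_apply_eq] using d)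
      (by simpa [symm_apply_eq] using f))) w_comm w_sq w_fix
  have b7 : ∀ y, c * el _ (sg y 1) * c⁻¹ ∈ T 2 (Fin (n % 2)) ⊤ := fun y => by
    have f : c (inl (y, 0 + 1)) = el _ 1 (c (inl (y, 0))) := by simpa [eq_symm_apply] using (congrArg (· (inl (y, 0))) b4).symm
    rw [el_swap y 0, ← swap_apply_apply, f]
    rcases c (inl (y, 0)) with ⟨z, t⟩ | d
    · rw [el_inl, Pi.one_apply, ← el_swap]; exact el_mem
    · rw [el_inr, swap_self]; exact one_mem _
  obtain ⟨τ, s, u, rfl⟩ := norm_mon (g := c) fun y => ⟨sg y 1, sg y 1, by simp, by simp, fun z d => by simp [d], b7 y, b7 y⟩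
  obtain rfl : s = 1 := Subsingleton.elim _ _
  have b5 : ∀ g ∈ R, ∃ ρ ∈ A, ∃ t, g = mon _ (τ⁻¹ * ρ * τ) 1 t := fun g d => by
    obtain ⟨ρ, f, t, i⟩ := b3 g d
    exact ⟨ρ, f, _, by
      rw [← inv_mul_cancel_left (mon _ τ 1 u) g, ← inv_mul_cancel_right (mon _ τ 1 u * g) (mon _ τ 1 u), i, mon_inv, mon_mul,
        mon_mul]; congr 1⟩
  have b6 := ih (n / 2) (by omega) (Fin (n / 2)) (by simp) σ A _ hA.syl (hA.syl.conj (g := τ⁻¹) (by simp)) b1 (by
    obtain ⟨ρ, f, t, i⟩ := b5 _ a4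
    exact ⟨ρ, f, by simp [(mon_inj i).1]⟩) (cnd_mon a3)
  intro g d
  obtain ⟨ρ, f, t, rfl⟩ := b5 g d
  exact ⟨_, b6 ⟨ρ, f, by simp⟩, t, rfl⟩

/-- Let n ≥ 2 and let x be an element of 2-power order of the symmetric group of degree n. Then x lies in exactly one Sylow 2-subgroup if and only if x has at most two fixed points and the nontrivial cycles of x have pairwise different lengths. -/
theorem result (n : ℕ) (hn : 2 ≤ n)
    (x : Equiv.Perm (Fin n)) (hx : ∃ k : ℕ, orderOf x = 2 ^ k) :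
    (∃! P : Sylow 2 (Equiv.Perm (Fin n)), x ∈ P) ↔ (n ≤ x.support.card + 2 ∧ x.cycleType.Nodup) := by
  have h : IsPGroup 2 (zpowers x) := hx.elim fun k e => IsPGroup.of_card ((Nat.card_zpowers x).trans e)
  refine Iff.trans ⟨fun ⟨P, _, b⟩ => cnd_of h b, fun c => ?_⟩ (cnd_iff.trans (by rw [Fintype.card_fin]))
  obtain ⟨P, hP⟩ := h.exists_le_sylow
  exact ⟨P, hP (mem_zpowers x), fun Q d => Sylow.ext (P.3 Q.2 (uniq n _ (by simp) x Q P (syl_top Q) (syl_top P) d
    (hP (mem_zpowers x)) c))⟩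

end Cfsg.Agent.S4349
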