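import Cfsg.Statements.S4357
import Cfsg.Agent.H10.Klein
import Cfsg.Agent.H10.SL2Sylow
import Cfsg.Agent.H24.SL2Norm

set_option autoImplicit false
open Cfsg

namespace Cfsg.Agent.S4357

open Subgroup Matrix H10 H24
open scoped MatrixGroups Pointwise

theorem two_syl {F : Type*} [Field F] [Fintype F] (h2 : (2 : F) ≠ 0) {t x : SL(2, F)} (ht : (t : M2 F).trace = 0)
    (hx : x ∈ C2 t) {k : ℕ} (hk : orderOf x = 2 ^ k) (hc : ∀ n, Nat.card (C2 t) ≠ 2 ^ n) :
    ∃ P P' : Sylow 2 SL(2, F), P ≠ P' ∧ x ∈ P ∧ x ∈ P' := by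
  have hrs := rs_of_trace_zero h2 ht
  set N := normalizer (C2 t : Set SL(2, F)) with hN
  have hxN : x ∈ N := le_normalizer hx
  obtain ⟨T, hT⟩ := IsPGroup.exists_le_sylow (p := 2) (P := zpowers (⟨x, hxN⟩ : N))
    (IsPGroup.of_card (n := k) (by rw [Nat.card_zpowers, orderOf_mk, hk]))
  have hi : ¬ 2 ∣ ((T : Subgroup N).map N.subtype).index := by
    rw [index_map_subtype, Nat.prime_two.dvd_mul, not_or]
    exact ⟨T.not_dvd_index, odd_index_norm h2 ht⟩
  let P := (T.isPGroup'.map N.subtype).toSylow hi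
  have hxP : x ∈ P := ⟨_, hT (mem_zpowers _), rfl⟩
  have hPN : (P : Subgroup SL(2, F)) ≤ N := map_subtype_le _
  obtain ⟨s, hs, hsC⟩ : ∃ s ∈ (P : Subgroup SL(2, F)), s ∉ C2 t := by
    by_contra hn
    push Not at hn
    have h3 := relIndex_mul_index (le_normalizer : C2 t ≤ _)
    rw [relIndex, hrs.index_norm] at h3
    exact hi ((Dvd.intro _ h3).trans (index_dvd_of_le hn))
  obtain ⟨r, hr, hr2, hd⟩ : ∃ r : ℕ, r.Prime ∧ r ≠ 2 ∧ r ∣ Nat.card (C2 t) := by
    by_contra hn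
    push Not at hn
    exact hc _ (Nat.eq_prime_pow_of_unique_prime_dvd Nat.card_pos.ne' fun hr hd => by
      by_contra h; exact hn _ hr h hd)
  have := Fact.mk hr
  obtain ⟨⟨c, hcC⟩, ho⟩ := exists_prime_orderOf_dvd_card' r hd
  rw [orderOf_mk] at ho
  refine ⟨P, c • P, fun e => ?_, hxP, ?_⟩
  · have h1 : c * s * c⁻¹ ∈ (P : Subgroup SL(2, F)) := by
      rw [e]; exact ⟨s, hs, rfl⟩
    have h3 := hrs.inv_of_mem_norm (hPN hs) hsC (inv_mem hcC)
    have h4 : c * c ∈ (P : Subgroup SL(2, F)) := by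
      have := mul_mem h1 (inv_mem hs)
      rwa [mul_assoc c, mul_assoc c, h3, inv_inv] at this
    obtain ⟨n, hn⟩ := P.isPGroup' ⟨_, h4⟩
    have h5 : c ^ 2 ^ (n + 1) = 1 := by
      rw [pow_succ', pow_mul, sq]; exact congrArg Subtype.val hn
    exact hr2 ((Nat.prime_dvd_prime_iff_eq hr Nat.prime_two).1
      (hr.dvd_of_dvd_pow (ho ▸ orderOf_dvd_of_pow_eq_one h5)))
  · exact ⟨x, hxP, by
      simp [C2_comm hrs.not_isScal hcC hx]⟩

/-- Let F be a finite field with q elements, p a prime and G = SL(2, F). Say a Sylow p-subgroup Q of G is redundant when every element of p-power order lies in some Sylow p-subgroup other than Q. Then G has a redundant Sylow p-subgroup if and only if p = 2 and q is not of any of the forms 2ᵏ - 1, 2ᵏ, 2ᵏ + 1. -/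
theorem result {F : Type*} [Field F] [Fintype F] (p : ℕ) [Fact p.Prime] :
    (∃ Q : Sylow p (Matrix.SpecialLinearGroup (Fin 2) F), ∀ x : Matrix.SpecialLinearGroup (Fin 2) F,
        (∃ k : ℕ, orderOf x = p ^ k) → ∃ P : Sylow p (Matrix.SpecialLinearGroup (Fin 2) F), P ≠ Q ∧ x ∈ P) ↔
      (p = 2 ∧ (¬ ∃ k : ℕ, Fintype.card F + 1 = 2 ^ k) ∧ (¬ ∃ k : ℕ, Fintype.card F = 2 ^ k) ∧
        ¬ ∃ k : ℕ, Fintype.card F = 2 ^ k + 1) := by
  obtain ⟨l, hl⟩ := CharP.exists F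
  have hll : Fact l.Prime := ⟨CharP.char_is_prime F l⟩
  classical
  have hlq := H24.char_dvd_card (F := F) l
  have hq1 := Fintype.one_lt_card (α := F)
  have hpp : p.Prime := Fact.out
  have h2l : l ≠ 2 → (2 : F) ≠ 0 := fun hp h => hp ((Nat.prime_dvd_prime_iff_eq hll.out Nat.prime_two).1
    ((CharP.cast_eq_zero_iff F l 2).1 (by exact_mod_cast h)))
  constructor
  · rintro ⟨Q, hQ⟩
    have hord : ∀ x ∈ (Q : Subgroup SL(2, F)), ∃ k, orderOf x = p ^ k := fun x hx => by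
      obtain ⟨k, hk⟩ := Q.isPGroup'.exists_orderOf_eq_pow ⟨x, hx⟩
      exact ⟨k, (orderOf_mk x hx).symm.trans hk⟩
    have hpl : p ≠ l := by
      rintro rfl
      have h1 : (Q : Subgroup SL(2, F)) ≠ ⊥ := Q.ne_bot_of_dvd_card (by
        rw [card_SL2, mul_assoc]; exact hlq.mul_right _)
      obtain ⟨⟨x, hx⟩, h1⟩ := ne_bot_iff_exists_ne_one.1 h1
      obtain ⟨P, hP, hxP⟩ := hQ x (hord x hx)
      have h3 : x ∈ (P : Subgroup SL(2, F)) ⊓ Q := ⟨hxP, hx⟩
      rw [(centralP'_SL (F := F) (p := p)).inf_eq_bot hP] at h3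
      exact h1 (Subtype.ext h3)
    obtain ⟨n, hn⟩ := IsPGroup.iff_card.1 Q.isPGroup'
    obtain rfl : p = 2 := by
      by_contra hp2
      have hc := isCyclic_of_le_SL2_of_coprime l (Q : Subgroup SL(2, F))
        (fun h => hpl ((Nat.prime_dvd_prime_iff_eq hll.out hpp).1 (hll.out.dvd_of_dvd_pow (hn ▸ h))).symm)
        (fun h => hp2 ((Nat.prime_dvd_prime_iff_eq Nat.prime_two hpp).1
          (Nat.prime_two.dvd_of_dvd_pow (hn ▸ h))).symm)
      obtain ⟨x, hx⟩ := (Subgroup.isCyclic_iff_exists_zpowers_eq_top _).1 hc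
      obtain ⟨P, hP, hxP⟩ := hQ x (hord x (hx ▸ mem_zpowers x))
      exact hP (Sylow.ext (Q.is_maximal' P.isPGroup' (hx ▸ zpowers_le.2 hxP)))
    have h2 := h2l hpl.symm
    obtain ⟨t, -, ht, hQN, -⟩ := sylow_two h2 Q
    have hrs := rs_of_trace_zero h2 ht
    have h4 := four_dvd_card_C2 h2 ht
    have key : ∀ m, Nat.card (C2 t) ≠ 2 ^ m := by
      intro m hm
      have hN : IsPGroup 2 (normalizer (C2 t : Set SL(2, F))) :=
        IsPGroup.of_card (n := m + 1) (by rw [hrs.card_norm, hm, pow_succ'])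
      have hQe := Q.is_maximal' hN hQN
      obtain ⟨x, hx⟩ := (Subgroup.isCyclic_iff_exists_zpowers_eq_top _).1 hrs.isCyclic
      obtain ⟨P, hP, hxP⟩ := hQ x (hord x (hQe ▸ le_normalizer (hx ▸ mem_zpowers x)))
      have hle : C2 t ≤ (P : Subgroup SL(2, F)) := hx ▸ zpowers_le.2 hxP
      have hi : ((C2 t).subgroupOf (P : Subgroup SL(2, F))).index = 2 := by
        have h5 := ((C2 t).subgroupOf (P : Subgroup SL(2, F))).card_mul_index
        rw [Nat.card_congr (subgroupOfEquivOfLe hle).toEquiv, Nat.card_congr (P.equiv Q).toEquiv, ← hQe,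
          hrs.card_norm, mul_comm] at h5
        exact Nat.eq_of_mul_eq_mul_right Nat.card_pos h5
      have := normal_of_index_eq_two hi
      have h6 := le_normalizer_of_normal_subgroupOf hle
      rw [hQe] at h6
      exact hP (Sylow.ext (P.is_maximal' Q.isPGroup' h6).symm)
    have p4 : ∀ k, 2 ^ k % 4 = 2 → k = 1 := fun k hk => by
      rcases k with _ | _ | k
      · omega
      · rfl
      · rw [pow_succ, pow_succ] at hk; omega
    refine ⟨rfl, ?_, ?_, ?_⟩ <;> rintro ⟨k, hk⟩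
    · rcases hrs.cases with ⟨-, e⟩ | ⟨-, e⟩
      · exact key k (e.trans hk)
      · have := p4 k (by omega); subst this; omega
    · exact hpl ((Nat.prime_dvd_prime_iff_eq hll.out hpp).1 (hll.out.dvd_of_dvd_pow (hk ▸ hlq))).symm
    · rcases hrs.cases with ⟨-, e⟩ | ⟨-, e⟩
      · have := p4 k (by omega); subst this; exact key 2 (by omega)
      · exact key k (by omega)
  · rintro ⟨rfl, h1, h3, h4⟩
    have h2 : (2 : F) ≠ 0 := h2l (by
      rintro rfl
      obtain ⟨n, -, hn⟩ := FiniteField.card F 2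
      exact h3 ⟨n, hn⟩)
    obtain ⟨Q⟩ : Nonempty (Sylow 2 SL(2, F)) := inferInstance
    refine ⟨Q, ?_⟩
    rintro x ⟨k, hk⟩
    obtain ⟨t, ht, hx⟩ : ∃ t : SL(2, F), (t : M2 F).trace = 0 ∧ x ∈ C2 t := by
      obtain ⟨S, hS⟩ := IsPGroup.exists_le_sylow (p := 2) (P := zpowers x)
        (IsPGroup.of_card (n := k) (by rw [Nat.card_zpowers, hk]))
      obtain ⟨t, -, ht, hN, -⟩ := sylow_two h2 S
      by_cases hx : x ∈ C2 t
      · exact ⟨t, ht, hx⟩
      · exact ⟨x, trace_eq_zero_of_mul_self ((rs_of_trace_zero h2 ht).sq_eq_neg_one h2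
          (hN (hS (mem_zpowers x))) hx), self_mem_C2 x⟩
    obtain ⟨P, P', hP, a, b⟩ := two_syl h2 ht hx hk fun n hn => by
      rcases (rs_of_trace_zero h2 ht).cases with ⟨-, e⟩ | ⟨-, e⟩
      · exact h1 ⟨n, e.symm.trans hn⟩
      · exact h4 ⟨n, by omega⟩
    by_cases e : P = Q
    · exact ⟨P', fun e' => hP (e.trans e'.symm), b⟩
    · exact ⟨P, e, a⟩

end Cfsg.Agent.S4357
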