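import Cfsg.Statements.S4356
import Cfsg.Agent.S4357

set_option autoImplicit false
open Cfsg

namespace Cfsg.Agent.S4356

open Subgroup Matrix
open scoped MatrixGroups

theorem red_iff {G H : Type*} [Group G] [Finite G] [Group H] (f : G →* H) (hf : Function.Surjective f)
    (hk : f.ker ≤ center G) (p : ℕ) [Fact p.Prime] :
    (∃ Q : Sylow p H, ∀ x : H, (∃ k : ℕ, orderOf x = p ^ k) → ∃ P : Sylow p H, P ≠ Q ∧ x ∈ P) ↔
    (∃ Q : Sylow p G, ∀ x : G, (∃ k : ℕ, orderOf x = p ^ k) → ∃ P : Sylow p G, P ≠ Q ∧ x ∈ P) := by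
  have : Finite H := Finite.of_surjective f hf
  have key : ∀ (P : Sylow p G) (x : G), (∃ k : ℕ, orderOf x = p ^ k) → f x ∈ P.mapSurjective hf → x ∈ P := by
    rintro P x ⟨k, hk'⟩ ⟨y, hy, e⟩
    have hz : y⁻¹ * x ∈ center G := hk (by rw [MonoidHom.mem_ker, map_mul, map_inv, e, inv_mul_cancel])
    have hn : zpowers x ≤ normalizer ((P : Subgroup G) : Set G) := by
      rw [zpowers_le, show x = y * (y⁻¹ * x) by group]
      exact mul_mem (le_normalizer hy) (center_le_normalizer _ hz)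
    have h1 := IsPGroup.to_sup_of_normal_left' P.isPGroup'
      (IsPGroup.of_card (n := k) (G := zpowers x) (by rw [Nat.card_zpowers, hk'])) hn
    exact (le_sup_right.trans (P.is_maximal' h1 le_sup_left).le) (mem_zpowers x)
  have hord : ∀ P : Sylow p G, ∀ x ∈ P, ∃ k, orderOf x = p ^ k := fun P x hx => by
    obtain ⟨k, hk⟩ := P.isPGroup'.exists_orderOf_eq_pow ⟨x, hx⟩
    exact ⟨k, (orderOf_mk x hx).symm.trans hk⟩
  constructor
  · rintro ⟨Q, hQ⟩
    obtain ⟨Q, rfl⟩ := Sylow.mapSurjective_surjective hf p Q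
    refine ⟨Q, fun x ⟨k, hx⟩ => ?_⟩
    obtain ⟨j, -, hj⟩ := (Nat.dvd_prime_pow Fact.out).1 (hx ▸ orderOf_map_dvd f x)
    obtain ⟨P, hP, h⟩ := hQ (f x) ⟨j, hj⟩
    obtain ⟨P, rfl⟩ := Sylow.mapSurjective_surjective hf p P
    exact ⟨P, fun e => hP (by rw [e]), key P x ⟨k, hx⟩ h⟩
  · rintro ⟨Q, hQ⟩
    refine ⟨Q.mapSurjective hf, fun y ⟨k, hy⟩ => ?_⟩
    obtain ⟨S, hS⟩ := IsPGroup.exists_le_sylow (p := p) (P := zpowers y)
      (IsPGroup.of_card (n := k) (by rw [Nat.card_zpowers, hy]))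
    obtain ⟨S, rfl⟩ := Sylow.mapSurjective_surjective hf p S
    obtain ⟨x, hx, rfl⟩ := hS (mem_zpowers y)
    obtain ⟨P, hP, h⟩ := hQ x (hord S x hx)
    refine ⟨P.mapSurjective hf, fun e => hP (Sylow.ext (Q.is_maximal' P.isPGroup' fun a ha => ?_)), ⟨x, h, rfl⟩⟩
    exact key P a (hord Q a ha) (e ▸ ⟨a, ha, rfl⟩)

/-- Let F be a finite field with q elements, p a prime and G = PSL(2, F). Say a Sylow p-subgroup Q of G is redundant when every element of p-power order lies in some Sylow p-subgroup other than Q. Then G has a redundant Sylow p-subgroup if and only if p = 2 and q is not of any of the forms 2ᵏ - 1, 2ᵏ, 2ᵏ + 1. -/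
theorem result {F : Type*} [Field F] [Fintype F] (p : ℕ) [Fact p.Prime] :
    (∃ Q : Sylow p (Matrix.ProjectiveSpecialLinearGroup (Fin 2) F), ∀ x : Matrix.ProjectiveSpecialLinearGroup (Fin 2) F,
        (∃ k : ℕ, orderOf x = p ^ k) → ∃ P : Sylow p (Matrix.ProjectiveSpecialLinearGroup (Fin 2) F), P ≠ Q ∧ x ∈ P) ↔
      (p = 2 ∧ (¬ ∃ k : ℕ, Fintype.card F + 1 = 2 ^ k) ∧ (¬ ∃ k : ℕ, Fintype.card F = 2 ^ k) ∧
        ¬ ∃ k : ℕ, Fintype.card F = 2 ^ k + 1) := by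
  rw [red_iff (H10.π F) H10.π_surjective (QuotientGroup.ker_mk' _).le p]
  exact Cfsg.Agent.S4357.result p

end Cfsg.Agent.S4356
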