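import Cfsg.Statements.S4358
import Cfsg.Agent.H2.Red

set_option autoImplicit false
open Cfsg

namespace Cfsg.Agent.S4358

/-- Let p be an odd prime and F a finite field with q elements such that p divides q - 1 but p² does not. Then GL(p, F) has a Sylow p-subgroup Q such that every element of p-power order lies in some Sylow p-subgroup other than Q (a redundant Sylow p-subgroup). -/
theorem result {F : Type*} [Field F] [Fintype F] (p : ℕ) [Fact p.Prime]
    (hp : p ≠ 2) (h1 : p ∣ Fintype.card F - 1) (h2 : ¬ p ^ 2 ∣ Fintype.card F - 1) :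
    ∃ Q : Sylow p (Matrix.GeneralLinearGroup (Fin p) F), ∀ x : Matrix.GeneralLinearGroup (Fin p) F,
      (∃ k : ℕ, orderOf x = p ^ k) → ∃ P : Sylow p (Matrix.GeneralLinearGroup (Fin p) F), P ≠ Q ∧ x ∈ P := by
  classical
  have hpp : p.Prime := Fact.out
  have hcard : Nat.card Fˣ = Fintype.card F - 1 := by
    rw [Nat.card_eq_fintype_card, Fintype.card_units]
  obtain ⟨c, hc⟩ := exists_prime_orderOf_dvd_card' (G := Fˣ) p (hcard ▸ h1)
  have hζ : IsPrimitiveRoot (c : F) p := by
    rw [IsPrimitiveRoot.coe_units_iff, ← hc]; exact IsPrimitiveRoot.orderOf c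
  have hp0 : (p : F) ≠ 0 := hζ.neZero'.out
  have hF : ∀ (a : F) (k : ℕ), a ^ p ^ k = 1 → a ^ p = 1 := by
    intro a k ha
    have ha0 : a ≠ 0 := by rintro rfl; simp [hpp.ne_zero] at ha
    have h3 : orderOf (Units.mk0 a ha0) ∣ p ^ k := orderOf_dvd_of_pow_eq_one (by ext; simpa using ha)
    obtain ⟨j, -, hj⟩ := (Nat.dvd_prime_pow hpp).1 h3
    have h4 : p ^ j ∣ Fintype.card F - 1 := by rw [← hj, ← hcard]; exact orderOf_dvd_natCard _
    have h5 : j ≤ 1 := by
      by_contra h
      exact h2 ((pow_dvd_pow p (by omega)).trans h4)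
    have h6 : Units.mk0 a ha0 ^ p = 1 := by
      rw [← orderOf_dvd_iff_pow_eq_one, hj]
      simpa using pow_dvd_pow p h5
    simpa using congrArg Units.val h6
  have h := H2.Red.two (F := F) (V := Fin p → F) hpp hp hp0 (by simp) hζ hF
  exact (H2.Red.Two.of_equiv Matrix.GeneralLinearGroup.toLin h).redundant

end Cfsg.Agent.S4358
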