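import Cfsg.Statements.S4363
import Cfsg.Agent.H21.Tu6

set_option autoImplicit false
open Cfsg

namespace Cfsg.Agent.S4363

open H5 H18 H1 Subgroup

/-- Let G be a finite solvable group and σ an automorphism of G of prime order r not dividing the order of G, with fixed-point subgroup C. Then the Fitting height of G exceeds that of C by at most 2: if C has a chain of normal subgroups 1 = C₀ ≤ ⋯ ≤ Cₙ = C with nilpotent factors, then G has such a chain of length n + 2. -/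
theorem result {G : Type*} [Group G] [Finite G]
    (hG : Group.IsSolvable G) (σ : MulAut G) (r : ℕ) (hr : r.Prime) (hσ : orderOf σ = r) (hcop : ¬ r ∣ Nat.card G)
    (C : Subgroup G) (hC : ∀ g : G, g ∈ C ↔ σ g = g) (n : ℕ) (hn : (∃ F : Fin (n + 1) → Subgroup ↥C, F 0 = ⊥ ∧ F (Fin.last n) = ⊤ ∧ Monotone F ∧ (∀ i, (F i).Normal) ∧ ∀ i : Fin n, ∃ k : ℕ, (F i.succ).lowerCentralSeries k ≤ F i.castSucc)) :
    (∃ F : Fin ((n + 2) + 1) → Subgroup G, F 0 = ⊥ ∧ F (Fin.last (n + 2)) = ⊤ ∧ Monotone F ∧ (∀ i, (F i).Normal) ∧ ∀ i : Fin (n + 2), ∃ k : ℕ, (F i.succ).lowerCentralSeries k ≤ F i.castSucc) := by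
  let φ : MulAut G →* MulAut G := MonoidHom.id _
  have hc : Nat.card (H1.hr φ (zpowers σ)) = r := by rw [card_hr, card_zpowers', hσ]
  have s : Solv (hl φ ⊤) := solv_hl.2 (solv_top_iff.2 hG)
  have e : fixS φ (zpowers σ) = C := by ext g; rw [mem_fixS_zpowers, hC]; rfl
  refine fht_iff_top.2 (lns_hl.1 (H21.Tu.turull (X := H1.hr φ (zpowers σ)) (hc ▸ hr) ⟨hr_norm_top, ?_, Or.inr s⟩ s ?_))
  · rw [hc, card_hl, card_top]; exact (Nat.Prime.coprime_iff_not_dvd hr).2 hcop
  · rw [hl_top_inf_C, e, lns_hl]; exact fht_iff.1 hn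

end Cfsg.Agent.S4363
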