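import Cfsg.Statements.S4369
import Cfsg.Agent.H5.CA5

set_option autoImplicit false
open Cfsg

namespace Cfsg.Agent.S4369
open H5
open H5.CA Subgroup

/-- Call a group a CA-group when the centralizer of every non-central element is abelian. A finite group G is non-solvable, is not a CA-group, and has all its proper subgroups CA-groups, if and only if G is isomorphic to PSL(2, q) where q > 5 is a prime with 16 not dividing q² - 1, or q = 3ᵖ or q = 5ᵖ for an odd prime p. -/
theorem result {G : Type*} [Group G] [Finite G] :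
    (¬ Group.IsSolvable G ∧ ¬ (∀ x : G, x ∉ Subgroup.center G → IsMulCommutative (Subgroup.centralizer ({x} : Set G))) ∧ ∀ H : Subgroup G, H ≠ ⊤ → (∀ x : H, x ∉ Subgroup.center H → IsMulCommutative (Subgroup.centralizer ({x} : Set H)))) ↔
      ∃ (F : Type) (_ : Field F) (_ : Fintype F), Nonempty (G ≃* Matrix.ProjectiveSpecialLinearGroup (Fin 2) F) ∧
        (((Fintype.card F).Prime ∧ 5 < Fintype.card F ∧ ¬ 16 ∣ Fintype.card F ^ 2 - 1) ∨
         (∃ p : ℕ, p.Prime ∧ p ≠ 2 ∧ (Fintype.card F = 3 ^ p ∨ Fintype.card F = 5 ^ p))) := by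
  simp only [ca_iff']
  rw [ca_iff]
  constructor
  · rintro ⟨h1, h2, h3⟩
    obtain ⟨F, _, _, h4, ⟨e⟩⟩ := Ctx.main ⟨h3, fun s => h1 (H18.solv_top_iff.1 s)⟩ h2
    refine ⟨F, _, _, ⟨e⟩, num h4 (fun c => h2 (c.of_inj e.toMonoidHom e.injective fun _ _ => mem_top _)) fun H n => ?_⟩
    exact (h3 (H.comap e.toMonoidHom) fun m => n (eq_top_iff.2 fun x _ => by
      simpa using (m.ge (mem_top (e.symm x)) : e.toMonoidHom (e.symm x) ∈ H))).of_inj e.symm.toMonoidHom e.symm.injective
        fun x hx => by simpa using hx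
  · rintro ⟨F, _, _, ⟨e⟩, h⟩
    have sub : ∀ R : Subfield F, R ≠ ⊤ → ∃ m, 2 ≤ m ∧ 1 < Nat.card R ∧ Nat.card R ^ m = Fintype.card F := fun R n => by
      obtain ⟨m, h1, h2, h3⟩ := H10.exists_card_pow_of_ringHom R.subtype
      refine ⟨m, lt_of_le_of_ne h1 fun l => n (eq_top_iff.2 fun x _ => ?_), Finite.one_lt_card, by simpa using h2⟩
      obtain ⟨y, rfl⟩ := h3 l.symm x
      exact y.2
    have pw : ∀ r p a m : ℕ, r.Prime → p.Prime → 2 ≤ m → 1 < a → a ^ m = r ^ p → a = r := fun r p a m hr hp h1 h2 h3 => by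
      obtain ⟨k, -, rfl⟩ := (Nat.dvd_prime_pow hr).1 (h3 ▸ dvd_pow_self a (by omega) : a ∣ r ^ p)
      rw [← pow_mul] at h3
      have := Nat.pow_right_injective hr.two_le h3
      obtain l | l := (Nat.dvd_prime hp).1 (Dvd.intro_left k this) <;> subst l
      · omega
      · rw [show k = 1 from Nat.eq_of_mul_eq_mul_right hp.pos (by simpa using this), pow_one]
    obtain ⟨o, h5, h6, h7⟩ : Odd (Fintype.card F) ∧ 5 < Fintype.card F ∧ ¬ 16 ∣ Fintype.card F ^ 2 - 1 ∧
        ∀ R : Subfield F, R ≠ ⊤ → Nat.card R = 3 ∨ Nat.card R = 5 := by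
      obtain ⟨h1, h2, h3⟩ | ⟨p, h1, h2, h3⟩ := h
      · refine ⟨h1.odd_of_ne_two (by omega), h2, h3, fun R n => ?_⟩
        obtain ⟨m, l1, l2, l3⟩ := sub R n
        have := (Nat.Prime.eq_one_of_pow (l3 ▸ h1))
        omega
      obtain ⟨j, hj⟩ := h1.odd_of_ne_two h2
      have p3 : 3 ≤ p := by have := h1.two_le; omega
      have k8 : ∀ r q : ℕ, r ^ 2 % 16 = 9 → q = r ^ p → ¬ 16 ∣ q ^ 2 - 1 := fun r q l1 l2 d => by
        have : q ^ 2 % 16 = 9 := by
          rw [l2, ← pow_mul, mul_comm, pow_mul, Nat.pow_mod, l1, hj, pow_succ, pow_mul, Nat.mul_mod, Nat.pow_mod]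
          simp
        omega
      obtain h3 | h3 := h3
      · refine ⟨h3 ▸ Odd.pow (by decide), h3 ▸ lt_of_lt_of_le (by decide) (Nat.pow_le_pow_right (by decide) p3),
          k8 3 _ rfl h3, fun R n => ?_⟩
        obtain ⟨m, l1, l2, l3⟩ := sub R n
        exact .inl (pw _ _ _ _ Nat.prime_three h1 l1 l2 (l3.trans h3))
      · refine ⟨h3 ▸ Odd.pow (by decide), h3 ▸ lt_of_lt_of_le (by decide) (Nat.pow_le_pow_right (by decide) p3),
          k8 5 _ rfl h3, fun R n => ?_⟩
        obtain ⟨m, l1, l2, l3⟩ := sub R n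
        exact .inr (pw _ _ _ _ Nat.prime_five h1 l1 l2 (l3.trans h3))
    refine ⟨fun s => H10.not_isSolvable_PSL2 (F := F) (by omega)
      (Group.isSolvable_of_surjective (f := e.toMonoidHom) e.surjective),
      fun c => not_ca o h5 (c.of_inj e.symm.toMonoidHom e.symm.injective fun _ _ => mem_top _), fun H n => ?_⟩
    exact (star_psl o h5.le h6 h7 (H.comap e.symm.toMonoidHom) fun m => n (eq_top_iff.2 fun x _ => by
      simpa using (m.ge (mem_top (e x)) : e.symm.toMonoidHom (e x) ∈ H))).of_inj e.toMonoidHom e.injective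
        fun x hx => by simpa using hx

end Cfsg.Agent.S4369
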