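import Cfsg.Statements.S4371
import Cfsg.Agent.H17.TO3

set_option autoImplicit false
open Cfsg

namespace Cfsg.Agent.S4371

open Subgroup H18 H13 H17.TO

/-- Let G be a finite non-solvable group in which no prime divides three pairwise distinct element orders. Then one of the following holds, where 'a product of at most two primes' always counts primes with multiplicity: the quotient of G by its largest normal 2-subgroup is isomorphic to PSL(2, q) with q = 2ᶠ ≥ 4 and each of q + 1, q - 1 a product of at most two primes; G is isomorphic to PSL(2, q) with q > 5, q ≡ 3 or 5 (mod 8) and each of (q + 1)/2, (q - 1)/2 a product of at most two primes; G is isomorphic to PSL(2, 7), PSL(2, 9) or PSL(3, 4); or G is simple of order q²(q² + 1)(q - 1), the order of the Suzuki group Sz(q), where q = 2²ⁿ⁺¹ ≥ 8, and each of q - 1, q - r + 1, q + r + 1 (r = 2ⁿ⁺¹) is a product of at most two primes. -/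
theorem result {G : Type*} [Group G] [Finite G]
    (hG : ¬ Group.IsSolvable G) (h3 : (∀ p : ℕ, p.Prime → ∀ a b c : G, orderOf a ≠ orderOf b → orderOf b ≠ orderOf c → orderOf a ≠ orderOf c → ¬ (p ∣ orderOf a ∧ p ∣ orderOf b ∧ p ∣ orderOf c))) :
    (∃ (F : Type) (_ : Field F) (_ : Fintype F), CharP F 2 ∧ 4 ≤ Fintype.card F ∧
        (Fintype.card F + 1).primeFactorsList.length ≤ 2 ∧ (Fintype.card F - 1).primeFactorsList.length ≤ 2 ∧
        Nonempty (G ⧸ Cfsg.pCore 2 G ≃* Matrix.ProjectiveSpecialLinearGroup (Fin 2) F)) ∨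
    (∃ (F : Type) (_ : Field F) (_ : Fintype F), 5 < Fintype.card F ∧ (Fintype.card F % 8 = 3 ∨ Fintype.card F % 8 = 5) ∧
        ((Fintype.card F + 1) / 2).primeFactorsList.length ≤ 2 ∧ ((Fintype.card F - 1) / 2).primeFactorsList.length ≤ 2 ∧
        Nonempty (G ≃* Matrix.ProjectiveSpecialLinearGroup (Fin 2) F)) ∨
    (∃ (F : Type) (_ : Field F) (_ : Fintype F), (Fintype.card F = 7 ∨ Fintype.card F = 9) ∧
        Nonempty (G ≃* Matrix.ProjectiveSpecialLinearGroup (Fin 2) F)) ∨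
    (∃ (F : Type) (_ : Field F) (_ : Fintype F), Fintype.card F = 4 ∧ Nonempty (G ≃* Matrix.ProjectiveSpecialLinearGroup (Fin 3) F)) ∨
    (∃ n : ℕ, 1 ≤ n ∧ IsSimpleGroup G ∧ Nat.card G = (2 ^ (2 * n + 1)) ^ 2 * ((2 ^ (2 * n + 1)) ^ 2 + 1) * (2 ^ (2 * n + 1) - 1) ∧
        (2 ^ (2 * n + 1) - 1).primeFactorsList.length ≤ 2 ∧ (2 ^ (2 * n + 1) - 2 ^ (n + 1) + 1).primeFactorsList.length ≤ 2 ∧
        (2 ^ (2 * n + 1) + 2 ^ (n + 1) + 1).primeFactorsList.length ≤ 2) := by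
  have k : H3 G := fun p a b c hp ⟨x, e1⟩ ⟨y, e2⟩ ⟨z, e3⟩ n1 n2 n3 d1 d2 d3 => by
    subst e1 e2 e3
    exact h3 p hp x y z n1 n2 n3 ⟨d1, d2, d3⟩
  have hs : ¬ Solv (⊤ : Subgroup G) := fun c =>
    hG (Group.isSolvable_of_surjective (f := (⊤ : Subgroup G).subtype) fun x => ⟨⟨x, trivial⟩, rfl⟩)
  by_cases hc : ∀ r, r.Prime → r ≠ 2 → ¬ Sp G (2 * r)
  · have hQ : PiGrp {2} (pCore 2 G) := pCore_eq (G := G) Nat.prime_two ▸ pcore_pi
    have q := fun n (s : Sp (G ⧸ pCore 2 G) n) => k.len (s.of_surjective _ (QuotientGroup.mk'_surjective _))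
    obtain (⟨F, _, _, ⟨n, hn, hF⟩, ⟨e⟩⟩ | e) | ⟨-, hf | hf | hf⟩ :=
      (cit_of_graph hc).classify' hs (pCore 2 G) (pCore_eq Nat.prime_two)
    · exact Or.inl ⟨F, _, _, charP_of_dvd Nat.prime_two (hF ▸ dvd_pow_self 2 (by omega)), hF ▸ four_le hn,
        q _ ((sp_congr e).2 ((sp_psl_even hn hF).2 (by simp [hF]))),
        q _ ((sp_congr e).2 ((sp_psl_even hn hF).2 (by simp [hF]))), ⟨e⟩⟩
    · have c := sz_core (cit_of_graph hc) k.not_eight hQ e
      have f := ((QuotientGroup.quotientMulEquivOfEq c).trans QuotientGroup.quotientBot).symm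
      have := IsZT.simple (Or.inr e)
      obtain ⟨F, _, _, m, hm, hF, ⟨e⟩⟩ := e
      exact Or.inr (Or.inr (Or.inr (Or.inr ⟨m, hm, f.isSimpleGroup,
        (Nat.card_congr (f.trans e).toEquiv).trans (card_sz hm hF), q _ ((sp_congr e).2 ((sp_sz hm hF).2 (by simp))),
        q _ ((sp_congr e).2 ((sp_sz hm hF).2 (by simp))), q _ ((sp_congr e).2 ((sp_sz hm hF).2 (by simp)))⟩)))
    · exact Or.inr (Or.inr (Or.inl (fm k.not_eight hf)))
    · exact absurd hf.sp_eight k.not_eight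
    · exact Or.inr (Or.inr (Or.inr (Or.inl hf)))
  push Not at hc
  obtain ⟨r, hr, ne, s⟩ := hc
  obtain ⟨F, _, _, h5, h8, ⟨e⟩⟩ := (k.w hr ne s).main hG s
  have a := sp_psl_plus (F := F)
  have b := sp_psl_minus (F := F) (by omega)
  rw [gcd_odd (Nat.odd_iff.2 (by omega))] at a b
  exact Or.inr (Or.inl ⟨F, _, _, h5, h8, k.len (a.of_equiv e.symm), k.len (b.of_equiv e.symm), ⟨e⟩⟩)

end Cfsg.Agent.S4371
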