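import Cfsg.Statements.S4394
import Cfsg.Agent.H8.Sch

set_option autoImplicit false
open Cfsg

namespace Cfsg.Agent.S4394

open H18 H1 H21 H21.HB H8 Subgroup

/-- Let X be a finite minimal non-nilpotent group (not nilpotent, every proper subgroup nilpotent) with a nontrivial normal Sylow p-subgroup P. If G is a finite p-solvable group whose Sylow p-subgroups are isomorphic to P, then G has p-length at most 1. -/
theorem result {G X : Type*} [Group G] [Finite G] [Group X] [Finite X] (p : ℕ) [Fact p.Prime]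
    (hX : Cfsg.IsMinimalNonNilpotent X) (P : Sylow p X) (hPn : (P : Subgroup X).Normal) (hP1 : (P : Subgroup X) ≠ ⊥)
    (hG : Cfsg.IsPSolvable p G) (Q : Sylow p G) (hQ : Nonempty (↥(Q : Subgroup G) ≃* ↥(P : Subgroup X))) : Cfsg.PLengthLE p 1 G := by
  have hp : p.Prime := Fact.out
  obtain ⟨e⟩ := hQ
  have s1 := se_of_schmidt (K := (⊤ : Subgroup X)) (fun H hH => hX.2 H hH.ne) (fun h => hX.1 (nil_top_iff.1 h))
    (hall_sylow_top hp P) nml_top hP1
  let f : (P : Subgroup X) →* G := (Q : Subgroup G).subtype.comp e.symm.toMonoidHom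
  have s2 := s1.mim (f := f) (hall_sylow_top hp P).2 le_rfl (eq_bot_iff.2 fun a ha => by
    have := (mem_mker.1 ha.2).2
    rw [mfun_of_mem ha.1] at this
    exact congrArg Subtype.val (e.symm.injective ((Subtype.ext this).trans (map_one e.symm).symm)))
  have e2 : mim f P = Q := le_antisymm (fun a ha => by
    obtain ⟨b, -, b2, rfl⟩ := mem_mim.1 ha
    rw [mfun_of_mem b2]; exact (e.symm ⟨b, b2⟩).2) fun a ha => mem_mim.2 ⟨e ⟨a, ha⟩, (e _).2, (e _).2, by
      rw [mfun_coe]; simp [f]⟩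
  rw [e2] at s2
  have hS := hall_sylow_top hp Q
  have n : (⊤ : Subgroup G) ≤ N(O[{p}ᶜ]((⊤ : Subgroup G))) := pcore_nml.2
  have s3 := (s2.mim (f := coset O[{p}ᶜ]((⊤ : Subgroup G))) hS.2 (le_top.trans n) (by
    rw [mker_coset]; exact hS.2.inf_eq_bot pcore_pi)).le_pcore (psol_mim (H4.isPSolvable_iff.1 hG)) (by
      rw [← quo_rad]
      exact quo_eq_bot (by simpa only [rad_bot] using rad_rad_le (π := {p}ᶜ) (Nml.bot (H := (⊤ : Subgroup G)))))
      (hS.mim n)
  exact (pl1_top_iff hp).1 (pl1_of_sylow_le hS ((le_pcore2_iff le_top).2 s3))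

end Cfsg.Agent.S4394
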