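import Cfsg.Statements.S4395
import Cfsg.Agent.H2.Sm4

set_option autoImplicit false
universe u
open Cfsg

open H2.Sm

namespace Cfsg.Agent.S4395



/-- Let p ≠ q be primes, r ≥ 1, a the multiplicative order of p modulo q, and a₀ = a when a is odd, a₀ = 3a/2 when a is even. Call a finite group minimal non-p-nilpotent when it has no normal p-complement but every proper subgroup has one. Then there is a minimal non-p-nilpotent group G₀ of order p^a₀ · q^r such that every minimal non-p-nilpotent group of order p^t · q^r (any t) is a quotient of G₀ by a central subgroup. -/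
theorem result (p q r : ℕ) [Fact p.Prime] [Fact q.Prime] (hpq : p ≠ q) (hr : 1 ≤ r) (a a₀ : ℕ)
    (ha : a = orderOf (p : ZMod q)) (ha₀ : a₀ = if a % 2 = 1 then a else 3 * a / 2) :
    ∃ (G₀ : Type u) (_ : Group G₀) (_ : Finite G₀),
      (¬ Cfsg.HasNormalPComplement p G₀ ∧ ∀ K : Subgroup G₀, K ≠ ⊤ → Cfsg.HasNormalPComplement p ↥K) ∧ Nat.card G₀ = p ^ a₀ * q ^ r ∧
      ∀ (X : Type u) [Group X] [Finite X], (¬ Cfsg.HasNormalPComplement p X ∧ ∀ K : Subgroup X, K ≠ ⊤ → Cfsg.HasNormalPComplement p ↥K) →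
        (∃ t : ℕ, Nat.card X = p ^ t * q ^ r) → ∃ φ : G₀ →* X, Function.Surjective φ ∧ φ.ker ≤ Subgroup.center G₀ := by
  have hp : p.Prime := Fact.out
  have hq : q.Prime := Fact.out
  have hpz : (p : ZMod q) ≠ 0 := by
    rw [Ne, ZMod.natCast_eq_zero_iff]
    exact fun h => hpq ((Nat.prime_dvd_prime_iff_eq hq hp).1 h).symm
  have ha0 : a ≠ 0 := by
    rw [ha]
    exact (isOfFinOrder_iff_pow_eq_one.2 ⟨q - 1, by have := hq.one_lt; omega,
      ZMod.pow_card_sub_one_eq_one hpz⟩).orderOf_pos.ne'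
  have hK : Nat.card (GaloisField p a) = p ^ a := GaloisField.card p a ha0
  have hpa : (p : ZMod q) ^ a = 1 := by rw [ha, pow_orderOf_eq_one]
  have hdvd : q ∣ Nat.card (GaloisField p a)ˣ := by
    rw [Nat.card_units, hK, ← ZMod.natCast_eq_zero_iff, Nat.cast_sub (Nat.one_le_pow _ _ hp.pos)]
    simp [hpa]
  obtain ⟨u, hu⟩ := exists_prime_orderOf_dvd_card' q hdvd
  have hζ : IsPrimitiveRoot (u : GaloisField p a) q := by
    rw [IsPrimitiveRoot.coe_units_iff, ← hu]; exact IsPrimitiveRoot.orderOf u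
  generalize (u : GaloisField p a) = ζ at hζ
  have hζ' : ζ ^ q ^ r = 1 := (hζ.pow_eq_one_iff_dvd _).2 (dvd_pow_self q (by omega))
  have hirr : Irr (GaloisField p a) q := irr_of ha hK
  have hM := af_mnp hpq hirr hζ hζ'
  have hMc : Nat.card (Af (AddChar.zmodChar (q ^ r) hζ')) = p ^ a * q ^ r := by
    rw [Af.card, hK, Nat.card_zmod]
  have hbd : ∀ (Y : Type u) [Group Y] [Finite Y], MNP p Y → ∀ j,
      Nat.card Y = p ^ j * Nat.card (Af (AddChar.zmodChar (q ^ r) hζ')) → j + a ≤ a₀ := by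
    intro Y _ _ hY j hj
    obtain ⟨f, s, -, -, b1, b2⟩ := exists_hom hpq hirr hK hζ hr hζ' hY (t := j + a)
      (by rw [hj, hMc, pow_add, mul_assoc])
    have h1 : Nat.card f.ker = p ^ j := by
      rw [card_of_surj f s] at hj
      exact Nat.eq_of_mul_eq_mul_right Nat.card_pos hj
    rw [ha₀]
    split_ifs with hodd
    · rw [b2 hodd, Subgroup.card_bot] at h1
      have := (Nat.pow_eq_one.1 h1.symm).resolve_left hp.ne_one
      omega
    · rw [h1, ← pow_mul] at b1
      have := (Nat.pow_le_pow_iff_right hp.one_lt).1 b1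
      omega
  obtain ⟨G, _, _, hG, hGc⟩ : ∃ (G : Type u) (_ : Group G) (_ : Finite G), MNP p G ∧
      Nat.card G = p ^ a₀ * q ^ r := by
    by_cases hodd : a % 2 = 1
    · refine ⟨ULift.{u} (Af (AddChar.zmodChar (q ^ r) hζ')), inferInstance, inferInstance,
        hM.of_equiv MulEquiv.ulift.symm, ?_⟩
      rw [Nat.card_ulift, hMc, ha₀, if_pos hodd]
    · obtain ⟨b, hb⟩ : ∃ b, a = 2 * b := ⟨a / 2, by omega⟩
      have h1 : (p : ZMod q) ^ b = -1 := by
        have h2 : ((p : ZMod q) ^ b) ^ 2 = 1 := by rw [← pow_mul, mul_comm, ← hb, hpa]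
        rcases sq_eq_one_iff.1 h2 with h | h
        · have := orderOf_dvd_of_pow_eq_one h
          rw [← ha] at this
          have := Nat.le_of_dvd (by omega) this
          omega
        · exact h
      have h3 : ζ ^ (p ^ b + 1) = 1 := by
        rw [hζ.pow_eq_one_iff_dvd, ← ZMod.natCast_eq_zero_iff]
        simp [h1]
      obtain ⟨Y, j, hY, hj, hYc⟩ := Ex.exists_big (σ := iterateFrobenius (GaloisField p a) p b)
        (h := fun c => by
          rw [iterateFrobenius_def, ← pow_succ', AddChar.zmodChar_apply, ← pow_mul, mul_comm,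
            pow_mul, h3, one_pow]) hM (b := b) (by omega) (fun x => iterateFrobenius_def _ _ _)
        (hb ▸ hK)
      have hY' : MNP p (ULift.{u} Y) := hY.of_equiv MulEquiv.ulift.symm
      have h4 := hbd (ULift.{u} Y) hY' j (by rw [Nat.card_ulift, hYc])
      refine ⟨ULift.{u} Y, inferInstance, inferInstance, hY', ?_⟩
      rw [Nat.card_ulift, hYc, hMc, ← mul_assoc, ← pow_add]
      rw [if_neg hodd] at ha₀
      congr 2
      omega
  refine ⟨G, inferInstance, inferInstance, hG, hGc, fun X _ _ hX ⟨t, ht⟩ => ?_⟩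
  obtain ⟨f₀, s₀, z₀, k₀, -⟩ := exists_hom hpq hirr hK hζ hr hζ' hG hGc
  obtain ⟨f, s, z, k, -⟩ := exists_hom hpq hirr hK hζ hr hζ' hX ht
  refine universal hM hG hX f₀ f s₀ z₀ k₀ s z k fun F F' hF ⟨j, hj⟩ => ?_
  have := hbd F' hF j hj
  rw [hj, hGc, hMc, ← mul_assoc, ← pow_add]
  exact Nat.mul_le_mul_right _ (Nat.pow_le_pow_right hp.pos this)

end Cfsg.Agent.S4395
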