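import Cfsg.Statements.S4403
import Cfsg.Agent.H1.Harv3
import Cfsg.Agent.S4145
import Cfsg.Agent.H17.FStar

set_option autoImplicit false
open Cfsg

namespace Cfsg.Agent.S4403

open H18 Subgroup H1
open scoped commutatorElement

/-- Let K be a finite group, p a prime dividing its order with O_{p'}(K) = 1 (no nontrivial normal subgroup of order prime to p), and P a cyclic Sylow p-subgroup of K. Then either P is normal and self-centralizing in K with K/P cyclic of order dividing p − 1 (so K is the semidirect product of P by a group of automorphisms of P of order dividing p − 1), or the generalized Fitting subgroup F*(K) is a non-abelian simple group and p does not divide the index of F*(K) in K. -/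
theorem result {K : Type*} [Group K] [Finite K] (p : ℕ) [Fact p.Prime] (hp : p ∣ Nat.card K) (hO : Cfsg.pPrimeCore p K = ⊥)
    (P : Sylow p K) (hP : IsCyclic ↥(P : Subgroup K)) :
    ((P : Subgroup K).Normal ∧ Subgroup.centralizer ((P : Subgroup K) : Set K) = (P : Subgroup K) ∧
      (∀ (_ : (P : Subgroup K).Normal), IsCyclic (K ⧸ (P : Subgroup K))) ∧ (P : Subgroup K).index ∣ p - 1) ∨
    (IsSimpleGroup ↥(Cfsg.generalizedFittingSubgroup K) ∧ ¬ IsMulCommutative ↥(Cfsg.generalizedFittingSubgroup K) ∧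
      ¬ p ∣ (Cfsg.generalizedFittingSubgroup K).index) := by
  have pp : p.Prime := Fact.out
  have hS := hall_sylow_top pp P
  have hO' : O[{p}ᶜ]((⊤ : Subgroup K)) = ⊥ := pPrimeCore_eq (G := K) pp ▸ hO
  by_cases e : O[{p}]((⊤ : Subgroup K)) = ⊥
  · right
    have f : H17.fit (⊤ : Subgroup K) = ⊥ := (fit_eq_pcore hO').trans e
    have g : generalizedFittingSubgroup K = H17.lay ⊤ := by rw [← H17.gfit_top, H17.gfit_eq, f, sup_bot_eq]
    have d : ∀ L, H17.IsComp L (⊤ : Subgroup K) → p ∣ Nat.card L := fun L h => by_contra fun d =>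
      h.ne_bot (eq_bot_iff.2 ((h.subn.le_oQ d).trans ((H17.oQ_top p).trans hO).le))
    have z : ∀ L, H17.IsComp L (⊤ : Subgroup K) → Z(L) = ⊥ := fun L h =>
      eq_bot_iff.2 (h.subn.inf_centralizer_le_fit.trans f.le)
    obtain ⟨L, hL⟩ : ∃ L, H17.IsComp L (⊤ : Subgroup K) := by_contra fun h =>
      ne_bot_of_prime_dvd pp (card_top (G := K) ▸ hp) (H17.gfit_eq_bot_iff.1 (by
        rw [H17.gfit_top, g, H17.lay_eq_bot_iff]; exact fun L hL => h ⟨L, hL⟩))
    have u : H17.lay ⊤ = L := le_antisymm (H17.lay_le_iff.2 fun M hM => (hM.eq_or_commutator hL).elim Eq.le fun c => by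
      obtain ⟨X, a, b⟩ := cauchy_sub pp (d M hM)
      obtain ⟨Y, a', b'⟩ := cauchy_sub pp (d L hL)
      rw [comm_eq_bot_iff] at c
      obtain ⟨g, -, h⟩ := sylow_le_cj' pp hS ((piGrp_of_prime pp b).sup_norm (piGrp_of_prime pp b')
        (cent_norm (cent_mono c a a'))) le_top
      obtain rfl := (Cyc.cj hP g).eq_of_card_eq (le_sup_left.trans h) (le_sup_right.trans h) (b.trans b'.symm)
      exact absurd (eq_bot_iff.2 ((le_inf a' (cent_mono c a le_rfl)).trans (z L hL).le)) (ne_bot_of_prime (b ▸ pp))) hL.le_lay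
    have s := H17.isSimpleGroup_of_qs hL.qs (z L hL)
    have n : L.Normal := u ▸ g ▸ inferInstance
    rw [g, u]
    refine ⟨s.1, s.2, fun h => ?_⟩
    have c := (hasNormalPComplement_iff pp).1 (S4145.result p P hP L (d L hL) h).1
    rcases H17.qs_normal hL.qs pcore_le (pcore_nml (π := {p}ᶜ)).norm with i | i
    · exact (piNat_compl_iff pp).1 (i ▸ pcore_pi) (d L hL)
    · rw [eq_bot_iff.2 ((le_inf pcore_le (comm_eq_bot_iff.1 i)).trans (z L hL).le)] at c
      exact H17.qs_not_solvable hL.qs (PiGrp.solv c.compl_of_eq_bot.of_compl_compl)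
  left
  obtain ⟨X, a, b⟩ := pcore_pi.exists_sub_card e
  have n : X ⊴ ⊤ := (Cyc.of_le hP hS.pcore_le).nml_sub a pcore_nml
  have x : X ≤ P := a.trans hS.pcore_le
  have c : (P : Subgroup K) ≤ C(X) := cent_mono (Cyc.abel hP) le_rfl x
  have d := cyc_cent_pnil pp (hS.of_le c le_top) hP fun e =>
    ne_bot_of_prime (b ▸ pp) (eq_bot_iff.2 (e ▸ le_inf x (cent_symm le_rfl)))
  have m : C(X) ⊴ ⊤ := ⟨le_top, norm_C n.norm⟩
  rw [eq_bot_iff.2 (m.pcore_le_pcore.trans hO'.le)] at d
  have f : C(X) = P := hS.eq_of_le c le_top d.compl_of_eq_bot.of_compl_compl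
  refine ⟨f ▸ m.normal, ((C_anti x).trans f.le).antisymm (Cyc.abel hP), fun _ => ?_,
    by rw [← f, ← relIndex_top_right]; exact prime_relIndex_C_dvd pp b n.norm⟩
  haveI := n.normal
  haveI := isCyclic_mulAut pp b
  have k : (MulAut.conjNormal (H := X)).ker = P := by
    rw [← f]; ext g
    rw [MonoidHom.mem_ker, mem_C, MulEquiv.ext_iff]
    exact ⟨fun h y hy => (mul_inv_eq_iff_eq_mul.1 (congrArg Subtype.val (h ⟨y, hy⟩))).symm,
      fun h y => Subtype.ext (mul_inv_eq_iff_eq_mul.2 (h y y.2).symm)⟩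
  exact isCyclic_of_injective (QuotientGroup.lift _ (MulAut.conjNormal (H := X)) k.ge)
    ((QuotientGroup.injective_lift_iff ..).2 k.symm)

end Cfsg.Agent.S4403
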