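import Cfsg.Statements.S4418
import Cfsg.Agent.H21.Crit
import Cfsg.Agent.H3.FS5
import Cfsg.Agent.S0949

set_option autoImplicit false
open Cfsg

namespace Cfsg.Agent.S4418

open H18 H21 Subgroup
open scoped commutatorElement

theorem homo {G : Type*} [Group G] [Finite G] (S : Sylow 2 G) {m : ℕ} (hm : 2 ≤ m)
    (e : (S : Subgroup G) ≃* Multiplicative (ZMod (2 ^ m) × ZMod (2 ^ m))) : Group.IsSolvable G := by
  have : O[{2}ᶜ]((⊤ : Subgroup G)).Normal := pcore_nml.normal
  set K := O[{2}ᶜ]((⊤ : Subgroup G))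
  have hK : PiGrp {2}ᶜ K := pcore_pi
  let T := S.mapSurjective (QuotientGroup.mk'_surjective K)
  have e' : (S : Subgroup G) ≃* (T : Subgroup (G ⧸ K)) := (MonoidHom.ofInjective (f := (QuotientGroup.mk' K).comp (S : Subgroup G).subtype)
    ((MonoidHom.ker_eq_bot_iff _).1 (le_bot_iff.1 fun x hx => Subtype.ext (eq_one_of_eq_bot
      ((hall_sylow_top Nat.prime_two S).pi.inf_eq_bot hK) ⟨x.2, (QuotientGroup.eq_one_iff _).1 hx⟩)))).trans
    (MulEquiv.subgroupCongr (by rw [MonoidHom.range_comp, range_subtype]; rfl))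
  have h := (S0949.result T m hm (e'.symm.trans e) fun L _ hL => ?_).1
  · have h1 : Solv (⊤ : Subgroup (G ⧸ K)) := solv_of_odd_idx (K := T) nml_top
      (hall_sylow_top Nat.prime_two T).pi.solv (hall_sylow_top Nat.prime_two T).idx
    have := solv_top_iff.1 h1
    have := solv_of_odd hK
    exact Group.isSolvable_of_ker_le_range K.subtype (QuotientGroup.mk' K) (by simp)
  · have h1 : L.comap (QuotientGroup.mk' K) ≤ K := le_pcore nml_top (piGrp_of_relIndex (A := K)
      (fun k hk => by simp [(QuotientGroup.eq_one_iff k).2 hk]) pcore_pi (by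
        conv => enter [2, 1]; rw [← QuotientGroup.ker_mk' K, ← MonoidHom.comap_bot]
        rw [relIndex_comap, map_comap_eq_self_of_surjective (QuotientGroup.mk'_surjective K), relIndex_bot_left]
        exact (piNat_compl_iff Nat.prime_two).2 hL.not_two_dvd_nat))
    refine le_bot_iff.1 fun g hg => ?_
    obtain ⟨g, rfl⟩ := QuotientGroup.mk'_surjective K g
    exact (QuotientGroup.eq_one_iff g).2 (h1 hg)

/-- Let G be a finite group whose Sylow 2-subgroup S is metacyclic via a cyclic normal subgroup N of S with S/N cyclic of order greater than 2. Then G is soluble. -/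
theorem result {G : Type*} [Group G] [Finite G] (S : Sylow 2 G) (N : Subgroup ↥(S : Subgroup G)) [hN : N.Normal] (hNc : IsCyclic N) (hQc : IsCyclic (↥(S : Subgroup G) ⧸ N)) (hQ : 2 < Nat.card (↥(S : Subgroup G) ⧸ N)) : Group.IsSolvable G := by
  have hc : commutator (S : Subgroup G) ≤ N := by
    refine commutator_le.2 fun a _ b _ => (QuotientGroup.eq_one_iff _).1 ?_
    exact (map_commutatorElement (QuotientGroup.mk' N) a b).trans
      (commutatorElement_eq_one_iff_mul_comm.2 (IsCyclic.isMulCommutative.is_comm.comm _ _))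
  obtain ⟨y, hy⟩ : ∃ y : (S : Subgroup G), y * y ∉ commutator (S : Subgroup G) := by
    obtain ⟨g, hg⟩ := IsCyclic.exists_ofOrder_eq_natCard (α := (S : Subgroup G) ⧸ N)
    obtain ⟨y, rfl⟩ := QuotientGroup.mk_surjective g
    refine ⟨y, fun h => hQ.not_ge (hg ▸ orderOf_le_of_pow_eq_one two_pos ?_)⟩
    rw [pow_two, ← QuotientGroup.mk_mul]; exact (QuotientGroup.eq_one_iff _).2 (hc h)
  have hm : IsMetacyclic (S : Subgroup G) := ⟨N, hN, hNc, hQc⟩
  by_cases hA : IsPGroup 2 (MulAut (S : Subgroup G))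
  · obtain ⟨f, h1, h2, -⟩ := H3.exists_inj (MulEquiv.refl (S : Subgroup G))
    obtain ⟨F, hF, -, h⟩ := H3.exists_fs (p := 2) h1 (h2.symm ▸ hall_sylow_top Nat.prime_two S)
    rcases H3.normal_or_mc S.isPGroup' hF (H20.sc_top F) hm with h3 | ⟨k, x, h3⟩
    · exact solv_top_iff.1 (PNil.solv_two ((hasNormalPComplement_top_iff' Nat.prime_two).1 (h (H3.inner_of_aut S.isPGroup' hF h3 hA))))
    · exact absurd (h3.commutator_eq.ge (h3.sq_mem_sq (mem_top y))) hy
  · rcases H3.aut_metacyc S.isPGroup' hm hA with ⟨⟨e⟩⟩ | ⟨n, hn, ⟨e⟩⟩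
    · refine absurd ?_ hy
      have key : ∀ a : QuaternionGroup 2, ∃ b c : QuaternionGroup 2, a * a = b * c * b⁻¹ * c⁻¹ := by decide
      obtain ⟨b, c, h⟩ := key (e y)
      have : y * y = ⁅e.symm b, e.symm c⁆ := e.injective (by simp [commutatorElement_def, h])
      exact this ▸ commutator_mem_commutator (mem_top _) (mem_top _)
    · by_cases h1 : n = 1
      · subst h1
        refine absurd ?_ hy
        have key : ∀ a : Multiplicative (ZMod (2 ^ 1)) × Multiplicative (ZMod (2 ^ 1)), a * a = 1 := by decide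
        have : y * y = 1 := e.injective (by rw [map_mul, key, map_one])
        exact this ▸ one_mem _
      · exact homo S (by omega) (e.trans (MulEquiv.prodMultiplicative _ _).symm)

end Cfsg.Agent.S4418
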