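import Cfsg.Statements.S4523
import Cfsg.Agent.H8.RealB
import Cfsg.Agent.H8.Sig
import Cfsg.Agent.H16.OddOrder
import Cfsg.Agent.H4.G6
import Cfsg.Agent.H21.RED

set_option autoImplicit false
open Cfsg

namespace Cfsg.Agent.S4523

open H5 H7 H8 Cfsg

/-- Let S be a non-abelian finite simple group with commutative Sylow 2-subgroups and M a maximal ideal of the algebraic integers containing 2. Let k be a natural number with g ^ k = g for every 2-element g and g ^ k = g⁻¹ for every element g of odd order. Then S has an irreducible character χ₁ of even degree with χ₁ (g ^ k) = χ₁ g for all g, and its principal 2-block contains a character χ₂ other than the principal character with χ₂ (g ^ k) = χ₂ g for all g. -/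
theorem result {S : Type*} [Group S] [Finite S] [IsSimpleGroup S] (hna : ¬ IsMulCommutative S) (P : Sylow 2 S) (hP : IsMulCommutative P) (M : Ideal Cfsg.AlgInt) (hM : Cfsg.IsPModular 2 M) (k : ℕ) (hk₁ : ∀ g : S, (∃ j : ℕ, orderOf g = 2 ^ j) → g ^ k = g) (hk₂ : ∀ g : S, Odd (orderOf g) → g ^ k = g⁻¹) : (∃ χ₁ : Cfsg.IrrCharacter S, Even (Cfsg.charDegree (χ₁ : S → ℂ)) ∧ ∀ g : S, (χ₁ : S → ℂ) (g ^ k) = (χ₁ : S → ℂ) g) ∧ ∃ χ₂ ∈ Cfsg.principalBlock M S, (χ₂ : S → ℂ) ≠ (fun _ => 1) ∧ ∀ g : S, (χ₂ : S → ℂ) (g ^ k) = (χ₂ : S → ℂ) g := by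
  haveI : PM 2 M := ⟨hM⟩
  have h1 : ∀ g : S, g ^ k = pp 2 g * (pr 2 g)⁻¹ := fun g => by
    rw [← hk₂ _ (Nat.odd_iff.2 (by have := not_dvd_orderOf_pr (p := 2) g; omega)), ← hk₁ _ (isPE_pp g),
      ← (commute_pp_pr g).mul_pow, pp_mul_pr]
  have h2 : ∀ g : S, (g ^ k) ^ k = g := fun g => by
    have e : ¬ 2 ∣ orderOf (pr 2 g)⁻¹ := by simpa using not_dvd_orderOf_pr (p := 2) g
    rw [h1 (g ^ k), h1 g, pp_mul_of (isPE_pp g) e (commute_pp_pr g).inv_right,
      pr_mul_of (isPE_pp g) e (commute_pp_pr g).inv_right, inv_inv, pp_mul_pr]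
  have hk : k.Coprime (Nat.card S) := Nat.coprime_of_dvd fun q hq e1 e2 => by
    haveI := Fact.mk hq
    obtain ⟨g, hg⟩ := exists_prime_orderOf_dvd_card' q e2
    have := h2 g
    rw [orderOf_dvd_iff_pow_eq_one.1 (show orderOf g ∣ k from hg ▸ e1), one_pow] at this
    rw [← this, orderOf_one] at hg
    exact hq.ne_one hg.symm
  have ns : ¬ Group.IsSolvable S := fun h => hna ⟨⟨IsSimpleGroup.comm_iff_isSolvable.2 h⟩⟩
  have ev : 2 ∣ Nat.card S := by_contra fun e => ns (H16.odd_order S (Nat.odd_iff.2 (by omega)))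
  obtain ⟨t, ht⟩ := exists_prime_orderOf_dvd_card' 2 ev
  refine ⟨?_, by_contra fun e => ?_⟩
  swap
  · have h3 := H3.hasNormalPComplement_iff_not_dvd_card_pResidual.1 (pnil_of_lin (p := 2) (M := M) hk (e := 1)
      (fun g => by rw [pow_one, sq, pow_mul, h2]) fun χ hχ _ h => by_contra fun e1 =>
        e ⟨χ, hχ, fun e2 => e1 (charDegree_of_eq (n := 1) (by simp [e2])), congrFun h⟩)
    rcases IsSimpleGroup.eq_bot_or_eq_top_of_normal (pResidual 2 S) inferInstance with h4 | h4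
    · haveI := (H3.pResidual_eq_bot_iff.1 h4).isNilpotent
      exact ns inferInstance
    · exact h3 (by simpa [h4] using ev)
  rcases H4.Gs.goldschmidt (fun e => hna ⟨⟨fun a b => e (Subgroup.mem_top b) a (Subgroup.mem_top a)⟩⟩)
    (H17.isSyl_sylow P) (P.ne_bot_of_dvd_card ev) (H18.abel_iff.2 hP) ⟨le_rfl, fun _ _ _ h => h⟩ with
    ⟨H, hH⟩ | ⟨h3, -⟩
  · obtain ⟨χ, h3, h4⟩ := exists_st hH (by
      rcases IsSimpleGroup.eq_bot_or_eq_top_of_normal (oddCore S) inferInstance with h4 | h4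
      · simpa [h4] using hH.1
      · exact absurd (by simpa [h4] using ev) (not_dvd_card_pPrimeCore (p := 2) (G := S)))
    refine ⟨χ, ?_, fun g => ?_⟩
    · obtain ⟨j, hj⟩ := card_dvd_of_vanish χ.2.isGen (Subgroup.zpowers t) fun g hg g1 => h4 g (by
        have := Subgroup.orderOf_dvd_natCard _ hg
        rw [Nat.card_zpowers, ht, Nat.dvd_prime Nat.prime_two, orderOf_eq_one_iff] at this
        exact this.resolve_left g1)
      rw [Nat.card_zpowers, ht, ← χ.2.coe_charDegree] at hj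
      exact even_iff_two_dvd.2 (Int.natCast_dvd_natCast.1 ⟨j, by exact_mod_cast hj⟩)
    rw [h3, h3, show MulAction.fixedBy (S ⧸ H) (g ^ k) = MulAction.fixedBy (S ⧸ H) g from
      Set.Subset.antisymm (fun x hx => h2 g ▸ (MulAction.stabilizer S x).pow_mem hx k)
        fun x hx => (MulAction.stabilizer S x).pow_mem hx k]
  have hE : SqE S := fun a ha => by
    obtain ⟨x, -, hx⟩ := (sylIn_top P).exists_cj_le ha.isPGroup_zpowers le_top
    simpa [sq] using h3.pow _ (hx (conj_mem_cj.2 (Subgroup.mem_zpowers a)))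
  have h4 : ∀ g : S, g ^ k = g⁻¹ := fun g => by
    conv_rhs => rw [← pr_mul_pp (p := 2) g, mul_inv_rev, inv_eq_of_mul_eq_one_right (hE _ (isPE_pp g))]
    exact h1 g
  by_contra e
  have h5 := comm_of_rb0 (M := M) S hE fun χ hχ => by
    have hB := isPBlock_blockOf (M := M) χ
    have h6 : ∀ g, χ.1 g⁻¹ = χ.1 g := fun g => (χ.2.apply_inv g).trans (congrFun hχ g)
    rw [← eq_principal_of_real hB (blockDefect_eq_of_not_dvd (M := M) (mem_blockOf_self χ) fun h =>
      e ⟨χ, even_iff_two_dvd.2 h, fun g => by rw [h4, h6]⟩) (blockCoeff_inv_of_mem hB (mem_blockOf_self χ)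
        ((Subtype.ext (funext h6) : ibar χ = χ).symm ▸ mem_blockOf_self χ))]
    exact mem_blockOf_self χ
  let T : Subgroup S :=
    { carrier := {s | s * s = 1}
      one_mem' := mul_one 1
      mul_mem' := fun {a b} ha hb => by
        show a * b * (a * b) = 1
        rw [(Commute.symm (h5 a b ha hb)).mul_mul_mul_comm, ha, hb, mul_one]
      inv_mem' := fun {a} ha => by
        show a⁻¹ * a⁻¹ = 1
        rw [← mul_inv_rev, ha, inv_one] }
  obtain ⟨t2, t1⟩ := H9.orderOf_eq_two.1 ht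
  rcases IsSimpleGroup.eq_bot_or_eq_top_of_normal T ⟨fun n hn g => H9.conj_sq hn g⟩ with h6 | h6
  · exact t1 (h6.le t2)
  · exact hna ⟨⟨fun a b => h5 a b (h6.ge trivial) (h6.ge trivial)⟩⟩

end Cfsg.Agent.S4523
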