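import Cfsg.Statements.S4560
import Cfsg.Agent.H5.FS
import Cfsg.Agent.H5.Gen
import Cfsg.Agent.S2271

set_option autoImplicit false
open Cfsg

namespace Cfsg.Agent.S4560

open Equiv Equiv.Perm MulAction Finset H5

section
variable {G Ω : Type*} [Group G] [Fintype G] [Fintype Ω] [DecidableEq Ω] [MulAction G Ω]

variable (Ω) in
def F (g : G) : Finset Ω := {x | g • x = x}
variable (Ω) in
def S (g : G) : Finset Ω := {x | g • g • x = x ∧ g • x ≠ x}

theorem card_F (g : G) : Nat.card (fixedBy Ω g) = #(F Ω g) := by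
  rw [Nat.card_eq_fintype_card, Fintype.card_subtype]; rfl

theorem card_F_sq (g : G) : #(F Ω (g * g)) = #(F Ω g) + #(S Ω g) := by
  rw [← card_filter_add_card_filter_not (s := F Ω (g * g)) (fun x => g • x = x)]
  congr 2 <;> ext x <;> simp +contextual [F, S, mul_smul]

theorem mom {k : ℕ} (h : IsMultiplyPretransitive G Ω k) (hk : k ≤ Fintype.card Ω) (θ : Perm (Fin k)) {c : G → ℂ}
    (hc : ∀ g : G, (#{x : Fin k ↪ Ω | ∀ i, g • x i = x (θ i)} : ℂ) = c g) : ∑ g, c g = Fintype.card G := by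
  classical
  simp only [← hc, ← Nat.cast_sum, Nat.cast_inj, card_filter]
  have a : 0 < Fintype.card (Fin k ↪ Ω) := by simpa
  refine Nat.eq_of_mul_eq_mul_left a ?_
  rw [sum_comm, mul_sum, ← smul_eq_mul _ (Fintype.card G), ← card_univ (α := Fin k ↪ Ω), ← sum_const]
  refine sum_congr rfl fun x _ => ?_
  rw [← card_filter, ← S2271.cnt (p := x) (q := θ.toEmbedding.trans x) (mem_orbit_iff.2 (h.exists_smul_eq _ _)), orbit_eq_univ,
    Set.ncard_univ, Nat.card_eq_fintype_card, card_univ]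
  simp [Function.Embedding.ext_iff, Function.Embedding.smul_apply]

theorem cF (k : ℕ) (g : G) : #{x : Fin k ↪ Ω | ∀ i, g • x i = x ((1 : Perm (Fin k)) i)} = (#(F Ω g)).descFactorial k := by
  rw [← Fintype.card_subtype, Fintype.card_congr ((Equiv.subtypeEquivRight fun x => by simp [F]).trans
    (Equiv.codRestrict (Fin k) (F Ω g : Set Ω))), Fintype.card_embedding_eq, Fintype.card_fin]
  simp

theorem cS1 (g : G) : #{x : Fin 2 ↪ Ω | ∀ i, g • x i = x (swap 0 1 i)} = #(S Ω g) :=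
  card_bij (fun x _ => x 0) (fun x h => by simp [Fin.forall_fin_succ] at h; simp [S, h]) (fun x h y h' e => by
    simp [Fin.forall_fin_succ] at h h'; ext i; fin_cases i <;> simp [← h.1, ← h'.1, e]) fun a h => by
    simp [S] at h
    exact ⟨⟨![a, g • a], H16.inj2 (Ne.symm h.2)⟩, by simp [Fin.forall_fin_succ, h], rfl⟩

theorem cS2 (g : G) : #{x : Fin 3 ↪ Ω | ∀ i, g • x i = x (swap 0 1 i)} = #(S Ω g) * #(F Ω g) := by
  rw [← card_product]
  refine card_bij (fun x _ => (x 0, x 2)) (fun x h => ?_) (fun x h y h' e => ?_) fun a h => ?_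
  · simp [Fin.forall_fin_succ, swap_apply_def] at h; simp [S, F, h]
  · simp [Fin.forall_fin_succ, swap_apply_def] at h h' e; ext i; fin_cases i <;> simp [← h.1, ← h'.1, e]
  · simp [S, F] at h
    exact ⟨⟨![a.1, g • a.1, a.2], H16.inj3 (Ne.symm h.1.2) (fun e => h.1.2 (e ▸ h.2)) fun e => h.1.2 (by
      rw [e, ← h.2, ← e, h.1.1])⟩, by simp [Fin.forall_fin_succ, swap_apply_def, h], rfl⟩

theorem cS3 (g : G) : #{x : Fin 4 ↪ Ω | ∀ i, g • x i = x (swap 0 1 i)} = #(S Ω g) * (#(F Ω g) * #(F Ω g) - #(F Ω g)) := by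
  rw [← offDiag_card, ← card_product]
  refine card_bij (fun x _ => (x 0, x 2, x 3)) (fun x h => ?_) (fun x h y h' e => ?_) fun a h => ?_
  · simp [Fin.forall_fin_succ, swap_apply_def] at h; simp [S, F, h]
  · simp [Fin.forall_fin_succ, swap_apply_def] at h h' e; ext i; fin_cases i <;> simp [← h.1, ← h'.1, e]
  · simp [S, F] at h
    have b : ∀ u, g • u = u → a.1 ≠ u ∧ g • a.1 ≠ u := fun u d =>
      ⟨fun e => h.1.2 (e ▸ d), fun e => h.1.2 (by rw [e, ← d, ← e, h.1.1])⟩
    exact ⟨⟨![a.1, g • a.1, a.2.1, a.2.2], H16.inj4 (Ne.symm h.1.2) (b _ h.2.1).1 (b _ h.2.2.1).1 (b _ h.2.1).2 (b _ h.2.2.1).2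
      h.2.2.2⟩, by simp [Fin.forall_fin_succ, swap_apply_def, h], rfl⟩

theorem cS4 (g : G) : #{x : Fin 4 ↪ Ω | ∀ i, g • x i = x ((swap 0 1 * swap 2 3 : Perm (Fin 4)) i)} + #(S Ω g) * 2 =
    #(S Ω g) * #(S Ω g) := by
  have a : ∀ a ∈ S Ω g, {a, g • a} ⊆ S Ω g ∧ a ≠ g • a := fun a h => by
    simp [S] at h; simp [S, insert_subset_iff, h, Ne.symm h.2]
  rw [← smul_eq_mul _ #(S Ω g), ← sum_const, ← sum_congr rfl fun b h => card_sdiff_add_card_eq_card (a b h).1, sum_add_distrib,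
    sum_congr rfl fun b h => card_pair (a b h).2, sum_const, smul_eq_mul, ← card_sigma]
  refine congrArg (· + _) (card_bij (fun x _ => ⟨x 0, x 2⟩) (fun x h => ?_) (fun x h y h' e => ?_) fun a h => ?_)
  · simp [Fin.forall_fin_succ, swap_apply_def] at h; simp [S, h]
  · simp [Fin.forall_fin_succ, swap_apply_def] at h h' e
    ext i; fin_cases i <;> simp [← h.1, ← h'.1, ← h.2.2.1, ← h'.2.2.1, e]
  · simp [S] at h
    obtain ⟨⟨h1, h2⟩, ⟨h3, h4⟩, h5, h6⟩ := h
    exact ⟨⟨![a.1, g • a.1, a.2, g • a.2], H16.inj4 (Ne.symm h2) (Ne.symm h5) (fun e => h6 (by rw [e, h3])) (Ne.symm h6)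
      ((MulAction.injective g).ne (Ne.symm h5)) (Ne.symm h4)⟩, by simp [Fin.forall_fin_succ, swap_apply_def, *], rfl⟩

variable (Ω) in
noncomputable def X (i : Fin 3) (g : G) : ℂ :=
  (![(#(F Ω g) * (#(F Ω g) - 3) + #(S Ω g)) / 2, #(F Ω g) - 1, ((#(F Ω g) - 1) * (#(F Ω g) - 2) - #(S Ω g)) / 2] : Fin 3 → ℂ) i

theorem irr_X (h : IsMultiplyPretransitive G Ω 4) (h4 : 4 ≤ Fintype.card Ω) (i : Fin 3) : IsIrrCharacter G (X Ω i) := by
  have t : ∀ k ≤ 4, IsMultiplyPretransitive G Ω k := fun k e => isMultiplyPretransitive_of_le e (by simpa)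
  have a1 := mom (t 1 (by omega)) (by omega) 1 (c := fun g => #(F Ω g)) fun g => by simp only [cF]; simp
  have a2 := mom (t 2 (by omega)) (by omega) 1 (c := fun g => #(F Ω g) * (#(F Ω g) - 1)) fun g => by
    simp only [cF, ← descPochhammer_eval_eq_descFactorial]; simp [descPochhammer_succ_eval]
  have a4 := mom h h4 1 (c := fun g => #(F Ω g) * (#(F Ω g) - 1) * (#(F Ω g) - 2) * (#(F Ω g) - 3)) fun g => by
    simp only [cF, ← descPochhammer_eval_eq_descFactorial]; simp [descPochhammer_succ_eval]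
  have b1 := mom (t 2 (by omega)) (by omega) _ (c := fun g => #(S Ω g)) fun g => by rw [cS1]
  have b2 := mom (t 3 (by omega)) (by omega) _ (c := fun g => #(S Ω g) * #(F Ω g)) fun g => by rw [cS2, Nat.cast_mul]
  have b3 := mom h h4 _ (c := fun g => #(S Ω g) * (#(F Ω g) * #(F Ω g) - #(F Ω g))) fun g => by
    rw [cS3, Nat.cast_mul, Nat.cast_sub (Nat.le_mul_self _), Nat.cast_mul]
  have b4 := mom h h4 (swap 0 1 * swap 2 3) (c := fun g => #(S Ω g) * #(S Ω g) - #(S Ω g) * 2) fun g => by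
    rw [eq_sub_iff_add_eq]; exact_mod_cast cS4 (Ω := Ω) g
  have a0 : ∑ _g : G, (1 : ℂ) = Fintype.card G := by simp
  have c := H5.isCharacter_fixedBy (G := G) Ω
  simp only [card_F] at c
  have d : (4 : ℝ) ≤ #(F Ω (1 : G)) := by simpa [F] using (Nat.cast_le (α := ℝ)).2 h4
  have e : ∀ (φ : G → ℂ) (p q r s t u v w : ℂ), (∀ g, (starRingEnd ℂ) (φ g) = φ g) → (∀ g, φ g * φ g =
      p * (#(F Ω g) * (#(F Ω g) - 1) * (#(F Ω g) - 2) * (#(F Ω g) - 3)) + q * (#(F Ω g) * (#(F Ω g) - 1)) + r * #(F Ω g) + s * 1 +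
      t * (#(S Ω g) * (#(F Ω g) * #(F Ω g) - #(F Ω g))) + u * (#(S Ω g) * #(F Ω g)) + v * #(S Ω g) +
      w * (#(S Ω g) * #(S Ω g) - #(S Ω g) * 2)) → p + q + r + s + t + u + v + w = 1 → classInner φ φ = 1 :=
    fun φ p q r s t u v w e1 e2 e3 => by
      have : ∑ g, φ g * φ g = Fintype.card G := by
        simp only [e2, sum_add_distrib, ← mul_sum, a4, a2, a1, a0, b3, b2, b1, b4]
        linear_combination (Fintype.card G : ℂ) * e3
      simp [classInner, e1, this]
  fin_cases i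
  · refine H5.Cfsg.IsGeneralizedCharacter.isIrr_of_classInner_self_of_apply_one ?_ (e _ (1 / 4) (-1 / 2) 1 0 (1 / 2) (-1) (1 / 2)
      (1 / 4) (by simp [X, map_ofNat]) (fun g => by simp [X]; ring) (by norm_num)) (by simp [X, S]; nlinarith)
    convert c.symSq.isGen.sub (c.isGen.add c.isGen) using 1
    ext g; simp [X, card_F_sq]; ring
  · exact H5.Cfsg.IsGeneralizedCharacter.isIrr_of_classInner_self_of_apply_one (c.isGen.sub H5.isGen_one)
      (e _ 0 1 (-1) 1 0 0 0 0 (by simp [X]) (fun g => by simp [X]; ring) (by norm_num)) (by simp [X]; exact card_pos.1 (by exact_mod_cast (by linarith : (0 : ℝ) < #(F Ω (1 : G)))))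
  · refine H5.Cfsg.IsGeneralizedCharacter.isIrr_of_classInner_self_of_apply_one ?_ (e _ (1 / 4) (1 / 2) (-1) 1 (-1 / 2) 1 (-1 / 2)
      (1 / 4) (by simp [X, map_ofNat]) (fun g => by simp [X]; ring) (by norm_num)) (by simp [X, S]; nlinarith)
    convert (c.altSq.isGen.sub c.isGen).add H5.isGen_one using 1
    ext g; simp [X, card_F_sq]; ring
end

theorem ex {n : ℕ} (hn : 7 ≤ n) {m : Multiset ℕ} (h1 : m.sum ≤ n) (h2 : ∀ a ∈ m, 2 ≤ a) (h3 : Even (m.sum + m.card))
    (h : n = m.sum + 1 ∨ 2 ∉ m ∧ n ≤ m.sum + 2) {P : ℕ → Prop} (hP : P m.lcm) :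
    ∃ χ : IrrCharacter (alternatingGroup (Fin n)), (∃ x : alternatingGroup (Fin n), P (orderOf x) ∧ χ.1 x = 0) ∧
      ∃ ψ : IrrCharacter (Perm (Fin n)), ∀ x : alternatingGroup (Fin n), ψ.1 x = χ.1 x := by
  obtain ⟨g, rfl⟩ := (exists_with_cycleType_iff (Fin n)).2 ⟨by simpa using h1, h2⟩
  haveI := alternatingGroup.isMultiplyPretransitive (Fin n)
  have a : #(F (Fin n) g) = n - g.cycleType.sum := by
    rw [sum_cycleType, show F (Fin n) g = g.supportᶜ by ext; simp [F], card_compl, Fintype.card_fin]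
  obtain ⟨i, b⟩ : ∃ i, X (Fin n) i g = 0 := by
    rcases h with h | ⟨h, h'⟩
    · exact ⟨1, by simp [X, a, h]⟩
    have b : S (Fin n) g = ∅ := filter_eq_empty_iff.2 fun x _ ⟨d, e⟩ => h (by
      have c := isCycle_cycleOf g e
      have := (Nat.dvd_prime Nat.prime_two).1 (orderOf_dvd_of_pow_eq_one ((c.pow_eq_one_iff' (x := x) (n := 2)
        (by simpa using e)).2 (by rw [cycleOf_pow_apply_self]; exact d)))
      rw [orderOf_eq_one_iff, c.orderOf] at this
      exact this.resolve_left c.ne_one ▸ Multiset.mem_map_of_mem (Finset.card ∘ support)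
        (Finset.mem_def.1 (cycleOf_mem_cycleFactorsFinset_iff.2 (mem_support.2 e))))
    obtain ⟨k, c⟩ := Nat.exists_eq_add_of_le h1
    have : k < 3 := by omega
    refine ⟨⟨k, this⟩, ?_⟩
    rw [show n - g.cycleType.sum = k by omega] at a
    interval_cases k <;> simp [X, a, b]
  exact ⟨⟨_, irr_X (isMultiplyPretransitive_of_le (n := Nat.card (Fin n) - 2) (by simp; omega) (by simp)) (by simp; omega) i⟩,
    ⟨⟨g, (sign_of_cycleType g).trans h3.neg_one_pow⟩, by rwa [← Subgroup.orderOf_coe, ← lcm_cycleType], b⟩,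
    ⟨_, irr_X (Perm.isMultiplyPretransitive _ 4) (by simp; omega) i⟩, fun _ => rfl⟩

theorem exm (a : ℕ) {k : ℕ} (hk : 2 ≤ k) : ∃ m : Multiset ℕ, m.sum = a * k ∧ (∀ b ∈ m, b = a ∨ b = 2 * a) ∧ Even m.card := by
  rcases k.even_or_odd with h | h
  · exact ⟨Multiset.replicate k a, by simp [mul_comm], fun b e => Or.inl (Multiset.eq_of_mem_replicate e), by simpa⟩
  · obtain ⟨j, rfl⟩ := Nat.exists_eq_add_of_le' hk
    exact ⟨(2 * a) ::ₘ Multiset.replicate j a, by simp; ring, fun b e => (Multiset.mem_cons.1 e).symm.imp_left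
      Multiset.eq_of_mem_replicate, by simpa [parity_simps] using h⟩

/-- For n ≥ 7 the alternating group on n letters has an irreducible character that vanishes at some 2-element and is the restriction of an irreducible character of the symmetric group, and an irreducible character that vanishes at some element of order 3 and is the restriction of an irreducible character of the symmetric group. -/
theorem result (n : ℕ) (hn : 7 ≤ n) : (∃ χ : Cfsg.IrrCharacter (alternatingGroup (Fin n)), (∃ x : alternatingGroup (Fin n), (∃ j : ℕ, orderOf x = 2 ^ j) ∧ (χ : alternatingGroup (Fin n) → ℂ) x = 0) ∧ ∃ ψ : Cfsg.IrrCharacter (Equiv.Perm (Fin n)), ∀ x : alternatingGroup (Fin n), (ψ : Equiv.Perm (Fin n) → ℂ) x = (χ : alternatingGroup (Fin n) → ℂ) x) ∧ (∃ χ : Cfsg.IrrCharacter (alternatingGroup (Fin n)), (∃ y : alternatingGroup (Fin n), orderOf y = 3 ∧ (χ : alternatingGroup (Fin n) → ℂ) y = 0) ∧ ∃ ψ : Cfsg.IrrCharacter (Equiv.Perm (Fin n)), ∀ x :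 alternatingGroup (Fin n), (ψ : Equiv.Perm (Fin n) → ℂ) x = (χ : alternatingGroup (Fin n) → ℂ) x) := by
  have key : ∀ m : Multiset ℕ, (∀ b ∈ m, b ∣ 2 ^ 3) → ∃ j, m.lcm = 2 ^ j := fun m h =>
    ((Nat.dvd_prime_pow Nat.prime_two).1 (Multiset.lcm_dvd.2 h)).imp fun _ e => e.2
  constructor
  · rcases n.even_or_odd with h | h
    · have := Nat.even_iff.1 h
      obtain ⟨m, a, b, c⟩ := exm 4 (k := n / 4) (by omega)
      exact ex hn (P := fun o => ∃ j, o = 2 ^ j) (by omega) (fun x e => by have := b x e; omega)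
        (Even.add ⟨2 * (n / 4), by omega⟩ c) (Or.inr ⟨fun e => by have := b 2 e; omega, by omega⟩)
        (key m fun x e => by rcases b x e with rfl | rfl <;> decide)
    · obtain ⟨m, a, b, c⟩ := exm 2 (k := n / 2) (by omega)
      exact ex hn (P := fun o => ∃ j, o = 2 ^ j) (by omega) (fun x e => by have := b x e; omega)
        (Even.add ⟨n / 2, by omega⟩ c) (Or.inl (by have := Nat.odd_iff.1 h; omega))
        (key m fun x e => by rcases b x e with rfl | rfl <;> decide)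
  · exact ex hn (P := (· = 3)) (m := Multiset.replicate (n / 3) 3) (by simp; omega)
      (fun x e => by have := Multiset.eq_of_mem_replicate e; omega) ⟨2 * (n / 3), by simp; omega⟩
      (Or.inr ⟨by simp [Multiset.mem_replicate], by simp; omega⟩) (Nat.dvd_antisymm (Multiset.lcm_dvd.2 fun x e =>
        (Multiset.eq_of_mem_replicate e).dvd) (Multiset.dvd_lcm (Multiset.mem_replicate.2 ⟨by omega, rfl⟩)))

end Cfsg.Agent.S4560
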