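import Cfsg.Statements.S4563
import Cfsg.Agent.H8.CenT
import Cfsg.Agent.S0006

set_option autoImplicit false
open Cfsg

namespace Cfsg.Agent.S4563

open H5 H19 H18 H1 H8 Subgroup

section
variable {Γ : Type*} [Group Γ] [Fintype Γ] {Z K : Subgroup Γ} {χ ψ : Γ → ℂ} {e : ℕ}

theorem compl (h : CenT Z χ e) {p : ℕ} (hp : p.Prime) [K.Normal] (hZ : Z ≤ K) (hψ : ψ ∈ chars K)
    (hlo : Lo Z χ ψ) (hd : K.index * dg ψ = e) :
    ∃ U, K ≤ U ∧ PiNat {p} U.index ∧ PiNat {p}ᶜ (K.relIndex U) := by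
  classical
  obtain ⟨S, hS⟩ := H18.exists_sylow hp (⊤ : Subgroup Γ)
  haveI : Z.Normal := ⟨fun z hz g => by
    rw [mem_center_iff.1 (h.cen hz) g, mul_inv_cancel_right]; exact hz⟩
  set R := Z ⊔ S with hRdef
  set Q := K ⊓ R with hQdef
  have hZR : Z ≤ R := le_sup_left
  have hZQ : Z ≤ Q := le_inf hZ hZR
  have hQR : Q ⊴ R := nml_inf_of_norm' le_normalizer_of_normal
  have hR : ¬ p ∣ R.index := by
    rw [← relIndex_top_right]; exact (piNat_compl_iff hp).1 (hS.idx_of_le le_sup_right)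
  obtain ⟨s, hs⟩ : ∃ s, Z.relIndex R = p ^ s := by
    rw [hRdef, relIndex_sup_left]; exact hS.pi.relIndex.eq_pow relIndex_ne_zero
  obtain ⟨c, e', he', he⟩ := Nat.exists_eq_pow_mul_and_not_dvd (Nat.cast_ne_zero.1 h.e_ne) p hp.ne_one
  have c1 := (Nat.Prime.coprime_iff_not_dvd hp).2 he'
  have c2 := (Nat.Prime.coprime_iff_not_dvd hp).2 hR
  have hE : (p ^ c) ^ 2 = Z.relIndex R := by
    have := h.sq
    rw [← relIndex_mul_index hZR, hs, he, mul_pow] at this
    rw [hs]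
    exact Nat.dvd_antisymm (((c2.pow_left _).pow_left _).dvd_of_dvd_mul_right ⟨_, this.symm⟩)
      ((c1.pow _ 2).dvd_of_dvd_mul_right ⟨_, this⟩)
  have E0 : 0 < p ^ c := pow_pos hp.pos _
  -- the characters of `R` over the central character
  have A1 : ∀ η ∈ loS Z χ R, ((p ^ c : ℕ) : ℤ) ≤ dg η := fun η hη => by
    obtain ⟨h1, h2⟩ := mem_loS.1 hη
    have d1 := h.dvd le_top (ind_mem_chars le_top (chars_of_irr h1)) (CenT.ind_lo h.cen h2 R ⊤)
    rw [dg_ind le_top (vchar_of_irr h1), relIndex_top_right, relIndex_top_right, ← h.sq] at d1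
    obtain ⟨d, hd⟩ := Int.eq_ofNat_of_zero_le (irr_dg_pos h1).le
    have d0 : 0 < d := by simpa [hd] using irr_dg_pos h1
    rw [hd] at d1 ⊢
    norm_cast at d1 ⊢
    rw [_root_.sq] at d1
    have d2 := Nat.dvd_of_mul_dvd_mul_left (Nat.pos_of_ne_zero (Nat.cast_ne_zero.1 h.e_ne)) d1
    exact Nat.le_of_dvd d0 ((c2.pow_left c).dvd_of_dvd_mul_left ((Dvd.intro _ he.symm).trans d2))
  have A2 : ∀ η ∈ loS Z χ R, ∀ η' ∈ loS Z χ R, η = η' := fun η hη η' hη' => by
    by_contra hne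
    have h1 := h.sum_sq hZR
    have h2 : dg η ^ 2 + dg η' ^ 2 ≤ ∑ μ ∈ loS Z χ R, dg μ ^ 2 := by
      rw [← Finset.sum_pair (f := fun μ => dg μ ^ 2) hne]
      exact Finset.sum_le_sum_of_subset_of_nonneg (by
        intro x hx
        rcases Finset.mem_insert.1 hx with rfl | hx
        · exact hη
        · rwa [Finset.mem_singleton.1 hx]) fun _ _ _ => sq_nonneg _
    rw [h1, ← hE] at h2
    have a1 := A1 η hη
    have a2 := A1 η' hη'
    have a3 : (0 : ℤ) < ((p ^ c : ℕ) : ℤ) := by exact_mod_cast E0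
    push_cast at h2 a1 a2 a3
    nlinarith
  have B1 : ∀ θ ∈ loS Z χ Q, ∃ η ∈ loS Z χ R, ∃ a : ℂ, a ≠ 0 ∧ ind Q R θ = a • η := fun θ hθ => by
    obtain ⟨h1, h2⟩ := mem_loS.1 hθ
    have hc := cf_of_chars (ind_mem_chars hQR.le (chars_of_irr h1))
    have hl := CenT.ind_lo h.cen h2 Q R
    obtain ⟨η, g1, g2⟩ := exists_irr_ip_ne_zero hc (ind_ne_zero hQR.le (irr_apply_one_ne_zero h1))
    have hη := mem_loS.2 ⟨g1, h.lo_of_ip hZR hl g1 g2⟩
    refine ⟨η, hη, _, g2, (h.eq_sum hZR hl hc).trans ?_⟩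
    exact Finset.sum_eq_single_of_mem η hη fun μ hμ hne => absurd (A2 μ hμ η hη) hne
  obtain ⟨θ, t1, t2⟩ : ∃ θ ∈ irr Q, Lo Z χ θ := by
    obtain ⟨η, g1, g2⟩ := exists_irr_ip_ne_zero (φ := res Q χ)
      (cf_of_chars (res_mem_chars le_top (chars_of_irr h.irr))) (fun h0 => by
        have := congrFun h0 1
        rw [res_one] at this
        exact irr_apply_one_ne_zero h.irr this)
    exact ⟨η, g1, h.lo_of_ip hZQ (h.lo.res hZQ) g1 g2⟩
  have hθ := mem_loS.2 ⟨t1, t2⟩
  have locj : ∀ g ∈ N(Q), cfcj g θ ∈ loS Z χ Q := fun g hg =>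
    mem_loS.2 ⟨cfcj_mem_irr_N t1 hg, by rw [← inv_inv g, cfcj_eq_cjf]; exact CenT.cjf_lo h.cen t2 g⁻¹⟩
  have B2 : loS Z χ Q = cfclass R θ := by
    ext μ
    refine ⟨fun hμ => ?_, fun hμ => ?_⟩
    · obtain ⟨η, g1, a, a0, g2⟩ := B1 θ hθ
      obtain ⟨η', g1', a', a0', g2'⟩ := B1 μ hμ
      refine mem_cfclass_of_ip_ne_zero hQR t1 (mem_loS.1 hμ).1 ?_
      rw [g2, g2', A2 η' g1' η g1, ip_smul_left, ip_smul_right, ip_irr_self (mem_loS.1 g1).1]
      simp [a0, a0']
    · obtain ⟨g, hg, rfl⟩ := mem_cfclass.1 hμ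
      exact locj g (hQR.norm hg)
  have B3 : ∀ μ ∈ loS Z χ Q, dg μ = dg θ := fun μ hμ => by
    rw [B2] at hμ
    obtain ⟨g, -, rfl⟩ := mem_cfclass.1 hμ
    exact dg_cfcj _ _
  have C1' : dg θ ∣ dg ψ := by
    have hc := res_mem_chars (inf_le_left : Q ≤ K) hψ
    have e1 := congrFun (h.eq_sum hZQ (hlo.res hZQ) (cf_of_chars hc)) 1
    choose! n hn using fun μ (hμ : μ ∈ loS Z χ Q) => ip_nat hc (chars_of_irr (mem_loS.1 hμ).1)
    rw [res_one, chars_apply_one hψ, Finset.sum_apply, Finset.sum_congr rfl fun μ hμ => by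
      rw [Pi.smul_apply, hn μ hμ, irr_apply_one (mem_loS.1 hμ).1, B3 μ hμ, smul_eq_mul],
      ← Finset.sum_mul] at e1
    exact Dvd.intro_left (∑ μ ∈ loS Z χ Q, (n μ : ℤ)) (by exact_mod_cast e1.symm)
  set T := inertia Q θ with hT
  have hQT : Q ≤ T := le_inertia (cf_of_irr t1)
  have S1 : (T.relIndex R : ℤ) * dg θ ^ 2 = Z.relIndex Q := by
    rw [← h.sum_sq hZQ, Finset.sum_congr rfl fun μ hμ => by rw [B3 μ hμ], Finset.sum_const, B2,
      card_cfclass hQR.norm, nsmul_eq_mul]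
  have hm : T.relIndex R = Q.relIndex R := by
    refine le_antisymm (Nat.le_of_dvd relIndex_pos (relIndex_dvd_left hQT)) ?_
    obtain ⟨d, hd'⟩ := Int.eq_ofNat_of_zero_le (irr_dg_pos t1).le
    have d0 : 0 < d := by simpa [hd'] using irr_dg_pos t1
    obtain ⟨f, hf⟩ := Int.eq_ofNat_of_zero_le (chars_dg_nonneg hψ)
    rw [hd'] at S1 C1'
    rw [hf] at C1' hd
    norm_cast at S1 C1' hd
    have r1 := relIndex_mul_relIndex _ _ _ hZQ hQR.le
    have m1 : Q.relIndex R ∣ K.index := by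
      rw [hQdef, relIndex_inf_right]; exact relIndex_dvd_index_of_normal _ _
    have m2 : Q.relIndex R * d ∣ p ^ c * e' := by
      rw [← he, ← hd]; exact Nat.mul_dvd_mul m1 C1'
    have m3 : Q.relIndex R * d ∣ p ^ c := by
      refine Nat.Coprime.dvd_of_dvd_mul_right ?_ m2
      refine Nat.Coprime.coprime_dvd_left ?_ (c1.pow_left s)
      rw [← hs, ← r1, ← S1, mul_comm]
      exact Nat.mul_dvd_mul_right ((dvd_pow_self d two_ne_zero).trans (Dvd.intro_left _ rfl)) _
    have m4 := Nat.le_of_dvd E0 m3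
    have m0 : 0 < Q.relIndex R := relIndex_pos
    rw [← hE, ← S1] at r1
    generalize p ^ c = E at *
    generalize Q.relIndex R = m at *
    generalize T.relIndex R = a at *
    have x1 : (m * d) ^ 2 ≤ a * d ^ 2 * m := r1 ▸ Nat.pow_le_pow_left m4 2
    exact Nat.le_of_mul_le_mul_right (c := d ^ 2 * m) (by nlinarith) (by positivity)
  have hN : T.relIndex N(Q) = Q.relIndex R := by
    rw [← hm, ← card_cfclass le_rfl, ← card_cfclass hQR.norm, ← B2]
    congr 1
    ext μ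
    refine ⟨fun hμ => ?_, fun hμ => ?_⟩
    · obtain ⟨g, hg, rfl⟩ := mem_cfclass.1 hμ
      exact locj g hg
    · rw [B2] at hμ
      obtain ⟨g, hg, rfl⟩ := mem_cfclass.1 hμ
      exact cfcj_mem_cfclass (hQR.norm hg)
  have hTN : T ≤ N(Q) := inertia_le_N
  have hQ' : Q = Z ⊔ (K ⊓ S) := (Nrm2.modular_left (Or.inr le_normalizer_of_normal) hZ)
  refine ⟨K ⊔ T, le_sup_left, ?_, ?_⟩
  · let q := QuotientGroup.mk' K
    have hs' : Function.Surjective (q.comp (N(Q)).subtype) := fun x => by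
      obtain ⟨g, rfl⟩ := QuotientGroup.mk'_surjective K x
      obtain ⟨k, hk, n, hn, rfl⟩ := frattini_elt (g := g) hp
        (hS.inf_nml' (K := K) ⟨le_top, le_normalizer_of_normal⟩) (le_normalizer_of_normal (mem_top g))
      refine ⟨⟨n, hQ' ▸ norm_sup le_normalizer_of_normal le_rfl hn⟩, ?_⟩
      simp [q, (QuotientGroup.eq_one_iff k).2 hk]
    have i1 := (T.subgroupOf N(Q)).index_map_dvd hs'
    rw [← map_map, map_subgroupOf_eq_of_le hTN, index_map, QuotientGroup.ker_mk',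
      QuotientGroup.range_mk', index_top, mul_one, sup_comm] at i1
    refine PiNat.of_dvd ?_ (i1.trans (hN.dvd.trans (relIndex_dvd_left hZQ)))
    rw [hs]; exact piNat_pow_self hp s
  · rw [relIndex_sup_left]
    have r1 := relIndex_tower hQT hTN
    rw [← relIndex_tower hQR.le hQR.norm, hN, mul_comm] at r1
    have r2 := Nat.eq_of_mul_eq_mul_left relIndex_pos r1
    refine (piNat_compl_iff hp).2 fun d => hR ?_
    exact d.trans ((relIndex_dvd_left (inf_le_left : Q ≤ K)).trans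
      (r2.dvd.trans (relIndex_dvd_index_of_le hQR.norm)))
end

/-- Let χ be an irreducible character of the finite group H that is fully ramified over the normal subgroup Z: the restriction of χ to Z is e times an irreducible character of Z with e ^ 2 equal to the index of Z. If K is a proper normal subgroup of H containing Z and χ is induced from a character of K, then H/K is solvable; in particular, if K is solvable then so is H. -/
theorem result {H : Type*} [Group H] [Fintype H] (Z : Subgroup H) [Z.Normal] (χ : Cfsg.IrrCharacter H) (hfr : ∃ (θ : Cfsg.IrrCharacter ↥Z) (e : ℕ), e ^ 2 = Z.index ∧ ∀ z : ↥Z, (χ : H → ℂ) z = (e : ℂ) * (θ : ↥Z → ℂ) z) (K : Subgroup H) [K.Normal] [Fintype K] (hZK : Z ≤ K) (hK : K ≠ ⊤) (φ : ↥K → ℂ) (hφ : Cfsg.IsCharacter ↥K φ) (hind : Cfsg.indFun K φ = (χ : H → ℂ)) : Group.IsSolvable (H ⧸ K) ∧ (Group.IsSolvable ↥K → Group.IsSolvable H) := by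
  classical
  obtain ⟨θ, e, he, hθ⟩ := hfr
  have hφ' : extendByZero Z θ ∈ irr Z := extendByZero_mem_irr.2 θ.2
  have hχ : (χ : H → ℂ) ∈ irr ⊤ := mem_irr_top.2 χ.2
  have e0 : (e : ℂ) ≠ 0 := by
    rw [Nat.cast_ne_zero]; rintro rfl
    exact index_ne_zero_of_finite (he.symm.trans (by simp))
  have hr : res Z (χ : H → ℂ) = (e : ℂ) • extendByZero Z θ :=
    eq_of_eqOn (res_supp _ _) (fun x hx => by simp [H19.extendByZero_of_not_mem _ hx]) fun x hx => by
      rw [res_of_mem _ hx, Pi.smul_apply, H19.extendByZero_of_mem _ hx]; exact hθ ⟨x, hx⟩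
  obtain ⟨T⟩ := exists_tri (Y := ⊤) le_top le_normalizer_of_normal hφ' fun g _ => by
    have := cjf_res (K := Z) (x := g) (le_normalizer_of_normal (mem_top g)) (χ : H → ℂ)
    rw [cjf_of_cf (cf_of_irr hχ) (mem_top g), hr, cjf_smul] at this
    exact smul_right_injective _ e0 this
  obtain ⟨β, ⟨⟨b1, -⟩, b2⟩, -⟩ := (T.birel le_top le_rfl).1 χ ⟨hχ, by
    rw [Ov, hr, ip_smul_left, ip_irr_self hφ', mul_one]; exact e0⟩
  have hi : ∀ U, Z ≤ U → (T.hat U).index = U.index := fun U hU => by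
    rw [← relIndex_top_right, ← T.hat_Y, T.relIndex_hat hU le_rfl, relIndex_top_right]
  have hβ : β 1 = e := by
    have := b2.one
    rw [← res_one Z (χ : H → ℂ), hr] at this
    exact mul_right_cancel₀ (irr_apply_one_ne_zero hφ') this.symm
  have hc : CenT (T.hat Z) β e := ⟨T.hat_Y ▸ b1, T.hat_L_central, hβ, he.trans (hi Z le_rfl).symm⟩
  -- an irreducible constituent of `φ`
  have f1 : extendByZero K φ ∈ chars K := extendByZero_mem_chars.2 hφ
  rw [indFun_eq] at hind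
  set F := extendByZero K φ
  obtain ⟨μ, m1, m2⟩ := exists_irr_ip_ne_zero (cf_of_chars f1) (fun h0 => by
    rw [h0, map_zero] at hind
    exact irr_ne_zero hχ hind.symm)
  have m3 := ind_mem_chars le_top (chars_of_irr m1)
  have m4 : ip ⊤ (ind K ⊤ μ) (χ : H → ℂ) ≠ 0 := by
    obtain ⟨ν, n1, n2⟩ := exists_irr_ip_ne_zero (cf_of_chars m3)
      (ind_ne_zero le_top (irr_apply_one_ne_zero m1))
    obtain ⟨a, ha⟩ := ip_nat m3 (chars_of_irr n1)
    obtain ⟨b, hb⟩ := ip_nat (ind_mem_chars le_top (chars_sub_irr f1 m1 m2)) (chars_of_irr n1)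
    rw [map_sub, ip_sub_left, hind, ha, sub_eq_iff_eq_add] at hb
    rw [irr_eq_of_ip_ne_zero hχ n1 (by
      rw [hb]; rw [ha] at n2
      exact_mod_cast (by have := Nat.cast_ne_zero.1 n2; omega : b + a ≠ 0))]
    exact n2
  have m5 : (K.index : ℤ) * dg μ = dg (χ : H → ℂ) := by
    have a1 := dg_le_of_ip_ne_zero m3 hχ m4
    have a2 := dg_le_of_ip_ne_zero f1 m1 m2
    have a3 := dg_ind le_top (vchar_of_chars f1)
    rw [dg_ind le_top (vchar_of_irr m1), relIndex_top_right] at a1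
    rw [hind, relIndex_top_right] at a3
    exact le_antisymm (a3 ▸ mul_le_mul_of_nonneg_left a2 (Nat.cast_nonneg _)) a1
  have rK := res_mem_chars (le_top : K ≤ ⊤) (chars_of_irr hχ)
  have m6 : ip K (res K (χ : H → ℂ)) μ ≠ 0 := by
    rw [ip_comm (vchar_of_chars rK) (vchar_of_irr m1), ← ip_ind_res (cf_of_irr m1) (cf_of_irr hχ)]
    exact m4
  have m7 : Ov Z μ (extendByZero Z θ) := by
    have rZ := res_mem_chars hZK (chars_of_irr m1)
    obtain ⟨ν, n1, n2⟩ := exists_irr_ip_ne_zero (cf_of_chars rZ) (fun h0 => by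
      have := congrFun h0 1
      rw [res_one] at this
      exact irr_apply_one_ne_zero m1 this)
    obtain ⟨a, ha⟩ := ip_nat rZ (chars_of_irr n1)
    obtain ⟨b, hb⟩ := ip_nat (res_mem_chars hZK (chars_sub_irr rK m1 m6)) (chars_of_irr n1)
    rw [map_sub, ip_sub_left, res_res hZK, ha, sub_eq_iff_eq_add, hr, ip_smul_left] at hb
    rw [Ov, irr_eq_of_ip_ne_zero hφ' n1 (fun h0 => by
      rw [h0, mul_zero] at hb; rw [ha] at n2
      have : b + a = 0 := by exact_mod_cast hb.symm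
      exact Nat.cast_ne_zero.1 n2 (by omega))]
    exact n2
  obtain ⟨γ, ⟨⟨g1, -⟩, g2⟩, -⟩ := (T.birel hZK le_top).1 μ ⟨m1, m7⟩
  have hZK' := T.hat_mono hZK
  have g3 : Lo (T.hat Z) β γ :=
    hc.lo_of_ip hZK' (hc.lo.res hZK') g1 (by rw [← Tri.ip_eq hZK le_top b2 g2]; exact m6)
  have g4 : ((T.hat K).index : ℤ) * dg γ = e := by
    have a1 := b2.one
    have a2 := g2.one
    rw [irr_apply_one hχ, ← m5, hβ] at a1
    push_cast at a1
    rw [← irr_apply_one m1, a2, ← mul_assoc, irr_apply_one g1] at a1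
    rw [hi K hZK]
    exact_mod_cast mul_right_cancel₀ (irr_apply_one_ne_zero hφ') a1
  haveI : (T.hat K).Normal := normalizer_eq_top_iff.1 (top_le_iff.1
    (T.hat_Y ▸ T.hat_norm hZK (V := ⊤) le_normalizer_of_normal))
  have hs : Group.IsSolvable (H ⧸ K) := by
    refine Cfsg.Agent.S0006.result fun p hp => ?_
    obtain ⟨U, u1, u2, u3⟩ := compl hc hp hZK' (chars_of_irr g1) g3 g4
    let M := (U.comap T.ρ).map T.π
    have hKM : K ≤ M := fun x hx => by
      obtain ⟨γ, rfl⟩ := T.exists_π (mem_top x)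
      exact mem_map_of_mem _ (u1 ((T.mem_hat hZK).2 hx))
    have hM : T.hat M = U := by
      rw [Tri.hat, comap_map_eq, Subgroup.map_sup, ← T.hat_L, map_comap_eq_self_of_surjective T.surj]
      exact sup_eq_left.2 (hZK'.trans u1)
    rw [← hM, T.relIndex_hat hZK le_top] at u3
    rw [← hM, hi M (hZK.trans hKM)] at u2
    let q := QuotientGroup.mk' K
    refine ⟨M.map q, ?_⟩
    have i1 : (M.map q).index = M.index := by
      rw [index_map, QuotientGroup.ker_mk', QuotientGroup.range_mk', index_top, mul_one,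
        sup_eq_left.2 hKM]
    have i2 : Nat.card (M.map q) = K.relIndex M := by
      rw [← relIndex_bot_left, ← QuotientGroup.map_mk'_self K, relIndex_map_map, QuotientGroup.ker_mk',
        sup_idem, sup_eq_left.2 hKM]
    obtain ⟨k, hk⟩ := u2.eq_pow index_ne_zero_of_finite
    have i3 := (M.map q).card_mul_index
    rw [i1, i2, hk] at i3
    rw [i1, hk, ← i3, Nat.factorization_mul H18.relIndex_ne_zero (pow_pos hp.pos _).ne',
      Finsupp.add_apply, Nat.factorization_eq_zero_of_not_dvd ((piNat_compl_iff hp).1 u3),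
      hp.factorization_pow, zero_add, Finsupp.single_eq_same]
  exact ⟨hs, fun hK' => solvable_of_ker_le_range K.subtype (QuotientGroup.mk' K) (by simp)⟩

end Cfsg.Agent.S4563
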