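import Cfsg.Statements.S4564
import Cfsg.Agent.H8.CenT

set_option autoImplicit false
open Cfsg

namespace Cfsg.Agent.S4564

open H5 H19 H18 H1 H8 Subgroup

/-- Let χ be an irreducible character of the finite group H that is fully ramified over the normal subgroup Z: the restriction of χ to Z is e times an irreducible character of Z with e ^ 2 equal to the index of Z. Let K be a normal subgroup of H containing Z and P a cyclic Sylow p-subgroup of H/K. Then P has a complement in H/K: a subgroup meeting P trivially whose product with P is the whole group. -/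
theorem result {H : Type*} [Group H] [Finite H] (Z : Subgroup H) [Z.Normal] (χ : Cfsg.IrrCharacter H) (hfr : ∃ (θ : Cfsg.IrrCharacter ↥Z) (e : ℕ), e ^ 2 = Z.index ∧ ∀ z : ↥Z, (χ : H → ℂ) z = (e : ℂ) * (θ : ↥Z → ℂ) z) (K : Subgroup H) [K.Normal] (hZK : Z ≤ K) (p : ℕ) [Fact p.Prime] (P : Sylow p (H ⧸ K)) (hcyc : IsCyclic P) : ∃ M : Subgroup (H ⧸ K), M.IsComplement' (P : Subgroup (H ⧸ K)) := by
  classical
  have hp : p.Prime := Fact.out
  have := Fintype.ofFinite H
  obtain ⟨θ, e, he, hθ⟩ := hfr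
  have hφ : extendByZero Z θ ∈ irr Z := extendByZero_mem_irr.2 θ.2
  have hχ : (χ : H → ℂ) ∈ irr ⊤ := mem_irr_top.2 χ.2
  have e0 : (e : ℂ) ≠ 0 := by
    rw [Nat.cast_ne_zero]; rintro rfl
    exact index_ne_zero_of_finite (he.symm.trans (by simp))
  have hr : res Z (χ : H → ℂ) = (e : ℂ) • extendByZero Z θ :=
    eq_of_eqOn (res_supp _ _) (fun x hx => by simp [H19.extendByZero_of_not_mem _ hx]) fun x hx => by
      rw [res_of_mem _ hx, Pi.smul_apply, H19.extendByZero_of_mem _ hx]; exact hθ ⟨x, hx⟩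
  obtain ⟨T⟩ := exists_tri (Y := ⊤) le_top le_normalizer_of_normal hφ fun g _ => by
    have := cjf_res (K := Z) (x := g) (le_normalizer_of_normal (mem_top g)) (χ : H → ℂ)
    rw [cjf_of_cf (cf_of_irr hχ) (mem_top g), hr, cjf_smul] at this
    exact smul_right_injective _ e0 this
  obtain ⟨β, ⟨⟨b1, -⟩, b2⟩, -⟩ := (T.birel le_top le_rfl).1 χ ⟨hχ, by
    rw [Ov, hr, ip_smul_left, ip_irr_self hφ, mul_one]; exact e0⟩
  have hi : ∀ U, Z ≤ U → (T.hat U).index = U.index := fun U hU => by
    rw [← relIndex_top_right, ← T.hat_Y, T.relIndex_hat hU le_rfl, relIndex_top_right]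
  have hc : CenT (T.hat Z) β e := ⟨T.hat_Y ▸ b1, T.hat_L_central, by
    have := b2.one
    rw [← res_one Z (χ : H → ℂ), hr] at this
    exact mul_right_cancel₀ (irr_apply_one_ne_zero hφ) this.symm, he.trans (hi Z le_rfl).symm⟩
  let q := QuotientGroup.mk' K
  obtain ⟨r', hr'⟩ := Cyc.gen hcyc
  obtain ⟨r, rfl⟩ := QuotientGroup.mk'_surjective K r'
  obtain ⟨w, rfl⟩ := T.exists_π (mem_top r)
  have iK : ¬ p ∣ (K ⊔ zpowers (T.π w)).index := by
    have := comap_map_eq q (zpowers (T.π w))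
    rw [QuotientGroup.ker_mk', MonoidHom.map_zpowers, hr'] at this
    rw [sup_comm, ← this, index_comap_of_surjective _ (QuotientGroup.mk'_surjective K)]
    exact P.not_dvd_index
  obtain ⟨N, -, ⟨h1, h2, h3⟩, hmax⟩ := exists_maximal_sub
    (fun N : Subgroup H => N.Normal ∧ K ≤ N ∧ PiSep {p} (N.map q)) (A := K)
    ⟨inferInstance, le_rfl, by rw [QuotientGroup.map_mk'_self]; exact piSep_of_pi .bot⟩
  have hZN := hZK.trans h2
  have hN : N = ⊤ := by
    by_contra hne
    haveI : (T.hat N).Normal := normalizer_eq_top_iff.1 (top_le_iff.1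
      (T.hat_Y ▸ T.hat_norm hZN (V := ⊤) le_normalizer_of_normal))
    obtain ⟨N', n1, n2, n3⟩ := hc.step (p := p) (T.hat_mono hZN) (r := T.ρ w) (fun d => iK (by
      refine (d.trans (index_dvd_of_le ?_)).trans
        ((hi (N ⊔ zpowers (T.π w)) (hZN.trans le_sup_left)).dvd.trans (index_dvd_of_le (sup_le_sup_right h2 _)))
      rintro _ ⟨γ, hγ, rfl⟩
      obtain ⟨n, hn, _, ⟨i, rfl⟩, e⟩ := mem_sup_of_normal_left.1 (mem_comap.1 hγ)
      rw [← mul_inv_cancel_right (T.ρ γ) (T.ρ w ^ i)⁻¹, inv_inv]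
      refine mul_mem_sup ?_ (zpow_mem_zpowers _ _)
      rw [← map_zpow, ← map_inv, ← map_mul, T.mem_hat hZN, map_mul, ← e, map_inv, map_zpow]
      simpa using hn)) fun e => hne (index_eq_one.1 (by rw [← hi N hZN, e, index_top]))
    let M := (N'.comap T.ρ).map T.π
    haveI : M.Normal := Normal.map inferInstance _ fun x => T.exists_π (mem_top x)
    have hNM : N ≤ M := fun x hx => by
      obtain ⟨γ, rfl⟩ := T.exists_π (mem_top x)
      exact mem_map_of_mem _ (n2.le ((T.mem_hat hZN).2 hx))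
    have hM : T.hat M = N' := by
      rw [Tri.hat, comap_map_eq, Subgroup.map_sup, ← T.hat_L, map_comap_eq_self_of_surjective T.surj]
      exact sup_eq_left.2 ((T.hat_mono hZN).trans n2.le)
    rw [← hM, T.relIndex_hat hZN le_top] at n3
    haveI := h1.map q (QuotientGroup.mk'_surjective K)
    refine n2.ne (hM ▸ congrArg T.hat (hmax M ⟨inferInstance, h2.trans hNM, piSep_of_idx (K := N.map q)
      ⟨map_mono hNM, le_normalizer_of_normal⟩ h3 ?_⟩ hNM).symm)
    rwa [relIndex_map_map, QuotientGroup.ker_mk', sup_eq_left.2 h2, sup_eq_left.2 (h2.trans hNM)]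
  rw [hN, map_top_of_surjective _ (QuotientGroup.mk'_surjective K)] at h3
  obtain ⟨M, hM⟩ := h3.compl.hall_exists
  have hP := hall_sylow_top hp P
  refine ⟨M, isComplement'_of_card_mul_and_disjoint ?_ (disjoint_iff.2 ?_)⟩
  · rw [mul_comm, hP.card_mul_compl hM, card_top]
  · rw [inf_comm, hP.inf_compl hM]

end Cfsg.Agent.S4564
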