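import Cfsg.Statements.S4573
import Cfsg.Agent.H8.PiIrr
import Cfsg.Agent.H1.Basic

set_option autoImplicit false
universe u
open Cfsg

namespace Cfsg.Agent.S4573

open H5 H8 Cfsg
open scoped RegularWreathProduct

/-- Every finite solvable group is isomorphic to a subgroup of a finite M-group, a group each of whose irreducible characters is induced from a homomorphism of some subgroup into ℂˣ. -/
theorem result {G : Type u} [Group G] [Finite G] (hsolv : Group.IsSolvable G) : ∃ (M : Type u) (_ : Group M) (_ : Fintype M), (∀ χ : M → ℂ, Cfsg.IsIrrCharacter M χ → (∃ (H : Subgroup M) (lam : ↥H →* ℂˣ), χ = Cfsg.indFun H (fun h => (lam h : ℂ)))) ∧ ∃ f : G →* M, Function.Injective f := by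
  refine H1.card_induction (P := fun G _ _ => Group.IsSolvable G →
    ∃ (M : Type u) (_ : Group M) (_ : Fintype M), H8.IsMGrp M ∧ ∃ f : G →* M, Function.Injective f)
    ?_ G hsolv
  intro G _ _ ih hs
  rcases subsingleton_or_nontrivial G with h | h
  · letI := Fintype.ofFinite G
    refine ⟨G, inferInstance, inferInstance, fun χ hχ => ?_, MonoidHom.id G, fun _ _ e => e⟩
    exact H6.monomial_of_nilpotent hχ
  · obtain ⟨N, hN, -, -, hp⟩ := exists_max_normal_of_solvable (N := (⊥ : Subgroup G)) bot_ne_top
    have hne : N ≠ ⊤ := fun e => by rw [e, Subgroup.index_top] at hp; exact Nat.not_prime_one hp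
    obtain ⟨M, _, _, hM, i, hi⟩ := ih N (H6.card_lt_of_ne_top hne) inferInstance
    obtain ⟨f, hf⟩ := exists_wreath_emb N
    letI : Fintype (M ≀ᵣ (G ⧸ N)) := Fintype.ofFinite _
    exact ⟨M ≀ᵣ (G ⧸ N), inferInstance, inferInstance, hM.wreath hp, (wrMap _ i).comp f,
      (wrMap_injective hi).comp hf⟩

end Cfsg.Agent.S4573
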