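import Cfsg.Statements.S4581
import Cfsg.Agent.H8.MK5
import Cfsg.Agent.H8.PDeg
import Cfsg.Agent.H3.PGrpBasic
import Cfsg.Agent.H4.PSol

set_option autoImplicit false
open Cfsg

namespace Cfsg.Agent.S4581

open H5 H19 H8
/-- all odd degree characters are real -/
def R (H : Type*) [Group H] : Prop :=
  ∀ χ : IrrCharacter H, Odd (charDegree (χ : H → ℂ)) → ∀ g : H, ((χ : H → ℂ) g).im = 0

theorem R.sq {H : Type*} [Group H] [Finite H] (h : R H) (lam : H →* ℂˣ) (g : H) :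
    lam (g ^ 2) = 1 := by
  have := h ⟨_, isIrrCharacter_hom lam⟩ (by
    rw [charDegree_eq_of_apply_one (n := 1) (by simp)]; exact odd_one) g
  have e := (isIrrCharacter_hom lam).isCharacter.apply_inv g
  simp only [map_inv] at e
  rw [Complex.conj_eq_iff_im.2 this, Units.val_inj] at e
  rw [pow_two, lam.map_mul]
  exact inv_eq_iff_mul_eq_one.1 e

theorem R.eq_top {H : Type*} [Group H] [Finite H] [Group.IsSolvable H] (h : R H) (Q : Subgroup H)
    [Q.Normal] (hi : ¬ 2 ∣ Q.index) : Q = ⊤ := by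
  by_contra hne
  haveI : Nontrivial (H ⧸ Q) := QuotientGroup.nontrivial_iff.2 hne
  obtain ⟨x, -, hx⟩ := SetLike.exists_of_lt (IsSolvable.commutator_lt_top_of_nontrivial (H ⧸ Q))
  obtain ⟨lam, -, h1⟩ := exists_lin_ne_one le_rfl hx
  obtain ⟨g, rfl⟩ := QuotientGroup.mk_surjective x
  have a := h.sq (lam.comp (QuotientGroup.mk' Q)) g
  simp only [map_pow, MonoidHom.comp_apply, QuotientGroup.mk'_apply] at a
  have b : lam (g : H ⧸ Q) ^ Q.index = 1 := by rw [← map_pow, Subgroup.index, pow_card_eq_one', map_one]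
  exact h1 ((pow_eq_one_iff_of_coprime (Nat.prime_two.coprime_iff_not_dvd.2 hi)).1 ⟨a, b⟩)

theorem r_iff {H : Type*} [Group H] [Finite H] (hH : IsPGroup 2 H) :
    R H ↔ commutator H = frattini H := by
  refine ⟨fun h => le_antisymm (H3.commutator_le_frattini hH)
    ((H3.frattini_le_iff hH).2 ⟨le_rfl, fun x => ?_⟩), fun h χ o g => ?_⟩
  · by_contra hx
    obtain ⟨lam, -, h1⟩ := exists_lin_ne_one le_rfl hx
    exact h1 (h.sq lam x)
  · have d : charDegree χ.1 = 1 := by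
      by_contra d
      exact o.not_two_dvd_nat ((dvd_deg_iff hH χ.2).2 d)
    obtain ⟨lam, e⟩ := χ.2.isCharacter.exists_hom_of_apply_one
      (χ.2.isCharacter.charDegree_eq_one_iff.1 d)
    have : lam (g ^ 2) = 1 :=
      Abelianization.commutator_subset_ker lam (h ▸ H3.pow_mem_frattini hH g)
    rw [map_pow, Units.ext_iff, Units.val_pow_eq_pow_val, Units.val_one, sq_eq_one_iff]
      at this
    rw [e]
    rcases this with a | a <;> simp [a]

theorem odd_iff {G : Type*} [Group G] [Finite G] {χ : G → ℂ} (h : IsIrrCharacter G χ)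
    {Γ : Type*} [Group Γ] {φ : Γ → ℂ} (e : φ 1 = χ 1) :
    Odd (charDegree χ) ↔ ¬ ((2 : ℕ) : ℤ) ∣ dg φ := by
  rw [dg_eq_of_eq_nat (e.trans h.coe_charDegree.symm), Int.natCast_dvd_natCast,
    ← Nat.not_even_iff_odd, even_iff_two_dvd]

theorem real_iff {G : Type*} (χ : G → ℂ) : (∀ g, (χ g).im = 0) ↔ star χ = χ := by
  simp only [funext_iff, Pi.star_apply, RCLike.star_def, Complex.conj_eq_iff_im]

theorem real_iff' {G : Type*} [Group G] (K : Subgroup G) (χ : K → ℂ) :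
    (∀ g, (χ g).im = 0) ↔ star (extendByZero K χ) = extendByZero K χ := by
  rw [real_iff, ← H19.extendByZero_star, (H19.extendByZero_injective K).eq_iff]

theorem ov_bot {G : Type*} [Group G] [Fintype G] {K : Subgroup G} {χ : G → ℂ} (h : χ ∈ irr K) :
    Ov ⊥ χ (triv ⊥) := by
  obtain ⟨θ, a, b⟩ := exists_ov_under bot_le h
  rwa [(irr_eq_triv_iff a).1 bot_le] at b

/-- Let G be a finite solvable group, P a Sylow 2-subgroup and N its normalizer. Then G and N have the same number of real-valued irreducible characters of odd degree; and every odd-degree irreducible character of G is real-valued exactly when the derived subgroup of P equals the Frattini subgroup of P and P is its own normalizer in G. -/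
theorem result {G : Type*} [Group G] [Finite G] [Group.IsSolvable G] (P : Sylow 2 G) :
    Nat.card {χ : Cfsg.IrrCharacter G // (∀ g : G, ((χ : G → ℂ) g).im = 0) ∧ Odd (Cfsg.charDegree (χ : G → ℂ))} =
      Nat.card {ψ : Cfsg.IrrCharacter (Subgroup.normalizer ((P : Subgroup G) : Set G)) // (∀ g, ((ψ : Subgroup.normalizer ((P : Subgroup G) : Set G) → ℂ) g).im = 0) ∧ Odd (Cfsg.charDegree (ψ : Subgroup.normalizer ((P : Subgroup G) : Set G) → ℂ))} ∧
    ((∀ χ : Cfsg.IrrCharacter G, Odd (Cfsg.charDegree (χ : G → ℂ)) → ∀ g : G, ((χ : G → ℂ) g).im = 0) ↔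
      (commutator (P : Subgroup G) = frattini (P : Subgroup G) ∧ Subgroup.normalizer ((P : Subgroup G) : Set G) = (P : Subgroup G))) := by
  have := Fintype.ofFinite G
  have hs : IsPSolvable 2 G := H4.isPSolvable_of_pSol _ H4.pSol_top_of_solvable
  set N := Subgroup.normalizer ((P : Subgroup G) : Set G) with hN
  have t : triv (⊥ : Subgroup G) ∈ irr ⊥ := triv_mem_irr _
  have hn : (⊤ : Subgroup G) ≤ Subgroup.normalizer ((⊥ : Subgroup G) : Set G) :=
    (normalizer_bot_eq G).ge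
  have st : (⊤ : Subgroup G) ≤ stabf (triv (⊥ : Subgroup G)) := fun g hg =>
    (irr_eq_triv_iff (cjf_mem_irr (hn hg) t)).1 bot_le
  have c1 := real_mckay hs P _ ⊤ ⊥ N _ rfl bot_le hn (H7.sylIn_top P)
    ⟨t, by simp, by simp, res_eq_self (irr_supp t)⟩ st (top_inf_eq _).symm
  have c2 := rel_mckay hs P _ ⊤ ⊥ N _ rfl bot_le hn (H7.sylIn_top P) t (le_top.trans st)
    (by rw [top_inf_eq, bot_sup_eq])
  rw [bot_inf_eq, res_eq_self (irr_supp t)] at c1
  rw [cnt_congr fun χ a => and_iff_right (ov_bot a), cnt_congr fun χ a => and_iff_right (ov_bot a)]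
    at c1 c2
  refine ⟨?_, ?_⟩
  · rw [cnt_top _ RO fun χ => and_congr (real_iff _) (odd_iff χ.2 rfl),
      cnt_typed _ RO fun χ => and_congr (real_iff' _ _) (odd_iff χ.2 (H19.extendByZero_one _ _))]
    exact c1
  have k : ∀ K : Subgroup G, (∀ χ ∈ irr K, ¬ ((2 : ℕ) : ℤ) ∣ dg χ → RO χ) ↔
      cnt K (fun χ => ¬ ((2 : ℕ) : ℤ) ∣ dg χ) = cnt K RO := fun K =>
    ⟨fun h => cnt_congr fun χ a => ⟨h χ a, fun b => b.2⟩,
      fun h => forall_of_cnt_le (fun _ _ b => b.2) h.le⟩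
  have e1 : R G ↔ ∀ χ ∈ irr (⊤ : Subgroup G), ¬ ((2 : ℕ) : ℤ) ∣ dg χ → RO χ :=
    ⟨fun h χ a b => ⟨(real_iff _).1 (h ⟨χ, mem_irr_top.1 a⟩
      ((odd_iff (mem_irr_top.1 a) rfl).2 b)), b⟩, fun h χ o =>
      (real_iff _).2 (h _ (mem_irr_top.2 χ.2) ((odd_iff χ.2 rfl).1 o)).1⟩
  have e2 : R N ↔ ∀ χ ∈ irr N, ¬ ((2 : ℕ) : ℤ) ∣ dg χ → RO χ :=
    ⟨fun h χ a b => ⟨extendByZero_comp_of_supp (irr_supp a) ▸ (real_iff' _ _).1
      (h ⟨_, (mem_irr.1 a).2⟩ ((odd_iff (mem_irr.1 a).2 rfl).2 b)), b⟩, fun h χ o =>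
      (real_iff' _ _).2 (h _ (extendByZero_mem_irr.2 χ.2)
        ((odd_iff χ.2 (H19.extendByZero_one _ _)).1 o)).1⟩
  change R G ↔ _
  rw [e1, k, c2, c1, ← k, ← e2, ← r_iff P.isPGroup']
  refine ⟨fun h => ?_, fun h => h.2 ▸ h.1⟩
  have : N = P := le_antisymm (Subgroup.subgroupOf_eq_top.1 (h.eq_top _
    (sylIn_iff_relIndex.1 ((H7.sylIn_top P).of_le Subgroup.le_normalizer le_top)).2.2))
    Subgroup.le_normalizer
  exact ⟨this ▸ h, this⟩

end Cfsg.Agent.S4581
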