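import Cfsg.Statements.S4587
import Cfsg.Agent.S4172
import Cfsg.Agent.H17.FStar
import Cfsg.Agent.H3.Regular

set_option autoImplicit false
open Cfsg

namespace Cfsg.Agent.S4587

open Subgroup H18
open H17 (IsComp lay gfit)
open scoped commutatorElement IsMulCommutative

section
variable {G : Type*} [Group G] [Finite G] {p : ℕ} {S Q R K N : Subgroup G} {x : G}

theorem der_le_of (hS : S ≤ Q ⊔ zpowers x) (h1 : ⁅Q, Q⁆ ≤ R) (h2 : R ≤ Q)
    (h3 : ∀ q ∈ Q, ⁅q, x⁆ ∈ R) : ⁅S, S⁆ ≤ R := by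
  have n1 : Q ≤ N(R) := norm_iff_comm_le.2 ((comm_mono le_rfl h2).trans h1)
  have n2 : x ∈ N(R) := mem_N_of_finite fun r hr => by
    have := mul_mem hr (h3 _ (h2 (inv_mem hr)))
    simpa [commutatorElement_def, mul_assoc] using this
  have n3 := zpowers_le.2 n2
  refine (der_mono hS).trans ((abel_quo_iff (sup_le n1 n3)).1 ?_)
  rw [mim_sup n1 n3, mim_zpowers n2]
  refine ((abel_quo_iff n1).2 h1).sup abel_zpowers (cent_symm (zpowers_le.2 (mem_C.2 fun z hz => ?_)))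
  obtain ⟨q, hq, rfl⟩ := (mem_quo n1).1 hz
  rw [← commutatorElement_eq_one_iff_mul_comm, ← mfun_comm (n1 hq) n2]
  exact cs_eq_one (h3 q hq)

theorem fin (hp : p.Prime) (hS : Hall {p} S ⊤) (hi : (⁅S, S⁆).relIndex S = p ^ 2) (hN : N ⊴ ⊤)
    (h1 : N.relIndex S = p) (hx : x ∈ S) (h2 : (Nat.card (N ⊓ C1(x) : Subgroup G)).factorization p ≤ 1) :
    (Nat.card C1(x)).factorization p = 2 := by
  refine le_antisymm ?_ ((hp.pow_dvd_iff_le_factorization card_ne_zero').1 ?_)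
  · rw [← card_mul_relIndex' (A := N), Nat.factorization_mul card_ne_zero' H18.relIndex_ne_zero]
    have : (N.relIndex C1(x)).factorization p ≤ 1 := by
      obtain ⟨T, hT⟩ := exists_sylow hp (C1(x) ⫽ N)
      have := (hS.mim hN.norm).card_dvd (hT.le.trans (mim_mono le_top)) hT.pi
      rw [card_quo (le_top.trans hN.norm), h1] at this
      rw [← card_quo (le_top.trans hN.norm), ← card_mul_relIndex hT.le,
        Nat.factorization_mul card_ne_zero' H18.relIndex_ne_zero, Finsupp.add_apply,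
        Nat.factorization_eq_zero_of_not_dvd ((piNat_compl_iff hp).1 hT.idx), add_zero]
      exact ((Nat.factorization_le_iff_dvd card_ne_zero' hp.ne_zero).2 this p).trans (hp.factorization_self).le
    exact add_le_add h2 this
  · refine (H3.pow_dvd_card_of_le hp (hS.pi.of_le inf_le_left) ?_).trans
      (card_dvd_of_le (inf_le_right : S ⊓ C1(x) ≤ _))
    have := H3.card_le_mul_of_comm (A := S) (K := ⁅S, S⁆) fun a ha => commutator_mem_commutator ha hx
    rw [← card_mul_relIndex (der_le (H := S)), hi, mul_comm] at this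
    exact Nat.le_of_mul_le_mul_right this card_pos'

theorem abel_case (hS : S ≤ Q ⊔ zpowers x) (hn : x ∈ N(Q)) (ha : Abel Q) :
    Nat.card (Q ⊓ C1(x) : Subgroup G) ∣ (⁅S, S⁆).relIndex Q := by
  let φ : Q →* G := MonoidHom.mk' (fun q => ⁅(q : G), x⁆) fun a b => by
    have := comm_of_cent ha b.2 (conj_mem_N hn (inv_mem a.2))
    have e := comm_of_cent ha (mul_mem b.2 (conj_mem_N hn (inv_mem b.2))) (conj_mem_N hn (inv_mem a.2))
    simp only [commutatorElement_def, coe_mul, mul_inv_rev]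
    calc _ = a * (b * (x * (b : G)⁻¹ * x⁻¹) * (x * (a : G)⁻¹ * x⁻¹)) := by group
      _ = _ := by rw [e]; group
  have hr : φ.range ≤ Q := by
    rintro _ ⟨q, rfl⟩
    exact comm_le_left (zpowers_le.2 hn) (commutator_mem_commutator q.2 (mem_zpowers x))
  have h1 := der_le_of hS (ha.der.le.trans bot_le) hr fun q hq => ⟨⟨q, hq⟩, rfl⟩
  have h2 : φ.ker = (C1(x)).subgroupOf Q := by
    ext q
    exact commutatorElement_eq_one_iff_mul_comm.trans mem_centralizer_singleton_iff.symm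
  have h3 := card_mul_relIndex' (A := C1(x)) (B := Q)
  rw [relIndex, ← h2, index_ker, ← card_mul_relIndex hr, mul_comm, inf_comm] at h3
  rw [Nat.eq_of_mul_eq_mul_left card_pos' h3]
  exact relIndex_dvd_left h1

theorem comp_case (hp : p.Prime) (hS : S ≤ Q ⊔ zpowers x) (hn : x ∈ N(Q)) (hx : x ^ p ∈ Q)
    (hK : ∀ i, 0 < i → i < p → cj (x ^ i) K ≤ C(K)) {q : G} (hq : q ∈ Q ⊓ K) (h : q ∈ ⁅S, S⁆) :
    ∃ b ∈ Q ⊓ C(K), q * b ∈ ⁅Q, Q⁆ := by
  let c : ℕ → Q →* Q := fun i => (normalizerMonoidHom Q ⟨x ^ i, pow_mem hn i⟩).toMonoidHom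
  have hc : ∀ i (y : Q), (c i y : G) = x ^ i * y * (x ^ i)⁻¹ := fun _ _ => rfl
  let ν : Q →* Abelianization Q := ∏ i ∈ Finset.range p, Abelianization.of.comp (c i)
  have hν : ∀ y, ν y = ∏ i ∈ Finset.range p, Abelianization.of (c i y) := fun y => MonoidHom.finsetProd_apply _ _ _
  have h1 : ∀ y, ν (c 1 y) = ν y := fun y => by
    have e : ∀ i, c i (c 1 y) = c (i + 1) y := fun i => Subtype.ext (by simp only [hc]; group)
    have e2 : Abelianization.of (c p y) = Abelianization.of (c 0 y) := by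
      rw [show c p y = ⟨_, hx⟩ * y * ⟨_, hx⟩⁻¹ from rfl, show c 0 y = y from Subtype.ext (by simp [hc]),
        map_mul, map_mul, map_inv, mul_inv_cancel_comm]
    simp only [hν, e]
    have := Finset.prod_range_succ (fun i => Abelianization.of (c i y)) p
    rw [Finset.prod_range_succ', e2] at this
    exact mul_right_cancel this
  have h2 := der_le_of (R := ν.ker.map Q.subtype) hS
    (map_subtype_commutator Q ▸ map_mono (Abelianization.commutator_subset_ker ν)) (map_subtype_le _)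
    fun y hy => ⟨⟨y, hy⟩ * (c 1 ⟨y, hy⟩)⁻¹, by
      rw [SetLike.mem_coe, MonoidHom.mem_ker, map_mul, map_inv, h1, mul_inv_cancel],
      by simp only [coe_subtype, coe_mul, coe_inv, hc, commutatorElement_def]; group⟩
  obtain ⟨q, hq', rfl⟩ := h2 h
  have h3 : ∀ n, n < p → ∃ b : Q, (b : G) ∈ C(K) ∧
      ∏ i ∈ Finset.range (n + 1), Abelianization.of (c i q) = Abelianization.of (q * b) := fun n => by
    induction n with
    | zero => exact fun _ => ⟨1, one_mem _, by rw [Finset.prod_range_one, mul_one]; congr 1; ext; simp [hc]⟩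
    | succ n ih =>
      intro hn
      obtain ⟨b, hb, e⟩ := ih (by omega)
      exact ⟨b * c (n + 1) q, mul_mem hb (hK _ n.succ_pos hn (conj_mem_cj hq.2)), by
        rw [Finset.prod_range_succ, e, ← map_mul, mul_assoc]⟩
  obtain ⟨b, hb, e⟩ := h3 (p - 1) (Nat.sub_lt hp.pos one_pos)
  rw [Nat.sub_add_cancel hp.one_le, ← hν, MonoidHom.mem_ker.1 hq'] at e
  refine ⟨b, ⟨b.2, hb⟩, ?_⟩
  rw [← map_subtype_commutator]
  exact ⟨q * b, (QuotientGroup.eq_one_iff _).1 e.symm, rfl⟩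
end

/-- Let G be a finite group, p a prime and P a Sylow p-subgroup of order at least p². Assume that G has no nontrivial normal subgroup of order prime to p, that the derived subgroup P' of P contains no nontrivial normal subgroup of G, and that G is not almost simple (there is no non-abelian simple normal subgroup of G with trivial centralizer). Then [P : P'] = p² if and only if some p-element x of G has centralizer whose order has p-part exactly p². -/
theorem result {G : Type*} [Group G] [Finite G] (p : ℕ) [Fact p.Prime] (P : Sylow p G) (hbig : p ^ 2 ∣ Nat.card G) (hcore : Cfsg.pPrimeCore p G = ⊥)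
    (hcore' : (⁅(P : Subgroup G), (P : Subgroup G)⁆).normalCore = ⊥) (hnas : ¬ ∃ S : Subgroup G, S.Normal ∧ IsSimpleGroup S ∧ ¬ IsMulCommutative S ∧ Subgroup.centralizer (S : Set G) = ⊥) :
    (⁅(P : Subgroup G), (P : Subgroup G)⁆).relIndex (P : Subgroup G) = p ^ 2 ↔
      ∃ x : G, (∃ k : ℕ, orderOf x = p ^ k) ∧ (Nat.card (Subgroup.centralizer ({x} : Set G))).factorization p = 2 := by
  have pp : p.Prime := Fact.out
  have hS := hall_sylow_top pp P
  have c2 : p ^ 2 ∣ Nat.card P := hS.dvd_of_piNat ((piNat_self pp).pow 2) (by rwa [card_top])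
  refine ⟨fun hi => ?_, fun ⟨x, ⟨k, hk⟩, hx⟩ => ?_⟩
  swap
  · obtain ⟨g, -, hg⟩ := sylow_le_cj pp hS (piGrp_zpowers.2 (by rw [PiElt, hk]; exact (piNat_self pp).pow k)) le_top
    rw [← card_cj (g := g), cj_C1] at hx
    have hy : g * x * g⁻¹ ∈ (P : Subgroup G) := hg (conj_mem_cj (mem_zpowers x))
    generalize g * x * g⁻¹ = y at hx hy
    refine Nat.dvd_antisymm ?_ ?_
    · obtain ⟨a, ha⟩ := (hS.pi.of_le (inf_le_left : (P : Subgroup G) ⊓ C1(y) ≤ _)).card_eq_pow
      have h1 := (pp.pow_dvd_iff_le_factorization card_ne_zero').1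
        (ha ▸ card_dvd_of_le (inf_le_right : (P : Subgroup G) ⊓ C1(y) ≤ _))
      have h2 := H3.card_le_mul_of_comm (A := P) (K := ⁅(P : Subgroup G), (P : Subgroup G)⁆)
        fun a ha => commutator_mem_commutator ha hy
      rw [← card_mul_relIndex (der_le (H := (P : Subgroup G))), mul_comm] at h2
      obtain ⟨b, hb⟩ := (hS.pi.relIndex (A := ⁅(P : Subgroup G), (P : Subgroup G)⁆)).eq_pow H18.relIndex_ne_zero
      have h3 := Nat.le_of_mul_le_mul_right h2 card_pos'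
      rw [hb, ha, Nat.pow_le_pow_iff_right pp.one_lt] at h3
      rw [hb]
      exact pow_dvd_pow _ (by omega)
    · by_cases hc : Cyc (P : Subgroup G)
      · rwa [hc.abel.der, relIndex_bot_left]
      · exact H3.sq_dvd_relIndex_of_not_cyc pp hS.pi (H3.der_le_phi pp hS.pi) Nml.rfl.der.norm hc
  by_cases na : Abel (P : Subgroup G)
  · rw [na.der, relIndex_bot_left] at hi
    refine ⟨1, ⟨0, by simp⟩, ?_⟩
    rw [show C1((1 : G)) = ⊤ from eq_top_iff.2 fun g _ => mem_centralizer_singleton_iff.2 (by simp), card_top,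
      ← P.card_eq_multiplicity.symm.trans hi |> Nat.pow_right_injective pp.two_le]
  have eΦ : Φ((P : Subgroup G)) = ⁅(P : Subgroup G), (P : Subgroup G)⁆ := by
    have l := H3.der_le_phi pp hS.pi
    have t := relIndex_tower l H3.phi_le
    obtain ⟨a, ha⟩ := H3.sq_dvd_relIndex_of_not_cyc pp hS.pi le_rfl (H3.phi_nml Nml.rfl).norm fun h => na h.abel
    rw [hi, ha, mul_left_comm] at t
    exact le_antisymm (relIndex_eq_one_iff.1 (Nat.eq_one_of_mul_eq_one_right
      (Nat.eq_of_mul_eq_mul_left (pow_pos pp.pos 2) (t.trans (mul_one _).symm)))) l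
  have h0 : O[{p}ᶜ]((⊤ : Subgroup G)) = ⊥ := pPrimeCore_eq (G := G) pp ▸ hcore
  obtain ⟨⟨g0, un⟩, -, tr⟩ := S4172.result p P (fun h => na (abel_of_comm h)) (by
    rw [← hi, ← eΦ, phi, relIndex, subgroupOf, comap_map_eq_self_of_injective (subtype_injective _)]) hcore
    (by change Φ((P : Subgroup G)).normalCore = ⊥; rwa [eΦ])
  have cN : ⊤ ⊓ C(generalizedFittingSubgroup G) ≤ H17.fit ⊤ := H17.gfit_top (G := G) ▸ H17.centralizer_gfit_le_fit ⊤
  have eN := (H17.gfit_eq (⊤ : Subgroup G)).symm.trans H17.gfit_top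
  have nN : generalizedFittingSubgroup G ⊴ ⊤ := nml_top
  generalize generalizedFittingSubgroup G = N at g0 un tr cN eN nN
  have nl : ¬ N ⊓ P ≤ Φ((P : Subgroup G)) := fun h => by
    have := S4172.tate P (le_top.trans nN.norm) h
    rw [le_bot_iff.1 (nN.pcore_le_pcore.trans h0.le)] at this
    have _ := nN.normal
    exact g0 (le_bot_iff.1 (hcore' ▸ normal_le_normalCore.2 (((le_inf le_rfl
      (hS.nml_le nN this.compl_of_eq_bot.of_compl_compl)).trans h).trans eΦ.le)))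
  have dN : ⁅(P : Subgroup G), (P : Subgroup G)⁆ ≤ N ⊓ P := le_inf ((abel_quo_iff (le_top.trans nN.norm)).1
    (S4172.cyc_quo hS.pi (eΦ ▸ hi) (le_top.trans nN.norm) nl).abel) der_le
  have key : ∀ x ∈ (P : Subgroup G), x ∉ N → N.relIndex P = p ∧
      (⁅(P : Subgroup G), (P : Subgroup G)⁆).relIndex (N ⊓ P) = p ∧ (P : Subgroup G) ≤ N ⊓ P ⊔ zpowers x := by
    intro x hx hn
    have t := relIndex_tower dN inf_le_right
    obtain ⟨a, ha⟩ := H3.dvd_relIndex_of_not_le (hS.pi.of_le inf_le_right) (eΦ ▸ nl)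
    have e : (N ⊓ P).relIndex P = p := H3.relIndex_eq_prime_of_le hS.pi (fun e => hn (e hx).1) (by
      rw [hi, ha, sq, mul_assoc] at t
      exact Nat.le_of_dvd pp.pos (Dvd.intro_left _ (Nat.eq_of_mul_eq_mul_left pp.pos t)))
    refine ⟨relIndex_inf_right.symm.trans e, ?_,
      (H3.sup_zpowers_eq_of_prime (by rw [e]; exact pp) inf_le_right hx fun e => hn e.1).ge⟩
    rw [hi, e, sq] at t
    exact Nat.eq_of_mul_eq_mul_right pp.pos t
  have nQ : N ⊓ P ⊴ P := nN.inf_right le_top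
  have ox : ∀ x ∈ (P : Subgroup G), ∃ k, orderOf x = p ^ k := fun x hx => (hS.pi.elt hx).eq_pow (orderOf_pos x).ne'
  by_cases ab : Abel N
  · have NP : N ≤ P := (le_fit nN ab.nil).trans ((fit_eq_pcore h0).le.trans hS.pcore_le)
    obtain ⟨x, hx, hn⟩ := SetLike.not_le_iff_exists.1 fun e : (P : Subgroup G) ≤ N => na (ab.mono e)
    obtain ⟨k1, k2, k3⟩ := key x hx hn
    rw [inf_eq_left.2 NP] at k2 k3
    refine ⟨x, ox x hx, fin pp hS hi nN k1 hx ?_⟩
    exact ((Nat.factorization_le_iff_dvd card_ne_zero' pp.ne_zero).2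
      (k2 ▸ abel_case k3 (nN.norm (mem_top x)) ab) p).trans pp.factorization_self.le
  have f0 : H17.fit (⊤ : Subgroup G) = ⊥ := by_contra fun e => by
    obtain ⟨M, hM, mM⟩ := exists_minNorm e (fit_nml (H := ⊤)).norm
    exact ab ((mM.abel ((fit_nil (H := ⊤)).of_le hM).solv).mono
      (un M (nml_top_iff.1 ⟨le_top, mM.norm⟩) mM.ne_bot))
  rw [f0, sup_bot_eq] at eN
  rw [f0, top_inf_eq, le_bot_iff] at cN
  subst eN
  obtain ⟨K, hK⟩ : ∃ K, IsComp K (⊤ : Subgroup G) := by simpa [H17.lay_eq_bot_iff] using g0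
  have zK : K ⊓ C(K) = ⊥ := le_bot_iff.1 (hK.subn.inf_centralizer_le_fit.trans f0.le)
  replace tr := fun L (hL : IsComp L ⊤) => tr (fun h => ab (abel_of_comm h)) K L (H17.isComp_top_iff.1 hK)
    (H17.isComp_top_iff.1 hL)
  obtain ⟨x, hx, hn⟩ : ∃ x ∈ (P : Subgroup G), x ∉ N(K) := by
    by_contra hh
    push Not at hh
    have : lay ⊤ = K := le_antisymm (H17.lay_le_iff.2 fun L hL => by
      obtain ⟨x, hx, rfl⟩ := tr L hL
      exact (cj_eq_self (hh x hx)).le) hK.le_lay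
    rw [this] at nN cN
    exact hnas ⟨K, nN.normal, (H17.isSimpleGroup_of_qs hK.qs zK).1, (H17.isSimpleGroup_of_qs hK.qs zK).2, cN⟩
  obtain ⟨k1, k2, k3⟩ := key x hx fun e => hn (hK.lay_le_normalizer e)
  have xp : x ^ p ∈ lay ⊤ := k1 ▸ H3.pow_relIndex_mem (le_top.trans nN.norm) hx
  have nK : K ⊴ lay ⊤ := ⟨hK.le_lay, hK.lay_le_normalizer⟩
  have nB := nK.cent
  have eB : K ⊔ lay ⊤ ⊓ C(K) = lay ⊤ := le_antisymm (sup_le nK.le inf_le_left) (H17.lay_le_iff.2 fun L hL =>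
    (hL.eq_or_commutator hK).elim (fun e => e.le.trans le_sup_left)
      fun e => (le_inf hL.le_lay (comm_eq_bot_iff.1 e)).trans le_sup_right)
  have dB : K ⊓ (lay ⊤ ⊓ C(K)) = ⊥ := le_bot_iff.1 ((inf_le_inf_left _ inf_le_right).trans zK.le)
  have hQ := hS.inf_nml' nN
  have hQ1 := hQ.inf_nml nK
  have l1 : ⁅lay ⊤ ⊓ (P : Subgroup G), lay ⊤ ⊓ (P : Subgroup G)⁆ ≤
      ⁅lay ⊤ ⊓ (P : Subgroup G) ⊓ K, lay ⊤ ⊓ (P : Subgroup G) ⊓ K⁆ ⊔ lay ⊤ ⊓ C(K) := by
    have n1 := hQ.le.trans nB.norm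
    have n2 := inf_le_left.trans n1 (a := lay ⊤ ⊓ (P : Subgroup G) ⊓ K)
    have e := hQ1.mim (f := coset (lay ⊤ ⊓ C(K))) (nK.le.trans nB.norm)
    rw [← quo_sup_self (nK.le.trans nB.norm), eB] at e
    rw [← quo_le_quo_iff (der_le.trans n1) (der_le.trans n2), mim_comm n1 n1, mim_comm n2 n2,
      e.eq_of_le (mim_mono inf_le_left) (mim_mono hQ.le) hQ.pi.mim]
  have l2 : lay ⊤ ⊓ (P : Subgroup G) ⊓ K ⊓ ⁅(P : Subgroup G), (P : Subgroup G)⁆ ≤
      ⁅lay ⊤ ⊓ (P : Subgroup G) ⊓ K, lay ⊤ ⊓ (P : Subgroup G) ⊓ K⁆ := fun q hq => by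
    obtain ⟨b, hb, e⟩ := comp_case pp k3 (nQ.norm hx) ⟨xp, pow_mem hx p⟩ (fun i i0 ip => comm_eq_bot_iff.1
      (((hK.cj_of_mem_normalizer (le_N (mem_top _))).eq_or_commutator hK).resolve_left fun e => hn
        (H3.mem_of_pow_mem (hS.pi.elt hx) pp (Nat.not_dvd_of_pos_of_lt i0 ip) (mem_N_iff_cj.2 e)))) hq.1 hq.2
    obtain ⟨d, hd, b', hb', e'⟩ := (mem_sup_of_norm ((der_le.trans (inf_le_left.trans hQ.le)).trans nB.norm)).1 (l1 e)
    have : d⁻¹ * q ∈ K ⊓ (lay ⊤ ⊓ C(K)) := ⟨K.mul_mem (K.inv_mem (der_le hd).2) hq.1.2, by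
      rw [show d⁻¹ * q = b' * b⁻¹ by rw [eq_mul_inv_iff_mul_eq, mul_assoc, e', inv_mul_cancel_left]]
      exact Subgroup.mul_mem _ hb' (Subgroup.inv_mem _ ⟨hb.1.1, hb.2⟩)⟩
    rw [dB, mem_bot, inv_mul_eq_one] at this
    exact this ▸ hd
  have i1 : (lay ⊤ ⊓ (P : Subgroup G) ⊓ K ⊓ ⁅(P : Subgroup G), (P : Subgroup G)⁆).relIndex
      (lay ⊤ ⊓ (P : Subgroup G) ⊓ K) ≤ p := by
    rw [relIndex_inf_left]
    exact (relIndex_le_of_le_right inf_le_left H18.relIndex_ne_zero).trans k2.le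
  have cy : Cyc (lay ⊤ ⊓ (P : Subgroup G) ⊓ K : Subgroup G) := H3.cyc_of_relIndex_le pp hQ1.pi
    (l2.trans (H3.der_le_phi pp hQ1.pi))
    (nml_inf_of_norm ((inf_le_left.trans inf_le_right).trans Nml.rfl.der.norm)).norm i1
  have c1 : Nat.card (lay ⊤ ⊓ (P : Subgroup G) ⊓ K : Subgroup G) ≤ p := by
    rwa [le_bot_iff.1 (l2.trans cy.abel.der.le), relIndex_bot_left] at i1
  refine ⟨x, ox x hx, fin pp hS hi nN k1 hx ?_⟩
  have d1 : Nat.card (lay ⊤ ⊓ C1(x) : Subgroup G) ∣ Nat.card K := by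
    rw [← card_quo_of_disj (inf_le_left.trans nB.norm) (eq_bot_iff.2 fun c hc => cN.le ?_),
      ← card_quo_of_disj (nK.le.trans nB.norm) dB, ← quo_sup_self (nK.le.trans nB.norm), eB]
    · exact card_dvd_of_le (mim_mono inf_le_left)
    refine zpowers_le.1 (cent_symm (H17.lay_le_iff.2 fun L hL => ?_)) 
    obtain ⟨y, hy, rfl⟩ := tr L hL
    obtain ⟨_, ⟨n, rfl⟩, a, ha, rfl⟩ := (mem_sup_of_norm (zpowers_le.2 (nQ.norm hx))).1 (sup_comm _ (zpowers x) ▸ k3 hy)
    change cj _ K ≤ _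
    rw [cj_mul, cj_eq_self (nK.norm ha.1), C_zpowers,
      ← cj_eq_self (le_N (zpow_mem (mem_centralizer_singleton_iff.2 (mem_centralizer_singleton_iff.1 hc.1.2).symm) n :
        x ^ n ∈ C1(c)))]
    exact cj_mono (C_zpowers (x := c) ▸ cent_symm (zpowers_le.2 hc.2.2))
  refine ((Nat.factorization_le_iff_dvd card_ne_zero' card_ne_zero').2 d1 p).trans ?_
  rw [← card_mul_relIndex hQ1.le, Nat.factorization_mul card_ne_zero' H18.relIndex_ne_zero, Finsupp.add_apply,
    Nat.factorization_eq_zero_of_not_dvd ((piNat_compl_iff pp).1 hQ1.idx), add_zero]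
  exact ((Nat.factorization_le_iff_dvd card_ne_zero' pp.ne_zero).2 ((H3.card_dvd_of_le_pow pp hQ1.pi
    (c1.trans (pow_one p).ge)).trans (pow_one p).dvd) p).trans pp.factorization_self.le

end Cfsg.Agent.S4587
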