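import Cfsg.Statements.S4716
import Cfsg.Agent.H8.Contr

set_option autoImplicit false
open Cfsg

namespace Cfsg.Agent.S4716

open H5 H7 H8
open scoped ComplexConjugate

/-- Let p be a prime, M a maximal ideal of the algebraic integers containing p, and B a p-block of defect d of the finite group G all of whose irreducible characters have height zero. Let y be a p-element, C = C_G(y), and b a block of C inducing B and having the same defect d (a major subsection). Then k(B)^2 ≤ p^(2d)·l(b), where k(B) is the number of irreducible characters in B and l(b) the p-regular rank of b (its number of irreducible Brauer characters); in particular (y = 1) k(B)^2 ≤ p^(2d)·l(B). -/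
theorem result {G : Type*} [Group G] [Finite G] (p : ℕ) [Fact p.Prime] (M : Ideal Cfsg.AlgInt) (hM : Cfsg.IsPModular p M) (B : Set (Cfsg.IrrCharacter G)) (hB : Cfsg.IsPBlock M B) (d : ℕ) (hd : Cfsg.blockDefect p B = d) (hh : ∀ χ ∈ B, Cfsg.blockHeight p B (χ : G → ℂ) = 0) (y : G) (hy : ∃ k : ℕ, orderOf y = p ^ k) (b : Set (Cfsg.IrrCharacter ↥(Subgroup.centralizer ({y} : Set G)))) (hind : Cfsg.IsInducedBlock M (Subgroup.centralizer ({y} : Set G)) b B) (hbd : Cfsg.blockDefect p b = d) : Nat.card B ^ 2 ≤ p ^ (2 * d) * Cfsg.blockRank p b := by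
  classical
  haveI : PM p M := ⟨hM⟩
  letI := Fintype.ofFinite G
  subst hd
  have hI := isInducedBlock_iff_indB.1 hind
  have hC : Subgroup.centralizer ({(Subgroup.centralizer ({y} : Set G)).subtype (selfC y)} : Set G) =
      (Subgroup.centralizer ({y} : Set G)).subtype.range := by rw [Subgroup.range_subtype]; rfl
  have hpe : IsPE p (selfC y) := isPE_coe.1 hy
  have hz := mul_selfC y
  have hA := isSat_of_isPBlock hB
  have hb := isSat_of_isPBlock hI.1
  set T := (Set.toFinite B).toFinset
  have hT : ∀ ψ, ψ ∈ T ↔ ψ ∈ B := fun ψ => by simp [T]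
  let a : IrrCharacter G × IrrCharacter G → ℂ := fun i => (p : ℂ) ^ blockDefect p b *
    ctr p (selfC y) b (fun x => (i.1 : G → ℂ) x) fun x => (i.2 : G → ℂ) x
  have hg := fun χ : IrrCharacter G => χ.2.isGen.restrict (Subgroup.centralizer ({y} : Set G))
  have h1 : ∀ i, IsIntegral ℤ (a i) := fun i => isIntegral_ctr hI.1 hz hpe (hg _) (hg _)
  have h2 := (amgm_tp (T ×ˢ T) (fun _ => 1) (fun i => a i * conj (a i))
    (fun i _ => (h1 i).mul (isIntegral_conj (h1 i))) (fun i hi => ?_) (fun i _ => tp_mul_conj
      (mul_mem (pow_mem (natCast_mem _ _) _) (ctr_mem_CM (hg _) (hg _))))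
    (N := p ^ (2 * blockDefect p B) * blockRank p b) ?_).1
  · rwa [Finset.sum_const, Finset.card_product, smul_eq_mul, mul_one, ← sq,
      ← Set.ncard_eq_toFinset_card _ (Set.toFinite B), ← Nat.card_coe_set_eq] at h2
  · obtain ⟨h3, h4⟩ := Finset.mem_product.1 hi
    rw [hT] at h3 h4
    have h5 : a i ≠ 0 := fun e => (red_ctr_ind_ne_zero_iff (M := M) Subtype.val_injective hI hz
      hpe).2 ⟨⟨h3, hh _ h3⟩, h4, hh _ h4⟩ (by rw [← red_zero]; exact congrArg _ e)
    exact mul_ne_zero h5 ((map_ne_zero _).2 h5)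
  · have hsum : ∀ f : IrrCharacter G → ℂ, ∑ χ ∈ T, f χ = ∑ χ, if χ ∈ B then f χ else 0 := fun f => by
      rw [← Finset.sum_filter]; congr 1; ext χ; simp [hT]
    convert tp_zero
    rw [sub_eq_zero, Finset.sum_product, hsum]
    push_cast
    rw [← sum_ctr_self Subtype.val_injective hpe hC hA hb hI.subset_indSet, Finset.mul_sum]
    refine Finset.sum_congr rfl fun χ _ => ?_
    split_ifs
    swap
    · simp
    rw [← sum_ctr_mul Subtype.val_injective hpe hC hA hb hI.subset_indSet, hsum, Finset.mul_sum]
    refine Finset.sum_congr rfl fun ψ _ => ?_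
    split_ifs
    swap
    · simp
    simp only [a, map_mul, map_pow, map_natCast, ctr_conj, hbd, Subgroup.coe_subtype]
    ring

end Cfsg.Agent.S4716
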