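import Cfsg.Statements.S4698
import Cfsg.Agent.H8.Avg2
import Cfsg.Agent.S4716

set_option autoImplicit false
open Cfsg

namespace Cfsg.Agent.S4698

open H5 H7 H8 Finset

/-- Let p be a prime, M a maximal ideal of the algebraic integers containing p, and B a p-block of defect d of the finite group G, containing k irreducible characters. Then k ≤ p^d when d ≤ 2, and k ≤ p^(2d − 2) when d ≥ 3. -/
theorem result {G : Type*} [Group G] [Finite G] (p : ℕ) [Fact p.Prime] (M : Ideal Cfsg.AlgInt) (hM : Cfsg.IsPModular p M) (B : Set (Cfsg.IrrCharacter G)) (hB : Cfsg.IsPBlock M B) (d : ℕ) (hd : Cfsg.blockDefect p B = d) : (d ≤ 2 → Nat.card B ≤ p ^ d) ∧ (3 ≤ d → Nat.card B ≤ p ^ (2 * d - 2)) := by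
  classical
  haveI : PM p M := ⟨hM⟩
  have hp : p.Prime := Fact.out
  refine ⟨fun h => hd ▸ card_le_of_defect_le_two hB (hd ▸ h), ?_⟩
  induction d using Nat.strong_induction_on generalizing G with
  | _ d ih =>
  intro h3
  letI := Fintype.ofFinite G
  obtain ⟨e, rfl⟩ : ∃ e, d = e + 3 := ⟨d - 3, by omega⟩
  rw [show 2 * (e + 3) - 2 = 2 * e + 4 by omega]
  by_cases hh : ∀ χ ∈ B, blockHeight p B (χ : G → ℂ) = 0
  · obtain ⟨P, hP⟩ := exists_isDefectGroup p hB
    obtain ⟨v, h1, h2, v1⟩ := exists_central_ne_one (IsDefectGroup.isPGroup hP)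
      (mt (IsDefectGroup.eq_bot_iff hB hP).1 (by omega))
    obtain ⟨b, hs, hb, -⟩ := exists_major hB hP h1 h2
    have h4 := Cfsg.Agent.S4716.result p M hM B hB _ hd hh v (isPE_coe.2 hs.pe) b
      (isInducedBlock_iff_indB.2 hs.ind) (hb.trans hd)
    obtain ⟨L, _, _, π, g1, g2, g3, g4⟩ := exists_quot_central hs.central hs.pe
    obtain ⟨c1, -, c2⟩ := dominated g1 g3 (fun y _ => g4 y) hs.ind.1
    rw [blockRank_quot g1 g3 (fun y _ => g4 y) (isSat_of_isPBlock hs.ind.1)] at h4
    have h5 := blockRank_le_card (p := p) (isSat_of_isPBlock c1)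
    have : 1 < Nat.card π.ker := by
      rw [g2, Nat.card_zpowers]
      have := orderOf_pos (selfC v)
      have := mt orderOf_eq_one_iff.1 fun e : selfC v = 1 => v1 (congrArg Subtype.val e)
      omega
    have h6 : p ^ blockDefect p (icomp π g1 ⁻¹' b) < p ^ blockDefect p b := by
      rw [c2]; exact lt_mul_of_one_lt_left (pow_pos hp.pos _) this
    have h7 := (Nat.pow_lt_pow_iff_right hp.one_lt).1 h6
    have h8 : Nat.card (icomp π g1 ⁻¹' b) ≤ p ^ (2 * e + 2) := by
      by_cases h : blockDefect p (icomp π g1 ⁻¹' b) ≤ 2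
      · exact (card_le_of_defect_le_two c1 h).trans (Nat.pow_le_pow_right hp.pos (by omega))
      · exact (ih _ (by omega) _ c1 rfl (by omega)).trans (Nat.pow_le_pow_right hp.pos (by omega))
    refine (Nat.pow_le_pow_iff_left two_ne_zero).1 (h4.trans ((Nat.mul_le_mul_left _
      (h5.trans h8)).trans (le_of_eq (by ring))))
  · push Not at hh
    obtain ⟨χ, hχ, h1⟩ := hh
    obtain ⟨ψ, hψ, h0⟩ := exists_height_zero (p := p) ⟨χ, hχ⟩
    have h2 := (bf_pos hB hχ h1 ((fs B).filter fun χ : IrrCharacter G =>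
      blockHeight p B (χ : G → ℂ) = 0) (by simp)).1
    have h4 := bf_sum hB hψ h0 ((fs B).filter fun χ : IrrCharacter G =>
      ¬ blockHeight p B (χ : G → ℂ) = 0) (by simp [h0]) (fun χ h => by
        simpa using (mem_filter.1 h).1)
    have h5 := card_nsmul_le_sum ((fs B).filter fun χ : IrrCharacter G =>
      ¬ blockHeight p B (χ : G → ℂ) = 0) (fun ψ => p ^ (2 * blockHeight p B (ψ : G → ℂ))) (p ^ 2)
      fun χ h => Nat.pow_le_pow_right hp.pos (by have := (mem_filter.1 h).2; omega)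
    have h6 : p ^ 2 ≤ p ^ (2 * blockHeight p B (χ : G → ℂ)) :=
      Nat.pow_le_pow_right hp.pos (by omega)
    rw [← card_fs, ← card_filter_add_card_filter_not (s := fs B) fun χ : IrrCharacter G =>
      blockHeight p B (χ : G → ℂ) = 0]
    rw [hd, show 2 * (e + 3) = 2 * e + 4 + 2 by ring, pow_add] at h2 h4
    rw [smul_eq_mul] at h5
    refine Nat.le_of_mul_le_mul_right (c := p ^ 2) ?_ (pow_pos hp.pos 2)
    have h7 := Nat.mul_le_mul_left ((fs B).filter fun χ : IrrCharacter G =>
      blockHeight p B (χ : G → ℂ) = 0).card h6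
    rw [add_mul]
    omega

end Cfsg.Agent.S4698
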