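import Cfsg.Statements.S4753
import Cfsg.Agent.H1.Acd3

set_option autoImplicit false
open Cfsg

namespace Cfsg.Agent.S4753

/-- Suppose every proper subgroup H of the finite group G has average irreducible character degree at most 2: the sum of the degrees of the irreducible characters of H is at most twice their number. Then G is solvable, or G is isomorphic to PSL₂(7), to PSL₂(2^q) for a prime q, or to SL₂(5). -/
theorem result {G : Type*} [Group G] [Finite G] (hSAD : ∀ H : Subgroup G, H ≠ ⊤ → (∑ᶠ χ : Cfsg.IrrCharacter ↥H, Cfsg.charDegree (χ : ↥H → ℂ)) ≤ 2 * Nat.card (Cfsg.IrrCharacter ↥H)) : Group.IsSolvable G ∨ Nonempty (G ≃* Matrix.ProjectiveSpecialLinearGroup (Fin 2) (ZMod 7)) ∨ (∃ (F : Type) (_ : Field F) (_ : Fintype F) (q : ℕ), q.Prime ∧ Fintype.card F = 2 ^ q ∧ Nonempty (G ≃* Matrix.ProjectiveSpecialLinearGroup (Fin 2) F)) ∨ Nonempty (G ≃* Matrix.SpecialLinearGroup (Fin 2) (ZMod 5)) := by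
  refine or_iff_not_imp_left.2 fun ns => ?_
  obtain ⟨F, _, _, f, hf, hc, h⟩ := H1.Acd.main G ns fun ⟨H, h1, h2⟩ => H1.Acd.not_big (hSAD H h1) h2
  have iso : f.ker = ⊥ → Nonempty (G ≃* Matrix.ProjectiveSpecialLinearGroup (Fin 2) F) := fun k =>
    ⟨MulEquiv.ofBijective f ⟨(MonoidHom.ker_eq_bot_iff f).1 k, hf⟩⟩
  rcases h with ⟨h5, h⟩ | ⟨h | ⟨p, hp, -, h⟩, k⟩
  · rcases (Nat.dvd_prime Nat.prime_two).1 h with k | k
    · obtain ⟨e⟩ := iso (Subgroup.card_eq_one.1 k)
      obtain ⟨e1⟩ := H16.psl_A5 (F := F) (.inr h5)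
      have : Fintype (GaloisField 2 2) := Fintype.ofFinite _
      have c : Fintype.card (GaloisField 2 2) = 2 ^ 2 := by
        rw [← Nat.card_eq_fintype_card, GaloisField.card 2 2 two_ne_zero]
      obtain ⟨e2⟩ := H16.psl_A5 (F := GaloisField 2 2) (.inl c)
      exact .inr (.inl ⟨_, _, _, 2, Nat.prime_two, c, ⟨e.trans (e1.trans e2.symm)⟩⟩)
    · have : Fact (Nat.Prime 5) := ⟨Nat.prime_five⟩
      obtain ⟨e⟩ := H10.PSL2_congr (FiniteField.ringEquivOfCardEq (h5.trans (ZMod.card 5).symm))
      have ek : (e.toMonoidHom.comp f).ker = f.ker := by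
        ext x
        exact map_eq_one_iff e e.injective
      have : Group.IsPerfect G := ⟨by
        by_contra c
        have : Group.IsSolvable (commutator G) := by
          by_contra d
          obtain ⟨D, N, _, s⟩ := H9.MSi.exists_sec d
          have := s.ms.1
          exact H1.Acd.not_big (hSAD (D.map (commutator G).subtype) fun e =>
            c (top_le_iff.1 (e.ge.trans (Subgroup.map_subtype_le D))))
            (((H1.Acd.big_simple s.ms.2.1).of_surj _ (QuotientGroup.mk'_surjective N)).equiv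
              (D.equivMapOfInjective _ (commutator G).subtype_injective).symm)
        have : Group.IsSolvable (G ⧸ commutator G) :=
          Group.isSolvable_of_comm fun a b => mul_comm (G := Abelianization G) a b
        exact ns (Group.isSolvable_of_ker_le_range (commutator G).subtype (QuotientGroup.mk' (commutator G)) (by simp))⟩
      exact .inr (.inr (H22.equiv_SL2_of_cover (F := ZMod 5) (by rw [ZMod.card]; decide) (e.toMonoidHom.comp f)
        (e.surjective.comp hf) (ek ▸ hc) (ek ▸ k)))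
  · have : Fact (Nat.Prime 7) := ⟨by norm_num⟩
    obtain ⟨e⟩ := H10.PSL2_congr (FiniteField.ringEquivOfCardEq (h.trans (ZMod.card 7).symm))
    obtain ⟨e1⟩ := iso k
    exact .inl ⟨e1.trans e⟩
  · exact .inr (.inl ⟨F, _, _, p, hp, h, iso k⟩)

end Cfsg.Agent.S4753
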