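import Cfsg.Statements.S4776
import Cfsg.Agent.H8.RDG

set_option autoImplicit false
open Cfsg

namespace Cfsg.Agent.S4776

open H18 H8.RD

/-- Let N be a normal subgroup of the finite group G that is not perfect and is contained in the derived subgroup of G. Consider the common-divisor graph on the relative degree set cd(G|N) (the degrees of the irreducible complex characters of G whose kernel does not contain N; two distinct degrees adjacent when they have a common divisor greater than one). Then this graph has at most two connected components; and if a, b ∈ cd(G|N) lie in different components, then one of a, b is coprime to the index m of the derived subgroup of N in N while the other is divisible by every prime divisor of m. -/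
theorem result {G : Type*} [Group G] [Finite G] (N : Subgroup G) [N.Normal] (hN : ⁅N, N⁆ < N) (hNG : N ≤ commutator G) : Nat.card (Cfsg.commonDivisorGraph.induce (Cfsg.relCharDegrees N)).ConnectedComponent ≤ 2 ∧ ∀ (a b : ℕ) (ha : a ∈ Cfsg.relCharDegrees N) (hb : b ∈ Cfsg.relCharDegrees N), ¬ (Cfsg.commonDivisorGraph.induce (Cfsg.relCharDegrees N)).Reachable ⟨a, ha⟩ ⟨b, hb⟩ → (Nat.Coprime a (⁅N, N⁆.relIndex N) ∧ ∀ r : ℕ, r.Prime → r ∣ ⁅N, N⁆.relIndex N → r ∣ b) ∨ (Nat.Coprime b (⁅N, N⁆.relIndex N) ∧ ∀ r : ℕ, r.Prime → r ∣ ⁅N, N⁆.relIndex N → r ∣ a) := by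
  classical
  haveI : Fintype G := Fintype.ofFinite G
  have hN' : N ⊴ ⊤ := nml_top
  refine ⟨?_, fun a b ha hb h => types hN' hNG hN h⟩
  by_contra h
  rcases finite_or_infinite (Gr N).ConnectedComponent with _ | _
  · haveI := Fintype.ofFinite (Gr N).ConnectedComponent
    rw [Nat.card_eq_fintype_card, not_le, Fintype.two_lt_card_iff] at h
    obtain ⟨a, b, c, h1, h2, h3⟩ := h
    induction a using SimpleGraph.ConnectedComponent.ind with | _ u =>
    induction b using SimpleGraph.ConnectedComponent.ind with | _ v =>
    induction c using SimpleGraph.ConnectedComponent.ind with | _ w =>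
    rcases two hN' hNG hN u v w with r | r | r
    · exact h1 (SimpleGraph.ConnectedComponent.sound r)
    · exact h2 (SimpleGraph.ConnectedComponent.sound r)
    · exact h3 (SimpleGraph.ConnectedComponent.sound r)
  · exact h (by rw [Nat.card_eq_zero_of_infinite]; omega)

end Cfsg.Agent.S4776
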