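import Cfsg.Statements.S4779
import Cfsg.Agent.H8.RDG

set_option autoImplicit false
open Cfsg

namespace Cfsg.Agent.S4779

open H18 H8.RD

/-- Let N be a solvable normal subgroup of the finite group G contained in the derived subgroup of G, and consider the common-divisor graph on the relative degree set cd(G|N) (degrees of irreducible complex characters of G whose kernel does not contain N, two distinct degrees adjacent when not coprime). If this graph has two vertices that are not joined by any path, then there is a vertex a₀ such that any two distinct vertices in the component of a₀ are adjacent, and any two distinct vertices outside that component are adjacent or have a common neighbour (one component is complete, the other has diameter at most 2). -/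
theorem result {G : Type*} [Group G] [Finite G] (N : Subgroup G) [N.Normal] [Group.IsSolvable N] (hNG : N ≤ commutator G) (hdisc : ¬ (Cfsg.commonDivisorGraph.induce (Cfsg.relCharDegrees N)).Preconnected) : ∃ a₀ : ↥(Cfsg.relCharDegrees N), (∀ b c : ↥(Cfsg.relCharDegrees N), (Cfsg.commonDivisorGraph.induce (Cfsg.relCharDegrees N)).Reachable a₀ b → (Cfsg.commonDivisorGraph.induce (Cfsg.relCharDegrees N)).Reachable a₀ c → b ≠ c → (Cfsg.commonDivisorGraph.induce (Cfsg.relCharDegrees N)).Adj b c) ∧ (∀ b c : ↥(Cfsg.relCharDegrees N), ¬ (Cfsg.commonDivisorGraph.induce (Cfsg.relCharDegrees N)).Reachable a₀ b → ¬ (Cfsg.commonDivisorGraph.induce (Cfsg.relCharDegrees N)).Reachable a₀ c → b ≠ c → (Cfsg.commonDivisorGraph.induce (Cfsg.relCharDegrees N)).Adj b c ∨ ∃ d : ↥(Cfsg.relCharDegrees N), (Cfsg.commonDivisorGraph.induce (Cfsg.relCharDegrees N)).Adj b d ∧ (Cfsg.commonDivisorGraph.induce (Cfsg.relCharDegrees N)).Adj d c) := by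
  classical
  haveI : Fintype G := Fintype.ofFinite G
  have hN' : N ⊴ ⊤ := nml_top
  have hs : Solv N := inferInstanceAs (Group.IsSolvable N)
  obtain ⟨u₀, v₀, h0⟩ : ∃ u v, ¬ (Gr N).Reachable u v := by
    by_contra h
    push Not at h
    exact hdisc h
  have hne : N ≠ ⊥ := by
    rintro rfl
    obtain ⟨χ, ⟨y, hy, e⟩, -⟩ := u₀.2
    exact e (by rw [Subgroup.mem_bot.1 hy])
  have hlt := hs.der_lt hne
  obtain ⟨p, hp, hd⟩ := Nat.exists_prime_and_dvd (one_lt_relIndex hlt.not_ge).ne'
  obtain ⟨a, c, h1, ha⟩ : ∃ a c, ¬ (Gr N).Reachable a c ∧ p ∣ a.1 := by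
    rcases types hN' hNG hlt h0 with h | h
    · exact ⟨v₀, u₀, fun e => h0 e.symm, h.2 p hp hd⟩
    · exact ⟨u₀, v₀, h0, h.2 p hp hd⟩
  have hc : ¬ p ∣ c.1 := fun e => h1 (reach_of (not_cop hp.ne_one ha e))
  have key : ∀ b, (Gr N).Reachable a b → p ∣ b.1 := fun b r => by_contra fun e =>
    h1 (r.trans (reach_of_not_dvd hN' hNG hp hd (by tauto)))
  refine ⟨a, fun b c r1 r2 hne => adj_of (not_cop hp.ne_one (key b r1) (key c r2)) hne, fun b c r1 r2 hne => ?_⟩
  by_cases hc : b.1.Coprime c.1
  · have r := ((two hN' hNG hlt a b c).resolve_left r1).resolve_left r2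
    obtain ⟨x, hx, e1, e2⟩ := diam_two _ N rfl hN' hNG hs _ _ b c h0 r hc
    refine .inr ⟨⟨x, hx⟩, (adj_of (u := ⟨x, hx⟩) e1 ?_).symm, adj_of e2 ?_⟩
    · rintro rfl; exact e2 hc
    · rintro rfl; exact e1 hc.symm
  · exact .inl (adj_of hc hne)

end Cfsg.Agent.S4779
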