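import Cfsg.Statements.S4783
import Cfsg.Agent.H2.Gd2
import Cfsg.Agent.H2.Gd3
import Cfsg.Agent.H7.GdY
import Cfsg.Agent.H19.GdF
import Cfsg.Agent.H8.GdX
import Cfsg.Agent.H6.GdZ
import Cfsg.Agent.H28.GdR
import Cfsg.Agent.L.Gd1

set_option autoImplicit false
open Cfsg

namespace Cfsg.Agent.S4783

/-- A finite solvable group with exactly four distinct irreducible complex character degrees has trivial fourth derived subgroup (derived length at most 4). -/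
theorem result {G : Type*} [Group G] [Finite G] [Group.IsSolvable G] (hcd : Nat.card ↥(Cfsg.charDegrees G) = 4) : derivedSeries G 4 = ⊥ := by
  have t3 := H2.Gd.t3 L.Gd.pN (H6.GdZ.pZ (H8.GdX.pX L.Gd.pV H28.GdR.pR)) H7.GdY.pY
  obtain ⟨x, y, z, w, -, -, -, -, -, -, h⟩ := Set.ncard_eq_four.1 (show (charDegrees G).ncard = 4 from hcd)
  have h1 : (1 : ℕ) ∈ charDegrees G := ⟨⟨_, H5.isIrrCharacter_one⟩, H8.charDegree_of_eq (n := 1) (by simp)⟩
  have h2 : ∀ χ, IsIrrCharacter G χ → charDegree χ = x ∨ charDegree χ = y ∨ charDegree χ = z ∨ charDegree χ = w :=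
    fun χ hχ => by simpa using h.le ⟨⟨χ, hχ⟩, rfl⟩
  have h3 : ∃ a b c, H2.Gd.Cd4 G a b c := by
    rw [h] at h1
    rcases h1 with rfl | rfl | rfl | rfl
    exacts [⟨y, z, w, h2⟩, ⟨x, z, w, fun χ hχ => by have := h2 χ hχ; tauto⟩,
      ⟨x, y, w, fun χ hχ => by have := h2 χ hχ; tauto⟩, ⟨x, y, z, fun χ hχ => by have := h2 χ hχ; tauto⟩]
  obtain ⟨a, b, c, h3⟩ := h3
  exact H2.Gd.main t3 (H2.Gd.pA t3) (H2.Gd.pB L.Gd.pE (H19.Gd.pF L.Gd.pE)) _ G a b c rfl h3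

end Cfsg.Agent.S4783
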