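import Cfsg.Statements.S4807
import Cfsg.Agent.H8.MK5

set_option autoImplicit false
open Cfsg

namespace Cfsg.Agent.S4807

open H5 H19 H8
theorem pd_iff {G : Type*} [Group G] [Finite G] {p : ℕ} {χ : G → ℂ} (h : IsIrrCharacter G χ)
    {Γ : Type*} [Group Γ] {φ : Γ → ℂ} (e : φ 1 = χ 1) : ¬ p ∣ charDegree χ ↔ ¬ (p : ℤ) ∣ dg φ := by
  rw [dg_eq_of_eq_nat (e.trans h.coe_charDegree.symm), Int.natCast_dvd_natCast]

theorem ov_iff {G : Type*} [Group G] [Fintype G] (L : Subgroup G) (φ : G → ℂ) (ν f : L → ℂ)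
    (e : ∀ l : L, f l = φ l) :
    (∑ᶠ l : L, f l * (starRingEnd ℂ) (ν l)) ≠ 0 ↔ Ov L φ (extendByZero L ν) := by
  have := Fintype.ofFinite L
  unfold Ov
  rw [ip_eq_sum_els (res_supp _ _), sum_els_eq_sum_subtype, finsum_eq_sum_of_fintype,
    mul_ne_zero_iff, and_iff_right (inv_ne_zero (Nat.cast_ne_zero.2 Nat.card_pos.ne'))]
  simp only [e, res_of_mem _ (Subtype.prop _), H19.extendByZero_coe]

/-- Let p be a prime and G a finite p-solvable group, L a normal subgroup of G, S a Sylow p-subgroup of G and P the subgroup generated by L and S (so P/L is a Sylow p-subgroup of G/L), and let ν be an irreducible complex character of L that is invariant under conjugation by every element of P. Let N be the normalizer of P in G (it contains L). Then the number of irreducible characters of G of degree prime to p lying over ν (restriction to L not orthogonal to ν) equals the number of irreducible characters of N of degree prime to p lying over ν. -/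
theorem result {G : Type*} [Group G] [Finite G] (p : ℕ) [Fact p.Prime] (hG : Cfsg.IsPSolvable p G) (L : Subgroup G) [L.Normal] (S : Sylow p G) (P : Subgroup G) (hP : P = L ⊔ (S : Subgroup G)) (hLN : L ≤ (Subgroup.normalizer ((P : Subgroup G) : Set G))) (ν : Cfsg.IrrCharacter ↥L) (hν : ∀ x ∈ P, Cfsg.IsConjCharOf L x (ν : ↥L → ℂ) (ν : ↥L → ℂ)) : Nat.card {χ : Cfsg.IrrCharacter G // ¬ p ∣ Cfsg.charDegree (χ : G → ℂ) ∧ (∑ᶠ l : ↥L, (χ : G → ℂ) (l : G) * (starRingEnd ℂ) ((ν : ↥L → ℂ) l)) ≠ 0} = Nat.card {ψ : Cfsg.IrrCharacter ↥(Subgroup.normalizer ((P : Subgroup G) : Set G)) // ¬ p ∣ Cfsg.charDegree (ψ : ↥(Subgroup.normalizer ((P : Subgroup G) : Set G)) → ℂ) ∧ (∑ᶠ l : ↥L, (ψ : ↥(Subgroup.normalizer ((P : Subgroup G) : Set G)) → ℂ) (Subgroup.inclusion hLN l) * (starRingEnd ℂ) ((ν : ↥L → ℂ) l)) ≠ 0} := by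
  have := Fintype.ofFinite G
  have hn : ∀ K : Subgroup G, K ≤ Subgroup.normalizer (L : Set G) := fun K =>
    Subgroup.normalizer_eq_top L ▸ le_top
  rw [cnt_top _ (fun χ => Ov L χ (extendByZero L ν) ∧ ¬ (p : ℤ) ∣ dg χ) fun χ =>
      (and_congr (pd_iff χ.2 rfl) (ov_iff L _ _ _ fun _ => rfl)).trans and_comm,
    cnt_typed _ (fun χ => Ov L χ (extendByZero L ν) ∧ ¬ (p : ℤ) ∣ dg χ) fun χ =>
      (and_congr (pd_iff χ.2 (H19.extendByZero_one _ _)) (ov_iff L _ _
        (fun l => χ.1 (Subgroup.inclusion hLN l)) fun l =>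
        (H19.extendByZero_of_mem _ (hLN l.2)).symm)).trans and_comm]
  exact rel_mckay hG S _ ⊤ L _ _ rfl le_top (hn _) (H7.sylIn_top S) (extendByZero_mem_irr.2 ν.2)
    ((Glaub.inv_iff_le_stabf (hn _) _).1 fun s hs => hν s (hP ▸ Subgroup.mem_sup_right hs))
    (by rw [top_inf_eq, hP])

end Cfsg.Agent.S4807
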