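import Cfsg.Statements.S4811
import Cfsg.Agent.S4776
import Cfsg.Agent.H8.PDeg

set_option autoImplicit false
open Cfsg

open H5 SimpleGraph

namespace Cfsg.Agent.S4811



/-- For every finite solvable group G the character degree graph of G (vertices: the primes dividing some irreducible complex character degree; edges: distinct primes whose product divides some degree) has at most two connected components. -/
theorem result {G : Type*} [Group G] [Finite G] [Group.IsSolvable G] : Nat.card ((Cfsg.degreeGraph G).induce (Cfsg.degreePrimes G)).ConnectedComponent ≤ 2 := by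
  classical
  have key : ∀ p : degreePrimes G, ∃ d : relCharDegrees (commutator G), p.1 ∣ d.1 := by
    rintro ⟨p, hp, d, ⟨χ, rfl⟩, hd⟩
    have h1 : charDegree (χ : G → ℂ) ≠ 1 := by
      intro e; rw [e] at hd; exact hp.ne_one (Nat.dvd_one.1 hd)
    have h2 := (H8.not_le_ker_iff χ.2).2 h1
    obtain ⟨x, hx, hx'⟩ := SetLike.not_le_iff_exists.1 h2
    exact ⟨⟨_, χ, ⟨x, hx, fun e => hx' (χ.2.isCharacter.mem_charKer.2 e)⟩, rfl⟩, hd⟩
  by_cases hc : commutator G = ⊥
  · haveI : IsEmpty (degreePrimes G) := ⟨fun p => by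
      obtain ⟨⟨d, χ, ⟨x, hx, hx'⟩, -⟩, -⟩ := key p
      rw [hc, Subgroup.mem_bot] at hx
      exact hx' (by rw [hx])⟩
    haveI : IsEmpty ((degreeGraph G).induce (degreePrimes G)).ConnectedComponent :=
      ⟨fun C => C.ind (fun p => isEmptyElim p)⟩
    simp
  have h2 := (Cfsg.Agent.S4776.result (commutator G) (Group.IsSolvable.commutator_lt_of_ne_bot hc)
    le_rfl).1
  choose d hd using key
  have same : ∀ (a : relCharDegrees (commutator G)) (p q : degreePrimes G), p.1 ∣ a.1 → q.1 ∣ a.1 →
      ((degreeGraph G).induce (degreePrimes G)).Reachable p q := by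
    rintro ⟨a, χ, hχ, rfl⟩ p q hp hq
    by_cases e : p = q
    · rw [e]
    · have e' : p.1 ≠ q.1 := fun h => e (Subtype.ext h)
      refine Adj.reachable ⟨e', p.2.1, q.2.1, _, ⟨χ, rfl⟩, ?_⟩
      exact ((Nat.coprime_primes p.2.1 q.2.1).2 e').mul_dvd_of_dvd_of_dvd hp hq
  have walk : ∀ (a b : relCharDegrees (commutator G))
      (w : (commonDivisorGraph.induce (relCharDegrees (commutator G))).Walk a b)
      (p q : degreePrimes G), p.1 ∣ a.1 → q.1 ∣ b.1 →
      ((degreeGraph G).induce (degreePrimes G)).Reachable p q := by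
    intro a b w
    induction w with
    | nil => exact same _
    | @cons u v _ h w ih =>
      intro p q hp hq
      obtain ⟨r, hr, hrd⟩ := Nat.exists_prime_and_dvd (h.2.ne' : Nat.gcd u.1 v.1 ≠ 1)
      have hu := hrd.trans (Nat.gcd_dvd_left _ _)
      have hr' : r ∈ degreePrimes G := by
        obtain ⟨χ, -, e⟩ := u.2
        exact ⟨hr, _, ⟨χ, e⟩, hu⟩
      exact (same u p ⟨r, hr'⟩ hp hu).trans (ih ⟨r, hr'⟩ q (hrd.trans (Nat.gcd_dvd_right _ _)) hq)
  haveI : Finite (relCharDegrees (commutator G)) := by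
    refine Set.Finite.subset (Set.finite_range fun χ : IrrCharacter G => charDegree (χ : G → ℂ)) ?_
    rintro _ ⟨χ, -, rfl⟩
    exact ⟨χ, rfl⟩
  refine le_trans (Nat.card_le_card_of_injective
    (fun C : ((degreeGraph G).induce (degreePrimes G)).ConnectedComponent =>
      (commonDivisorGraph.induce (relCharDegrees (commutator G))).connectedComponentMk (d C.out))
    fun C D h => ?_) h2
  obtain ⟨w⟩ := ConnectedComponent.exact h
  rw [← C.out_eq, ← D.out_eq]
  exact ConnectedComponent.sound (walk _ _ w _ _ (hd _) (hd _))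

end Cfsg.Agent.S4811
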