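import Cfsg.Statements.S4886
import Cfsg.Agent.H8.NW2

set_option autoImplicit false
open Cfsg

namespace Cfsg.Agent.S4886

open H5 H18 H1 H8

theorem easy {G : Type*} [Group G] [Finite G] {p q : ℕ} [hp : Fact p.Prime] (hq : q.Prime)
    (hne : p ≠ q) {M : Ideal AlgInt} [H7.PM p M] (hs : IsPSolvable p G) {P Q : Subgroup G}
    (hP : Hall {p} P ⊤) (hQ : Hall {q} Q ⊤) (h : P ≤ C(Q)) (χ : IrrCharacter G)
    (hχ : χ ∈ principalBlock M G) : ¬ q ∣ charDegree (χ : G → ℂ) := fun d => by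
  rw [principal_of_pSol (H4.isPSolvable_iff.1 hs), pPrimeCore_eq hp.out] at hχ
  have h1 := hall_norm_le_core ((isPSolvable_iff_piSep hp.out).1 hs) hP le_top
    (fun r a b e => hne (e.symm.trans (hQ.pi r a b))) (cent_norm h)
  have h2 : Q ≤ charCenter χ.1 := fun x hx =>
    charKer_le_charCenter (χ.2.mem_charKer.2 (hχ x (h1 hx)))
  exact (piNat_compl_iff hq).1 (hQ.idx_of_le h2)
    (by simpa using d.trans χ.2.charDegree_dvd_index_charCenter)

/-- Let p ≠ q be primes and G a finite group that is p-solvable and q-solvable. Fix maximal ideals of the algebraic integers containing p and q, defining the principal p-block and the principal q-block. Then every irreducible character of degree prime to p in the principal p-block has degree prime to q and every irreducible character of degree prime to q in the principal q-block has degree prime to p, if and only if some Sylow p-subgroup of G commutes elementwise with some Sylow q-subgroup. -/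
theorem result {G : Type*} [Group G] [Finite G] (p q : ℕ) [Fact p.Prime] [Fact q.Prime] (hpq : p ≠ q) (Mp Mq : Ideal Cfsg.AlgInt) (hMp : Cfsg.IsPModular p Mp) (hMq : Cfsg.IsPModular q Mq) (hps : Cfsg.IsPSolvable p G) (hqs : Cfsg.IsPSolvable q G) : ((∀ χ : Cfsg.IrrCharacter G, χ ∈ Cfsg.principalBlock Mp G → ¬ p ∣ Cfsg.charDegree (χ : G → ℂ) → ¬ q ∣ Cfsg.charDegree (χ : G → ℂ)) ∧ (∀ χ : Cfsg.IrrCharacter G, χ ∈ Cfsg.principalBlock Mq G → ¬ q ∣ Cfsg.charDegree (χ : G → ℂ) → ¬ p ∣ Cfsg.charDegree (χ : G → ℂ))) ↔ ∃ (P : Sylow p G) (Q : Sylow q G), ∀ x ∈ (P : Subgroup G), ∀ y ∈ (Q : Subgroup G), x * y = y * x := by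
  have hp : p.Prime := Fact.out
  have hq : q.Prime := Fact.out
  haveI : H7.PM p Mp := ⟨hMp⟩
  haveI : H7.PM q Mq := ⟨hMq⟩
  constructor
  · rintro ⟨h1, h2⟩
    rw [principal_of_pSol (H4.isPSolvable_iff.1 hps), pPrimeCore_eq hp] at h1
    rw [principal_of_pSol (H4.isPSolvable_iff.1 hqs), pPrimeCore_eq hq] at h2
    obtain ⟨P, Q, a, b, c⟩ := nw_comm hpq Mp Mq _ G rfl ((isPSolvable_iff_piSep hp).1 hps)
      ((isPSolvable_iff_piSep hq).1 hqs) (fun χ a => h1 ⟨χ, a⟩) (fun χ a => h2 ⟨χ, a⟩)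
    obtain ⟨P, rfl⟩ := a.exists_sylow_top hp
    obtain ⟨Q, rfl⟩ := b.exists_sylow_top hq
    exact ⟨P, Q, cent_iff.1 (cent_symm c)⟩
  · rintro ⟨P, Q, h⟩
    exact ⟨fun χ a _ => easy hq hpq hps (hall_sylow_top hp P) (hall_sylow_top hq Q)
      (cent_iff.2 h) χ a, fun χ a _ => easy hp hpq.symm hqs (hall_sylow_top hq Q)
      (hall_sylow_top hp P) (cent_symm (cent_iff.2 h)) χ a⟩

end Cfsg.Agent.S4886
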