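import Cfsg.Statements.S4997
import Cfsg.Agent.H2.Van1

set_option autoImplicit false
open Cfsg

open H5

namespace Cfsg.Agent.S4997

/-- Let p be an odd prime and G a finite solvable group with exactly one conjugacy class consisting of vanishing elements (elements at which some irreducible complex character is zero) of order divisible by p. Let P be a Sylow p-subgroup of G. Then the order of P is at most p times the order of the largest normal p-subgroup of G. -/
theorem result {G : Type*} [Group G] [Finite G] (hsolv : Group.IsSolvable G) (p : ℕ) [Fact p.Prime] (hp : p ≠ 2) (h1 : Set.ncard {C : ConjClasses G | (∀ g ∈ C.carrier, ∃ χ : Cfsg.IrrCharacter G, (χ : G → ℂ) g = 0) ∧ ∃ g ∈ C.carrier, p ∣ orderOf g} = 1) (P : Sylow p G) : Nat.card ↥(P : Subgroup G) ≤ p * Nat.card ↥(Cfsg.pCore p G) := by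
  have h := H2.Van.card_map_dvd (p := p) (H2.Van.hyp_of fun x y hx hy dx dy => by
    obtain ⟨C, hC⟩ := Set.ncard_eq_one.1 h1
    have key : ∀ x : G, H2.Van.Van x → p ∣ orderOf x → ConjClasses.mk x = C := by
      rintro x ⟨χ, hχ, h0⟩ hd
      rw [← Set.mem_singleton_iff, ← hC]
      refine ⟨fun g hg => ⟨⟨χ, hχ⟩, ?_⟩, x, ConjClasses.mem_carrier_mk, hd⟩
      obtain ⟨c, rfl⟩ := isConj_iff.1
        (ConjClasses.mk_eq_mk_iff_isConj.1 (ConjClasses.mem_carrier_iff_mk_eq.1 hg)).symm
      exact (hχ.isClassFunction x c).trans h0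
    obtain ⟨c, rfl⟩ := isConj_iff.1 (ConjClasses.mk_eq_mk_iff_isConj.1
      ((key x hx dx).trans (key y hy dy).symm))
    exact (SemiconjBy.orderOf_eq c (by simp [SemiconjBy]))) P
  rw [← Subgroup.relIndex_ker, QuotientGroup.ker_mk'] at h
  have e := Subgroup.relIndex_mul_relIndex ⊥ _ _ bot_le (H1.pCore_le_sylow P)
  rw [Subgroup.relIndex_bot_left, Subgroup.relIndex_bot_left] at e
  rw [← e, mul_comm]
  exact Nat.mul_le_mul_right _ (Nat.le_of_dvd (Fact.out : p.Prime).pos h)

end Cfsg.Agent.S4997
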