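import Cfsg.Statements.S5191
import Cfsg.Agent.H20.Solv

set_option autoImplicit false
open Cfsg H20

namespace Cfsg.Agent.S5191

/-- Fusion in a finite group G and in its quotient by O_{p'}(G) agree. Let S be a Sylow p-subgroup of G, N = O_{p'}(G) and P ≤ S. If an element of G/N conjugates the image of P into the image of S, then some element g of G conjugates P into S and induces the same map on P modulo N. (Together with the injectivity of S → G/N this says that g ↦ gN induces an isomorphism of the fusion system of G on S with that of G/N on SN/N.) -/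
theorem result {G : Type*} [Group G] [Finite G] {p : ℕ} [Fact p.Prime]
    [hN : (Cfsg.pPrimeCore p G).Normal] (S : Sylow p G) (P : Subgroup G) (hP : P ≤ (S : Subgroup G))
    (γ : G ⧸ Cfsg.pPrimeCore p G)
    (hγ : ∀ x ∈ P, γ * QuotientGroup.mk x * γ⁻¹ ∈ ((S : Subgroup G).map (QuotientGroup.mk' (Cfsg.pPrimeCore p G)))) :
    ∃ g : G, ∀ x ∈ P, g * x * g⁻¹ ∈ S ∧
      (QuotientGroup.mk (g * x * g⁻¹) : G ⧸ Cfsg.pPrimeCore p G) = γ * QuotientGroup.mk x * γ⁻¹ := by
  have h := epi_group (syl_top S) (homOn_hom ⊤ (QuotientGroup.mk' (pPrimeCore p G))) (H' := ⊤) (by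
    rw [img_hom, ← MonoidHom.range_eq_map, MonoidHom.range_eq_top]
    exact QuotientGroup.mk'_surjective _) (img_hom _ _) (h1 := le_top) (h2 := le_top)
  obtain ⟨σ, h1, h2⟩ := h.lift'' hP (mor_sub_cj (h.img_le hP) (Subgroup.mem_top γ) fun y hy => by
    obtain ⟨x, hx, rfl⟩ := (h.hom.mono hP).mem_img.1 hy
    exact hγ x hx)
  obtain ⟨-, h3, g, -, h4⟩ := mor_sub_iff.1 h1
  exact ⟨g, fun x hx => ⟨h4 x hx ▸ h3 x hx, by rw [← h4 x hx]; exact (h2 x hx).symm⟩⟩

end Cfsg.Agent.S5191
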