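import Cfsg.Statements.S5192
import Cfsg.Agent.H20.Trans

set_option autoImplicit false
open Cfsg H20

namespace Cfsg.Agent.S5192

/-- A Thompson-type transfer for saturated fusion systems. Let F be a saturated fusion system on a finite 2-group S, T a subgroup of S of index 2, and i an involution of S such that every fully normalized F-conjugate of i lies in S but outside T. Then i does not lie in the hyperfocal subgroup of F (the Sylow group of the 2-residual subsystem). -/
theorem result {Ω : Type*} [Group Ω] [Finite Ω] {S : Subgroup Ω}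
    (hS : IsPGroup 2 ↥S) (F : Cfsg.FusionSystem S) (hF : F.IsSaturated 2)
    (T : Subgroup Ω) (hTS : T ≤ S) (hT : T.relIndex S = 2)
    (i : Ω) (hi : i ∈ S) (hi2 : orderOf i = 2)
    (h : ∀ j : Ω, F.IsConjElt i j → F.IsFullyNormalized (Subgroup.zpowers j) → j ∉ T) :
    i ∉ F.hyperfocalSubgroup 2 := by
  refine fun h1 => thompson_transfer hS hF hTS hT hi hi2 (fun σ h2 h3 => h _
    (h2.isConjElt (Subgroup.mem_zpowers i)) ?_) (hyp_le_foc h1)
  have key : ∀ j : Ω, orderOf j = 2 → nIn S (Subgroup.zpowers j) = cIn S (Subgroup.zpowers j) :=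
    fun j hj => le_antisymm (fun g hg => ⟨hg.1, fun x hx => by
      have h4 : ∀ y ∈ Subgroup.zpowers j, y = 1 ∨ y = j := fun y hy => by
        obtain ⟨k, rfl⟩ := hy
        rcases Int.even_or_odd' k with ⟨m, rfl | rfl⟩
        · left; simp [zpow_mul, ← hj, zpow_ofNat, show j ^ 2 = 1 from hj ▸ pow_orderOf_eq_one j]
        · right; simp [zpow_add, zpow_mul, zpow_ofNat, show j ^ 2 = 1 from hj ▸ pow_orderOf_eq_one j]
      rcases h4 x hx with rfl | rfl
      · simp
      · rcases h4 _ (conj_mem_of_mem_normalizer hg.2 hx) with h5 | h5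
        · rw [conj_eq_one_iff.1 h5]; simp
        · exact (mul_inv_eq_iff_eq_mul.1 h5).symm⟩) cIn_le_nIn
  have ord : ∀ {j τ}, Mor F (Subgroup.zpowers j) τ → orderOf (τ j) = orderOf j := fun {j τ} h => by
    rw [← Nat.card_zpowers, ← h.hom.img_zpowers, h.card_img, Nat.card_zpowers]
  refine fn_iff.2 ⟨h3.1, fun τ h4 => ?_⟩
  have h5 := (fc_iff.1 h3).2 τ h4
  rwa [h4.hom.img_zpowers, ← key _ ((ord h2).trans hi2), ← key _ ((ord h4).trans ((ord h2).trans hi2)),
    ← h4.hom.img_zpowers] at h5

end Cfsg.Agent.S5192
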