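import Cfsg.Statements.S5200
import Cfsg.Agent.H20.NMod

set_option autoImplicit false
open Cfsg H20

namespace Cfsg.Agent.S5200

/-- Let F be a saturated fusion system over a finite p-group S and E a normal subsystem of F over T whose centralizer in S lies in T: every subgroup Y of C_S(T) such that E is contained in the centralizer fusion system of Y in F satisfies Y ≤ T. Then T·C_S(T)/T is abelian (the commutator subgroup of T·C_S(T) lies in T), and if p is odd then C_S(T) ≤ T. -/
theorem result {Ω : Type*} [Group Ω] {S : Subgroup Ω} [Finite S] (p : ℕ) [Fact p.Prime] (hS : IsPGroup p S) (F : Cfsg.FusionSystem S) (hF : F.IsSaturated p) {T : Subgroup Ω} (E : Cfsg.FusionSystem T) (hE : E.IsNormalIn F p) (hCE : ∀ Y : Subgroup Ω, Y ≤ Cfsg.FusionSystem.centralizerIn S T → (∀ C : Cfsg.FusionSystem (Cfsg.FusionSystem.centralizerIn S Y), F.IsCentralizerSystem Y C → E.IsSubsystemOf C) → Y ≤ T) : ⁅T ⊔ Cfsg.FusionSystem.centralizerIn S T, T ⊔ Cfsg.FusionSystem.centralizerIn S T⁆ ≤ T ∧ (p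 ≠ 2 → Cfsg.FusionSystem.centralizerIn S T ≤ T) := by
  have i := nrm_inv hE
  have := fin_of_le i.le
  have h : CS F E p ≤ T := hCE _ CS_le fun C e => sub_iff.2 ((isKN_Fix.2 e).cz_iff.2 (cz_CS hS hE))
  refine ⟨?_, fun hp => (cIn_le_sup_CS hS hE hp).trans (sup_le le_rfl h)⟩
  obtain ⟨N, hN⟩ := exists_isKN_Fix F i.le
  have a := (commutator_le_foc.trans (hN.cz.foc_le hS hE)).trans h
  have b : T ≤ Subgroup.normalizer ((cIn S T : Subgroup Ω) : Set Ω) :=
    fun t ht => nIn_le_norm_cIn (le_nIn i.le ht)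
  refine Subgroup.commutator_le.2 fun x c y d => ?_
  obtain ⟨t, e, u, g, rfl⟩ := mem_sup_of_le_normalizer b c
  obtain ⟨s, k, v, l, rfl⟩ := mem_sup_of_le_normalizer b d
  have m := mul_mem (mul_mem e (mul_mem (conj_mem_of_mem_normalizer (cIn_le_norm g) k)
    (a (Subgroup.commutator_mem_commutator g l))))
    (mul_mem (conj_mem_of_mem_normalizer (cIn_le_norm l) (inv_mem e)) (inv_mem k))
  simpa [commutatorElement_def, mul_assoc] using m

end Cfsg.Agent.S5200
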