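import Cfsg.Statements.S5215
import Cfsg.Agent.H3.TF5

set_option autoImplicit false
open Cfsg

namespace Cfsg.Agent.S5215

/-- Let S be a finite 2-group of 2-rank 2 (an elementary abelian subgroup of order 4, none of order 8) and F a simple saturated fusion system over S. Then S is dihedral, semidihedral or wreathed, and F is the fusion system of the projective special linear group PSL₂(q) for some odd prime power q ≡ ±1 (mod 8) or of PSL₃(q) for some odd prime power q: it is realized by an injective homomorphism of S into that group whose image is a Sylow 2-subgroup. -/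
theorem result {Ω : Type*} [Group Ω] {S : Subgroup Ω} [Finite S] (hS : IsPGroup 2 S) (F : Cfsg.FusionSystem S) (hF : F.IsSaturated 2) (hr : Cfsg.PRankAtLeast 2 2 ↥S ∧ ¬ Cfsg.PRankAtLeast 2 3 ↥S) (hsimple : F.IsSimple 2) : ((∃ m : ℕ, Nonempty (↥S ≃* DihedralGroup m)) ∨ Cfsg.IsQuasiDihedral ↥S ∨ Cfsg.IsWreathed ↥S) ∧ ∃ (K : Type) (_ : Field K) (_ : Fintype K) (q : ℕ), Fintype.card K = q ∧ Odd q ∧ (((q % 8 = 1 ∨ q % 8 = 7) ∧ ∃ ι : ↥S →* Matrix.ProjectiveSpecialLinearGroup (Fin 2) K, F.IsRealizedBy ι ∧ ∃ T : Sylow 2 (Matrix.ProjectiveSpecialLinearGroup (Fin 2) K), (T : Subgroup (Matrix.ProjectiveSpecialLinearGroup (Fin 2) K)) = ι.range) ∨ (∃ ι : ↥S →* Matrix.ProjectiveSpecialLinearGroup (Fin 3) K, F.IsRealizedBy ι ∧ ∃ T : Sylow 2 (Matrix.ProjectiveSpecialLinearGroup (Fin 3) K), (T : Subgroup (Matrix.ProjectiveSpecialLinearGroup (Fin 3) K)) = ι.range)) := by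
  obtain ⟨h1, h2, h3⟩ := H3.simple_facts hS hsimple hr.1
  have h4 := (H3.shape hS hF hr h1).resolve_left h2
  refine ⟨h4.imp_left fun ⟨m, _, h⟩ => ⟨m, h⟩, ?_⟩
  obtain ⟨f, E, h5⟩ := H3.exists_top F
  have e := (Subgroup.topEquiv (G := S))
  obtain ⟨p, _, h6, h7⟩ := H3.full_real (h5.pgroup hS) (h5.sat hS hF) (by
    rw [h5.hyp_eq, le_antisymm H20.hyp_le h3, h5.surj]) (h4.imp (fun ⟨m, k, ⟨e'⟩⟩ => ⟨m, k, ⟨e.trans e'⟩⟩)
      (Or.imp (H9.isQuasiDihedral_of_equiv e.symm) (H3.isW_of_equiv e.symm)))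
  exact ⟨ZMod p, inferInstance, inferInstance, p, ZMod.card p, h6, h7.imp (fun h => ⟨Or.inl h.1,
    (h.2.of_iso h5).realizedBy⟩) fun h => (h.of_iso h5).realizedBy⟩

end Cfsg.Agent.S5215
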