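import Cfsg.Statements.S5233
import Cfsg.Agent.H3.TV4

set_option autoImplicit false
open Cfsg

namespace Cfsg.Agent.S5233

/-- Let F be a saturated fusion system over a finite p-group S and P a subgroup of S strongly closed in F that is generalized extraspecial (its Frattini subgroup equals its commutator subgroup and has order p) and not isomorphic to E × A with A elementary abelian and E dihedral of order 8 (p = 2) or extraspecial of order p³ and exponent p (p odd). Then P is normal in F. -/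
theorem result {Ω : Type*} [Group Ω] {S : Subgroup Ω} [Finite S] (p : ℕ) [Fact p.Prime] (hS : IsPGroup p S) (F : Cfsg.FusionSystem S) (hF : F.IsSaturated p) (P : Subgroup Ω) (hP : F.StronglyClosed P) (hge : frattini ↥P = commutator ↥P ∧ Nat.card ↥(commutator ↥P) = p) (h2 : p = 2 → ¬ ∃ (A : Type) (_ : CommGroup A), (∀ a : A, a ^ 2 = 1) ∧ Nonempty (↥P ≃* DihedralGroup 4 × A)) (hodd : p ≠ 2 → ¬ ∃ (E : Type) (_ : Group E) (A : Type) (_ : CommGroup A), Cfsg.IsExtraspecial p E ∧ Nat.card E = p ^ 3 ∧ Monoid.exponent E = p ∧ (∀ a : A, a ^ p = 1) ∧ Nonempty (↥P ≃* E × A)) : F.IsNormal P := by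
  open Subgroup H18 H3 in
  have hp : p.Prime := Fact.out
  have := H20.fin_of_le hP.1
  obtain ⟨z, z1, z2⟩ := exists_zpowers_of_card (p := p) (A := ⁅P, P⁆) (by
    rw [← Subgroup.map_subtype_commutator, Subgroup.card_map_of_injective P.subtype_injective, hge.2])
  have hx : ∀ x ∈ P, x ^ p ∈ zpowers z := fun x hx => by
    have k := (piGrp_of_isPGroup hp ((hS.to_le hP.1).to_subgroup ⊤)).pow_mem_phi hp (mem_top (⟨x, hx⟩ : P))
    rw [phi_top, hge.1] at k
    rw [z2, ← Subgroup.map_subtype_commutator]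
    exact ⟨_, k, rfl⟩
  refine (gen_xs hS hF hP z2 z1 hx).resolve_right fun ⟨x, f, U, d, u1, u2, x1, f1, n, c, es⟩ => ?_
  obtain ⟨e⟩ := dp_equiv d
  have hE : zpowers x ⊔ zpowers f ≤ P := le_sup_left.trans d.sup.le
  have := H20.fin_of_le hE
  have := H20.fin_of_le (le_sup_right.trans d.sup.le : U ≤ P)
  let eU : U ≃* Shrink.{0} U := Shrink.mulEquiv.symm
  let iU : CommGroup (Shrink.{0} U) := ⟨fun a b => eU.symm.injective (by
    rw [map_mul, map_mul]; exact Subtype.ext (comm_of_cent u2 (eU.symm a).2 (eU.symm b).2))⟩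
  have hU : ∀ a : Shrink.{0} U, a ^ p = 1 := fun a => eU.symm.injective (by
    rw [map_pow, map_one]; exact Subtype.ext (u1 _ (eU.symm a).2))
  by_cases h : p = 2
  · subst h
    obtain ⟨e1⟩ := dih_of_gen x1 f1 rfl
    have k := Nat.card_congr e1.toEquiv
    rw [c, DihedralGroup.nat_card] at k
    rw [show orderOf (x * f) = 4 by omega] at e1
    exact h2 rfl ⟨_, iU, hU, ⟨e.trans (e1.prodCongr eU)⟩⟩
  let eE : ↥(zpowers x ⊔ zpowers f) ≃* Shrink.{0} ↥(zpowers x ⊔ zpowers f) := Shrink.mulEquiv.symm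
  refine hodd h ⟨_, inferInstance, _, iU, H21.isExtraspecial_of_equiv hp eE es,
    (Nat.card_congr eE.toEquiv).symm.trans c, ?_, hU, ⟨e.trans (eE.prodCongr eU)⟩⟩
  rw [← Monoid.exponent_eq_of_mulEquiv eE]
  have tp : ∀ y ∈ P, H20.TV p P y z := fun y hy =>
    ⟨z1, C_anti hP.1 (der_cent hS hP z2 z1).2, fun s hs => comm_mem_zpowers z2 hs hy⟩
  have k : zpowers x ⊔ zpowers f ≤ om2 hp h tp := sup_le
    (zpowers_le.2 ⟨hE (mem_sup_left (Subgroup.mem_zpowers x)), x1 ▸ pow_orderOf_eq_one x⟩)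
    (zpowers_le.2 ⟨hE (mem_sup_right (Subgroup.mem_zpowers f)), f1 ▸ pow_orderOf_eq_one f⟩)
  exact exponent_eq_of_pow (fun y hy => (k hy).2) fun e => by
    rw [e, card_bot] at c
    exact (Nat.one_lt_pow three_ne_zero hp.one_lt).ne c

end Cfsg.Agent.S5233
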