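import Cfsg.Statements.S5244
import Cfsg.Agent.H3.AI2

set_option autoImplicit false
open Cfsg

namespace Cfsg.Agent.S5244

/-- Let p be an odd prime, S a finite nonabelian p-group with a unique abelian subgroup A of index p, and F a saturated fusion system over S with no nontrivial normal subgroup (O_p(F) = 1) in which A is not F-essential. Then some subgroup Z(S)⟨x⟩ with x ∈ S outside A is F-essential, the centre Z(S) is contained in the commutator subgroup of S, and S has maximal nilpotency class (if S has order pⁿ with n ≥ 3, the term of index n − 2 of its lower central series, counting S itself as the term of index 0, is nontrivial). -/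
theorem result {Ω : Type*} [Group Ω] {S : Subgroup Ω} [Finite S] (p : ℕ) [Fact p.Prime] (hS : IsPGroup p S) (F : Cfsg.FusionSystem S) (hF : F.IsSaturated p) (hp : p ≠ 2) (hna : ¬ IsMulCommutative ↥S) (A : Subgroup Ω) (hA : A ≤ S ∧ IsMulCommutative ↥A ∧ (A.subgroupOf S).index = p) (huniq : ∀ B : Subgroup Ω, B ≤ S → IsMulCommutative ↥B → (B.subgroupOf S).index = p → B = A) (hcore : F.core = ⊥) (hAe : ¬ F.IsEssential p A) : (∃ x ∈ S, x ∉ A ∧ F.IsEssential p ((S ⊓ Subgroup.centralizer (S : Set Ω)) ⊔ Subgroup.zpowers x)) ∧ (S ⊓ Subgroup.centralizer (S : Set Ω)) ≤ (commutator ↥S).map S.subtype ∧ ∀ n : ℕ, Nat.card S = p ^ n → 3 ≤ n → Subgroup.lowerCentralSeries S (n - 2) ≠ ⊥ := by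
  open Subgroup H18 H3 in
  have h : AI p S A := ⟨hS, hA.1, abel_of_comm hA.2.1, hA.2.2, mt abel_iff.1 hna⟩
  obtain ⟨x, hx, hn, hE⟩ := h.exists_ess hF hcore hAe
  have w := h.card_W_of_abel hF hx hn hE
  have z := h.Z_le_der hF hp hcore hAe
  rw [Subgroup.map_subtype_commutator]
  refine ⟨⟨x, hx, hn, hE⟩, z, fun n h1 h3 e => ?_⟩
  obtain ⟨m, rfl⟩ := Nat.exists_eq_add_of_le' h3
  refine h.lcs_not_le w (m := m) ?_ (le_inf (lcs_le m) (comm_eq_bot_iff.1 e))
  have k := card_mul_relIndex' (inf_le_left : Z(S) ≤ S)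
  rw [inf_of_le_left z] at w
  rw [w, h1, pow_succ'] at k
  exact Nat.eq_of_mul_eq_mul_left (Fact.out : p.Prime).pos k

end Cfsg.Agent.S5244
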