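import Cfsg.Statements.S5270
import Cfsg.Agent.H20.Ess

set_option autoImplicit false
open Cfsg H20

namespace Cfsg.Agent.S5270

/-- Let p ≥ 5 be a prime, S a finite p-group of maximal class of order p^n with n ≥ 4, and F a saturated fusion system over S. If some map of F defined on the second centre Z₂(S) with image Z₂(S) does not carry Z(S) into itself, then the centralizer C_S(Z₂(S)) is an F-essential subgroup. -/
theorem result {Ω : Type*} [Group Ω] {S : Subgroup Ω} [Finite S] (p : ℕ) [Fact p.Prime] (hS : IsPGroup p ↥S) (n : ℕ) (hn : Nat.card S = p ^ n) (h4 : 4 ≤ n) (hmax : Subgroup.lowerCentralSeries S (n - 2) ≠ ⊥) (F : Cfsg.FusionSystem S) (hF : F.IsSaturated p) (hp : 5 ≤ p) (φ : ↥((Subgroup.upperCentralSeries ↥S 2).map S.subtype) →* Ω) (hφ : φ ∈ F.Hom ((Subgroup.upperCentralSeries ↥S 2).map S.subtype)) (hφZ : φ.range = ((Subgroup.upperCentralSeries ↥S 2).map S.subtype)) (hmove : ∃ (z : Ω) (hz : z ∈ ((Subgroup.upperCentralSeries ↥S 2).map S.subtype)),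 z ∈ ((Subgroup.center ↥S).map S.subtype) ∧ φ ⟨z, hz⟩ ∉ ((Subgroup.center ↥S).map S.subtype)) : F.IsEssential p (S ⊓ Subgroup.centralizer (((Subgroup.upperCentralSeries ↥S 2).map S.subtype) : Set Ω)) := by
  obtain ⟨z, a, ⟨w, b, rfl⟩, c⟩ := hmove
  obtain ⟨σ, d, e⟩ := exists_mor hφ
  refine ess_of_move hS hF (z := w) ?_ d (d.hom.img_eq_iff.1 ((Mor.range_eq d.hom e).symm.trans hφZ))
    (mem_cIn.2 ⟨w.2, fun x g => congrArg Subtype.val (Subgroup.mem_center_iff.1 b ⟨x, g⟩)⟩) fun g => c ?_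
  · rw [H18.zTwo, Subgroup.card_map_of_injective S.subtype_injective]
    exact card_ucs_two ⟨Fact.out, by rw [Subgroup.card_top, hn], by omega, fun g => hmax (by
      rw [← Subgroup.top_subtype_lowerCentralSeries, show n - 2 = n - 1 - 1 by omega]
      exact (congrArg _ g).trans (Subgroup.map_bot _))⟩ h4
  rw [e]
  exact ⟨⟨_, g.1⟩, Subgroup.mem_center_iff.2 fun x => Subtype.ext (g.2 x x.2), rfl⟩

end Cfsg.Agent.S5270
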