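import Cfsg.Statements.S5278
import Cfsg.Agent.H27.TorF

set_option autoImplicit false
open Cfsg

namespace Cfsg.Agent.S5278

open H20 H27 Subgroup

/-- Let p be an odd prime, F a saturated fusion system over a finite p-group S, and T a subgroup of Z(S) such that the normalizer fusion system of J(S) in F is contained in the normalizer fusion system of T, J(S) being the subgroup generated by the abelian subgroups of S of largest order. Then either T is weakly closed in F, or Aut_F(T) has a nontrivial cyclic subgroup X of order prime to p that permutes transitively the non-identity elements of the commutator [T, X] (the subgroup of T generated by the elements ψ(t)·t⁻¹ with ψ in X and t in T). -/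
theorem result {Ω : Type*} [Group Ω] {S : Subgroup Ω} [Finite S] (p : ℕ) [Fact p.Prime] (hS : IsPGroup p ↥S) (F : Cfsg.FusionSystem S) (hF : F.IsSaturated p) (hp : p ≠ 2) (T : Subgroup Ω) (hT : T ≤ S ⊓ Subgroup.centralizer (S : Set Ω)) (hJT : ∀ NJ : Cfsg.FusionSystem (Cfsg.FusionSystem.normalizerIn S (Cfsg.thompsonSubgroupAOf S)), F.IsNormalizerSystem (Cfsg.thompsonSubgroupAOf S) NJ → ∀ NT : Cfsg.FusionSystem (Cfsg.FusionSystem.normalizerIn S T), F.IsNormalizerSystem T NT → NJ.IsSubsystemOf NT) : F.WeaklyClosed T ∨ ∃ X : Subgroup (MulAut ↥T), X ≤ F.autGroup T ∧ X ≠ ⊥ ∧ IsCyclic ↥X ∧ (Nat.card ↥X).Coprime p ∧ ∀ a b : ↥T, a ∈ Subgroup.closure {y : ↥T | ∃ ψ ∈ X, ∃ t : ↥T, y = ψ t * t⁻¹} → b ∈ Subgroup.closure {y : ↥T | ∃ ψ ∈ X, ∃ t : ↥T, y = ψ t * t⁻¹} → a ≠ 1 → b ≠ 1 → ∃ ψ ∈ X, ψ a = b := by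
  obtain ⟨NJ, h1⟩ := exists_isKN_Stab F ((H4.thompsonSubgroupAOf_eq S).le.trans (H4.thompsonOf_le 0 S))
  obtain ⟨NT, h2⟩ := exists_isKN_Stab F (hT.trans inf_le_left)
  have h3 := loc_of_kn h1 (sub_of_isSub (hJT NJ (isKN_Stab.1 h1) NT (isKN_Stab.1 h2)))
  rw [H4.thompsonSubgroupAOf_eq] at h3
  refine (sc_or_hasX hp hS hF hT h2 h3).imp sc_wc fun ⟨α, h4, h5, h6, h7⟩ => ?_
  obtain ⟨a, rfl⟩ := mem_range_ext.2 ⟨AutF_hom h4, AutF_le_Supp h4⟩
  have := fin_of_le (hT.trans inf_le_left)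
  have c : ∀ x y : T, x * y = y * x := fun x y => Subtype.ext ((hT y.2).2 x (hT x.2).1)
  let _ : CommGroup T := { (inferInstance : Group T) with mul_comm := c }
  have h8 : closure {y : T | ∃ ψ ∈ zpowers a, ∃ t : T, y = ψ t * t⁻¹} ≤ (a.toMonoidHom / MonoidHom.id T).range := by
    rw [closure_le]
    rintro _ ⟨ψ, hψ, t, rfl⟩
    obtain ⟨n, rfl⟩ := mem_powers_iff_mem_zpowers.2 hψ
    clear hψ
    induction n with
    | zero => exact ⟨1, by simp⟩
    | succ n ih =>
      have := mul_mem (⟨(a ^ n) t, rfl⟩ : _ ∈ (a.toMonoidHom / MonoidHom.id T).range) ih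
      simpa [pow_succ', div_eq_mul_inv, mul_assoc] using this
  refine ⟨zpowers a, zpowers_le.2 (ext_mem_AutF.1 h4), fun e => h5 (by rw [zpowers_eq_bot.1 e, map_one]),
    inferInstance, ?_, fun x y hx hy h9 h10 => ?_⟩
  · rwa [Nat.card_zpowers, ← orderOf_injective _ ext_injective a]
  obtain ⟨u, rfl⟩ := h8 hx
  obtain ⟨v, rfl⟩ := h8 hy
  have e : ∀ u : T, (((a.toMonoidHom / MonoidHom.id T) u : T) : Ω) = ext T a u * (u : Ω)⁻¹ := fun u => by
    rw [ext_apply_coe]; simp [div_eq_mul_inv]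
  obtain ⟨k, hk⟩ := h7 u u.2 v v.2 (fun h => h9 (Subtype.ext (by rw [e, h, mul_inv_cancel]; rfl)))
    fun h => h10 (Subtype.ext (by rw [e, h, mul_inv_cancel]; rfl))
  refine ⟨a ^ k, pow_mem (mem_zpowers a) k, Subtype.ext ?_⟩
  rw [← ext_apply_coe, map_pow, e, e, hk]

end Cfsg.Agent.S5278
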