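import Cfsg.Statements.S5287
import Cfsg.Agent.H3.TF5

set_option autoImplicit false
open Cfsg

namespace Cfsg.Agent.S5287

/-- Let S be a finite metacyclic p-group (an extension of a cyclic group by a cyclic group). Every saturated fusion system over S is supersoluble (S has a chain of F-strongly closed subgroups from 1 to S with cyclic steps) if and only if S is not homocyclic of rank two (isomorphic to Z/p^n × Z/p^n with n ≥ 1) and, when p = 2, S is not dihedral of order at least 4, not quasi-dihedral (semidihedral) and not generalized quaternion of order at least 8. -/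
theorem result {Ω : Type*} [Group Ω] {S : Subgroup Ω} [Finite S] (p : ℕ) [Fact p.Prime] (hS : IsPGroup p ↥S) (hm : Cfsg.IsMetacyclic ↥S) : (∀ F : Cfsg.FusionSystem S, F.IsSaturated p → (∃ (m : ℕ) (c : Fin (m + 1) → Subgroup Ω), c 0 = ⊥ ∧ c (Fin.last m) = S ∧ (∀ i : Fin (m + 1), F.StronglyClosed (c i)) ∧ ∀ i : Fin m, c i.castSucc ≤ c i.succ ∧ ∃ x ∈ S, c i.succ = c i.castSucc ⊔ Subgroup.zpowers x)) ↔ ¬ ((∃ n : ℕ, 0 < n ∧ Nonempty (↥S ≃* Multiplicative (ZMod (p ^ n)) × Multiplicative (ZMod (p ^ n)))) ∨ (p = 2 ∧ ((∃ n : ℕ, 2 ≤ n ∧ Nonempty (↥S ≃* DihedralGroup n)) ∨ Cfsg.IsQuasiDihedral ↥S ∨ (∃ n : ℕ, 2 ≤ n ∧ Nonempty (↥S ≃* QuaternionGroup n))))) := by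
  have h0 : ∀ n, 0 < n → Nonempty (S ≃* Multiplicative (ZMod (p ^ n)) × Multiplicative (ZMod (p ^ n))) →
      ¬ H3.AP p (MulAut S) := fun n hn ⟨e⟩ => H3.not_ap_of_equiv (H := Unit) Fact.out hn (e.trans MulEquiv.prodUnique.symm)
  refine (H3.ss_iff hS).trans ⟨fun ⟨h1, h2⟩ h => ?_, fun h => ⟨fun F hF => ?_, H3.ap_of_metacyc Fact.out hS hm
    (fun n hn e => h (Or.inl ⟨n, hn, e⟩)) fun e e' => h (Or.inr ⟨e, Or.inr (Or.inr ⟨2, le_rfl, e'⟩)⟩)⟩⟩
  · rcases h with ⟨n, hn, e⟩ | ⟨rfl, h⟩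
    · exact h0 n hn e h2
    have h3 : ¬ ∃ k x, H9.MC S k x := fun ⟨k, x, h⟩ =>
      let ⟨F, hF, e⟩ := H3.exists_noninner h
      e (H3.inner_of_aut hS hF (h1 F hF) h2.pgroup)
    rcases h with ⟨n, hn, ⟨e⟩⟩ | h | ⟨n, hn, ⟨e⟩⟩
    · rcases H3.dih_cases hS e with rfl | rfl | ⟨-, k, x, h, -⟩
      exacts [by omega, h0 1 one_pos ⟨e.trans ((IsKleinFour.nonempty_mulEquiv (G₂ := Multiplicative
        (ZMod 2 × ZMod 2))).some.trans (MulEquiv.prodMultiplicative _ _))⟩ h2, h3 ⟨k, x, h⟩]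
    · exact let ⟨k, x, h, _⟩ := H9.exists_mc_of_isQuasiDihedral_top h; h3 ⟨k, x, h.of_top⟩
    · exact h3 (H3.quat_mc hS hn e)
  · by_cases h2 : p = 2
    · subst h2
      exact H3.normal_of_metacyc_two hS hF (H20.sc_top F) hm (fun m k e => h (Or.inr ⟨rfl, Or.inl ⟨m, k, e⟩⟩))
        (fun m k e => h (Or.inr ⟨rfl, Or.inr (Or.inr ⟨m, k, e⟩)⟩)) fun e => h (Or.inr ⟨rfl, Or.inr (Or.inl e)⟩)
    · exact H3.normal_of_metacyc hS hF (H20.sc_top F) h2 hm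

end Cfsg.Agent.S5287
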