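import Cfsg.Statements.S5292
import Cfsg.Agent.H20.NMod

set_option autoImplicit false
universe u
open Cfsg H20

namespace Cfsg.Agent.S5292

/-- Let F be a saturated fusion system over a finite p-group S. Then F is the fusion system of some finite p-solvable group on a Sylow p-subgroup if and only if F is constrained (some subgroup normal in F is centric in F) and the group of automorphisms that F induces on its largest normal subgroup O_p(F) is p-solvable. -/
theorem result {Ω : Type u} [Group Ω] {S : Subgroup Ω} [Finite S] (p : ℕ) [Fact p.Prime] (hS : IsPGroup p S)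
    (F : Cfsg.FusionSystem S) (hF : F.IsSaturated p) :
    (∃ (G : Type u) (_ : Group G) (_ : Finite G) (ι : S →* G), Cfsg.IsPSolvable p G ∧ F.IsRealizedBy ι ∧
        ∃ T : Sylow p G, (T : Subgroup G) = ι.range) ↔
      (F.IsConstrained p ∧ Cfsg.IsPSolvable p ↥(F.autGroup F.core)) := by
  refine ⟨fun ⟨G, _, _, ι, a, b, T, c⟩ => ?_, fun ⟨a, b⟩ => ?_⟩
  · obtain ⟨f, -, e⟩ := exists_fun_of_hom ι
    have d := (realized_iff e).1 b
    have g := syl_top T
    rw [c] at g
    rw [groupFS_eq] at d
    simp only [range_eq_img e] at g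
    obtain ⟨k, m, l⟩ := exists_mdl_of_psolv g (by convert d <;> exact (range_eq_img e).symm) a
    exact ⟨m.constrained, ps_AutF_iff.2 (m.ps_iff.1 (ps_of_psolv l))⟩
  obtain ⟨G, _, _, f, m⟩ := exists_model hS a
  obtain ⟨-, c, d, -⟩ := (model_iff (ι := m.iso.hom.toHom) fun _ => rfl).2 m
  exact ⟨G, _, inferInstance, _, psolv_iff.2 (m.ps_iff.2 (ps_AutF_iff.1 b)), c, d⟩

end Cfsg.Agent.S5292
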