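import Cfsg.Statements.S5299
import Cfsg.Agent.H20.Misc

set_option autoImplicit false
universe u
open Cfsg H20

namespace Cfsg.Agent.S5299

/-- Let F be a saturated fusion system over a finite p-group S, H a finite group and Q a p-subgroup of H. If Q is not involved in S (no section of S is isomorphic to Q), then F is H-free: H is involved in no model of the normalizer system of a fully normalized centric subgroup. -/
theorem result {Ω : Type u} [Group Ω] {S : Subgroup Ω} [Finite S] (p : ℕ) [Fact p.Prime] (hS : IsPGroup p S)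
    (F : Cfsg.FusionSystem S) (hF : F.IsSaturated p) (H : Type*) [Group H] [Finite H] (Q : Subgroup H) (hQ : IsPGroup p Q)
    (hfree : ¬ Cfsg.Involves (↥Q) (↥S)) : F.IsSectionFree p H := by
  rintro R - - N - L _ ι ⟨_, ⟨a, -⟩, ⟨T, b⟩, -⟩ c
  have d := sec_sylow T hQ ((H4.involves_iff.1 c).trans (H4.sec_top_iff.2 ⟨Q, le_rfl, .id _, fun x => ⟨x, rfl⟩⟩ |>
    fun h => H4.sec_top_iff.1 h |>.mono le_top))
  rw [b, MonoidHom.range_eq_map, H4.sec_map_iff a, H4.sec_top_iff] at d
  exact hfree (H4.involves_subgroup_iff.2 (d.mono nIn_le))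

end Cfsg.Agent.S5299
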