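import Cfsg.Statements.S5316
import Cfsg.Agent.H3.Mcf3
import Cfsg.Agent.H3.FS3
import Cfsg.Agent.H3.FS5
import Cfsg.Agent.H3.TV3

set_option autoImplicit false
open Cfsg

namespace Cfsg.Agent.S5316

/-- Let p ≥ 5 be a prime, S a finite p-group of maximal class of order p^n with n ≥ 5 (nilpotency class n − 1), F a saturated fusion system over S, and E an F-essential subgroup that is not a pearl (not elementary abelian of order p² and not extraspecial of order p³ and exponent p). Then E has order at least p⁴. -/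
theorem result {Ω : Type*} [Group Ω] {S : Subgroup Ω} [Finite S] (p : ℕ) [Fact p.Prime] (hp : 5 ≤ p) (hS : IsPGroup p ↥S) (n : ℕ) (hn : Nat.card S = p ^ n) (h5 : 5 ≤ n)
    (hmax : Subgroup.lowerCentralSeries S (n - 2) ≠ ⊥) (F : Cfsg.FusionSystem S) (hF : F.IsSaturated p)
    (E : Subgroup Ω) (hE : F.IsEssential p E)
    (hnp : ¬ ((Nat.card ↥E = p ^ 2 ∧ Cfsg.IsElementaryAbelian p E) ∨ (Nat.card ↥E = p ^ 3 ∧ Cfsg.IsExtraspecial p ↥E ∧ Monoid.exponent ↥E = p))) :
    p ^ 4 ≤ Nat.card ↥E := by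
  have pp : p.Prime := Fact.out
  by_contra! k
  have le := hE.1.1
  have : Finite E := Finite.of_injective _ (Subgroup.inclusion_injective le)
  obtain ⟨j, hj⟩ := IsPGroup.iff_card.1 (hS.to_le le)
  rw [hj, Nat.pow_lt_pow_iff_right pp.one_lt] at k
  have c1 : ¬ j ≤ 1 := fun l => by
    obtain ⟨G, _, _, f, M, m, h⟩ := H3.exists_le hS hF hE
    have := h.nml
    exact H3.mv_not_cyc pp h.pi h.syl.pi h.not_tr (isCyclic_of_card_dvd_prime (p := p) (by
      rw [m.card m.le', hj]; simpa using pow_dvd_pow p l))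
  obtain rfl | rfl : j = 2 ∨ j = 3 := by omega
  · exact hnp (Or.inl ⟨hj, (H3.ess_sq hS hF hE hj).1⟩)
  rcases H3.ess_cube hS hF hE hj with h | h | h
  · obtain ⟨f, hf, e, -⟩ := H3.exists_inj (T := (⊤ : Subgroup S)) Subgroup.topEquiv.symm
    obtain ⟨F', i⟩ := H20.exists_iso F hf e
    obtain ⟨m, rfl⟩ := Nat.exists_eq_add_of_le' h5
    refine H3.Mcf.no_cube (m := m) ⟨pp, Subgroup.card_top.trans hn, by omega, fun l => hmax ?_⟩ (by omega)
      (i.sat hS hF) (H3.Mcf.iso_ess hS hF i hE) (H3.elem_of_equiv (hf.mono le).equiv.symm (H18.elem_iff.2 h))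
      ((hf.card_img le).trans hj)
    rw [← Subgroup.top_subtype_lowerCentralSeries, Subgroup.map_eq_bot_iff_of_injective _ S.subtype_injective]
    exact l
  · exact hnp (Or.inr ⟨hj, h.2.1, H3.exponent_eq_of_pow h.2.2 fun l => by
      rw [l, Subgroup.card_bot] at hj; exact (Nat.one_lt_pow (by omega) pp.one_lt).ne hj⟩)
  · omega

end Cfsg.Agent.S5316
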