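import Cfsg.Statements.S5330
import Cfsg.Agent.H20.Misc

set_option autoImplicit false
open Cfsg H20

namespace Cfsg.Agent.S5330

/-- Let F be a saturated fusion system over a finite abelian p-group S. Then S is the internal direct product of the centre of the system and the focal subgroup: Z(F) ∩ foc(F) = 1 and Z(F)·foc(F) = S. -/
theorem result {Ω : Type*} [Group Ω] {S : Subgroup Ω} [Finite S] (p : ℕ) [Fact p.Prime] (hS : IsPGroup p S) (F : Cfsg.FusionSystem S) (hF : F.IsSaturated p) (hab : ∀ x ∈ S, ∀ y ∈ S, x * y = y * x) : F.center ⊓ F.focalSubgroup = ⊥ ∧ F.center ⊔ F.focalSubgroup = S := by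
  have a := normal_top_of_comm hS hF hab
  obtain ⟨K, -, b, -, c⟩ := exists_center_compl hS hF a hab cIn_le
  refine ⟨le_bot_iff.1 ((inf_comm _ _).le.trans ((foc_inf_center hS hF).trans (Subgroup.commutator_le.2
    fun x d y e => by simpa [commutatorElement_eq_one_iff_mul_comm] using hab x d y e))),
    le_antisymm (sup_le (center_le.trans cIn_le) foc_le) fun x d => ?_⟩
  exact sup_le_sup_left b _ (c.ge (mem_cIn.2 ⟨d, fun y e => hab y e x d⟩))

end Cfsg.Agent.S5330
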