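import Cfsg.Statements.S5343
import Cfsg.Agent.H20.Solv

set_option autoImplicit false
universe u
open Cfsg H20

namespace Cfsg.Agent.S5343

/-- Let F be a simple saturated fusion system over a finite p-group S that is realized by some finite group on a Sylow p-subgroup. Then F is realized by a finite simple group on a Sylow p-subgroup. -/
theorem result {Ω : Type u} [Group Ω] {S : Subgroup Ω} [Finite S] (p : ℕ) [Fact p.Prime] (hS : IsPGroup p S) (F : Cfsg.FusionSystem S) (hsimple : F.IsSimple p) (hreal : F.IsRealizable p) : ∃ (G : Type u) (_ : Group G) (_ : Finite G) (_ : IsSimpleGroup G) (ι : ↥S →* G), F.IsRealizedBy ι ∧ ∃ T : Sylow p G, (T : Subgroup G) = ι.range := by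
  obtain ⟨G, _, _, ι, h1, T, hT⟩ := hreal
  obtain ⟨f, hf, e⟩ := exists_fun_of_hom ι
  have h2 := (realized_iff e).1 h1
  have e1 := range_eq_img e
  rw [groupFS_eq] at h2
  obtain ⟨G', _, _, _, g, h3, h4⟩ := exists_simple_real hsimple _ G f (by
    rw [← e1, ← hT]; exact syl_top T) (by convert h2 <;> exact e1.symm) rfl
  have e2 := range_eq_img (α := h4.hom.toHom) (f := g) fun _ => rfl
  refine ⟨G', _, ‹_›, ‹_›, h4.hom.toHom, (realized_iff fun _ => rfl).2 ?_, ?_⟩
  · rw [groupFS_eq]; convert h4
  · rw [e2]; exact h3.exists_sylow_top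

end Cfsg.Agent.S5343
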