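import Cfsg.Statements.S5403
import Cfsg.Agent.H28.CsD
import Cfsg.Agent.S1720
import Cfsg.Agent.S1620
import Cfsg.Agent.S0300

set_option autoImplicit false
open Cfsg

namespace Cfsg.Agent.S5403
open H28
section
open H28.Cz H14 H18 H11 Subgroup

theorem simple1 : IsSimpleGroup (commutator (Sm 1).Isom) := by
  refine simple_of (ndm 1) (no4m 1 (by norm_num)) (by rw [finrank_minus_fun]; omega) ?_
  have := Fintype.ofFinite (GaloisField 2 2)
  have hF : Nat.card (GaloisField 2 2) = 4 := GaloisField.card 2 2 (by norm_num)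
  obtain ⟨e⟩ := Agent.S0300.result (F := ZMod 2) (K := GaloisField 2 2) (q := 2) (by simp)
    (by rw [← Nat.card_eq_fintype_card, hF]; norm_num) 1 1 aniso_two
  haveI := Matrix.ProjectiveSpecialLinearGroup.rank_two_simple (F := GaloisField 2 2) hF.ge
  exact ((pomegaEquiv (qMinus 1 (ZMod 2) 1 1)).symm.trans e).isSimpleGroup

theorem main : ∃ a : Co0, orderOf a = 5 ∧ IsSimpleGroup (SA a) ∧ ∃ (z : SA a) (Q : Subgroup C1(z))
    (_ : Q.Normal), IsExtraspecialCentralizerSetting z Q 2 ∧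
      Nonempty (C1(z) ⧸ Q ≃* Omega (ZMod 2) (quadFormMinus 1 (ZMod 2) 1 1)) := by
  obtain ⟨π, σ, φ, a, D, o, he, g, hg, H⟩ := exists5
  haveI := simple1
  have h4 := no4m 1 (by norm_num)
  have h3 : 3 ≤ Module.finrank (ZMod 2) (Vm 1) := by rw [finrank_minus_fun]; omega
  obtain ⟨Q, hQ, h1, h2, ⟨e⟩⟩ := D.main h4 (w := 2) (by norm_num) (by simp)
    (fun N _ h => eq_bot_of_simple card_m1 (by norm_num) Nat.prime_three (by norm_num) (by norm_num) N h)
    hg (H.1 ▸ ε1_mem) (H.1 ▸ D.fr.ne)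
  have e' := e.trans (omegaEquiv (qMinus 1 (ZMod 2) 1 1)).symm
  refine ⟨a, o, ?_, _, Q, hQ, h1, ⟨e'⟩⟩
  by_cases hcl : ∃ x y : SA a, orderOf x = 2 ∧ orderOf y = 2 ∧ ¬ IsConj x y
  · obtain ⟨f⟩ := Agent.S1720.result _ h1.1 Q h1.2.1 h1.2.2.1 h1.2.2.2.1 e' h1.2.2.2.2 hcl
    haveI := Agent.S1620.result.1
    exact f.isSimpleGroup
  push Not at hcl
  obtain ⟨y, ⟨h5, -⟩, h6⟩ := h1.2.2.2.2
  obtain ⟨_, _, _, _, _, _, t, _, _, J⟩ := (H25.xs_of h1.1 Q h1.2.2.1 h1.2.2.2.1
    (h1.2.1 ▸ Agent.S1265.result) ((Nat.card_congr e'.toEquiv).trans H25.card_omega4)).exists_J1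
      (isConj_iff.2 ⟨y, rfl⟩) h5 h6
  refine D.simple le_rfl h4 h3 h1 h2 e (by rw [card_m1]; norm_num) ⟨t, J.rt.gen_mem 7,
    hcl _ _ h1.1 (orderOf_eq_prime (by rw [sq]; exact J.toJP.rH.2.2.1) J.toJP.nes.2.2.2.2.2.2.1), ?_⟩
  rintro ⟨r, hr, rfl⟩
  obtain ⟨v, hv⟩ := D.of_R hr
  obtain ⟨u, h7, h8⟩ := exists_perp D.n1 h3 v
  obtain ⟨k, hk, h9⟩ := D.exists_R u
  rw [← D.os.isom1.h_eq, hv, ← h9, ← D.fr.comm _ hr _ hk] at h8
  have := J.toJP.ct2 (D.range_α.le ⟨k, rfl⟩) (by
    rw [← map_mul, ← map_mul]; exact congrArg _ (Subtype.ext (Subtype.ext h8.symm)))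
  rw [← map_mul] at this
  exact h7 (by
    rw [← D.os.isom1.orth_q, ← h9]
    exact (D.fr.sq _ hk).1 (D.W_K (α_one.1 this) (K.mul_mem hk hk)))

end


/-- A simple section of the automorphism group of the Leech lattice satisfying the Hall–Janko-type hypothesis (the group so obtained is the Hall–Janko group; that identification is not part of this statement): there is a subgroup A of order 5 of that automorphism group such that the centralizer of A modulo the subgroup generated by A and the centre of the automorphism group is a non-abelian simple group satisfying the large extraspecial hypothesis of minus type in dimension 4 — an involution whose centralizer has extraspecial generalized Fitting subgroup of order 32 with quotient the commutator subgroup of the isometry group of the elliptic quadratic form in dimension 4 over the field with two elements (the alternating group of degree 5), the involution not weakly closed in that extraspecial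 group. -/
theorem result : ∃ A : Subgroup ↥Cfsg.Co0, Nat.card A = 5 ∧ ∃ (hn : ((A ⊔ Subgroup.center ↥Cfsg.Co0).subgroupOf (Subgroup.centralizer (A : Set ↥Cfsg.Co0))).Normal), ∃ (S : Type) (_ : Group S) (_ : Finite S), Nonempty (S ≃* ↥(Subgroup.centralizer (A : Set ↥Cfsg.Co0)) ⧸ (A ⊔ Subgroup.center ↥Cfsg.Co0).subgroupOf (Subgroup.centralizer (A : Set ↥Cfsg.Co0))) ∧ IsSimpleGroup S ∧ ¬ IsMulCommutative S ∧ ∃ z : S, orderOf z = 2 ∧ ∃ (Q : Subgroup (Subgroup.centralizer ({z} : Set S))) (_ : Q.Normal), Cfsg.generalizedFittingSubgroup (Subgroup.centralizer ({z} : Set S)) = Q ∧ Cfsg.IsExtraspecial 2 Q ∧ Nat.card Q = 2 ^ 5 ∧ Nonempty ((Subgroup.centralizer ({z} : Set S)) ⧸ Q ≃* Cfsg.Omega (ZMod 2) (Cfsg.quadFormMinus 1 (ZMod 2) 1 1)) ∧ ∃ g : S, (∃ hq : g * z * g⁻¹ ∈ Subgroup.centralizer ({z} : Set S), (⟨g * z * g⁻¹, hq⟩ : Subgroup.centralizer ({z} : Set S)) ∈ Q) ∧ g * z * g⁻¹ ≠ z := by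
  obtain ⟨a, o, hs, z, Q, hQ, ⟨h1, h2, h3, h4, g, h5, h6⟩, e⟩ := main
  refine ⟨_, (Nat.card_zpowers a).trans o, H28.Cz.WA_normal a, _, _, inferInstance, ⟨MulEquiv.refl _⟩, hs,
    fun hc => h6 ?_, z, h1, Q, hQ, h2, h3, h4, e, g, h5, h6⟩
  rw [hc.is_comm.comm g, mul_inv_cancel_right]

end Cfsg.Agent.S5403
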