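import Cfsg.Statements.S5462
import Cfsg.Agent.L.B2F


set_option autoImplicit false
set_option linter.unusedVariables false
open Cfsg

namespace Cfsg.Agent.S5462

/-- Let G be a finite group with trivial centre generated by a conjugation-invariant set D of 3-transpositions on which it acts primitively, such that for some d in D the subgroup generated by the members of D other than d commuting with d has central largest normal 2- and 3-subgroups, and suppose G with D is of type M(22). Then every automorphism of G of order 2 fixes some member of D. -/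
theorem result {G : Type*} [Group G] [Finite G] {D : Set G} (hD : Cfsg.IsThreeTranspositionGroup D) (hprim : Cfsg.IsPrimitiveUnderConj D) (d₀ : G) (hd₀ : d₀ ∈ D) (h3 : Cfsg.pCore 3 ↥(Subgroup.closure {y : G | y ∈ D ∧ y ≠ d₀ ∧ Commute d₀ y}) ≤ Subgroup.center ↥(Subgroup.closure {y : G | y ∈ D ∧ y ≠ d₀ ∧ Commute d₀ y})) (h2 : Cfsg.pCore 2 ↥(Subgroup.closure {y : G | y ∈ D ∧ y ≠ d₀ ∧ Commute d₀ y}) ≤ Subgroup.center ↥(Subgroup.closure {y : G | y ∈ D ∧ y ≠ d₀ ∧ Commute d₀ y})) (h22 : Cfsg.IsOfTypeM22 G D) (φ : MulAut G) (hφ : orderOf φ = 2) : ∃ d ∈ D, φ d = d := by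
  obtain ⟨Ω, _, M, hN, rfl⟩ := L.br22 hD h22
  obtain ⟨Ω, _, A, h⟩ := L.ex2F M hN (L.out22 hD h22)
  obtain ⟨w, hw, e⟩ := (L.V2Fx2.cover A h.card φ (hφ ▸ pow_orderOf_eq_one φ)).resolve_left fun e => by
    rw [e, orderOf_one] at hφ; omega
  obtain ⟨g, rfl⟩ := isConj_iff.1 e
  obtain ⟨b, hb, e⟩ := L.Z2F.fxp w hw
  have f := L.K2F.fi A h.card
  obtain ⟨d, hd, e2⟩ := h.cls (f.tp_mem (g • A.dec b))
  have c := (f.comm_tp (g * H14.ev A.gen w * g⁻¹) (g • A.dec b)).2 (by
    rw [mul_smul, inv_smul_smul, mul_smul, L.evK_dec (F := L.K2FT.F) A w hb, e])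
  generalize g * H14.ev A.gen w * g⁻¹ = φ at c
  exact ⟨d, hd, h.inj (Eq.trans (MulEquiv.ext fun x => by simp) (mul_inv_eq_iff_eq_mul.2 (e2 ▸ c)))⟩

end Cfsg.Agent.S5462
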