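import Cfsg.Statements.S5465
import Cfsg.Agent.L.B24c
import Cfsg.Agent.L.Z24b
import Cfsg.Agent.L.KL
import Cfsg.Agent.L.PF22


set_option autoImplicit false
set_option linter.unusedVariables false
open Cfsg

namespace Cfsg.Agent.S5465

/-- Let G be a finite group with trivial centre generated by a conjugation-invariant set D of 3-transpositions on which it acts primitively, such that for some d in D the subgroup generated by the members of D other than d commuting with d has central largest normal 2- and 3-subgroups, and suppose G with D is of type M(24), and let L be the commutator subgroup of G. Let d₁, d₂ be distinct commuting members of D and j = d₁ d₂. Then K, the joint centralizer of d₁ and d₂ in L, is quasisimple, is the generalized Fitting subgroup of the centralizer of j in L, has index 2 in it and contains j, and the centralizer of j in L modulo the subgroup generated by j is isomorphic to the full automorphism group of the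 Fischer group Fi₂₂ (as presented). -/
theorem result {G : Type*} [Group G] [Finite G] {D : Set G} (hD : Cfsg.IsThreeTranspositionGroup D) (hprim : Cfsg.IsPrimitiveUnderConj D) (d₀ : G) (hd₀ : d₀ ∈ D) (h3 : Cfsg.pCore 3 ↥(Subgroup.closure {y : G | y ∈ D ∧ y ≠ d₀ ∧ Commute d₀ y}) ≤ Subgroup.center ↥(Subgroup.closure {y : G | y ∈ D ∧ y ≠ d₀ ∧ Commute d₀ y})) (h2 : Cfsg.pCore 2 ↥(Subgroup.closure {y : G | y ∈ D ∧ y ≠ d₀ ∧ Commute d₀ y}) ≤ Subgroup.center ↥(Subgroup.closure {y : G | y ∈ D ∧ y ≠ d₀ ∧ Commute d₀ y})) (h24 : Cfsg.IsOfTypeM24 G D) (L : Subgroup G) (hL : L = commutator G) (d₁ d₂ : G) (h₁ : d₁ ∈ D) (h₂ : d₂ ∈ D) (hne : d₁ ≠ d₂) (hc : Commute d₁ d₂) (K CL : Subgroup G) (hK : K = L ⊓ Subgroup.centralizer ({d₁, d₂} : Set G)) (hCL : CL = L ⊓ Subgroup.centralizer ({d₁ * d₂} : Set G)) [hn : ((Subgroup.zpowers (d₁ * d₂)).subgroupOf CL).Normal] : Cfsg.IsQuasisimple ↥K ∧ K = (Cfsg.generalizedFittingSubgroup ↥CL).map CL.subtype ∧ K ≤ CL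 ∧ (K.subgroupOf CL).index = 2 ∧ d₁ * d₂ ∈ K ∧ Nonempty (↥CL ⧸ (Subgroup.zpowers (d₁ * d₂)).subgroupOf CL ≃* MulAut Cfsg.Spor.Fi22) := by
  subst hL
  obtain ⟨l2, l1⟩ := L.comm24 hD hprim h24
  obtain ⟨Ω, _, M, hN, rfl⟩ := L.br24 hD hprim h24
  have f := L.four_of (hD.1.1 _ h₁) (hD.1.1 _ h₂) hne hc
  have o := L.ord_mul (hD.1.1 _ h₁) (hD.1.1 _ h₂) hne hc
  have hd := l1 _ h₁
  obtain ⟨M, -, rfl, rfl, e⟩ := (L.I24.tr2 M hN).ex2 (L.tup2 h₁ h₂ hne hc)
  have a := L.Z24b.eqC M hN l2 hd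
  have b := L.Z24b.eqK M hN l2 hd
  revert hn
  rw [← L.I24.ts1, ← L.I24.ts2, ← L.I24.e2 M hN] at e
  rw [e] at hCL o ⊢
  rw [← L.cent_single, a.1] at hCL
  rw [← L.cent_pair, ← L.Z24b.vs, b.1] at hK
  rw [← L.sub_pair, ← L.Z24b.vs] at f
  rw [← L.sub_single]
  subst hCL hK
  intro hn
  have uj := L.Z24b.uj M hN
  have jk := L.Z24b.jk M hN
  have vc := Subgroup.le_centralizer_iff.1 (jk.trans (L.Z24b.eqCL M hN))
  have n1 := (Subgroup.normal_subgroupOf_iff_le_normalizer uj).2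
    ((jk.trans (L.Z24b.eqCL M hN)).trans (Subgroup.centralizer_le_normalizer _))
  have i := L.index_of_card (i := 2) jk b.2 a.2
  have n2 := (Subgroup.normal_subgroupOf_iff_le_normalizer jk).1 (Subgroup.normal_of_index_eq_two i)
  have q := (L.Z24b.qs_ M hN L.pres22).iso uj H15.Fi22.card (L.card_single o).le b.2.ge (by norm_num)
  obtain ⟨-, q2, -, q4⟩ := L.qs_of uj vc q L.aut22.1
  have c : Subgroup.centralizer (H14.sub M.gen L.Z24b.js : Set G) ≤ Subgroup.centralizer (H14.sub M.gen L.Z24b.cs : Set G) :=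
    Subgroup.centralizer_le (H14.sub_mono _ fun _ h => List.mem_of_mem_take (L.Z24b.cs_eq ▸ h))
  have c2 := (L.eq_of_cards ((Subgroup.le_centralizer_iff.1 (L.Z24b.eqKL M hN)).trans c) (L.Z24b.cen M hN) f.1.ge).1
  have k : H14.sub M.gen L.Z24b.ks ⊓ Subgroup.centralizer (H14.sub M.gen L.Z24b.js : Set G) ≤ H14.sub M.gen L.Z24b.js :=
    fun x hx => b.1.le ⟨L.Z24b.eqCO M hN l2 hx.1, f.2 (c2.le (c hx.2))⟩
  have s := q4 H15.Fi22.simple (L.Z24b.perf M hN)
  exact ⟨s, (L.gfit_eq_of_qs s jk n2 k).symm, jk, i, uj (H14.ev_mem_sub _ List.mem_cons_self), L.aut_quot uj jk n2 q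
    (fun h h1 h2 => have := L.hc_perf (L.Z24b.perf M hN) vc h2 uj; q2.le ⟨k ⟨h1, this⟩, this⟩)
    (by rw [L.aut22.2, L.card_single o, a.2])⟩

end Cfsg.Agent.S5465
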