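import Cfsg.Statements.S5472
import Cfsg.Agent.L.B2F


set_option autoImplicit false
set_option linter.unusedVariables false
open Cfsg

namespace Cfsg.Agent.S5472

/-- Let G be a finite group with trivial centre generated by a conjugation-invariant set D of 3-transpositions on which it acts primitively, such that for some d in D the subgroup generated by the members of D other than d commuting with d has central largest normal 2- and 3-subgroups, and suppose G with D is of type M(22). Then G has a non-inner automorphism s of order 2 whose fixed-point subgroup is isomorphic to the full automorphism group of Ω⁺(8, 2) (the commutator subgroup of the isometry group of the hyperbolic quadratic form in dimension 8 over the field with two elements), together with distinct commuting members a, b of D fixed by s such that: s, s composed with conjugation by a, and s composed with conjugation by a b represent the three classes (under the automorphism group) of non-inner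 automorphisms of order 2; the elements fixed by the automorphism s composed with conjugation by a are exactly those fixed by s and commuting with a, and they form a group isomorphic to the direct product of a group of order 2 and the symplectic group of dimension 6 over the field with two elements; and the elements fixed by the automorphism s composed with conjugation by a b form a group whose largest normal 2-subgroup is elementary abelian of order 64 with quotient isomorphic to the full isometry group of the elliptic quadratic form in dimension 6 over the field with two elements. -/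
theorem result {G : Type*} [Group G] [Finite G] {D : Set G} (hD : Cfsg.IsThreeTranspositionGroup D) (hprim : Cfsg.IsPrimitiveUnderConj D) (d₀ : G) (hd₀ : d₀ ∈ D) (h3 : Cfsg.pCore 3 ↥(Subgroup.closure {y : G | y ∈ D ∧ y ≠ d₀ ∧ Commute d₀ y}) ≤ Subgroup.center ↥(Subgroup.closure {y : G | y ∈ D ∧ y ≠ d₀ ∧ Commute d₀ y})) (h2 : Cfsg.pCore 2 ↥(Subgroup.closure {y : G | y ∈ D ∧ y ≠ d₀ ∧ Commute d₀ y}) ≤ Subgroup.center ↥(Subgroup.closure {y : G | y ∈ D ∧ y ≠ d₀ ∧ Commute d₀ y})) (h22 : Cfsg.IsOfTypeM22 G D) : ∃ (s : MulAut G) (a b : G) (Cs : Subgroup G), orderOf s = 2 ∧ s ∉ (MulAut.conj : G →* MulAut G).range ∧ (∀ g : G, g ∈ Cs ↔ s g = g) ∧ Nonempty (↥Cs ≃* MulAut (Cfsg.Omega (ZMod 2) (Cfsg.quadFormPlus 4 (ZMod 2)))) ∧ a ∈ D ∧ b ∈ D ∧ a ≠ b ∧ Commute a b ∧ s a = a ∧ s b = b ∧ (∀ t : MulAut G, orderOf t = 2 → t ∉ (MulAut.conj : G →* MulAut G).range → (IsConj t s ∨ IsConj t (s * MulAut.conj a) ∨ IsConj t (s * MulAut.conj (a * b)))) ∧ ¬ IsConj s (s * MulAut.conj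 a) ∧ ¬ IsConj s (s * MulAut.conj (a * b)) ∧ ¬ IsConj (s * MulAut.conj a) (s * MulAut.conj (a * b)) ∧ (∀ g : G, (s * MulAut.conj a) g = g ↔ g ∈ Cs ⊓ Subgroup.centralizer ({a} : Set G)) ∧ Nonempty (↥(Cs ⊓ Subgroup.centralizer ({a} : Set G)) ≃* Multiplicative (ZMod 2) × Cfsg.PSp 3 (ZMod 2)) ∧ ∃ Csab O : Subgroup G, (∀ g : G, g ∈ Csab ↔ (s * MulAut.conj (a * b)) g = g) ∧ O = (Cfsg.pCore 2 ↥Csab).map Csab.subtype ∧ Cfsg.IsElementaryAbelian 2 O ∧ Nat.card O = 64 ∧ ∃ _ : (O.subgroupOf Csab).Normal, Nonempty (↥Csab ⧸ O.subgroupOf Csab ≃* Cfsg.isometryGroup (ZMod 2) (Cfsg.quadFormMinus 2 (ZMod 2) 1 1)) := by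
  obtain ⟨Ω, _, M, hN, rfl⟩ := L.br22 hD h22
  obtain ⟨Ω, _, A, h⟩ := L.ex2F M hN (L.out22 hD h22)
  have hA := h.card
  have e1 : H14.ev A.gen L.Z2F.u1 = H14.ev A.gen L.Z2F.u0 * MulAut.conj (H14.ev M.gen (L.tw L.K22.a0 L.Z22s.ta)) :=
    (L.evA _ _ _).trans (congrArg _ (h.ev (by decide +kernel)))
  have e2 : H14.ev A.gen L.Z2F.u2 = H14.ev A.gen L.Z2F.u0 * MulAut.conj (H14.ev M.gen (L.tw L.K22.a0 L.Z22s.ta) *
      H14.ev M.gen (L.tw L.K22.a0 L.Z22s.tb)) :=
    (L.evA _ _ _).trans (by rw [e1, h.ev (w := L.tw L.K22.a0 L.Z22s.tb) (by decide +kernel), map_mul, mul_assoc])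
  have o := fun g : G => (Subgroup.mul_mem_cancel_right (MulAut.conj : G →* MulAut G).range
    (y := H14.ev A.gen L.Z2F.u0) ⟨g, rfl⟩).not.2 h.out
  have f0 := h.fix h.out (by decide +kernel) (L.Z2F.lo0 A hA) (L.Z2F.up0 A hA) (L.Z22s.low M hN)
  have f1 := h.fix (e1 ▸ o _) (by decide +kernel) (L.Z2F.lo1 A hA) (L.Z2F.up1 A hA) (L.Z22s.jlow M hN)
  have f2 := h.fix (e2 ▸ o _) (by decide +kernel) (L.Z2F.lo2 A hA) (L.Z2F.up2 A hA) (L.Z22s.hlow M hN)
  have m := (H14.sub_le _).1 (L.Z22s.abk M hN)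
  have j : H14.sub M.gen L.Z22s.ks ⊓ Subgroup.centralizer {H14.ev M.gen (L.tw L.K22.a0 L.Z22s.ta)} =
      H14.sub M.gen L.Z22s.js := le_antisymm (fun g hg => (f1.1 g).2 (by
    rw [e1, MulAut.mul_apply, MulAut.conj_apply, ← Subgroup.mem_centralizer_singleton_iff.1 hg.2, mul_inv_cancel_right,
      (f0.1 g).1 hg.1])) (le_inf (L.Z22s.jk M hN) ((L.Z22s.jc M hN).trans (L.cent_single _ _).le))
  obtain ⟨U⟩ := H15.StdS62.std (ZMod.card 2)
  obtain ⟨S⟩ := H15.StdGO6m2.std
  have op := L.Z22s.hop M hN f2.2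
  have nq := (Subgroup.normal_subgroupOf_iff_le_normalizer (L.Z22s.hqle M hN)).2 (L.Z22s.hnq M hN)
  refine ⟨_, _, _, _, L.Z2F.ord A hA, h.out, f0.1, L.iso_o8 M hN, L.tw_mem M _ _, L.tw_mem M _ _, L.Z22s.ne M hN,
    (L.evA _ _ _).symm.trans ((L.Z22s.cm M hN).trans (L.evA _ _ _)), (f0.1 _).1 (m _ (by simp)),
    (f0.1 _).1 (m _ (by simp)), fun t h1 h2 => ?_, ?_⟩
  · rw [← e1, ← e2]
    obtain ⟨w, hw, e⟩ := (L.V2Fx2.cover A hA t (h1 ▸ pow_orderOf_eq_one t)).resolve_left fun e => h2 (e ▸ one_mem _)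
    have n : (∀ a ∈ w, a < 50) → False := fun hw => h2 (by
      obtain ⟨g, rfl⟩ := isConj_iff.1 e
      exact Subgroup.Normal.conj_mem inferInstance _ (MonoidHom.mem_range.2 ⟨_, (h.ev hw).symm⟩) _)
    simp only [L.V2Fx2.reps, List.mem_cons, List.not_mem_nil, or_false] at hw
    rcases hw with rfl | rfl | rfl | rfl | rfl | rfl
    exacts [(n (by decide +kernel)).elim, (n (by decide +kernel)).elim, (n (by decide +kernel)).elim,
      .inl (e.symm.trans (L.Z2F.cj0 A hA)), .inr (.inl (e.symm.trans (L.Z2F.cj1 A hA))),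
      .inr (.inr (e.symm.trans (L.Z2F.cj2 A hA)))]
  · rw [← e1, ← e2, j]
    refine ⟨fun e => (L.Z2F.fc0 A hA).nc (L.Z2F.fc1 A hA) (by decide) (L.cjS_sub e),
      fun e => (L.Z2F.fc0 A hA).nc (L.Z2F.fc2 A hA) (by decide) (L.cjS_sub e),
      fun e => (L.Z2F.fc1 A hA).nc (L.Z2F.fc2 A hA) (by decide) (L.cjS_sub e), fun g => (f1.1 g).symm,
      (L.Z22s.q7 M hN (L.Pres.prod (L.pres_zmod 2) (L.Pres.of fun _ _ => H15.StdS62.hom U) 1)).iso_bot
        (by rw [Nat.card_prod, U.card, Nat.card_congr Multiplicative.toAdd, Nat.card_zmod]) f1.2.ge (by norm_num),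
      _, _, f2.1, op.symm, L.Z22s.hel M hN, L.Z22s.hqc M hN, nq,
      (L.Z22s.hqs_ M hN (L.Pres.of fun _ _ => H15.StdGO6m2.hom S)).iso (L.Z22s.hqle M hN) S.card
        (L.Z22s.hqc M hN).le f2.2.ge S.ne⟩

end Cfsg.Agent.S5472
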