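import Cfsg.Statements.S5473
import Cfsg.Agent.L.B2F
import Cfsg.Agent.H21.LX2
import Cfsg.Agent.L.KL


set_option autoImplicit false
set_option linter.unusedVariables false
open Cfsg

namespace Cfsg.Agent.S5473

/-- Let G be a finite group with trivial centre generated by a conjugation-invariant set D of 3-transpositions on which it acts primitively, such that for some d in D the subgroup generated by the members of D other than d commuting with d has central largest normal 2- and 3-subgroups, and suppose G with D is of type M(22), and let A be the automorphism group of G. Let d₁, d₂ be distinct commuting members of D and j the inner automorphism of their product. Then the generalized Fitting subgroup Q of the centralizer of j in A is a large extraspecial 2-subgroup of A of order 2^11 (extraspecial; centralizer equal to its centre; normal in the centralizer of its centre; normalizing no non-trivial odd-order subgroup), and the centralizer of j modulo Q is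 isomorphic to the full automorphism group of the projective special unitary group of dimension 4 over the field with four elements. -/
theorem result {G : Type*} [Group G] [Finite G] {D : Set G} (hD : Cfsg.IsThreeTranspositionGroup D) (hprim : Cfsg.IsPrimitiveUnderConj D) (d₀ : G) (hd₀ : d₀ ∈ D) (h3 : Cfsg.pCore 3 ↥(Subgroup.closure {y : G | y ∈ D ∧ y ≠ d₀ ∧ Commute d₀ y}) ≤ Subgroup.center ↥(Subgroup.closure {y : G | y ∈ D ∧ y ≠ d₀ ∧ Commute d₀ y})) (h2 : Cfsg.pCore 2 ↥(Subgroup.closure {y : G | y ∈ D ∧ y ≠ d₀ ∧ Commute d₀ y}) ≤ Subgroup.center ↥(Subgroup.closure {y : G | y ∈ D ∧ y ≠ d₀ ∧ Commute d₀ y})) (h22 : Cfsg.IsOfTypeM22 G D) (d₁ d₂ : G) (h₁ : d₁ ∈ D) (h₂ : d₂ ∈ D) (hne : d₁ ≠ d₂) (hc : Commute d₁ d₂) (j : MulAut G) (hj : j = MulAut.conj (d₁ * d₂)) (Q : Subgroup (MulAut G)) (hQ : Q = (Cfsg.generalizedFittingSubgroup ↥(Subgroup.centralizer ({j} : Set (MulAut G)))).map (Subgroup.centralizer ({j} : Set (MulAut G))).subtype) : Cfsg.IsLargeExtraspecial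 Q ∧ Nat.card Q = 2 ^ 11 ∧ Q ≤ Subgroup.centralizer ({j} : Set (MulAut G)) ∧ ∃ (_ : (Q.subgroupOf (Subgroup.centralizer ({j} : Set (MulAut G)))).Normal) (F : Type) (_ : Field F) (_ : Fintype F), Fintype.card F = 4 ∧ Nonempty (↥(Subgroup.centralizer ({j} : Set (MulAut G))) ⧸ Q.subgroupOf (Subgroup.centralizer ({j} : Set (MulAut G))) ≃* MulAut (Cfsg.PSU 4 F 2)) := by
  have o := L.out22 hD h22
  obtain ⟨Ω, _, M, hN, rfl⟩ := L.br22 hD h22
  obtain ⟨M, -, -, -, e⟩ := (L.I22.tr2 M hN).ex2 (x := d₁) (y := d₂) ⟨by simpa using hne, rfl, by simp [h₁, h₂],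
    by simp [hc, hc.symm]⟩
  obtain ⟨Ω, _, A, h⟩ := L.ex2F M hN o
  have hA := h.card
  rw [e.trans (L.I22.e2 M hN).symm, ← h.ev (by decide +kernel)] at hj
  have c := L.Z2F.eqC A hA
  have x1 := L.Z2F.xq A hA
  obtain ⟨-, k2, k3⟩ := L.rowE (L.Z2F.op A hA) (L.Z2F.qc A hA) (L.card_single (L.Z2F.uo A hA)) x1 (L.Z2F.xc A hA)
    (L.Z2F.cen A hA) (L.Z2F.cq A hA)
  rw [L.cent_single] at c
  subst hj
  have l := (H21.lx_of_gfit (L.Z2F.uo A hA) (c.1 ▸ k3) k2).1
  have hx := L.Z2F.zq A hA (H14.ev_mem_sub _ List.mem_cons_self)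
  have ne := L.Z2F.zn A hA
  rw [L.ev_cjW] at hx ne
  have hz := l.symm (by rw [L.Z2F.qc A hA]; norm_num) hx
  have p := l.lw.lp hx ne hz
  rw [c.1] at hQ ⊢
  obtain rfl := hQ.trans k3
  obtain ⟨F, _, _, hF⟩ := L.exF 2 2 two_ne_zero
  obtain ⟨S⟩ := H15.StdU42.std hF
  have mk := L.Z2F.mk A hA
  have qm := L.Z2F.qm A hA
  have q := L.Z2F.mqs_ A hA (L.Pres.of fun _ _ => H15.StdU42.hom S)
  have n1 := (Subgroup.normal_subgroupOf_iff_le_normalizer (L.Z2F.qle A hA)).2 (L.Z2F.nq A hA)
  have n2 := (Subgroup.normal_subgroupOf_iff_le_normalizer qm).2 (mk.trans (L.Z2F.nq A hA))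
  have c2 := le_antisymm (q.card_le qm (mk.trans (L.Z2F.nq A hA)) S.card (L.Z2F.qc A hA).le S.ne) (L.Z2F.mlow A hA)
  have i := q.iso qm S.card (L.Z2F.qc A hA).le c2.ge S.ne
  have ix := L.index_of_card (i := 2) mk c2 c.2
  obtain ⟨-, z, a⟩ := L.psu_two F hF 4 le_rfl S.card S.ne (by norm_num)
  exact ⟨l.isLarge_of_mem hx p.l'.sq p.not_mem (p.l'.le_O2 hz), L.Z2F.qc A hA, L.Z2F.qle A hA, n1, F, _, _, hF,
    L.aut_quot qm mk ((Subgroup.normal_subgroupOf_iff_le_normalizer mk).1 (Subgroup.normal_of_index_eq_two ix)) i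
      (L.hc_two i z (L.Z2F.op A hA) ix mk) (by rw [a, L.Z2F.qc A hA, c.2]; norm_num)⟩

end Cfsg.Agent.S5473
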