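import Cfsg.Statements.S5522
import Cfsg.Agent.H14.M24Use

set_option autoImplicit false
open Cfsg

namespace Cfsg.Agent.S5522

open H14 MulAction
open scoped Pointwise
set_option maxRecDepth 100000

/-- The Mathieu group M₁₁, realised as the stabiliser of one point of the dodecad of squares inside the stabiliser M₁₂ of that dodecad in M₂₄, acts on the twelve coordinate positions outside the dodecad of squares (its 3-transitive action of degree 12); in this action every element of prime order fixes a point, i.e. the action is elusive. -/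
theorem result (g : Equiv.Perm Cfsg.GolayPt) (hg : g ∈ Cfsg.Spor.M11) (hord : (orderOf g).Prime) :
    ∃ x : Cfsg.GolayPt, x ∉ Cfsg.Spor.squareDodecad ∧ g x = x := by
  rw [Spor.M11, Spor.M12, squareDodecad_eq] at hg
  rw [squareDodecad_eq]
  by_contra! h
  have hd : orderOf g ∣ 7920 := card_G11 ▸ (orderOf_mk hg.1.1).symm ▸
    Subgroup.orderOf_dvd_natCard G11 (x := ⟨g, hg.1.1⟩) ⟨hg.1.2, hg.2⟩
  have k1 : ¬ 5 ≤ nfix GolayPt (⟨g, hg.1.1⟩ : M24) := fun h5 => by
    rw [nfix_mk] at h5
    obtain ⟨x, hx⟩ := exists_emb h5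
    have hx' := fun i => (Finset.mem_filter.1 (hx i)).2
    have := dodecad_sharp d0_mem x x.injective (fun i => not_not.1 fun e => h _ e (hx' i)) (g := ⟨g, hg.1.1⟩) hg.1.2 hx'
    rw [show g = 1 from congrArg Subtype.val this, orderOf_one] at hord
    exact Nat.not_prime_one hord
  have k0 : nfix GolayPt (⟨g, hg.1.1⟩ : M24) ≠ 0 := fun e => nfix_eq_zero.1 e _ hg.2
  have k2 : orderOf g ∣ 12 := by
    by_contra e
    have := Fact.mk hord
    let φ : Equiv.Perm {p : GolayPt // p ∉ d0} := g.subtypePerm fun p => not_congr (smul_mem_iff_of_stab hg.1.2 p)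
    obtain ⟨p, hp⟩ := Equiv.Perm.exists_fixed_point_of_prime (p := orderOf g) (n := 1) (σ := φ) (by
      rwa [Fintype.card_subtype_compl, card_golayPt, Fintype.card_coe, d0_mem.2]) (by
      rw [pow_one, Equiv.Perm.subtypePerm_pow]
      exact Equiv.ext fun p => Subtype.ext (by simp [pow_orderOf_eq_one]))
    exact h p.1 p.2 (congrArg Subtype.val hp)
  rcases (Nat.Prime.dvd_mul hord).1 (show orderOf g ∣ 2 ^ 2 * 3 from k2) with e | e
  · have := cls2 ((orderOf_mk hg.1.1).trans ((Nat.prime_dvd_prime_iff_eq hord Nat.prime_two).1 (hord.dvd_of_dvd_pow e)))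
    omega
  · have := cls3 ((orderOf_mk hg.1.1).trans ((Nat.prime_dvd_prime_iff_eq hord Nat.prime_three).1 e))
    omega

end Cfsg.Agent.S5522
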