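import Cfsg.Statements.S5617
import Cfsg.Agent.H14.M24Obj
import Cfsg.Agent.H14.Obj2

set_option autoImplicit false
open scoped Pointwise
open Cfsg

namespace Cfsg.Agent.S5617

open H14 MulAction
set_option maxRecDepth 100000
theorem oDmSx {x} (hx : x ∈ duums) : Orbs (stabilizer M24 x) sextets [396, 495, 880] :=
  (HDm_eq ▸ oSx.orbs [(nat_lit 23, (nat_lit 0x310040c004940800010d0404000018212a4801061f0214380a4a4000000030000003a0110a2005a1305001022c018682500838222049a90000300828800e080a2442001000286a02208040200850a308586051304000140010980016010032000630412040013d901e02400061004320d453208014d0a2c80210205c00009440404619e084c002a1d820000801e221320c58002002880460405081302a2084d038c00600186028909c4d4200700420016c84185080546250440030080042315504c182c6029d04020f0201d410180033c48a0702601c10280210800000), [dw (nat_lit 0x01), dw (nat_lit 0x03), dw (nat_lit 0x05), dw (nat_lit 0x07), dw (nat_lit 0x09), dw (nat_lit 0x03), dw (nat_lit 0x01), dw (nat_lit 0x05)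
, dw (nat_lit 0x07), dw (nat_lit 0x03), dw (nat_lit 0x05), dw (nat_lit 0x01)]),
 (nat_lit 11, (nat_lit 0x542181e2a5b02004a9040c8d38112261044107c21a039404675a1058031820006124007ae85104010420c0a6841224801000001581b1640c0210044405c3023704829c08f010081909103801e60285c3003000c05970b09c0c020a028028a40f38007ba930c0200288020815802e1200308000301232c101400e0100300fa6887be10c402420b4002240a0e04861c40c40002bb84d400c0001da5500fc0c4002c0031b0e1409a010422a0018408fb47c08019c2a06200982c03a1c0841631c600a02a4c30806082f9802dc8098220c5480035083d0742050070e4004800), [dw (nat_lit 0x01), dw (nat_lit 0x03), dw (nat_lit 0x05), dw (nat_lit 0x07), dw (nat_lit 0x01), dw (nat_lit 0x09), dw (nat_lit 0x03), dw (nat_lit 0x0b)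
, dw (nat_lit 0x05), dw (nat_lit 0x01), dw (nat_lit 0x09), dw (nat_lit 0x03), dw (nat_lit 0x01)]),
 (nat_lit 0, (nat_lit 0x28ce7a115a069f7b56eb233287eedc1ce91a782d840c4ab818014ba7fce7dcff9edbc584070cfba4e8da3f49592dc317caff7c685c4a0163fdecfb39723c1d48593943f60fed7146d4e7c3fc1978700c7a49fa2ca28f4e23f2f475fc1fc758d0c79c8044cb3fcc24761dd3ea79c1e9cdc23acdc7ec8034d23fd0fcfa0ff05033801a9221d3934bd5c03d5f1f378019e09f3a5445b29773b9fa20a2ec0151b7b03c70e491ea705d66b4112bc7b8700983e1362250f1dab0583b85e0f73e98c08aa5b1431097d02790470d036226dc73a843b40f0c098a1ead78d0b7fb7ff), [dw (nat_lit 0x01), dw (nat_lit 0x03), dw (nat_lit 0x05), dw (nat_lit 0x09), dw (nat_lit 0x0b), dw (nat_lit 0x03), dw (nat_lit 0x01), dw (nat_lit 0x07)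
, dw (nat_lit 0x09), dw (nat_lit 0x03), dw (nat_lit 0x0b), dw (nat_lit 0x01), dw (nat_lit 0x03)])] (by decide +kernel) : Orbs (stabilizer M24 (fDm 0)) _ _).stab (oDm.std hx) oSx.inv

/-- The setwise stabiliser, in the group of the length-24 code, of a complementary pair of dodecads has exactly three orbits on the 1771 sextets, of sizes 396, 495 and 880. -/
theorem result (d : Finset Cfsg.GolayPt) (hd : d ∈ Cfsg.dodecads) : ∃ X₁ ∈ Cfsg.sextets, ∃ X₂ ∈ Cfsg.sextets, ∃ X₃ ∈ Cfsg.sextets, (MulAction.orbit ↥(MulAction.stabilizer Cfsg.M24 ({d, Finset.univ \ d} : Finset (Finset Cfsg.GolayPt))) X₁).ncard = 396 ∧ (MulAction.orbit ↥(MulAction.stabilizer Cfsg.M24 ({d, Finset.univ \ d} : Finset (Finset Cfsg.GolayPt))) X₂).ncard = 495 ∧ (MulAction.orbit ↥(MulAction.stabilizer Cfsg.M24 ({d, Finset.univ \ d} : Finset (Finset Cfsg.GolayPt))) X₃).ncard = 880 ∧ Cfsg.sextets = MulAction.orbit ↥(MulAction.stabilizer Cfsg.M24 ({d, Finset.univ \ d} : Finset (Finset Cfsg.GolayPt))) X₁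 ∪ MulAction.orbit ↥(MulAction.stabilizer Cfsg.M24 ({d, Finset.univ \ d} : Finset (Finset Cfsg.GolayPt))) X₂ ∪ MulAction.orbit ↥(MulAction.stabilizer Cfsg.M24 ({d, Finset.univ \ d} : Finset (Finset Cfsg.GolayPt))) X₃ := by
  exact (oDmSx ⟨d, hd, rfl⟩).three

end Cfsg.Agent.S5617
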