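import Cfsg.Statements.S5726
import Cfsg.Agent.H29.Basic

set_option autoImplicit false
open Cfsg

namespace Cfsg.Agent.S5726

/-- If a finite group acts faithfully and transitively on a set with p^k elements, p a prime and k ≥ 1, then some element of order p fixes no point. -/
theorem result {G Ω : Type*} [Group G] [Finite G] [MulAction G Ω] [FaithfulSMul G Ω] [Fintype Ω] (htr : MulAction.IsPretransitive G Ω)
    (p k : ℕ) (hp : p.Prime) (hk : 1 ≤ k) (hΩ : Fintype.card Ω = p ^ k) :
    ∃ g : G, orderOf g = p ∧ ∀ ω : Ω, g • ω ≠ ω := by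
  haveI := Fact.mk hp
  obtain ⟨P⟩ : Nonempty (Sylow p G) := inferInstance
  have hcop : (P : Subgroup G).index.Coprime (Nat.card Ω) := by
    rw [Nat.card_eq_fintype_card, hΩ]
    exact (hp.coprime_pow_of_not_dvd P.not_dvd_index)
  have hPtr := H29.exists_smul_eq_of_coprime hcop
  have h2 : 1 < Fintype.card Ω := by
    rw [hΩ]; exact Nat.one_lt_pow (by omega) hp.one_lt
  obtain ⟨a, b, hab⟩ := Fintype.exists_pair_of_one_lt_card h2
  have hPne : (P : Subgroup G) ≠ ⊥ := by
    intro h
    obtain ⟨x, hx, hxe⟩ := hPtr a b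
    rw [h, Subgroup.mem_bot] at hx
    rw [hx, one_smul] at hxe
    exact hab hxe
  obtain ⟨z, hz, hzo, hzc⟩ := H29.exists_central_orderOf hp P.isPGroup' hPne
  refine ⟨z, hzo, fun ω hω => ?_⟩
  have := H29.eq_one_of_commute_of_transitive (hPtr ω) hzc hω
  rw [this, orderOf_one] at hzo
  exact hp.one_lt.ne hzo

end Cfsg.Agent.S5726
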