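import Cfsg.Statements.S5727
import Mathlib

set_option autoImplicit false
open Cfsg

namespace Cfsg.Agent.S5727

open MulAction

/-- If a finite group acts faithfully and transitively on a set with m·p elements, where p is a prime and 1 ≤ m ≤ p, then some element of order p fixes no point. -/
theorem result {G Ω : Type*} [Group G] [Finite G] [MulAction G Ω] [FaithfulSMul G Ω] [Fintype Ω] (htr : MulAction.IsPretransitive G Ω)
    (p m : ℕ) (hp : p.Prime) (hm : 1 ≤ m) (hmp : m ≤ p) (hΩ : Fintype.card Ω = m * p) :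
    ∃ g : G, orderOf g = p ∧ ∀ ω : Ω, g • ω ≠ ω := by
  classical
  haveI : Fact p.Prime := ⟨hp⟩
  obtain ⟨P⟩ : Nonempty (Sylow p G) := inferInstance
  have hcop : ¬ p ∣ (P : Subgroup G).index := P.not_dvd_index
  have hidx : ∀ (k : ℕ) (ω : Ω), p ^ k ∣ m * p → p ^ k ∣ (stabilizer P ω).index := fun k ω hk => by
    have h1 : (stabilizer P ω).index * (P : Subgroup G).index = ((P : Subgroup G) ⊓ stabilizer G ω).index := by
      rw [← Subgroup.relIndex_mul_index (inf_le_left : (P : Subgroup G) ⊓ stabilizer G ω ≤ P)]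
      congr 2
      ext g; simp [Subgroup.mem_subgroupOf]; rfl
    have h2 : (stabilizer G ω).index ∣ ((P : Subgroup G) ⊓ stabilizer G ω).index :=
      Subgroup.index_dvd_of_le inf_le_right
    rw [index_stabilizer_of_transitive, Nat.card_eq_fintype_card, hΩ, ← h1] at h2
    exact (Nat.Coprime.pow_left k ((Nat.Prime.coprime_iff_not_dvd hp).2 hcop)).dvd_of_dvd_mul_right
      (hk.trans h2)
  have hle : ∀ ω : Ω, (stabilizer P ω).index ≤ m * p := fun ω => by
    rw [index_stabilizer, ← hΩ, ← Nat.card_eq_fintype_card]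
    exact Set.ncard_le_card _
  have hpos : 0 < m * p := Nat.mul_pos hm hp.pos
  obtain ⟨ω0⟩ : Nonempty Ω := Fintype.card_pos_iff.1 (hΩ ▸ hpos)
  suffices ∃ g : P, orderOf g = p ∧ ∀ ω : Ω, g • ω ≠ ω by
    obtain ⟨g, h1, h2⟩ := this
    exact ⟨g, by rw [Subgroup.orderOf_coe, h1], h2⟩
  rcases hmp.eq_or_lt with rfl | hlt
  · have htr' : ∀ ω : Ω, orbit P ω = Set.univ := fun ω => by
      have h1 := Nat.le_of_dvd (Nat.pos_of_ne_zero Subgroup.index_ne_zero_of_finite)
        (hidx 2 ω (by rw [pow_two]))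
      rw [index_stabilizer, pow_two, ← hΩ, ← Nat.card_eq_fintype_card, ← Set.ncard_univ] at h1
      exact Set.eq_of_subset_of_ncard_le (Set.subset_univ _) h1
    haveI : Nontrivial P := by
      by_contra hc
      rw [not_nontrivial_iff_subsingleton] at hc
      have := hidx 1 ω0 (by simp)
      rw [Subsingleton.elim (stabilizer P ω0) ⊤, Subgroup.index_top, pow_one] at this
      exact hp.one_lt.ne' (Nat.dvd_one.1 this)
    haveI := P.2.center_nontrivial
    obtain ⟨k, hk0, hk⟩ := (P.2.to_subgroup (Subgroup.center P)).nontrivial_iff_card.1 inferInstance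
    obtain ⟨z, hz⟩ := exists_prime_orderOf_dvd_card' (G := Subgroup.center P) m
      (hk ▸ dvd_pow_self _ hk0.ne')
    refine ⟨z, by rw [Subgroup.orderOf_coe, hz], fun ω hω => ?_⟩
    have : (z : P) = 1 := by
      apply FaithfulSMul.eq_of_smul_eq_smul (α := Ω)
      intro x
      obtain ⟨g, rfl⟩ : x ∈ orbit P ω := htr' ω ▸ Set.mem_univ x
      simp only
      rw [one_smul, ← mul_smul, ← Subgroup.mem_center_iff.1 z.2 g, mul_smul, hω]
    rw [show z = 1 from Subtype.ext this, orderOf_one] at hz
    exact hp.one_lt.ne hz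
  have hp1 : ∀ ω : Ω, (stabilizer P ω).index = p := fun ω => by
    obtain ⟨k, hk⟩ := P.2.index (stabilizer P ω)
    have h1 := hidx 1 ω (by simp)
    have h2 := hle ω
    rw [hk] at h1 h2 ⊢
    have h3 : p ^ k < p ^ 2 := by rw [pow_two]; exact lt_of_le_of_lt h2 (Nat.mul_lt_mul_of_pos_right hlt hp.pos)
    have h4 := (Nat.pow_lt_pow_iff_right hp.one_lt).1 h3
    have h5 := (Nat.pow_dvd_pow_iff_le_right hp.one_lt).1 h1
    rw [show k = 1 by omega, pow_one]
  have hnor : ∀ ω : Ω, (stabilizer P ω).Normal := fun ω => by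
    haveI := P.2.isNilpotent
    exact Subgroup.NormalizerCondition.normal_of_coatom _ Group.normalizerCondition_of_isNilpotent
      ⟨fun h => by have := hp1 ω; rw [h, Subgroup.index_top] at this; exact hp.one_lt.ne this,
        fun K hK => by
          have h1 := Subgroup.index_dvd_of_le hK.le
          rw [hp1] at h1
          rcases (Nat.dvd_prime hp).1 h1 with h2 | h2
          · exact Subgroup.index_eq_one.1 h2
          · have h3 := Subgroup.relIndex_mul_index hK.le
            rw [h2, hp1] at h3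
            have h4 := Nat.eq_of_mul_eq_mul_right hp.pos (h3.trans (one_mul _).symm)
            exact absurd (Subgroup.relIndex_eq_one.1 h4) (not_le_of_gt hK)⟩
  have hst : ∀ (ω : Ω) (g : P), stabilizer P (g • ω) = stabilizer P ω := fun ω g => by
    rw [stabilizer_smul_eq_stabilizer_map_conj]
    haveI := hnor ω
    exact Subgroup.Normal.map_conj_eq _ _
  let s : Finset (Subgroup P) := Finset.univ.image (fun ω : Ω => stabilizer P ω)
  have hs : p * s.card ≤ m * p := by
    rw [← hΩ, ← Finset.card_univ]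
    refine Finset.mul_card_image_le_card _ _ fun b hb => ?_
    obtain ⟨ω, -, rfl⟩ := Finset.mem_image.1 hb
    refine (hp1 ω).symm.le.trans ?_
    rw [index_stabilizer, ← Set.ncard_coe_finset]
    refine Set.ncard_le_ncard ?_ (Set.toFinite _)
    rintro _ ⟨g, rfl⟩
    simp [hst]
  have hs' : s.card < p := by nlinarith [hp.pos]
  obtain ⟨g, hg⟩ : ∃ g : P, ∀ ω : Ω, g • ω ≠ ω := by
    by_contra hc
    push Not at hc
    obtain ⟨K, hK, -, hK'⟩ := Subgroup.exists_index_le_card_of_leftCoset_cover (s := s) (H := fun K => K)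
      (g := fun _ => 1) (by
        ext g
        obtain ⟨ω, hω⟩ := hc g
        simp only [one_smul, Set.mem_iUnion, Set.mem_univ, iff_true]
        exact ⟨_, Finset.mem_image_of_mem _ (Finset.mem_univ ω), g, hω, one_smul _ _⟩)
    obtain ⟨ω, -, rfl⟩ := Finset.mem_image.1 hK
    rw [hp1] at hK'
    omega
  refine ⟨g, orderOf_eq_prime ?_ fun h => hg ω0 (by rw [h, one_smul]), hg⟩
  apply FaithfulSMul.eq_of_smul_eq_smul (α := Ω)
  intro x
  haveI := hnor x
  have := (stabilizer P x).pow_index_mem g
  rw [hp1] at this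
  rw [one_smul]; exact this

end Cfsg.Agent.S5727
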