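import Cfsg.Statements.S5728
import Mathlib

set_option autoImplicit false
open Cfsg

namespace Cfsg.Agent.S5728

/-- An elusive transitive action. Let p = 2^s − 1 be a prime and let F be the field with p² elements. Inside the group of affine maps x ↦ a·x + b of F (a ≠ 0), consider the subgroup of maps with both coefficients in the prime field. Then every element of prime order of the affine group is conjugate, within the affine group, to an element of that subgroup; equivalently, in the transitive action of the affine group on the cosets of that subgroup (of degree p(p + 1)) every element of prime order fixes a point. -/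
theorem result (p s : ℕ) [Fact p.Prime] (hs : p = 2 ^ s - 1)
    (g : Equiv.Perm (GaloisField p 2)) (hg : g ∈ Cfsg.affineGroup (GaloisField p 2)) (hord : (orderOf g).Prime) :
    ∃ x ∈ Cfsg.affineGroup (GaloisField p 2), ∃ a b : ZMod p, a ≠ 0 ∧
      ∀ y : GaloisField p 2, (x * g * x⁻¹) y = algebraMap (ZMod p) (GaloisField p 2) a * y + algebraMap (ZMod p) (GaloisField p 2) b := by
  have hp : p.Prime := Fact.out
  obtain ⟨a, b, hab⟩ := hg
  by_cases ha : a = 1
  · subst ha
    have hb : b ≠ 0 := by
      rintro rfl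
      have : g = 1 := Equiv.ext fun x => by simp [hab]
      rw [this, orderOf_one] at hord
      exact Nat.not_prime_one hord
    refine ⟨Equiv.mulLeft₀ b⁻¹ (inv_ne_zero hb), ⟨Units.mk0 b⁻¹ (inv_ne_zero hb), 0, fun x => by simp⟩,
      1, 1, one_ne_zero, fun y => ?_⟩
    simp only [Equiv.Perm.mul_apply, hab, Equiv.Perm.inv_def, Equiv.mulLeft₀_apply, Equiv.mulLeft₀_symm_apply]
    simp
    field_simp
  have ha' : (a : GaloisField p 2) - 1 ≠ 0 := sub_ne_zero.2 fun h => ha (Units.ext h)
  let c := b / ((a : GaloisField p 2) - 1)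
  have hc : ∀ y, (Equiv.addRight c * g * (Equiv.addRight c)⁻¹) y = a * y := fun y => by
    simp only [Equiv.Perm.mul_apply, hab, Equiv.Perm.inv_def, Equiv.coe_addRight, Equiv.addRight_symm, c]
    field_simp
    ring
  have hpow : ∀ k : ℕ, ∀ y, ((Equiv.addRight c * g * (Equiv.addRight c)⁻¹) ^ k) y = a ^ k * y := by
    intro k
    induction k with
    | zero => simp
    | succ k ih => intro y; rw [pow_succ', Equiv.Perm.mul_apply, hc, ih, pow_succ', mul_assoc]
  have h1 : (a : GaloisField p 2) ^ orderOf g = 1 := by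
    have := hpow (orderOf g) 1
    rw [conj_pow, pow_orderOf_eq_one, mul_one, mul_inv_cancel, mul_one] at this
    exact this.symm
  haveI : Fact (orderOf g).Prime := ⟨hord⟩
  have h2 : orderOf (a : GaloisField p 2) = orderOf g :=
    orderOf_eq_prime h1 fun h => ha (Units.ext h)
  haveI : Fintype (GaloisField p 2) := Fintype.ofFinite _
  have hcard : Fintype.card (GaloisField p 2) = p ^ 2 := by
    rw [← Nat.card_eq_fintype_card, GaloisField.card p 2 two_ne_zero]
  have h3 : orderOf g ∣ p ^ 2 - 1 := by
    rw [← h2, ← hcard]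
    exact orderOf_dvd_of_pow_eq_one (FiniteField.pow_card_sub_one_eq_one _ a.ne_zero)
  have hs1 : p + 1 = 2 ^ s := by have := Nat.one_le_two_pow (n := s); omega
  have h4 : orderOf g ∣ p - 1 := by
    have : p ^ 2 - 1 = (p + 1) * (p - 1) := by simpa using Nat.sq_sub_sq p 1
    rw [this, hs1] at h3
    rcases (Nat.Prime.dvd_mul hord).1 h3 with h | h
    · rw [(Nat.prime_dvd_prime_iff_eq hord Nat.prime_two).1 (hord.dvd_of_dvd_pow h)]
      have : 2 ∣ 2 ^ s := dvd_pow_self 2 (by rintro rfl; simp at hs1; exact hp.ne_zero hs1)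
      omega
    · exact h
  have h5 : (a : GaloisField p 2) ^ p = a := by
    have : (a : GaloisField p 2) ^ (p - 1) = 1 := orderOf_dvd_iff_pow_eq_one.1 (h2 ▸ h4)
    calc (a : GaloisField p 2) ^ p = a ^ (p - 1 + 1) := by rw [Nat.sub_add_cancel hp.one_le]
      _ = a := by rw [pow_succ, this, one_mul]
  obtain ⟨a0, ha0⟩ : (a : GaloisField p 2) ∈ (algebraMap (ZMod p) (GaloisField p 2)).range := by
    have h6 := (Subfield.mem_bot_iff_pow_eq_self (F := GaloisField p 2) p).2 h5
    have h7 : (⊥ : Subfield (GaloisField p 2)) ≤ (algebraMap (ZMod p) (GaloisField p 2)).fieldRange := bot_le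
    exact h7 h6
  refine ⟨Equiv.addRight c, ⟨1, c, fun x => by simp⟩, a0, 0, ?_, fun y => by rw [hc, ha0]; simp⟩
  rintro rfl
  exact a.ne_zero (by rw [← ha0, map_zero])

end Cfsg.Agent.S5728
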