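import Cfsg.Statements.S5740
import Cfsg.Agent.H12.Loc5
import Cfsg.Agent.S1066
import Cfsg.Agent.S1070

set_option autoImplicit false
open Cfsg H12 H12.Loc

namespace Cfsg.Agent.S5740

/-- In the simple group ²E₆(2) (the twisted group of type E₆ over the field with 4 elements), for every prime p > 5 no p-local subgroup is maximal: the normaliser of a non-trivial p-subgroup is never a maximal subgroup. -/
theorem result {K : Type*} [Field K] [Fintype K] (hK : Fintype.card K = 4) (p : ℕ) (hp : p.Prime) (h5 : 5 < p)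
    (P : Subgroup (Cfsg.Lie.twistedE6 K 2)) (hP : IsPGroup p P) (hP1 : P ≠ ⊥) :
    ¬ IsCoatom (Subgroup.normalizer (P : Set (Cfsg.Lie.twistedE6 K 2))) := by
  have hK' : Fintype.card K = 2 ^ 2 := hK
  haveI : CharP K 2 := charP_of_card_eq_prime_pow hK'
  haveI := Fact.mk hp
  haveI := (Cfsg.Agent.S1070.result Nat.prime_two.isPrimePow hK').1
  have hG : Nat.card (Cfsg.Lie.twistedE6 K 2) = 2 ^ 36 * 3 ^ 9 * 5 ^ 2 * 7 ^ 2 * 11 * 13 * 17 * 19 := by
    have := Cfsg.Agent.S1066.result Nat.prime_two.isPrimePow hK'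
    norm_num at this ⊢; omega
  haveI : Finite (Cfsg.Lie.twistedE6 K 2) := Nat.finite_of_card_ne_zero (by rw [hG]; norm_num)
  obtain ⟨m⟩ := exists_md hK
  have h := (dvd_card hP hP1).trans (Subgroup.card_subgroup_dvd_card P)
  have e : ∀ q : ℕ, q.Prime → (p ∣ q ↔ p = q) := fun q hq => Nat.prime_dvd_prime_iff_eq hp hq
  rw [hG] at h
  simp only [hp.dvd_mul, hp.prime.dvd_pow_iff_dvd (by decide : (36 : ℕ) ≠ 0), hp.prime.dvd_pow_iff_dvd (by decide : (9 : ℕ) ≠ 0), hp.prime.dvd_pow_iff_dvd two_ne_zero, e 2 (by norm_num), e 3 (by norm_num),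
    e 5 (by norm_num), e 7 (by norm_num), e 11 (by norm_num), e 13 (by norm_num), e 17 (by norm_num), e 19 (by norm_num)] at h
  rcases h with ((((((rfl | rfl) | rfl) | rfl) | rfl) | rfl) | rfl) | rfl
  any_goals omega
  · exact (m.exists_tw c7.1).elim fun m => m.seven (by rw [hG]; norm_num) hP hP1
  · exact (m.exists_tw c11.1).elim fun m => m.cyc c11.2.1 c11.2.2 hp (by decide) (co2 (by decide)) (by rw [hG]; norm_num) hP hP1
  · exact (m.exists_tw c13.1).elim fun m => m.cyc c13.2.1 c13.2.2 hp (by decide) (co2 (by decide)) (by rw [hG]; norm_num) hP hP1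
  · exact (m.exists_tw c17.1).elim fun m => m.cyc c17.2.1 c17.2.2 hp (by decide) (co2 (by decide)) (by rw [hG]; norm_num) hP hP1
  · exact (m.exists_tw c19.1).elim fun m => m.cyc c19.2.1 c19.2.2 hp (by decide) co3 (by rw [hG]; norm_num) hP hP1

end Cfsg.Agent.S5740
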