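import Cfsg.Statements.S5743
import Cfsg.Agent.H12.Fold3

set_option autoImplicit false
open Cfsg

namespace Cfsg.Agent.S5743
open H12 H13 Cfsg.Lie

/-- The simple group ²E₆(2) (the twisted group of type E₆ over the field with 4 elements) contains at least three pairwise non-conjugate subgroups isomorphic to the Chevalley group F₄(2). -/
theorem result {K : Type*} [Field K] [Fintype K] (hK : Fintype.card K = 4) :
    ∃ H : Fin 3 → Subgroup (Cfsg.Lie.twistedE6 K 2),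
      (∀ i, Nonempty ((H i) ≃* Cfsg.Lie.chevF4.group (ZMod 2))) ∧
      (∀ i j, i ≠ j → ∀ g : (Cfsg.Lie.twistedE6 K 2), (H i).map (MulAut.conj g).toMonoidHom ≠ H j) := by
  have hK' : Fintype.card K = 2 ^ 2 := hK
  haveI : CharP K 2 := charP_of_card_eq_prime_pow hK'
  obtain ⟨φ, hφ⟩ := exists_frob (F := K) Nat.prime_two.isPrimePow two_ne_zero hK'
  let f := ZMod.castHom (dvd_refl 2) K
  have hR := fun i => orb6 _ (O6_spec.2.1 i)
  obtain ⟨α, a1, a2, a3⟩ := foldF4.hom (O := O6) O6_spec.1 hR (tw6 (.id (ZMod 2))) O6_spec.2.2 (tw6_ψ _)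
  obtain ⟨n, n1, n2⟩ := (foldF4.adm (O := O6) O6_spec.1 hR (tw6 (.id (ZMod 2))) O6_spec.2.2 (tw6_ψ _)).1.exists_rep cov_ad
    RSym.w0_mem
  let β := (glMap chevE6 f).comp α
  have b1 : Function.Injective β := (glMap_injective f).comp a1
  have b2 : ∀ i t, β ((grS chevF4 _).x (sim i) t) = (foldF4.sys K).x (sim i) (f t) ∧
      β ((grS chevF4 _).x (ng (sim i)) t) = (foldF4.sys K).x (ng (sim i)) (f t) := fun i t => by
    simp only [β, MonoidHom.comp_apply, a3]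
    rw [foldF4.sys_sim O6_spec.1, foldF4.sys_sim O6_spec.1, foldF4.sys_ng O6_spec.1, foldF4.sys_ng O6_spec.1]
    simp [map_list_prod, Function.comp_def]
  have b3 : β.range ≤ (tw6 φ).G1 := by
    have k := fun i t => foldF4.T_le O6_spec.1 hR (tw6 φ) (A := Set.range f) (by
      rintro j _ ⟨t, rfl⟩; rw [tw6_ψ, hφ, ← map_pow, ZMod.pow_card]) i (t := f t) ⟨t, rfl⟩
    rw [MonoidHom.range_eq_map, Subgroup.map_le_iff_le_comap, ← grS_T]
    exact StSys.T_le_of_sim (fun i t => by rw [Subgroup.mem_comap, (b2 i t).1]; exact (k i t).1)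
      fun i t => by rw [Subgroup.mem_comap, (b2 i t).2]; exact (k i t).2
  have h3 : ∀ x : Kˣ, x ^ 3 = 1 := fun x => by simpa [Nat.card_units, hK] using pow_card_eq_one' (x := x)
  obtain ⟨ω, hω⟩ := exists_sq_ne_one hK.ge
  let e : I chevE6 → Kˣ := fun j => if j = n6 0 then ω else if j = n6 5 then ω ^ 2 else 1
  have he : e ∈ (tw6 φ).T1 := (mem_T16 hφ).2 (by simp [e, n6_inj, ← pow_mul, pow_succ ω 3, h3])
  have hle : ∀ i : ℕ, β.range.map (MulAut.conj (dl (e ^ i))).toMonoidHom ≤ twistedE6 K 2 := fun i => by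
    rintro _ ⟨y, hy, rfl⟩; rw [eq6 hφ hK']; exact TwF.dl_mem (pow_mem he i) (b3 hy)
  refine ⟨fun i => (β.range.map (MulAut.conj (dl (e ^ i.1))).toMonoidHom).subgroupOf _, fun i => ⟨(Subgroup.subgroupOfEquivOfLe (hle i)).trans
    ((β.range.equivMapOfInjective _ (MulAut.conj _).injective).symm.trans (MonoidHom.ofInjective b1).symm)⟩, fun i j hij g hg => ?_⟩
  have hx : (dl (e ^ j.1))⁻¹ * g.1 * dl (e ^ i.1) ∈ Subgroup.normalizer (β.range : Set (GL chevE6.Idx K)) :=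
    Subgroup.mem_normalizer_fintype fun y hy => by
      obtain ⟨z, hz, e'⟩ := hg.le ⟨⟨_, hle i ⟨y, hy, rfl⟩⟩, ⟨y, hy, rfl⟩, rfl⟩
      have e' : dl _ * z * (dl _)⁻¹ = g.1 * (dl _ * y * (dl _)⁻¹) * g.1⁻¹ := e'
      convert hz using 1
      rw [← mul_left_cancel_iff (a := dl (e ^ j.1)), ← mul_right_cancel_iff (a := (dl (e ^ j.1))⁻¹), e']; group
  set x := (dl (e ^ j.1))⁻¹ * g.1 * dl (e ^ i.1) with hx'
  let b := MulAut.congr (MonoidHom.ofInjective b1).symm (β.range.normalizerMonoidHom ⟨x, hx⟩)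
  obtain ⟨y, hy⟩ : b ^ 2 ∈ Cfsg.Inn _ := by
    rw [← QuotientGroup.eq_one_iff, QuotientGroup.mk_pow, ← pow_card_eq_one' (x := (b : Cfsg.Out _)), Cfsg.Agent.S2122.result 2 1 (by simp)]; rfl
  have hz : ∀ a ∈ β.range, Commute ((β y)⁻¹ * x ^ 2) a := by
    rintro _ ⟨a, rfl⟩
    have := congrArg (fun σ => β (σ a)) hy
    have k : ∀ a, β (b a) = x * β a * x⁻¹ := fun a => MonoidHom.apply_ofInjective_symm b1 _
    simp only [sq, MulAut.mul_apply, k, MulAut.conj_apply, map_mul, map_inv] at this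
    rw [Commute, SemiconjBy, ← mul_inv_eq_iff_eq_mul, ← mul_left_cancel_iff (a := β y), ← mul_right_cancel_iff (a := (β y)⁻¹), this]; simp [sq, mul_assoc]
  have hT : ∀ c {g}, g ∈ (adS chevE6 K).T → dl c * g * (dl c)⁻¹ ∈ (adS chevE6 K).T := fun c => (act_dl c).conj_mem fun _ _ => trivial
  have g1 : (g : GL chevE6.Idx K) ∈ (adS chevE6 K).T := (adm6 hφ hK').le g.2 |>.1
  have g2 := hT (e ^ j.1)⁻¹ g1
  rw [show (β y)⁻¹ * x ^ 2 = ((β y)⁻¹ * (dl (e ^ j.1)⁻¹ * g.1 * (dl (e ^ j.1)⁻¹)⁻¹) * (dl ((e ^ j.1)⁻¹ * e ^ i.1) * (dl (e ^ j.1)⁻¹ * g.1 * (dl (e ^ j.1)⁻¹)⁻¹) *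
    (dl ((e ^ j.1)⁻¹ * e ^ i.1))⁻¹)) * dl (((e ^ j.1)⁻¹ * e ^ i.1) ^ 2) by simp only [hx', map_mul, map_inv, sq]; group] at hz
  obtain ⟨a, ha⟩ := cent_dl (mul_mem (mul_mem (inv_mem (Tw.G1_le_fix (b3 ⟨y, rfl⟩)).1) g2) (hT _ g2)) (rep_glMap f n2)
    (hz _ (by obtain ⟨m, rfl⟩ := a2.ge n1; exact ⟨m, rfl⟩)) fun k => by
      obtain ⟨l, hl⟩ := O6_spec.2.2 k
      exact ⟨_, (hR l).orth, hl, hz _ ⟨_, by rw [(b2 l 1).1, map_one]; exact foldF4.sys_sim O6_spec.1 l 1⟩⟩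
  have := e6_char h3 ha
  simp only [e, n6_inj, Pi.pow_apply, Pi.mul_apply, Pi.inv_apply, Fin.reduceEq, if_true, if_false] at this
  rw [pow_right_comm ω 2, pow_right_comm ω 2, ← inv_pow (ω ^ j.1), ← mul_pow (ω ^ j.1)⁻¹] at this
  have k : ω ^ j.1 = ω ^ i.1 := inv_mul_eq_one.1 (by
    generalize (ω ^ j.1)⁻¹ * ω ^ i.1 = u at this
    have e : u * (u ^ 3) ^ 3 = 1 := by rw [← this]; simp only [one_pow, inv_one, mul_one]; group
    simpa [h3] using e)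
  haveI : Fact (Nat.Prime 3) := ⟨by decide⟩
  have o := orderOf_eq_prime (h3 ω) fun h => hω (by simp [h])
  exact hij (Fin.ext (pow_injOn_Iio_orderOf (by rw [o]; exact i.2) (by rw [o]; exact j.2) k.symm))

end Cfsg.Agent.S5743
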