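import Cfsg.Statements.S5744
import Cfsg.Agent.H12.Fi9
import Cfsg.Agent.H11.Std
import Cfsg.Agent.S1686
import Cfsg.Agent.S2604
-- import your own Cfsg.Agent.* helpers here

set_option autoImplicit false
open Cfsg

namespace Cfsg.Agent.S5744

/-- The simple group ²E₆(2) (the twisted group of type E₆ over the field with 4 elements) contains at least three pairwise non-conjugate subgroups isomorphic to the orthogonal group Ω₇(3) (the commutator subgroup of the isometry group of x₀² + x₁y₁ + x₂y₂ + x₃y₃ over the field with 3 elements). -/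
theorem result {K : Type*} [Field K] [Fintype K] (hK : Fintype.card K = 4) :
    ∃ H : Fin 3 → Subgroup (Cfsg.Lie.twistedE6 K 2),
      (∀ i, Nonempty ((H i) ≃* Cfsg.Omega (ZMod 3) (Cfsg.quadFormOdd 3 (ZMod 3)))) ∧
      (∀ i j, i ≠ j → ∀ g : (Cfsg.Lie.twistedE6 K 2), (H i).map (MulAut.conj g).toMonoidHom ≠ H j) := by
  obtain ⟨β, h1, h2, h3⟩ := H12.Fi.exists_hom hK
  obtain ⟨e⟩ := Cfsg.Agent.S1686.result
  obtain ⟨o⟩ := Cfsg.Agent.S2604.result (F := ZMod 3) (p := 3) (f := 1) (m := 3) le_rfl (by simp) (by decide) le_rfl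
  have hz : Subgroup.center (Omega (ZMod 3) (quadFormOdd 3 (ZMod 3))) = ⊥ := by
    have := (H11.sOdd_nondeg (F := ZMod 3) 3 (by decide)).center_Omega_odd (by simp; decide) (by simp)
    refine (Subgroup.eq_bot_iff_forall _).2 fun x hx => (H11.omegaEquiv (H11.qOdd 3 (ZMod 3))).map_eq_one_iff.1 (this.le ?_)
    exact (Subgroup.centerCongr (H11.omegaEquiv (H11.qOdd 3 (ZMod 3))) ⟨x, hx⟩).2
  obtain ⟨H, k1, k2⟩ := H12.Fi.three hK (β := (β.comp (Subgroup.subtype _)).comp e.symm.toMonoidHom) ((h1.comp Subtype.val_injective).comp e.symm.injective)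
    (by rintro _ ⟨x, rfl⟩; exact h2 ⟨_, rfl⟩) (fun b => o.injective (by rw [map_pow, map_one]; generalize o b = c; revert c; decide))
    fun z h => h3 z fun s hs => by simpa using h (e ⟨PresentedGroup.of s, FreeGroup.of s, Subgroup.subset_closure (by cases s <;> simp_all), rfl⟩)
  exact ⟨H, fun i => (k1 i).map fun f => f.trans ((QuotientGroup.quotientMulEquivOfEq hz).trans QuotientGroup.quotientBot), k2⟩

end Cfsg.Agent.S5744
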