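import Cfsg.Statements.S5823
import Cfsg.Agent.H29.Ar
import Cfsg.Agent.H29.Fq
import Cfsg.Agent.H29.NM2

set_option autoImplicit false
open Cfsg

namespace Cfsg.Agent.S5823

open Matrix Cfsg.Geo H29
open scoped Kronecker

local notation "ρ" => RingHom.id _

variable {F : Type*} [Field F] [Fintype F] {ι : Type} [Fintype ι] [DecidableEq ι]

def sw (x : Fin 2 × Fin 2 × Fin 2) : Fin 2 × Fin 2 × Fin 2 := (x.2.1, x.1, x.2.2)

theorem sw_iff (x y : Fin 2 × Fin 2 × Fin 2) : x = sw y ↔ y = sw x := by revert x y; decide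

def sw3 (F : Type*) [Field F] : GL (Fin 2 × Fin 2 × Fin 2) F where
  val := of fun x y => if y = sw x then 1 else 0
  inv := of fun x y => if y = sw x then 1 else 0
  val_inv := by ext x y; simp only [mul_apply, of_apply, ite_mul, one_mul, zero_mul, Finset.sum_ite_eq', Finset.mem_univ, if_true, one_apply, eq_comm (a := x)]; rfl
  inv_val := by ext x y; simp only [mul_apply, of_apply, ite_mul, one_mul, zero_mul, Finset.sum_ite_eq', Finset.mem_univ, if_true, one_apply, eq_comm (a := x)]; rfl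

theorem sw3_mulVec (v : Fin 2 × Fin 2 × Fin 2 → F) : (sw3 F).1 *ᵥ v = v ∘ sw := by
  ext x; simp [sw3, mulVec, dotProduct]

def p2 (v w : Fin 2 → F) : Fin 2 × Fin 2 → F := fun p => v p.1 * w p.2

theorem sw3_pt (T : (Fin 2 × Fin 2 × Fin 2 → F) ≃ₗ[F] (ι → F)) (u v w : Fin 2 → F) :
    (ΦU T (sw3 F)).1 *ᵥ pt T u (p2 v w) = pt T v (p2 u w) := by
  rw [coe_ΦU, pt, Φ_mulVec, sw3_mulVec, pt]
  congr 1
  ext x
  simp [sw, p2, mul_left_comm]

theorem kron_p2 (a b : GL (Fin 2) F) (v w : Fin 2 → F) :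
    (kronU a b).1 *ᵥ p2 v w = p2 (a.1 *ᵥ v) (b.1 *ᵥ w) := by
  ext ⟨i, j⟩
  simp [kronU, p2, mulVec, dotProduct, Fintype.sum_prod_type]
  ring

theorem swp_p2 (v w : Fin 2 → F) : (swp F (Fin 2)).1 *ᵥ p2 v w = p2 w v := by
  ext ⟨i, j⟩
  fin_cases i <;> fin_cases j <;>
    simp [swp, p2, mulVec, dotProduct, Fintype.sum_prod_type, one_apply] <;> ring

theorem plus_between (h2 : (2 : F) ≠ 0) {G : Matrix ι ι F} {N : Subgroup (GL ι F)}
    (hb : Big (Iso ρ G) (fun _ => True) 1) {T : (Fin 2 × Fin 4 → F) ≃ₗ[F] (ι → F)} {G₁ G₂ : _}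
    (hk : KrF ρ G N T G₁ G₂ (-1) 1) (hp : H11.sqSign G₂.det = 1) :
    ∃ K, N ⊓ Iso ρ G < K ∧ K < Iso ρ G := by
  obtain ⟨e, he⟩ := exists_JJ h2 hk.h2 hp
  obtain ⟨T, hk, -⟩ := hk.congr e
  rw [he] at hk
  have h1 : G₁ = G₁ 0 1 • J2 F := by
    have h := fun i j => congrFun (congrFun hk.h1.herm i) j
    have h3 : ∀ i, G₁ i i = 0 := fun i => mul_left_cancel₀ h2 (by
      have := h i i; simp at this; linear_combination this)
    ext i j
    fin_cases i <;> fin_cases j <;> simp [J2, h3]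
    simpa using h 0 1
  have h3 : ∀ i, p2 (F := F) (Pi.single i 1) (Pi.single 0 1) ≠ 0 := fun i e => by
    simpa [p2] using congrFun e (i, 0)
  refine between (X := setStab {x | ∃ u v w, x = pt T u (p2 v w)}) ?_ (fun h => ?_) fun h => ?_
  · rintro g hg _ ⟨u, v, w, rfl⟩
    obtain ⟨a, b, rfl⟩ := hk.kr g hg.1
    have h4 := (sim_kron hk.h1.ne_zero hk.h2.ne_zero
      (hk.gram ▸ ΦU_mem_Sim.1 (Iso_le_Sim hg.2))).2
    obtain ⟨x, y, rfl | rfl⟩ := sim_JJ h2 h4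
    · exact ⟨_, _, _, by rw [pt_kron, kron_p2]⟩
    · exact ⟨_, _, _, by rw [pt_kron, Units.val_mul, ← mulVec_mulVec, kron_p2, swp_p2]⟩
  · obtain ⟨g, hg, c, hc, e⟩ := hb.trans (pt T (Pi.single 0 1) (p2 (Pi.single 0 1) (Pi.single 0 1)))
      (T (Pi.single (0, 0, 0) 1 + Pi.single (1, 1, 0) 1)) (pt_ne_zero (by simp) (h3 0))
      (T.map_ne_zero_iff.2 fun e => by simpa using congrFun e (0, 0, 0)) trivial trivial
    obtain ⟨u, v, w, h4⟩ := h hg _ ⟨_, _, _, rfl⟩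
    rw [e, ← map_smul] at h4
    have h5 := congrFun (T.injective h4)
    have a1 := h5 (0, 0, 0)
    have a2 := h5 (1, 1, 0)
    have a3 := h5 (0, 1, 0)
    have a4 := h5 (1, 0, 0)
    simp [p2, -mul_eq_zero, -zero_eq_mul] at a1 a2 a3 a4
    refine mul_ne_zero hc hc ?_
    linear_combination c * a1 + (u 0 * (v 0 * w 0)) * a2 - (u 1 * (v 0 * w 0)) * a3
  · obtain ⟨a, b, e⟩ := hk.kr (ΦU T (sw3 F)) (h ⟨by
      rintro _ ⟨u, v, w, rfl⟩; exact ⟨_, _, _, sw3_pt T u v w⟩, ΦU_mem_Iso.2 fun x y => by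
        rw [sw3_mulVec, sw3_mulVec, hk.gram, h1]
        simp [fm_eq, dotProduct, mulVec, Fintype.sum_prod_type, J2, sw]
        ring⟩)
    have h4 : ∀ i, a.1 *ᵥ Pi.single 0 1 ∈ F ∙ (Pi.single i 1 : Fin 2 → F) := fun i => by
      have := sw3_pt T (Pi.single 0 1) (Pi.single i 1) (Pi.single 0 1)
      rw [e, pt_kron] at this
      exact mem_of_pt' this.symm (mulVec_ne_zero b (h3 i))
    obtain ⟨c, hc⟩ := Submodule.mem_span_singleton.1 (h4 0)
    obtain ⟨d, hd⟩ := Submodule.mem_span_singleton.1 (h4 1)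
    refine mulVec_ne_zero a (x := Pi.single 0 1) (by simp) ?_
    rw [← hc, show c = 0 by simpa using congrFun (hc.trans hd.symm) 0, zero_smul]

/-- Every maximal subgroup of Sp_8(q) is of one of the listed geometric types or lies in the residual class. Let F be a finite field with q elements, f the standard alternating form on F^8 (coordinates Fin 4 ⊕ Fin 4), and H a maximal subgroup of Sp_8(F) (inside GL_8(F)). Then H is the intersection with Sp_8(F) of one of: the stabiliser of a non-zero totally isotropic subspace; the stabiliser of a non-degenerate 2-space; for q ≥ 3, the stabiliser of a decomposition into four mutually orthogonal non-degenerate 2-spaces; of a decomposition into two orthogonal non-degenerate 4-spaces; for q odd, of a decomposition into two totally isotropic 4-spaces; the normaliser of a degree-2 subfield K, self-adjoint with f(k v, v) = 0; for q odd, the normaliser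 of a degree-2 subfield closed under adjoints but not self-adjoint; for q odd, the stabiliser of a tensor decomposition of f into an alternating form on F^2 and a minus-type symmetric form on F^4; a subfield group (|F| = |F₀|^r, r prime) whose F₀-structure carries a non-zero multiple of f; for q = p an odd prime, the normaliser of an absolutely irreducible extraspecial group 2_-^(1+6) of exponent 4 inside the similarity group of f; for q odd, q ≥ 5, the stabiliser of a tensor decomposition of f as a third tensor power of an alternating form on F^2; for q even, the similarity group of a non-degenerate quadratic form polarising to f — or else H lies in the residual class of the symplectic case. -/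
theorem result {F : Type*} [Field F] [Fintype F] (H : Subgroup (Matrix.GeneralLinearGroup (Fin 4 ⊕ Fin 4) F)) (hH : Cfsg.Geo.IsMaximalIn (Cfsg.spGL 4 F) H) :
    (∃ W : Submodule F (Fin 4 ⊕ Fin 4 → F), W ≠ ⊥ ∧ Cfsg.Geo.IsTotallySingularFor (Cfsg.sympForm 4 F) W ∧ H = Cfsg.Geo.subspaceStabilizer W ⊓ Cfsg.spGL 4 F) ∨
    (∃ W : Submodule F (Fin 4 ⊕ Fin 4 → F), W ≠ ⊥ ∧ Cfsg.Geo.IsNondegenerateOn (Cfsg.sympForm 4 F) W ∧ Module.finrank F W < 4 ∧ H = Cfsg.Geo.subspaceStabilizer W ⊓ Cfsg.spGL 4 F) ∨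
    (3 ≤ Fintype.card F ∧ ∃ D : Fin 4 → Submodule F (Fin 4 ⊕ Fin 4 → F), Cfsg.Geo.IsNondegenerateMDecomposition (Cfsg.sympForm 4 F) 2 D ∧ H = Cfsg.Geo.decompositionStabilizer D ⊓ Cfsg.spGL 4 F) ∨
    (∃ D : Fin 2 → Submodule F (Fin 4 ⊕ Fin 4 → F), Cfsg.Geo.IsNondegenerateMDecomposition (Cfsg.sympForm 4 F) 4 D ∧ H = Cfsg.Geo.decompositionStabilizer D ⊓ Cfsg.spGL 4 F) ∨
    (Odd (Fintype.card F) ∧ ∃ D : Fin 2 → Submodule F (Fin 4 ⊕ Fin 4 → F), Cfsg.Geo.IsMDecomposition 4 D ∧ (∀ i, Cfsg.Geo.IsTotallySingularFor (Cfsg.sympForm 4 F) (D i)) ∧ H = Cfsg.Geo.decompositionStabilizer D ⊓ Cfsg.spGL 4 F) ∨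
    (∃ K : Subalgebra F (Matrix (Fin 4 ⊕ Fin 4) (Fin 4 ⊕ Fin 4) F), Cfsg.Geo.IsFieldSubalgebra 2 K ∧ Cfsg.Geo.IsSelfAdjointFor (Cfsg.sympForm 4 F) K ∧ (∀ k ∈ K, ∀ v : (Fin 4 ⊕ Fin 4 → F), (Cfsg.sympForm 4 F) (Matrix.mulVec k v) v = 0) ∧ H = Cfsg.Geo.subalgebraNormalizer K ⊓ Cfsg.spGL 4 F) ∨
    (Odd (Fintype.card F) ∧ ∃ K : Subalgebra F (Matrix (Fin 4 ⊕ Fin 4) (Fin 4 ⊕ Fin 4) F), Cfsg.Geo.IsFieldSubalgebra 2 K ∧ Cfsg.Geo.IsAdjointClosedFor (Cfsg.sympForm 4 F) K ∧ ¬ Cfsg.Geo.IsSelfAdjointFor (Cfsg.sympForm 4 F) K ∧ H = Cfsg.Geo.subalgebraNormalizer K ⊓ Cfsg.spGL 4 F) ∨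
    (Odd (Fintype.card F) ∧ ∃ (e : (Fin 4 ⊕ Fin 4) ≃ Fin 2 × Fin 4) (P : Matrix.GeneralLinearGroup (Fin 4 ⊕ Fin 4) F) (f₁ : (Fin 2 → F) → (Fin 2 → F) → F) (f₂ : (Fin 4 → F) → (Fin 4 → F) → F), Cfsg.Geo.IsSymplecticForm f₁ ∧ Cfsg.Geo.IsSymmetricForm f₂ ∧ ¬ Cfsg.Geo.IsPlusTypeOn (fun v : Fin 4 → F => f₂ v v) ⊤ ∧ Cfsg.Geo.IsTensorFormStructure id (Cfsg.sympForm 4 F) f₁ f₂ e P ∧ H = Cfsg.Geo.tensorProductSubgroup 2 4 e P ⊓ Cfsg.spGL 4 F) ∨
    (∃ (F₀ : Subfield F) (r : ℕ) (P : Matrix.GeneralLinearGroup (Fin 4 ⊕ Fin 4) F) (ζ : F), r.Prime ∧ Fintype.card F = Nat.card F₀ ^ r ∧ ζ ≠ 0 ∧ Cfsg.Geo.IsFormRationalStructure (Cfsg.sympForm 4 F) F₀ ζ P ∧ H = Cfsg.Geo.subfieldSubgroup F₀ P ⊓ Cfsg.spGL 4 F) ∨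
    (∃ (p : ℕ) (R : Subgroup (Matrix.GeneralLinearGroup (Fin 4 ⊕ Fin 4) F)), p.Prime ∧ Odd p ∧ Fintype.card F = p ∧ Cfsg.Geo.IsSymplecticTypeGroup 2 R ∧ Cfsg.Geo.ActsAbsolutelyIrreducibly (Cfsg.Geo.matrixSet R) ∧ R ≤ Cfsg.Geo.similarityGroup (Cfsg.sympForm 4 F) ∧ Nat.card R = 128 ∧ Nat.card (Subgroup.center R) = 2 ∧ Cfsg.Geo.IsOfMinusType 3 R ∧ H = Cfsg.Geo.subgroupNormalizer R ⊓ Cfsg.spGL 4 F) ∨
    (Odd (Fintype.card F) ∧ 5 ≤ Fintype.card F ∧ ∃ (e : (Fin 4 ⊕ Fin 4) ≃ (Fin 3 → Fin 2)) (P : Matrix.GeneralLinearGroup (Fin 4 ⊕ Fin 4) F) (f₁ : (Fin 2 → F) → (Fin 2 → F) → F), Cfsg.Geo.IsSymplecticForm f₁ ∧ Cfsg.Geo.IsTensorPowerFormStructure id (Cfsg.sympForm 4 F) f₁ e P ∧ H = Cfsg.Geo.tensorWreathSubgroup 2 3 e P ⊓ Cfsg.spGL 4 F) ∨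
    (¬ Odd (Fintype.card F) ∧ ∃ Q : (Fin 4 ⊕ Fin 4 → F) → F, Cfsg.Geo.IsNondegenerateQuadraticForm Q ∧ (∀ u v : (Fin 4 ⊕ Fin 4 → F), QuadraticMap.polar Q u v = (Cfsg.sympForm 4 F) u v) ∧ H = Cfsg.Geo.quadSimilarityGroup Q ⊓ Cfsg.spGL 4 F) ∨
    Cfsg.Geo.InSymplecticResidualClass H := by
  rcases H29.sp_max (by norm_num) (by norm_num) hH with (h | h | ⟨t, k, D, hD, h1, h2, h3, h4, h⟩ | h |
    h | ⟨k, E, h1, h2, h3, h⟩ | h | ⟨r, K, hr, h1, h⟩ | h |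
    ⟨h0, a, b, e, P, f₁, f₂, h1, h2, h3, h4, h5, h⟩ | ⟨h0, k, t, e, P, f₁, h1, h2, h3, h4, h5, h⟩) | h
  · exact .inl h
  · exact .inr (.inl h)
  · obtain ⟨j, hj⟩ := h3
    obtain ⟨rfl, rfl⟩ | ⟨rfl, rfl⟩ : t = 4 ∧ k = 2 ∨ t = 2 ∧ k = 4 := by
      have : t ≤ 8 := Nat.le_of_dvd (by norm_num) ⟨_, h1.symm⟩
      interval_cases t <;> omega
    · exact .inr (.inr (.inl ⟨h4 rfl, D, hD, h⟩))
    · exact .inr (.inr (.inr (.inl ⟨D, hD, h⟩)))
  · exact .inr (.inr (.inr (.inr (.inl h))))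
  · exact .inr (.inr (.inr (.inr (.inr (.inr (.inr (.inr (.inl h))))))))
  · obtain rfl : 3 = k := Nat.pow_right_injective (by norm_num : 2 ≤ 2) h1
    exact .inr (.inr (.inr (.inr (.inr (.inr (.inr (.inr (.inr (.inl ⟨_, E, h2, h3, rfl, h⟩)))))))))
  · exact .inr (.inr (.inr (.inr (.inr (.inr (.inr (.inr (.inr (.inr (.inr (.inl h)))))))))))
  · obtain rfl : r = 2 := (Nat.prime_dvd_prime_iff_eq hr Nat.prime_two).1
      (hr.dvd_of_dvd_pow (n := 2) h1)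
    exact .inr (.inr (.inr (.inr (.inr (.inl ⟨K, h⟩)))))
  · exact .inr (.inr (.inr (.inr (.inr (.inr (.inl h))))))
  · obtain ⟨j, hj⟩ := h3
    obtain ⟨rfl, rfl⟩ : a = 2 ∧ b = 4 := by
      have : a ≤ 8 := Nat.le_of_dvd (by norm_num) ⟨_, h1.symm⟩
      interval_cases a <;> omega
    refine .inr (.inr (.inr (.inr (.inr (.inr (.inr (.inl ⟨h0, e, P, f₁, f₂, h.1, h.2.1, fun hp => ?_,
      h.2.2⟩)))))))
    obtain ⟨h6, h7, h8, h⟩ := h
    obtain ⟨G₁, rfl, h9⟩ := hf_of_symp h6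
    obtain ⟨G₂, rfl, h10⟩ := hf_of_symm h7
    rw [symp_eq] at h8
    rw [spGL_iso] at hH h
    obtain ⟨c, hc, h11⟩ := krF_of_tfs h8
    have h12 := H11.two_ne_zero_iff_odd.2 h0
    refine not_between hH h (plus_between h12 (big_sp ((hf_J 4).symp (alt_J 4)) (by simp) (by simp))
      ⟨kr_self e P, h9, h10.smul hc (by simp), h11⟩ ?_)
    rw [det_smul, H11.sqSign_mul (pow_ne_zero _ hc) h10.det_ne, (plus_iff_sq h12 h10 (m := 2) (by simp)).1 hp,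
      Fintype.card_fin, show c ^ 4 = (c ^ 2) ^ 2 by ring, H11.sqSign_sq, Int.units_sq, mul_one]
  · have : k ^ 3 ≤ k ^ t := Nat.pow_le_pow_right (by omega) h4
    obtain rfl : k = 2 := by
      by_contra h6
      have : 3 ^ 3 ≤ k ^ 3 := Nat.pow_le_pow_left (by omega) 3
      omega
    obtain rfl : t = 3 := Nat.pow_right_injective (by norm_num : 2 ≤ 2) h1
    exact .inr (.inr (.inr (.inr (.inr (.inr (.inr (.inr (.inr (.inr (.inl ⟨h0, h5 rfl, e, P, f₁, h⟩))))))))))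
  · exact .inr (.inr (.inr (.inr (.inr (.inr (.inr (.inr (.inr (.inr (.inr (.inr h)))))))))))

end Cfsg.Agent.S5823
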