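import Cfsg.Statements.S5825
import Cfsg.Agent.H29.NM2
import Cfsg.Agent.H29.NDOrth
import Cfsg.Agent.H29.ExtO2
import Cfsg.Agent.H23.OR1
import Cfsg.Agent.H23.OR2

set_option autoImplicit false
open Cfsg

namespace Cfsg.Agent.S5825

open H11 H11.PForm H29 H23.OR Module Matrix

theorem nonsing_line {F : Type*} [Field F] [Fintype F] {n : ℕ} (hn : 8 ≤ n) (Q : (Fin n → F) → F) (hQ : Cfsg.Geo.IsNondegenerateQuadraticForm Q) (hchar : ¬ Odd (Fintype.card F)) (v : (Fin n → F)) (hv : Q v ≠ 0) : Cfsg.Geo.IsMaximalIn (Cfsg.Geo.omegaGL Q) (Cfsg.Geo.subspaceStabilizer (Submodule.span F {v}) ⊓ Cfsg.Geo.omegaGL Q) := by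
  obtain ⟨G, h⟩ := exists_qInv hQ
  have h2 := two_eq_of_not_odd hchar
  have hS := h.nondeg
  have h3 := iso3_orth h.S
  have hv0 : v ≠ 0 := by rintro rfl; exact hv h.zero
  have hd : finrank F (Fin n → F) = n := by simp
  rw [h.omega_eq (by simp; omega)]
  refine isMaximalIn_EGL h.S _ ?_ fun H hH _ => ?_
  · obtain ⟨g, g1, g2⟩ := exists_E_indep hS h3 (by omega) hv0
    exact ⟨g, g1, fun e => g2 ((((mem_subspaceStabilizer_toGL _ _ _).1 e) v).1
      (Submodule.mem_span_singleton_self v))⟩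
  rw [comap_subspaceStabilizer] at hH ⊢
  have hE : ∀ u w a, h.S.h u v = 0 → h.S.h w v = 0 → h.S.eich u w a ∈ H := fun u w a b c =>
    hH ⟨mem_stab_of_le fun x hx => by
      obtain ⟨c, rfl⟩ := Submodule.mem_span_singleton.1 hx
      rw [map_smul, eich_apply_of_perp_perp b ‹_›]
      exact hx, eich_mem_E _ _ _ _⟩
  have hB : ∀ u (hu : h.S.Sing u) y, h.S.h u v = 0 → h.S.h y v = 0 → h.S.h u y = 0 →
      y ∈ BSet H hu := fun u hu y a b c => ⟨_, ⟨hu, c, by rw [sub_self]; exact zero_mem _⟩,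
        hE u y (h.S.q y) a b⟩
  by_cases hc : ∀ u (hu : h.S.Sing u), u ≠ 0 → h.S.h u v = 0 → ∀ z ∈ BSet H hu, h.S.h z v = 0
  · refine .inr fun g hg => mem_stab_of_le fun x hx => ?_
    obtain ⟨c, rfl⟩ := Submodule.mem_span_singleton.1 hx
    rw [map_smul]
    refine Submodule.smul_mem _ _ ?_
    obtain ⟨u, u1, u2, u3⟩ := exists_sing_top hS h3 [v, g.1 v] [v, g.1 v] (by simp; omega)
    rw [list_set_two] at u3
    have u4 := h.S.h_swap_zero (u2 v (by simp))
    have u5 := h.S.h_swap_zero (u2 (g.1 v) (by simp))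
    have : v ∈ Submodule.span F {u, g.1 v} := by_contra fun e => by
      obtain ⟨y, y1, y2, y3⟩ := h.hf.exists_sep2 e
      rw [← h.S_h] at y1 y2 y3
      refine y3 (hc u u1 (by rintro rfl; simp at u3) u4 y ?_)
      have := BSet_map (hu' := u1) (hB _ ((isom_sing g⁻¹ _).2 u1) ((g⁻¹).1 y) (by rwa [← isom_h_right])
        (by rwa [← isom_h_right]) (by rw [isom_h]; exact h.S.h_swap_zero y1)) hg
        (isom_apply_inv_self _ _)
      rwa [isom_apply_inv_self] at this
    obtain ⟨a, b, e⟩ := Submodule.mem_span_pair.1 this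
    obtain rfl : a = 0 := by_contra fun ha => u3 ((Submodule.smul_mem_iff _ ha).1 (by
      rw [eq_sub_of_add_eq e]
      exact sub_mem (Submodule.subset_span (by simp))
        (Submodule.smul_mem _ _ (Submodule.subset_span (by simp)))))
    rw [zero_smul, zero_add] at e
    exact Submodule.mem_span_singleton.2 ⟨b⁻¹, (inv_smul_eq_iff₀
      (left_ne_zero_of_smul (e ▸ hv0))).2 e.symm⟩
  push Not at hc
  obtain ⟨u, hu, u0, u1, z, hz, z1⟩ := hc
  obtain ⟨f, f1, f2⟩ := h.hf.exists_sep1 (u := u) (w := v) fun e => by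
    obtain ⟨c, rfl⟩ := Submodule.mem_span_singleton.1 e
    exact hv (by rw [h.smul, show Q u = 0 from (orth_sing _ u).1 hu, mul_zero])
  obtain ⟨a1, a2⟩ := h.nd_pair h2 (x := (fm (RingHom.id F) G f v)⁻¹ • f) (y := v)
    (by rw [fm_smul_left, inv_mul_cancel₀ f2])
  set A := Submodule.span F {(fm (RingHom.id F) G f v)⁻¹ • f, v}
  have hW := hS.restrict_perp (h.nd a1)
  have a3 := hS.finrank_perp A
  have a4 : ∀ x ∈ h.S.perp A, h.S.h x v = 0 := fun x hx =>
    h.S.h_swap_zero (hx v (Submodule.subset_span (by simp)))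
  have a5 : u ∈ h.S.perp A := (mem_perp_pair _).2 ⟨by simp [h.S_h, fm_smul_left, f1],
    h.S.h_swap_zero u1⟩
  have key := fun x y => exists_EW (H := H) (x := x) (y := y) h3 hW (by omega)
    fun u hu w hw a => hE u w a (a4 u hu) (a4 w hw)
  have hF : Full H u := full_of_BSet hu (fun y hy => by
    obtain e | e := eq_or_ne (h.S.h y v) 0
    · exact hB u hu y u1 e hy
    have hc := div_ne_zero e z1
    obtain ⟨g, g1, g2, g3, -⟩ := key u _ a5 (Submodule.smul_mem _ (h.S.h y v / h.S.h z v) a5) u0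
      (smul_ne_zero hc u0) (sub_mem (hu.smul _) hu)
    have b1 := BSet_smul (hu := hu) hc (BSet_map (hu' := hu.smul _) hz g1 g2)
    have g4 := g3 v (h.S.le_perp_perp A (Submodule.subset_span (by simp)))
    have g5 : h.S.h (g.1 z) v = h.S.h z v := by conv_lhs => rw [← g4, isom_h]
    rw [← sub_add_cancel y ((RingHom.id F) (h.S.h y v / h.S.h z v) • g.1 z)]
    exact add_mem (hB u hu _ u1 (by
      rw [map_sub, LinearMap.sub_apply, h_smul_left, g5]; simp only [RingHom.id_apply, div_mul_cancel₀ _ z1, sub_self])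
      (by rw [map_sub, hy, BSet_perp b1, sub_zero])) b1) fun a _ => hE u 0 a u1 (by simp)
  obtain ⟨w, w1, w2⟩ := exists_partner_mem hW a5 u0 hu
  obtain ⟨g, g1, g2, -⟩ := key u w a5 w1 u0 (by rintro rfl; simpa using w2.h_ef) (sub_mem w2.sing_f hu)
  exact .inl (h.S.E_le_iff.2 fun x y a _ => full_all_of_pair hS hu w2.sing_f hF (g2 ▸ hF.map g1)
    (by rw [w2.h_ef]; exact one_ne_zero) x y a)

theorem plusAt_of {F : Type*} [Field F] [Finite F] {V : Type*} [AddCommGroup V] [Module F V]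
    [FiniteDimensional F V] {S : PForm (orthP F) V} {W T : Submodule F V} (hT : T ≤ W)
    (h : ∀ x ∈ T, S.q x = 0) (h2 : finrank F T = 2) : PlusAt S W := by
  intro x hx hs
  have := finrank_span_one_le (F := F) x
  by_cases hxT : x ∈ T
  · obtain ⟨y, hy, h1, -⟩ := exists_mem_ker_notMem [] T (F ∙ x) (by simp; omega)
    exact ⟨y, hT hy, (orth_sing S y).2 (h y hy), (orth_ts h).h_eq hxT hy, h1⟩
  · obtain ⟨y, hy, h1, h3⟩ := exists_mem_ker_notMem [S.h x] T ⊥ (by simp; omega)
    refine ⟨y, hT hy, (orth_sing S y).2 (h y hy), h3 _ (by simp), fun hm => hxT ?_⟩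
    obtain ⟨c, rfl⟩ := Submodule.mem_span_singleton.1 hm
    exact (T.smul_mem_iff (by rintro rfl; simp at h1)).1 hy

theorem noLine_of {F : Type*} [Field F] [Finite F] {ι : Type} [Fintype ι] [DecidableEq ι]
    {S : PForm (orthP F) (ι → F)} {U : Submodule F (ι → F)} (h4 : finrank F U = 4)
    (h : ¬ Cfsg.Geo.IsPlusTypeOn S.q U) : NoLine S U := by
  intro x hx y hy hs hs' hxy hx0
  by_contra hyx
  refine h ⟨(F ∙ x) ⊔ F ∙ y, sup_le ((Submodule.span_singleton_le_iff_mem _ _).2 hx)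
    ((Submodule.span_singleton_le_iff_mem _ _).2 hy), fun w hw => ?_, ?_⟩
  · rw [← Submodule.span_insert] at hw
    obtain ⟨a, b, rfl⟩ := Submodule.mem_span_pair.1 hw
    exact (orth_sing S _).1 (sing_comb hs hs' hxy a b)
  · rw [Submodule.finrank_sup_span_singleton hyx, finrank_span_singleton hx0, h4]

/-- Maximal subgroups of Ω_8^-(q) of geometric type (any q). Let F be a finite field with q elements, Q a non-degenerate quadratic form on F^8 (non-degenerate polar form) of minus type (Witt index 3: no totally singular 4-space), and Ω = Ω_8^-(q) the commutator subgroup of the isometry group of Q, inside GL_8(F). Each of the following, intersected with Ω, is a maximal subgroup of Ω: (1) the stabiliser of any non-zero subspace on which Q vanishes identically (totally singular 1-, 2- and 3-spaces); (2) for q odd, the stabiliser of any proper subspace of odd dimension (1, 3, 5 or 7) on which the polar form of Q is non-degenerate; (3) the stabiliser of any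 non-degenerate 2-space of minus type (containing no non-zero singular vector); (4) for q ≥ 4, the stabiliser of any non-degenerate 2-space of plus type (containing a non-zero singular vector); (5) the stabiliser of any non-degenerate 4-space (its orthogonal complement is then a non-degenerate 4-space of the opposite type); (6) for q even, the stabiliser of the 1-space spanned by any non-singular vector v (Q(v) ≠ 0); (7) for q odd, the normaliser of any degree-2 subfield K of the matrix algebra whose elements are self-adjoint for the polar form of Q (Q is then the trace of a quadratic form over K); (8) every subfield group for a subfield F₀ of odd prime index r in F whose F₀-structure carries a non-zero scalar multiple of Q. -/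
theorem result {F : Type*} [Field F] [Fintype F] (Q : (Fin 8 → F) → F) (hQ : Cfsg.Geo.IsNondegenerateQuadraticForm Q) (hminus : ¬ Cfsg.Geo.IsPlusTypeOn Q ⊤) :
    (∀ W : Submodule F (Fin 8 → F), W ≠ ⊥ → Cfsg.Geo.IsTotallySingularQuad Q W → Cfsg.Geo.IsMaximalIn (Cfsg.Geo.omegaGL Q) (Cfsg.Geo.subspaceStabilizer W ⊓ Cfsg.Geo.omegaGL Q)) ∧
    (Odd (Fintype.card F) → ∀ W : Submodule F (Fin 8 → F), W ≠ ⊥ → W ≠ ⊤ → Odd (Module.finrank F W) → Cfsg.Geo.IsNondegenerateOn (QuadraticMap.polar Q) W → Cfsg.Geo.IsMaximalIn (Cfsg.Geo.omegaGL Q) (Cfsg.Geo.subspaceStabilizer W ⊓ Cfsg.Geo.omegaGL Q)) ∧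
    (∀ W : Submodule F (Fin 8 → F), Module.finrank F W = 2 → Cfsg.Geo.IsNondegenerateOn (QuadraticMap.polar Q) W → ¬ Cfsg.Geo.IsPlusTypeOn Q W → Cfsg.Geo.IsMaximalIn (Cfsg.Geo.omegaGL Q) (Cfsg.Geo.subspaceStabilizer W ⊓ Cfsg.Geo.omegaGL Q)) ∧
    (4 ≤ Fintype.card F → ∀ W : Submodule F (Fin 8 → F), Module.finrank F W = 2 → Cfsg.Geo.IsNondegenerateOn (QuadraticMap.polar Q) W → Cfsg.Geo.IsPlusTypeOn Q W → Cfsg.Geo.IsMaximalIn (Cfsg.Geo.omegaGL Q) (Cfsg.Geo.subspaceStabilizer W ⊓ Cfsg.Geo.omegaGL Q)) ∧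
    (∀ W : Submodule F (Fin 8 → F), Module.finrank F W = 4 → Cfsg.Geo.IsNondegenerateOn (QuadraticMap.polar Q) W → Cfsg.Geo.IsMaximalIn (Cfsg.Geo.omegaGL Q) (Cfsg.Geo.subspaceStabilizer W ⊓ Cfsg.Geo.omegaGL Q)) ∧
    (¬ Odd (Fintype.card F) → ∀ v : (Fin 8 → F), Q v ≠ 0 → Cfsg.Geo.IsMaximalIn (Cfsg.Geo.omegaGL Q) (Cfsg.Geo.subspaceStabilizer (Submodule.span F {v}) ⊓ Cfsg.Geo.omegaGL Q)) ∧
    (Odd (Fintype.card F) → ∀ K : Subalgebra F (Matrix (Fin 8) (Fin 8) F), Cfsg.Geo.IsFieldSubalgebra 2 K → Cfsg.Geo.IsSelfAdjointFor (QuadraticMap.polar Q) K → Cfsg.Geo.IsMaximalIn (Cfsg.Geo.omegaGL Q) (Cfsg.Geo.subalgebraNormalizer K ⊓ Cfsg.Geo.omegaGL Q)) ∧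
    (∀ (F₀ : Subfield F) (r : ℕ) (P : Matrix.GeneralLinearGroup (Fin 8) F) (ζ : F), r.Prime → Odd r → Fintype.card F = Nat.card F₀ ^ r → ζ ≠ 0 → Cfsg.Geo.IsQuadFormRationalStructure (fun v : Fin 8 → F => ζ * Q v) F₀ P → Cfsg.Geo.IsMaximalIn (Cfsg.Geo.omegaGL Q) (Cfsg.Geo.subfieldSubgroup F₀ P ⊓ Cfsg.Geo.omegaGL Q)) := by
  have hS := quadOf_nondeg hQ
  have e : Cfsg.Geo.omegaGL Q = EGL (orthS (quadOf hQ)) := by
    rw [← omegaGL_eq _ hS (by simp)]; rfl
  have small : ∀ W : Submodule F (Fin 8 → F), W ≠ ⊥ → finrank F W ≤ 3 →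
      Cfsg.Geo.IsNondegenerateOn (QuadraticMap.polar Q) W →
      ¬ (Fintype.card F ≤ 3 ∧ finrank F W = 2 ∧ Cfsg.Geo.IsPlusTypeOn Q W) →
      Cfsg.Geo.IsMaximalIn (Cfsg.Geo.omegaGL Q) (Cfsg.Geo.subspaceStabilizer W ⊓ Cfsg.Geo.omegaGL Q) := by
    intro W hW0 h3 hW hex
    have hW' := restrict_nondeg_of_on (orthS (quadOf hQ)) (fun x y h => h) hW
    have h1 := hS.finrank_perp W
    simp only [finrank_fintype_fun_eq_card, Fintype.card_fin] at h1
    rw [e]
    refine isMaximalIn_nd hS (iso3_orth _) (hS.restrict_perp hW') (by omega)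
      (by rwa [hS.perp_perp]) (by
        rw [hS.perp_perp]
        exact orth_irr_of_hex hQ hW' fun h => hex ⟨h.1, h.2.1, h.2.2.2⟩)
      (hside_of_lt (by rw [hS.perp_perp]; omega)) _ ?_
    rw [comap_subspaceStabilizer, stab_perp hS]
  refine ⟨fun W hW0 hW => ?_, fun hodd W hW0 hW1 ho hW => ?_,
    fun W h2 hW hp => small W (fun h => by rw [h, finrank_bot] at h2; omega) (by omega) hW fun h => hp h.2.2,
    fun h4 W h2 hW hp => small W (fun h => by rw [h, finrank_bot] at h2; omega) (by omega) hW fun h => by omega,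
    fun W h4 hW => ?_, fun h v hv => nonsing_line le_rfl Q hQ h v hv,
    fun hodd K hK hsa => oo_fld_max (two_ne_zero_of_odd hodd) (by simp) hQ Nat.prime_two (by simp)
      hK hsa, fun F₀ r P ζ hr _ hcard hζ hP => oo_rat7 (by simp) hQ hr hcard hζ hP⟩
  · rw [e]
    have hU : (orthS (quadOf hQ)).TS W := orth_ts hW
    refine isMaximalIn_ts hS (by simp) hU hW0 (Or.inr ?_)
    by_cases h : 2 * finrank F W + 2 < finrank F (Fin 8 → F)
    · exact Or.inl h
    · refine Or.inr fun U' hU' hle => (Submodule.eq_of_le_of_finrank_le hle ?_).ge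
      have := hU'.two_mul_finrank_le hS
      have h2 : 2 * finrank F U' ≠ 8 := fun h2 => hminus ⟨U', le_top,
        fun w hw => (orth_sing _ w).1 (hU'.sing w hw), by simpa using h2⟩
      simp at h this
      omega
  · obtain ⟨k, hk⟩ := ho
    by_cases h3 : finrank F W ≤ 3
    · exact small W hW0 h3 hW fun h => by omega
    have hW' := restrict_nondeg_of_on (orthS (quadOf hQ)) (fun x y h => h) hW
    have h1 := hS.finrank_perp W
    simp only [finrank_fintype_fun_eq_card, Fintype.card_fin] at h1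
    rw [e]
    exact isMaximalIn_nd hS (iso3_orth _) hW' (by omega)
      (fun h' => by rw [h', finrank_bot] at h1; omega)
      (orth_irr (hS.restrict_perp hW') (by omega)) (hside_of_lt (by omega)) _
      (comap_subspaceStabilizer _ W)
  · have hW' := restrict_nondeg_of_on (orthS (quadOf hQ)) (fun x y h => h) hW
    have h1 := hS.finrank_perp W
    simp only [finrank_fintype_fun_eq_card, Fintype.card_fin] at h1
    obtain ⟨G, h⟩ := exists_qInv hQ
    have a4 : Cfsg.Geo.IsNondegenerateOn (fm (RingHom.id F) G) W := h.2.1 ▸ hW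
    obtain ⟨h5, h6⟩ := pp_compl (inf_pp a4)
    simp only [Fintype.card_fin] at h6
    have h7 := h.typ_sup a4 (h.hf.nd_of_inf (inf_pp a4)).2
      (fun x hx y hy => h.hf.eq_zero_comm (hy x hx)) (by omega) (by omega)
    rw [h5, typ_eq_neg.2 hminus, ← h.S_perp W] at h7
    rw [e]
    by_cases hp : Cfsg.Geo.IsPlusTypeOn Q W
    · rw [typ_eq_one.2 hp, one_mul, eq_comm, typ_eq_neg] at h7
      obtain ⟨T, a1, a2, a3⟩ := hp
      exact isMaximalIn_nd4 hS hW' h4 (Or.inr ⟨by simp, plusAt_of a1 a2 (by omega),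
        noLine_of (by omega) h7⟩) _ (comap_subspaceStabilizer _ W)
    · rw [typ_eq_neg.2 hp, neg_one_mul, neg_inj, eq_comm, typ_eq_one] at h7
      obtain ⟨T, a1, a2, a3⟩ := h7
      refine isMaximalIn_nd4 hS (hS.restrict_perp hW') (by omega) (Or.inr ⟨by simp,
        plusAt_of a1 a2 (by change 2 * _ = finrank F ((orthS (quadOf hQ)).perp W) at a3; omega),
        by rw [hS.perp_perp]; exact noLine_of h4 hp⟩) _ ?_
      rw [comap_subspaceStabilizer, stab_perp hS]

end Cfsg.Agent.S5825
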