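import Cfsg.Statements.S5850
import Cfsg.Agent.H29.Cv5

set_option autoImplicit false
open Cfsg

namespace Cfsg.Agent.S5850

/-- Every maximal subgroup of Ω_10^-(q) is of one of the listed geometric types or lies in the residual class. Let F be a finite field with q elements (characteristic p), Q a non-degenerate quadratic form on F^10 of minus type (Witt index 4: no totally singular 5-space), Ω the commutator subgroup of its isometry group, and H a maximal subgroup of Ω (inside GL_10(F)). Then H is the intersection with Ω of one of: the stabiliser of a non-zero totally singular subspace; for q odd, the stabiliser of a non-degenerate subspace of odd dimension ≠ 5; the stabiliser of a non-degenerate 2-space of minus type; for q ≥ 4, the stabiliser of a non-degenerate 2-space of plus type; the stabiliser of a non-degenerate 4-space; for q even, the stabiliser of the span of a non-singular vector; for q = p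 prime with p ≡ 3 mod 4, the stabiliser of a decomposition into 10 pairwise orthogonal, pairwise isometric non-degenerate 1-spaces; for q ≠ 3, the stabiliser of a decomposition into 5 pairwise orthogonal, pairwise isometric non-degenerate 2-spaces; for q ≡ 3 mod 4, the stabiliser of a decomposition into 2 pairwise orthogonal, pairwise isometric non-degenerate 5-spaces; for q ≡ 1 mod 4, the stabiliser of a decomposition into two orthogonal, non-isometric non-degenerate 5-spaces; for q odd, the normaliser of a degree-2 subfield of the matrix algebra, self-adjoint for the polar form; the normaliser of a degree-2 subfield K, adjoint-closed but not self-adjoint, acting by similarities of Q; a subfield group (|F| = |F₀|^r, r odd prime) whose F₀-structure carries a non-zero multiple of Q — or else H lies in the residual class of the orthogonal case (modulo scalars H is almost simple, with absolutely irreducible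 perfect socle preimage realisable over no proper subfield and fixing no non-degenerate unitary form). -/
theorem result {F : Type*} [Field F] [Fintype F] (Q : (Fin 10 → F) → F) (hQ : Cfsg.Geo.IsNondegenerateQuadraticForm Q) (hminus : ¬ Cfsg.Geo.IsPlusTypeOn Q ⊤) (H : Subgroup (Matrix.GeneralLinearGroup (Fin 10) F)) (hH : Cfsg.Geo.IsMaximalIn (Cfsg.Geo.omegaGL Q) H) :
    (∃ W : Submodule F (Fin 10 → F), W ≠ ⊥ ∧ Cfsg.Geo.IsTotallySingularQuad Q W ∧ H = Cfsg.Geo.subspaceStabilizer W ⊓ Cfsg.Geo.omegaGL Q) ∨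
    (Odd (Fintype.card F) ∧ ∃ W : Submodule F (Fin 10 → F), W ≠ ⊥ ∧ W ≠ ⊤ ∧ Odd (Module.finrank F W) ∧ 2 * Module.finrank F W ≠ 10 ∧ Cfsg.Geo.IsNondegenerateOn (QuadraticMap.polar Q) W ∧ H = Cfsg.Geo.subspaceStabilizer W ⊓ Cfsg.Geo.omegaGL Q) ∨
    (∃ W : Submodule F (Fin 10 → F), Module.finrank F W = 2 ∧ Cfsg.Geo.IsNondegenerateOn (QuadraticMap.polar Q) W ∧ ¬ Cfsg.Geo.IsPlusTypeOn Q W ∧ H = Cfsg.Geo.subspaceStabilizer W ⊓ Cfsg.Geo.omegaGL Q) ∨
    (4 ≤ Fintype.card F ∧ ∃ W : Submodule F (Fin 10 → F), Module.finrank F W = 2 ∧ Cfsg.Geo.IsNondegenerateOn (QuadraticMap.polar Q) W ∧ Cfsg.Geo.IsPlusTypeOn Q W ∧ H = Cfsg.Geo.subspaceStabilizer W ⊓ Cfsg.Geo.omegaGL Q) ∨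
    (∃ W : Submodule F (Fin 10 → F), Module.finrank F W = 4 ∧ Cfsg.Geo.IsNondegenerateOn (QuadraticMap.polar Q) W ∧ H = Cfsg.Geo.subspaceStabilizer W ⊓ Cfsg.Geo.omegaGL Q) ∨
    (¬ Odd (Fintype.card F) ∧ ∃ v : (Fin 10 → F), Q v ≠ 0 ∧ H = Cfsg.Geo.subspaceStabilizer (Submodule.span F {v}) ⊓ Cfsg.Geo.omegaGL Q) ∨
    ((∃ p : ℕ, p.Prime ∧ Fintype.card F = p ∧ (p % 4 = 3)) ∧ ∃ D : Fin 10 → Submodule F (Fin 10 → F), Cfsg.Geo.IsOrthogonalMDecomposition Q 1 D ∧ H = Cfsg.Geo.decompositionStabilizer D ⊓ Cfsg.Geo.omegaGL Q) ∨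
    (Fintype.card F ≠ 3 ∧ ∃ D : Fin 5 → Submodule F (Fin 10 → F), Cfsg.Geo.IsOrthogonalMDecomposition Q 2 D ∧ H = Cfsg.Geo.decompositionStabilizer D ⊓ Cfsg.Geo.omegaGL Q) ∨
    (Fintype.card F % 4 = 3 ∧ ∃ D : Fin 2 → Submodule F (Fin 10 → F), Cfsg.Geo.IsOrthogonalMDecomposition Q 5 D ∧ H = Cfsg.Geo.decompositionStabilizer D ⊓ Cfsg.Geo.omegaGL Q) ∨
    (Fintype.card F % 4 = 1 ∧ ∃ D : Fin 2 → Submodule F (Fin 10 → F), Cfsg.Geo.IsNondegenerateMDecomposition (QuadraticMap.polar Q) 5 D ∧ ¬ Cfsg.Geo.AreIsometricFor Q (D 0) (D 1) ∧ H = Cfsg.Geo.decompositionStabilizer D ⊓ Cfsg.Geo.omegaGL Q) ∨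
    (Odd (Fintype.card F) ∧ ∃ K : Subalgebra F (Matrix (Fin 10) (Fin 10) F), Cfsg.Geo.IsFieldSubalgebra 2 K ∧ Cfsg.Geo.IsSelfAdjointFor (QuadraticMap.polar Q) K ∧ H = Cfsg.Geo.subalgebraNormalizer K ⊓ Cfsg.Geo.omegaGL Q) ∨
    (∃ K : Subalgebra F (Matrix (Fin 10) (Fin 10) F), Cfsg.Geo.IsFieldSubalgebra 2 K ∧ Cfsg.Geo.IsAdjointClosedFor (QuadraticMap.polar Q) K ∧ ¬ Cfsg.Geo.IsSelfAdjointFor (QuadraticMap.polar Q) K ∧ (∀ k ∈ K, ∃ c : F, ∀ v : (Fin 10 → F), Q (Matrix.mulVec k v) = c * Q v) ∧ H = Cfsg.Geo.subalgebraNormalizer K ⊓ Cfsg.Geo.omegaGL Q) ∨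
    (∃ (F₀ : Subfield F) (r : ℕ) (P : Matrix.GeneralLinearGroup (Fin 10) F) (ζ : F), r.Prime ∧ Odd r ∧ Fintype.card F = Nat.card F₀ ^ r ∧ ζ ≠ 0 ∧ Cfsg.Geo.IsQuadFormRationalStructure (fun v : Fin 10 → F => ζ * Q v) F₀ P ∧ H = Cfsg.Geo.subfieldSubgroup F₀ P ⊓ Cfsg.Geo.omegaGL Q) ∨
    Cfsg.Geo.InOrthogonalResidualClass H := by
  have key1 : ∀ {q : ℕ}, Odd q → q ^ 5 % 4 ≠ 3 → q % 4 = 1 := fun {q} h1 h2 => by
    obtain e | e : q % 4 = 1 ∨ q % 4 = 3 := by have := Nat.odd_iff.1 h1; omega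
    exacts [e, absurd (by rw [Nat.pow_mod, e]) h2]
  have key3 : ∀ {q : ℕ}, Odd q → q ^ 5 % 4 ≠ 1 → q % 4 = 3 := fun {q} h1 h2 => by
    obtain e | e : q % 4 = 1 ∨ q % 4 = 3 := by have := Nat.odd_iff.1 h1; omega
    exacts [absurd (by rw [Nat.pow_mod, e]) h2, e]
  rcases H29.oe_max (m := 5) hQ rfl (by norm_num) hH with (⟨W, h1, h2, h3, h⟩ |
    ⟨ho, W, h1, h2, h3, h4, h⟩ | ⟨k, W, h1, h2, h3, h4, h5, h⟩ | ⟨h1, h2, h⟩ | h |
    ⟨t, k, D, h1, h2, h3, h4, h5, h6, h7, h8, h9, h⟩ | ⟨h1, h2, h3, h⟩ | ⟨h1, h2, h⟩ |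
    ⟨F₀, r, P, ζ, h1, h2, h⟩ | ⟨r, K, hr, h1, h2, h3, h4, h5, h⟩ | ⟨h0, K, h1, h2, h3, h4, h⟩ |
    ⟨h1, h2, h⟩ | ⟨a, b, e, P, f₁, f₂, h1, h2, h3, ⟨a', h4⟩, ⟨b', h5⟩, h6, h⟩ |
    ⟨ho, a, b, e, P, f₁, f₂, h1, h2, h3, h4, h5, h6, h7, h⟩ | ⟨k, t, h1, h2, h3⟩) | h
  · exact .inl (⟨W, h1, h2, h⟩)
  · exact .inr (.inl (⟨ho, W, h2, h3, h4, by omega, h⟩))
  · obtain rfl | rfl : k = 1 ∨ k = 2 := by omega
    · by_cases hp : Cfsg.Geo.IsPlusTypeOn Q W
      · exact .inr (.inr (.inr (.inl (⟨h3 rfl hp, W, h4, h5, hp, h⟩))))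
      · exact .inr (.inr (.inl (⟨W, h4, h5, hp, h⟩)))
    · exact .inr (.inr (.inr (.inr (.inl (⟨W, h4, h5, h⟩)))))
  · exact absurd h2 (by decide)
  · exact .inr (.inr (.inr (.inr (.inr (.inl (h))))))
  · obtain ⟨rfl, rfl⟩ | ⟨rfl, rfl⟩ | ⟨rfl, rfl⟩ : t = 10 ∧ k = 1 ∨ t = 5 ∧ k = 2 ∨ t = 2 ∧ k = 5 := by
      have : t ≤ 10 := Nat.le_of_dvd (by norm_num) ⟨_, h1.symm⟩
      interval_cases t <;> omega
    · exact .inr (.inr (.inr (.inr (.inr (.inr (.inl (⟨⟨_, h3 rfl, rfl, key3 (h7 (by decide)).1 (mt (h7 (by decide)).2.2 hminus)⟩, D, h9, h⟩)))))))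
    · exact .inr (.inr (.inr (.inr (.inr (.inr (.inr (.inl (⟨(h4 rfl).1, D, h9, h⟩))))))))
    · exact .inr (.inr (.inr (.inr (.inr (.inr (.inr (.inr (.inl (⟨key3 (h7 (by decide)).1 (mt (h7 (by decide)).2.2 hminus), D, h9, h⟩)))))))))
  · exact .inr (.inr (.inr (.inr (.inr (.inr (.inr (.inr (.inr (.inl (⟨key1 h2 (mt h3.2 hminus), h⟩))))))))))
  · exact absurd h1 hminus
  · exact .inr (.inr (.inr (.inr (.inr (.inr (.inr (.inr (.inr (.inr (.inr (.inr (.inl (⟨F₀, r, P, ζ, h2, h2.odd_of_ne_two (mt h1 hminus), h⟩)))))))))))))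
  · obtain rfl : r = 2 := by
      have : r ≤ 10 := Nat.le_of_dvd (by norm_num) h1
      interval_cases r <;> first | omega | norm_num at hr
    exact .inr (.inr (.inr (.inr (.inr (.inr (.inr (.inr (.inr (.inr (.inl (⟨by_contra fun e => absurd (h3 e) (by decide), K, h4, h5, h⟩)))))))))))
  · exact .inr (.inr (.inr (.inr (.inr (.inr (.inr (.inr (.inr (.inr (.inr (.inl (⟨K, h1, h2, h3, h4, h⟩))))))))))))
  · exact absurd h1 hminus
  · have : a ≤ 3 := by nlinarith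
    obtain rfl : a = 2 := by omega
    omega
  · have : a ≤ 3 := by nlinarith
    obtain rfl : a = 3 := by omega
    omega
  · have hk : 1 < k := by
      by_contra! e
      interval_cases k <;> simp [Nat.zero_pow (show 0 < t by omega)] at h2
    have : k ^ 2 ≤ k ^ t := Nat.pow_le_pow_right (by omega) h1
    have : k ≤ 3 := by nlinarith
    have : t < 10 := (Nat.lt_pow_self hk).trans_eq h2
    interval_cases k <;> interval_cases t <;> simp_all
  · exact .inr (.inr (.inr (.inr (.inr (.inr (.inr (.inr (.inr (.inr (.inr (.inr (.inr (h)))))))))))))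

end Cfsg.Agent.S5850
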