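import Cfsg.Statements.S5873
import Cfsg.Agent.H29.O5
import Cfsg.Agent.H29.ExtU5
import Cfsg.Agent.H29.ExtO2
import Cfsg.Agent.H29.Typ
import Cfsg.Agent.H23.OR2
import Cfsg.Agent.H23.TQ4

set_option autoImplicit false
open Cfsg

namespace Cfsg.Agent.S5873

open H29 H11 H11.PForm Matrix Module
theorem ts_minus {F : Type*} [Field F] [Fintype F] {n : ℕ} (hn : 7 ≤ n) (heven : Even n) (Q : (Fin n → F) → F) (hQ : Cfsg.Geo.IsNondegenerateQuadraticForm Q) (hminus : ¬ Cfsg.Geo.IsPlusTypeOn Q ⊤) (W : Submodule F (Fin n → F)) (hW0 : W ≠ ⊥) (hW : Cfsg.Geo.IsTotallySingularQuad Q W) : Cfsg.Geo.IsMaximalIn (Cfsg.Geo.omegaGL Q) (Cfsg.Geo.subspaceStabilizer W ⊓ Cfsg.Geo.omegaGL Q) := by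
  have hS := H29.quadOf_nondeg hQ
  rw [← H29.coe_quadOf hQ, H29.omegaGL_eq _ hS (by simp; omega)]
  have hU : (H11.orthS (H29.quadOf hQ)).TS W := H29.orth_ts hW
  refine H29.isMaximalIn_ts hS (by simp; omega) hU hW0 (Or.inr ?_)
  by_cases h : 2 * Module.finrank F W + 2 < Module.finrank F (Fin n → F)
  · exact Or.inl h
  · refine Or.inr fun U' hU' hle => (Submodule.eq_of_le_of_finrank_le hle ?_).ge
    have := hU'.two_mul_finrank_le hS
    have h2 : 2 * Module.finrank F U' ≠ n := fun h2 => hminus ⟨U', le_top,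
      fun w hw => (H11.PForm.orth_sing _ w).1 (hU'.sing w hw), by simpa using h2⟩
    obtain ⟨k, rfl⟩ := heven
    simp at h this
    omega

theorem nd_of {F : Type*} [Field F] [Fintype F] {n : ℕ} (hn : 9 ≤ n) {Q : (Fin n → F) → F}
    (hQ : Cfsg.Geo.IsNondegenerateQuadraticForm Q) {W : Submodule F (Fin n → F)}
    (hW : Cfsg.Geo.IsNondegenerateOn (QuadraticMap.polar Q) W) (h0 : 0 < finrank F W)
    (h1 : finrank F W < n) (h2 : 2 * finrank F W ≠ n) (h3 : finrank F W + 2 ≠ n)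
    (h4 : finrank F W = 2 → Cfsg.Geo.IsPlusTypeOn Q W → 4 ≤ Fintype.card F) :
    Cfsg.Geo.IsMaximalIn (Cfsg.Geo.omegaGL Q) (Cfsg.Geo.subspaceStabilizer W ⊓ Cfsg.Geo.omegaGL Q) := by
  refine oo_nd_max hn hQ W (by rintro rfl; simp at h0) (by rintro rfl; simp at h1) hW
    (fun h => absurd h h2) ?_ _ (comap_subspaceStabilizer _ W)
  rintro ⟨a, U, b, -, c, rfl | d⟩
  · have := h4 b c; omega
  · omega

theorem nd_odd {F : Type*} [Field F] [Fintype F] {n : ℕ} (hn : 9 ≤ n) (he : Even n)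
    {Q : (Fin n → F) → F} (hQ : Cfsg.Geo.IsNondegenerateQuadraticForm Q) (W : Submodule F (Fin n → F))
    (h0 : Odd (finrank F W)) (h2 : 2 * finrank F W ≠ n)
    (hW : Cfsg.Geo.IsNondegenerateOn (QuadraticMap.polar Q) W) :
    Cfsg.Geo.IsMaximalIn (Cfsg.Geo.omegaGL Q) (Cfsg.Geo.subspaceStabilizer W ⊓ Cfsg.Geo.omegaGL Q) := by
  have := W.finrank_le
  rw [finrank_fin_fun] at this
  obtain ⟨a, ha⟩ := h0
  obtain ⟨b, hb⟩ := he
  exact nd_of hn hQ hW (by omega) (by omega) h2 (by omega) (by omega)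

/-- Maximal subgroups of Ω_12^-(q) of geometric type (any q). Let F be a finite field with q elements (characteristic p), Q a non-degenerate quadratic form on F^12 (non-degenerate polar form) of minus type (Witt index 5: no totally singular 6-space), and Ω = Ω_12^-(q) the commutator subgroup of the isometry group of Q, inside GL_12(F). Each of the following, intersected with Ω, is a maximal subgroup of Ω: (1) the stabiliser of any non-zero subspace on which Q vanishes identically (totally singular subspaces, dimensions 1 to 5); (2) for q odd, the stabiliser of any subspace of odd dimension on which the polar form of Q is non-degenerate; (3) the stabiliser of any non-degenerate 2-space of minus type (containing no non-zero singular vector); (4) for q ≥ 4, the stabiliser of any non-degenerate 2-space of plus type (containing a non-zero singular vector); (5) the stabiliser of any non-degenerate 4-space (either type); (6) the stabiliser of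 any non-degenerate 6-space (either type); (7) for q even, the stabiliser of the 1-space spanned by any non-singular vector v (Q(v) ≠ 0); (8) the stabiliser of any decomposition of F^12 into 3 pairwise orthogonal, pairwise Q-isometric non-degenerate 4-spaces of minus type; (9) for q odd, the normaliser of any degree-2 subfield K of the matrix algebra whose elements are self-adjoint for the polar form of Q (Q is then the trace of a quadratic form over K); (10) for q odd, the normaliser of any degree-3 subfield K of the matrix algebra whose elements are self-adjoint for the polar form of Q (Q is then the trace of a quadratic form over K); (11) for q odd with q ≥ 5, the stabiliser of any tensor decomposition F^12 = F^3 ⊗ F^4 in which the polar form of Q is the product of non-degenerate symmetric bilinear forms, the second of minus type, up to a scalar; (12) every subfield group for a subfield F₀ with |F| = |F₀|^r, r an odd prime, whose F₀-structure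 carries a non-zero scalar multiple of Q. -/
theorem result {F : Type*} [Field F] [Fintype F] (Q : (Fin 12 → F) → F) (hQ : Cfsg.Geo.IsNondegenerateQuadraticForm Q) (hminus : ¬ Cfsg.Geo.IsPlusTypeOn Q ⊤) :
    (∀ W : Submodule F (Fin 12 → F), W ≠ ⊥ → Cfsg.Geo.IsTotallySingularQuad Q W → Cfsg.Geo.IsMaximalIn (Cfsg.Geo.omegaGL Q) (Cfsg.Geo.subspaceStabilizer W ⊓ Cfsg.Geo.omegaGL Q)) ∧
    (Odd (Fintype.card F) → ∀ W : Submodule F (Fin 12 → F), W ≠ ⊥ → W ≠ ⊤ → Odd (Module.finrank F W) → 2 * Module.finrank F W ≠ 12 → Cfsg.Geo.IsNondegenerateOn (QuadraticMap.polar Q) W → Cfsg.Geo.IsMaximalIn (Cfsg.Geo.omegaGL Q) (Cfsg.Geo.subspaceStabilizer W ⊓ Cfsg.Geo.omegaGL Q)) ∧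
    (∀ W : Submodule F (Fin 12 → F), Module.finrank F W = 2 → Cfsg.Geo.IsNondegenerateOn (QuadraticMap.polar Q) W → ¬ Cfsg.Geo.IsPlusTypeOn Q W → Cfsg.Geo.IsMaximalIn (Cfsg.Geo.omegaGL Q) (Cfsg.Geo.subspaceStabilizer W ⊓ Cfsg.Geo.omegaGL Q)) ∧
    (4 ≤ Fintype.card F → ∀ W : Submodule F (Fin 12 → F), Module.finrank F W = 2 → Cfsg.Geo.IsNondegenerateOn (QuadraticMap.polar Q) W → Cfsg.Geo.IsPlusTypeOn Q W → Cfsg.Geo.IsMaximalIn (Cfsg.Geo.omegaGL Q) (Cfsg.Geo.subspaceStabilizer W ⊓ Cfsg.Geo.omegaGL Q)) ∧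
    (∀ W : Submodule F (Fin 12 → F), Module.finrank F W = 4 → Cfsg.Geo.IsNondegenerateOn (QuadraticMap.polar Q) W → Cfsg.Geo.IsMaximalIn (Cfsg.Geo.omegaGL Q) (Cfsg.Geo.subspaceStabilizer W ⊓ Cfsg.Geo.omegaGL Q)) ∧
    (∀ W : Submodule F (Fin 12 → F), Module.finrank F W = 6 → Cfsg.Geo.IsNondegenerateOn (QuadraticMap.polar Q) W → Cfsg.Geo.IsMaximalIn (Cfsg.Geo.omegaGL Q) (Cfsg.Geo.subspaceStabilizer W ⊓ Cfsg.Geo.omegaGL Q)) ∧
    (¬ Odd (Fintype.card F) → ∀ v : (Fin 12 → F), Q v ≠ 0 → Cfsg.Geo.IsMaximalIn (Cfsg.Geo.omegaGL Q) (Cfsg.Geo.subspaceStabilizer (Submodule.span F {v}) ⊓ Cfsg.Geo.omegaGL Q)) ∧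
    (∀ D : Fin 3 → Submodule F (Fin 12 → F), Cfsg.Geo.IsOrthogonalMDecomposition Q 4 D → (∀ i, ¬ Cfsg.Geo.IsPlusTypeOn Q (D i)) → Cfsg.Geo.IsMaximalIn (Cfsg.Geo.omegaGL Q) (Cfsg.Geo.decompositionStabilizer D ⊓ Cfsg.Geo.omegaGL Q)) ∧
    (Odd (Fintype.card F) → ∀ K : Subalgebra F (Matrix (Fin 12) (Fin 12) F), Cfsg.Geo.IsFieldSubalgebra 2 K → Cfsg.Geo.IsSelfAdjointFor (QuadraticMap.polar Q) K → Cfsg.Geo.IsMaximalIn (Cfsg.Geo.omegaGL Q) (Cfsg.Geo.subalgebraNormalizer K ⊓ Cfsg.Geo.omegaGL Q)) ∧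
    (Odd (Fintype.card F) → ∀ K : Subalgebra F (Matrix (Fin 12) (Fin 12) F), Cfsg.Geo.IsFieldSubalgebra 3 K → Cfsg.Geo.IsSelfAdjointFor (QuadraticMap.polar Q) K → Cfsg.Geo.IsMaximalIn (Cfsg.Geo.omegaGL Q) (Cfsg.Geo.subalgebraNormalizer K ⊓ Cfsg.Geo.omegaGL Q)) ∧
    (Odd (Fintype.card F) ∧ 5 ≤ Fintype.card F → ∀ (e : Fin 12 ≃ Fin 3 × Fin 4) (P : Matrix.GeneralLinearGroup (Fin 12) F) (f₁ : (Fin 3 → F) → (Fin 3 → F) → F) (f₂ : (Fin 4 → F) → (Fin 4 → F) → F), Cfsg.Geo.IsSymmetricForm f₁ → Cfsg.Geo.IsSymmetricForm f₂ → ¬ Cfsg.Geo.IsPlusTypeOn (fun v : Fin 4 → F => f₂ v v) ⊤ → Cfsg.Geo.IsTensorFormStructure id (QuadraticMap.polar Q) f₁ f₂ e P → Cfsg.Geo.IsMaximalIn (Cfsg.Geo.omegaGL Q) (Cfsg.Geo.tensorProductSubgroup 3 4 e P ⊓ Cfsg.Geo.omegaGL Q)) ∧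
    (∀ (F₀ : Subfield F) (r : ℕ) (P : Matrix.GeneralLinearGroup (Fin 12) F) (ζ : F), r.Prime → Odd r → Fintype.card F = Nat.card F₀ ^ r → ζ ≠ 0 → Cfsg.Geo.IsQuadFormRationalStructure (fun v : Fin 12 → F => ζ * Q v) F₀ P → Cfsg.Geo.IsMaximalIn (Cfsg.Geo.omegaGL Q) (Cfsg.Geo.subfieldSubgroup F₀ P ⊓ Cfsg.Geo.omegaGL Q)) := by
  refine ⟨ts_minus (by omega) (by decide) Q hQ hminus,
    fun _ W _ _ a b c => nd_odd (by omega) (by decide) hQ W a b c,
    fun W a b c => nd_of (by omega) hQ b (by omega) (by omega) (by omega) (by omega) fun _ d => absurd d c,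
    fun q W a b _ => nd_of (by omega) hQ b (by omega) (by omega) (by omega) (by omega) fun _ _ => q,
    fun W a b => nd_of (by omega) hQ b (by omega) (by omega) (by omega) (by omega) (by omega),
    fun W a hW => oo_nd_max (by omega) hQ W (by rintro rfl; simp at a) (by rintro rfl; simp at a) hW
      (fun _ g hg => ?_) ?_ _ (comap_subspaceStabilizer _ W),
    oo_nsv_max (by omega) Q hQ,
    fun D hD m => oo_odec_ten (by omega) hQ (by omega) hD (by omega) (by omega) (fun _ _ b => m 0 (b 0)),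
    fun q K => oo_fld_max (two_ne_zero_of_odd q) (by simp) hQ Nat.prime_two (by simp),
    fun q K => oo_fld_max (two_ne_zero_of_odd q) (by simp) hQ Nat.prime_three (by simp),
    fun q e P f₁ f₂ a b c d => H23.Tq.oo_ten4 q.1 hQ rfl rfl (by omega) e P a b c d,
    fun F₀ r P ζ a _ b c => H23.OR.oo_rat7 (by simp) hQ a b c⟩
  · have h1 := (quadOf_nondeg hQ).finrank_perp W
    simp only [finrank_fintype_fun_eq_card, Fintype.card_fin] at h1
    obtain ⟨G, h⟩ := exists_qInv hQ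
    have a4 : Cfsg.Geo.IsNondegenerateOn (fm (RingHom.id F) G) W := h.2.1 ▸ hW
    obtain ⟨h5, h6⟩ := pp_compl (inf_pp a4)
    simp only [Fintype.card_fin] at h6
    have h7 := h.typ_sup a4 (h.hf.nd_of_inf (inf_pp a4)).2
      (fun x hx y hy => h.hf.eq_zero_comm (hy x hx)) (by omega) (by omega)
    have h8 : W.map (g.1 : (Fin 12 → F) →ₗ[F] (Fin 12 → F)) = (orthS (quadOf hQ)).perp W :=
      Submodule.eq_of_le_of_finrank_le (by rintro _ ⟨x, hx, rfl⟩; exact hg x hx) (by
        rw [g.1.finrank_map_eq]; omega)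
    have h9 : Cfsg.Geo.AreIsometricFor Q W (W.map (g.1 : (Fin 12 → F) →ₗ[F] (Fin 12 → F))) :=
      ⟨g.1.submoduleMap W, fun w => orth_isom_q g w⟩
    rw [h5, typ_eq_neg.2 hminus, ← h.S_perp W, ← h8, ← typ_isom h9, Int.units_mul_self] at h7
    exact absurd h7 (by decide)
  · rintro ⟨-, U, b, -, -, rfl | d⟩
    · omega
    · omega

end Cfsg.Agent.S5873
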