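import Cfsg.Statements.S5874
import Cfsg.Agent.H29.Cv5

set_option autoImplicit false
open Cfsg

namespace Cfsg.Agent.S5874

/-- Every maximal subgroup of Ω_12^-(q) is of one of the listed geometric types or lies in the residual class. Let F be a finite field with q elements (characteristic p), Q a non-degenerate quadratic form on F^12 of minus type (Witt index 5: no totally singular 6-space), Ω the commutator subgroup of its isometry group, and H a maximal subgroup of Ω (inside GL_12(F)). Then H is the intersection with Ω of one of: the stabiliser of a non-zero totally singular subspace; for q odd, the stabiliser of a non-degenerate subspace of odd dimension; the stabiliser of a non-degenerate 2-space of minus type; for q ≥ 4, the stabiliser of a non-degenerate 2-space of plus type; the stabiliser of a non-degenerate 4-space; the stabiliser of a non-degenerate 6-space; for q even, the stabiliser of the span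 of a non-singular vector; the stabiliser of a decomposition into 3 pairwise orthogonal, pairwise isometric non-degenerate 4-spaces of minus type; the normaliser of a degree-2 subfield of the matrix algebra; the normaliser of a degree-3 subfield of the matrix algebra; for q odd with q ≥ 5, the stabiliser of a tensor decomposition of the polar form into symmetric forms on F^3 and F^4 (minus type); a subfield group (|F| = |F₀|^r, r odd prime) whose F₀-structure carries a non-zero multiple of Q — or else H lies in the residual class of the orthogonal case (modulo scalars H is almost simple, with absolutely irreducible perfect socle preimage realisable over no proper subfield and fixing no non-degenerate unitary form). -/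
theorem result {F : Type*} [Field F] [Fintype F] (Q : (Fin 12 → F) → F) (hQ : Cfsg.Geo.IsNondegenerateQuadraticForm Q) (hminus : ¬ Cfsg.Geo.IsPlusTypeOn Q ⊤) (H : Subgroup (Matrix.GeneralLinearGroup (Fin 12) F)) (hH : Cfsg.Geo.IsMaximalIn (Cfsg.Geo.omegaGL Q) H) :
    (∃ W : Submodule F (Fin 12 → F), W ≠ ⊥ ∧ Cfsg.Geo.IsTotallySingularQuad Q W ∧ H = Cfsg.Geo.subspaceStabilizer W ⊓ Cfsg.Geo.omegaGL Q) ∨
    (Odd (Fintype.card F) ∧ ∃ W : Submodule F (Fin 12 → F), W ≠ ⊥ ∧ W ≠ ⊤ ∧ Odd (Module.finrank F W) ∧ 2 * Module.finrank F W ≠ 12 ∧ Cfsg.Geo.IsNondegenerateOn (QuadraticMap.polar Q) W ∧ H = Cfsg.Geo.subspaceStabilizer W ⊓ Cfsg.Geo.omegaGL Q) ∨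
    (∃ W : Submodule F (Fin 12 → F), Module.finrank F W = 2 ∧ Cfsg.Geo.IsNondegenerateOn (QuadraticMap.polar Q) W ∧ ¬ Cfsg.Geo.IsPlusTypeOn Q W ∧ H = Cfsg.Geo.subspaceStabilizer W ⊓ Cfsg.Geo.omegaGL Q) ∨
    (4 ≤ Fintype.card F ∧ ∃ W : Submodule F (Fin 12 → F), Module.finrank F W = 2 ∧ Cfsg.Geo.IsNondegenerateOn (QuadraticMap.polar Q) W ∧ Cfsg.Geo.IsPlusTypeOn Q W ∧ H = Cfsg.Geo.subspaceStabilizer W ⊓ Cfsg.Geo.omegaGL Q) ∨
    (∃ W : Submodule F (Fin 12 → F), Module.finrank F W = 4 ∧ Cfsg.Geo.IsNondegenerateOn (QuadraticMap.polar Q) W ∧ H = Cfsg.Geo.subspaceStabilizer W ⊓ Cfsg.Geo.omegaGL Q) ∨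
    (∃ W : Submodule F (Fin 12 → F), Module.finrank F W = 6 ∧ Cfsg.Geo.IsNondegenerateOn (QuadraticMap.polar Q) W ∧ H = Cfsg.Geo.subspaceStabilizer W ⊓ Cfsg.Geo.omegaGL Q) ∨
    (¬ Odd (Fintype.card F) ∧ ∃ v : (Fin 12 → F), Q v ≠ 0 ∧ H = Cfsg.Geo.subspaceStabilizer (Submodule.span F {v}) ⊓ Cfsg.Geo.omegaGL Q) ∨
    (∃ D : Fin 3 → Submodule F (Fin 12 → F), Cfsg.Geo.IsOrthogonalMDecomposition Q 4 D ∧ (∀ i, ¬ Cfsg.Geo.IsPlusTypeOn Q (D i)) ∧ H = Cfsg.Geo.decompositionStabilizer D ⊓ Cfsg.Geo.omegaGL Q) ∨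
    (∃ K : Subalgebra F (Matrix (Fin 12) (Fin 12) F), Cfsg.Geo.IsFieldSubalgebra 2 K ∧ H = Cfsg.Geo.subalgebraNormalizer K ⊓ Cfsg.Geo.omegaGL Q) ∨
    (∃ K : Subalgebra F (Matrix (Fin 12) (Fin 12) F), Cfsg.Geo.IsFieldSubalgebra 3 K ∧ H = Cfsg.Geo.subalgebraNormalizer K ⊓ Cfsg.Geo.omegaGL Q) ∨
    (Odd (Fintype.card F) ∧ 5 ≤ Fintype.card F ∧ ∃ (e : Fin 12 ≃ Fin 3 × Fin 4) (P : Matrix.GeneralLinearGroup (Fin 12) F) (f₁ : (Fin 3 → F) → (Fin 3 → F) → F) (f₂ : (Fin 4 → F) → (Fin 4 → F) → F), Cfsg.Geo.IsSymmetricForm f₁ ∧ Cfsg.Geo.IsSymmetricForm f₂ ∧ ¬ Cfsg.Geo.IsPlusTypeOn (fun v : Fin 4 → F => f₂ v v) ⊤ ∧ Cfsg.Geo.IsTensorFormStructure id (QuadraticMap.polar Q) f₁ f₂ e P ∧ H = Cfsg.Geo.tensorProductSubgroup 3 4 e P ⊓ Cfsg.Geo.omegaGL Q) ∨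
    (∃ (F₀ : Subfield F) (r : ℕ) (P : Matrix.GeneralLinearGroup (Fin 12) F) (ζ : F), r.Prime ∧ Odd r ∧ Fintype.card F = Nat.card F₀ ^ r ∧ ζ ≠ 0 ∧ Cfsg.Geo.IsQuadFormRationalStructure (fun v : Fin 12 → F => ζ * Q v) F₀ P ∧ H = Cfsg.Geo.subfieldSubgroup F₀ P ⊓ Cfsg.Geo.omegaGL Q) ∨
    Cfsg.Geo.InOrthogonalResidualClass H := by
  rcases H29.oe_max (m := 6) hQ rfl (by norm_num) hH with (⟨W, h1, h2, h3, h⟩ |
    ⟨ho, W, h1, h2, h3, h4, h⟩ | ⟨k, W, h1, h2, h3, h4, h5, h⟩ | ⟨h1, h2, h⟩ | h |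
    ⟨t, k, D, h1, h2, h3, h4, h5, h6, h7, h8, h9, h⟩ | ⟨h1, h2, h3, h⟩ | ⟨h1, h2, h⟩ |
    ⟨F₀, r, P, ζ, h1, h2, h⟩ | ⟨r, K, hr, h1, h2, h3, h4, h5, h⟩ | ⟨h0, K, h1, h2, h3, h4, h⟩ |
    ⟨h1, h2, h⟩ | ⟨a, b, e, P, f₁, f₂, h1, h2, h3, ⟨a', h4⟩, ⟨b', h5⟩, h6, h⟩ |
    ⟨ho, a, b, e, P, f₁, f₂, h1, h2, h3, h4, h5, h6, h7, h⟩ | ⟨k, t, h1, h2, h3⟩) | h
  · exact .inl (⟨W, h1, h2, h⟩)
  · exact .inr (.inl (⟨ho, W, h2, h3, h4, by omega, h⟩))
  · obtain rfl | rfl : k = 1 ∨ k = 2 := by omega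
    · by_cases hp : Cfsg.Geo.IsPlusTypeOn Q W
      · exact .inr (.inr (.inr (.inl (⟨h3 rfl hp, W, h4, h5, hp, h⟩))))
      · exact .inr (.inr (.inl (⟨W, h4, h5, hp, h⟩)))
    · exact .inr (.inr (.inr (.inr (.inl (⟨W, h4, h5, h⟩)))))
  · exact .inr (.inr (.inr (.inr (.inr (.inl (h))))))
  · exact .inr (.inr (.inr (.inr (.inr (.inr (.inl (h)))))))
  · obtain ⟨rfl, rfl⟩ | ⟨rfl, rfl⟩ | ⟨rfl, rfl⟩ | ⟨rfl, rfl⟩ | ⟨rfl, rfl⟩ : t = 12 ∧ k = 1 ∨ t = 6 ∧ k = 2 ∨ t = 4 ∧ k = 3 ∨ t = 3 ∧ k = 4 ∨ t = 2 ∧ k = 6 := by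
      have : t ≤ 12 := Nat.le_of_dvd (by norm_num) ⟨_, h1.symm⟩
      interval_cases t <;> omega
    · have := Nat.odd_iff.1 (h7 (by decide)).1
      refine absurd ((h7 (by decide)).2.2 ?_) hminus
      obtain e | e : Fintype.card F % 4 = 1 ∨ Fintype.card F % 4 = 3 := by omega
      all_goals rw [Nat.pow_mod, e]
    · exact absurd ((h8 (by decide)).elim (·.2) (·.2.2 (by decide))) hminus
    · have := Nat.odd_iff.1 (h7 (by decide)).1
      refine absurd ((h7 (by decide)).2.2 ?_) hminus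
      obtain e | e : Fintype.card F % 4 = 1 ∨ Fintype.card F % 4 = 3 := by omega
      all_goals rw [Nat.pow_mod, e]
    · exact .inr (.inr (.inr (.inr (.inr (.inr (.inr (.inl (⟨D, h9, ((h8 (by decide)).resolve_left fun e => hminus e.2).1, h⟩))))))))
    · exact absurd ((h8 (by decide)).elim (·.2) (·.2.2 (by decide))) hminus
  · exact absurd h1 (by decide)
  · exact absurd h1 hminus
  · exact .inr (.inr (.inr (.inr (.inr (.inr (.inr (.inr (.inr (.inr (.inr (.inl (⟨F₀, r, P, ζ, h2, h2.odd_of_ne_two (mt h1 hminus), h⟩))))))))))))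
  · obtain rfl | rfl : r = 2 ∨ r = 3 := by
      have : r ≤ 12 := Nat.le_of_dvd (by norm_num) h1
      interval_cases r <;> first | omega | norm_num at hr
    · exact .inr (.inr (.inr (.inr (.inr (.inr (.inr (.inr (.inl (⟨K, h4, h⟩)))))))))
    · exact .inr (.inr (.inr (.inr (.inr (.inr (.inr (.inr (.inr (.inl (⟨K, h4, h⟩))))))))))
  · exact .inr (.inr (.inr (.inr (.inr (.inr (.inr (.inr (.inl (⟨K, h1, h⟩)))))))))
  · exact absurd h1 hminus
  · have : a ≤ 3 := by nlinarith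
    obtain rfl : a = 2 := by omega
    exact absurd (h6 rfl).1 hminus
  · have : a ≤ 3 := by nlinarith
    obtain rfl : a = 3 := by omega
    obtain rfl : b = 4 := by omega
    exact .inr (.inr (.inr (.inr (.inr (.inr (.inr (.inr (.inr (.inr (.inl (⟨ho, h4 rfl, e, P, f₁, f₂, h6, h7, (h5 rfl rfl).2, h⟩)))))))))))
  · have hk : 1 < k := by
      by_contra! e
      interval_cases k <;> simp [Nat.zero_pow (show 0 < t by omega)] at h2
    have : k ^ 2 ≤ k ^ t := Nat.pow_le_pow_right (by omega) h1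
    have : k ≤ 3 := by nlinarith
    have : t < 12 := (Nat.lt_pow_self hk).trans_eq h2
    interval_cases k <;> interval_cases t <;> simp_all
  · exact .inr (.inr (.inr (.inr (.inr (.inr (.inr (.inr (.inr (.inr (.inr (.inr (h))))))))))))

end Cfsg.Agent.S5874
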